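import Cfsg.Agent.Lib.Helper44.SpUDefs
import Cfsg.Agent.Lib.Helper28.UFSpan

set_option autoImplicit false
set_option linter.unusedSimpArgs false
set_option linter.unusedVariables false
set_option linter.unusedSectionVars false

/-! S5665 tool: existence of hermitian-isotropic vectors with prescribed pairings
(helper28's `exists_singular_orth_finset_one` for the quadratic form `Nf U`). -/

namespace Cfsg.Agent.Lib.Helper44.SpU

open Matrix Cfsg.Agent.Lib.Helper18 Cfsg.Agent.Lib.Helper11.SpMax

variable {F : Type*} [Field F] [Fintype F] {m : ℕ}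

local notation "V" => (Fin m ⊕ Fin m → F)
local notation "ff" => Cfsg.sympForm m F

theorem card_idx : Fintype.card (Fin m ⊕ Fin m) = 2 * m := by
  rw [Fintype.card_sum, Fintype.card_fin]; ring

/-- **exists_KI**: for a finite set `S` with `2 |S| + 3 ≤ 2m` and `a ∉ span S` there is a
hermitian-isotropic `c` with `f y (δ c) = 0` for `y ∈ S` and `f a (δ c) = 1`. -/
theorem exists_KI (U : SData m F) (hm : 7 ≤ m) (S : Finset V) (h : 2 * S.card + 3 ≤ 2 * m)
    (a : V) (ha : a ∉ Submodule.span F (S : Set V)) :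
    ∃ c : V, KI U c ∧ (∀ y ∈ S, ff y (U.δ *ᵥ c) = 0) ∧ ff a (U.δ *ᵥ c) = 1 := by
  have hn : 7 ≤ Fintype.card (Fin m ⊕ Fin m) := by rw [card_idx]; omega
  have h' : 2 * S.card + 3 ≤ Fintype.card (Fin m ⊕ Fin m) := by rw [card_idx]; exact h
  have ha' : (1 / 2 : F) • a ∉ Submodule.span F (S : Set V) := by
    intro hmem
    apply ha
    have := Submodule.smul_mem _ (2 : F) hmem
    rwa [smul_smul, mul_one_div, div_self U.two, one_smul] at this
  obtain ⟨c, hc, hS, hac⟩ := Cfsg.Agent.Lib.Helper28.UF.exists_singular_orth_finset_one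
    (Nf_nondeg U) hn S h' ((1 / 2 : F) • a) ha'
  refine ⟨c, hc, fun y hy => ?_, ?_⟩
  · have := hS y hy
    rw [polar_Nf] at this
    exact (mul_eq_zero.mp this).resolve_left U.two
  · rw [polar_Nf, sf_smul_left] at hac
    rw [← hac]
    field_simp [U.two]

end Cfsg.Agent.Lib.Helper44.SpU
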