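import Mathlib
import Cfsg.Prelude.Def_TwoFusion

set_option autoImplicit false

/-! Direct decomposability of a group (internal direct product of two nontrivial subgroups):
basic transport lemmas used for the Sylow 2-subgroups of alternating groups. -/

namespace Cfsg.Agent.Lib.Helper44.Dec

/-- `H` is the internal direct product of two nontrivial subgroups -/
def Decomp (H : Type*) [Group H] : Prop :=
  ∃ S₁ S₂ : Subgroup H, S₁ ≠ ⊥ ∧ S₂ ≠ ⊥ ∧ (∀ a ∈ S₁, ∀ b ∈ S₂, a * b = b * a) ∧
    S₁ ⊓ S₂ = ⊥ ∧ S₁ ⊔ S₂ = ⊤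

theorem Decomp.of_injective_surjective {H H' : Type*} [Group H] [Group H'] (f : H →* H')
    (hi : Function.Injective f) (hs : Function.Surjective f) (h : Decomp H) : Decomp H' := by
  obtain ⟨S₁, S₂, h1, h2, hc, hi', hsup⟩ := h
  refine ⟨S₁.map f, S₂.map f, ?_, ?_, ?_, ?_, ?_⟩
  · intro h; apply h1; rwa [Subgroup.map_eq_bot_iff_of_injective _ hi] at h
  · intro h; apply h2; rwa [Subgroup.map_eq_bot_iff_of_injective _ hi] at h
  · rintro _ ⟨a, ha, rfl⟩ _ ⟨b, hb, rfl⟩
    rw [← map_mul, ← map_mul, hc a ha b hb]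
  · rw [← Subgroup.map_inf _ _ f hi, hi', Subgroup.map_bot]
  · rw [← Subgroup.map_sup, hsup, ← MonoidHom.range_eq_map, MonoidHom.range_eq_top]
    exact hs

theorem Decomp.of_equiv {H H' : Type*} [Group H] [Group H'] (e : H ≃* H') (h : Decomp H) :
    Decomp H' :=
  h.of_injective_surjective e.toMonoidHom e.injective e.surjective

theorem decomp_congr {H H' : Type*} [Group H] [Group H'] (e : H ≃* H') : Decomp H ↔ Decomp H' :=
  ⟨Decomp.of_equiv e, Decomp.of_equiv e.symm⟩

/-- the statement-level formulation for a subgroup `P` of `G` -/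
theorem decomp_subgroup_iff {G : Type*} [Group G] (P : Subgroup G) :
    (∃ S₁ S₂ : Subgroup G, S₁ ≠ ⊥ ∧ S₂ ≠ ⊥ ∧ Cfsg.IsInternalDirectProduct S₁ S₂ P) ↔
      Decomp ↥P := by
  constructor
  · rintro ⟨S₁, S₂, h1, h2, hle1, hle2, hc, hi, hsup⟩
    refine ⟨S₁.subgroupOf P, S₂.subgroupOf P, ?_, ?_, ?_, ?_, ?_⟩
    · intro h; apply h1; rw [Subgroup.subgroupOf_eq_bot] at h
      rw [← inf_of_le_left hle1]; exact disjoint_iff.mp h
    · intro h; apply h2; rw [Subgroup.subgroupOf_eq_bot] at h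
      rw [← inf_of_le_left hle2]; exact disjoint_iff.mp h
    · intro a ha b hb
      apply Subtype.ext
      exact hc a ha b hb
    · have : (S₁ ⊓ S₂).subgroupOf P = S₁.subgroupOf P ⊓ S₂.subgroupOf P := Subgroup.comap_inf _ _ _
      rw [← this, hi]
      simp
    · rw [← Subgroup.subgroupOf_sup hle1 hle2, hsup]
      exact Subgroup.subgroupOf_self P
  · rintro ⟨S₁, S₂, h1, h2, hc, hi, hsup⟩
    refine ⟨S₁.map P.subtype, S₂.map P.subtype, ?_, ?_, ?_, ?_, ?_, ?_, ?_⟩
    · intro h; apply h1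
      rwa [Subgroup.map_eq_bot_iff_of_injective _ P.subtype_injective] at h
    · intro h; apply h2
      rwa [Subgroup.map_eq_bot_iff_of_injective _ P.subtype_injective] at h
    · exact Subgroup.map_subtype_le _
    · exact Subgroup.map_subtype_le _
    · rintro _ ⟨a, ha, rfl⟩ _ ⟨b, hb, rfl⟩
      have := hc a ha b hb
      exact congrArg Subtype.val this
    · rw [← Subgroup.map_inf _ _ _ P.subtype_injective, hi, Subgroup.map_bot]
    · rw [← Subgroup.map_sup, hsup, ← MonoidHom.range_eq_map, Subgroup.range_subtype]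

/-- a subgroup of the same order as a Sylow subgroup, embedded injectively, is isomorphic to it -/
theorem sylow_equiv_of_injective {G H : Type*} [Group G] [Finite G] [Group H] (p : ℕ)
    [Fact p.Prime] (P : Sylow p G) (f : H →* G) (hf : Function.Injective f)
    (hcard : Nat.card H = Nat.card ↥(P : Subgroup G)) :
    Nonempty (H ≃* ↥(P : Subgroup G)) := by
  have hr : Nat.card ↥f.range = Nat.card ↥(P : Subgroup G) := by
    rw [← hcard]
    exact (Nat.card_congr (MonoidHom.ofInjective hf).toEquiv).symm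
  have hpg : IsPGroup p ↥f.range := by
    obtain ⟨k, hk⟩ := IsPGroup.iff_card.mp P.isPGroup'
    exact IsPGroup.of_card (hr.trans hk)
  obtain ⟨Q, hQ⟩ := hpg.exists_le_sylow
  have hQc : Nat.card ↥(Q : Subgroup G) = Nat.card ↥(P : Subgroup G) := by
    rw [Q.card_eq_multiplicity, P.card_eq_multiplicity]
  have heq : f.range = (Q : Subgroup G) :=
    Subgroup.eq_of_le_of_card_ge hQ (by rw [hQc, hr])
  have e1 : H ≃* ↥f.range := MonoidHom.ofInjective hf
  have e2 : ↥f.range ≃* ↥(Q : Subgroup G) := MulEquiv.subgroupCongr heq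
  have e3 : ↥(Q : Subgroup G) ≃* ↥(P : Subgroup G) := Sylow.equiv Q P
  exact ⟨e1.trans (e2.trans e3)⟩

/-- a direct product of two nontrivial groups is decomposable -/
theorem decomp_prod (A B : Type*) [Group A] [Group B] [Nontrivial A] [Nontrivial B] :
    Decomp (A × B) := by
  refine ⟨(MonoidHom.inl A B).range, (MonoidHom.inr A B).range, ?_, ?_, ?_, ?_, ?_⟩
  · intro h
    obtain ⟨a, ha⟩ := exists_ne (1 : A)
    have : MonoidHom.inl A B a ∈ (MonoidHom.inl A B).range := ⟨a, rfl⟩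
    rw [h, Subgroup.mem_bot] at this
    exact ha (congrArg Prod.fst this)
  · intro h
    obtain ⟨b, hb⟩ := exists_ne (1 : B)
    have : MonoidHom.inr A B b ∈ (MonoidHom.inr A B).range := ⟨b, rfl⟩
    rw [h, Subgroup.mem_bot] at this
    exact hb (congrArg Prod.snd this)
  · rintro _ ⟨a, rfl⟩ _ ⟨b, rfl⟩
    ext <;> simp
  · rw [eq_bot_iff]
    rintro x ⟨⟨a, rfl⟩, ⟨b, hb⟩⟩
    rw [Subgroup.mem_bot]
    have h1 := congrArg Prod.fst hb
    have h2 := congrArg Prod.snd hb
    simp at h1 h2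
    ext <;> simp [← h1, h2]
  · rw [eq_top_iff]
    rintro ⟨a, b⟩ _
    have : ((a, b) : A × B) = MonoidHom.inl A B a * MonoidHom.inr A B b := by
      ext <;> simp
    rw [this]
    exact Subgroup.mul_mem_sup ⟨a, rfl⟩ ⟨b, rfl⟩

/-- a finite `p`-group whose centre has order `p` is indecomposable -/
theorem not_decomp_of_card_center {H : Type*} [Group H] [Finite H] (p : ℕ) [Fact p.Prime]
    (hH : IsPGroup p H) (hZ : Nat.card ↥(Subgroup.center H) = p) : ¬ Decomp H := by
  rintro ⟨S₁, S₂, h1, h2, hc, hi, hsup⟩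
  -- each factor contains a nontrivial central element of `H`
  have key : ∀ (A B : Subgroup H), A ≠ ⊥ → (∀ a ∈ A, ∀ b ∈ B, a * b = b * a) → A ⊔ B = ⊤ →
      ∃ z ∈ A, z ≠ 1 ∧ z ∈ Subgroup.center H := by
    intro A B hA hAB hsup'
    have : Nontrivial ↥A := (Subgroup.nontrivial_iff_ne_bot A).mpr hA
    have hpA : IsPGroup p ↥A := hH.to_subgroup A
    have : Nontrivial ↥(Subgroup.center ↥A) := hpA.center_nontrivial
    obtain ⟨z, hz⟩ := exists_ne (1 : ↥(Subgroup.center ↥A))
    refine ⟨((z : ↥A) : H), (z : ↥A).2, ?_, ?_⟩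
    · intro h
      apply hz
      apply Subtype.ext
      apply Subtype.ext
      exact h
    · rw [Subgroup.mem_center_iff]
      intro g
      have hle : A ⊔ B ≤ Subgroup.centralizer ({((z : ↥A) : H)} : Set H) := by
        apply sup_le
        · intro a ha
          rw [Subgroup.mem_centralizer_singleton_iff]
          have := (Subgroup.mem_center_iff.mp z.2) ⟨a, ha⟩
          exact congrArg Subtype.val this
        · intro b hb
          rw [Subgroup.mem_centralizer_singleton_iff]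
          exact (hAB _ (z : ↥A).2 b hb).symm
      have hg : g ∈ A ⊔ B := by rw [hsup']; trivial
      exact Subgroup.mem_centralizer_singleton_iff.mp (hle hg)
  obtain ⟨z₁, hz₁, hz₁1, hz₁c⟩ := key S₁ S₂ h1 hc hsup
  obtain ⟨z₂, hz₂, hz₂1, hz₂c⟩ := key S₂ S₁ h2 (fun a ha b hb => (hc b hb a ha).symm)
    (by rw [sup_comm]; exact hsup)
  -- the centre is cyclic of prime order, so `z₂` is a power of `z₁`
  have hp : p.Prime := Fact.out
  have hz : Subgroup.zpowers (⟨z₁, hz₁c⟩ : ↥(Subgroup.center H)) = ⊤ :=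
    zpowers_eq_top_of_prime_card hZ (by
      intro h; apply hz₁1; exact congrArg Subtype.val h)
  have hmem : (⟨z₂, hz₂c⟩ : ↥(Subgroup.center H)) ∈
      Subgroup.zpowers (⟨z₁, hz₁c⟩ : ↥(Subgroup.center H)) := by rw [hz]; trivial
  obtain ⟨k, hk⟩ := Subgroup.mem_zpowers_iff.mp hmem
  have hk' : z₁ ^ k = z₂ := by
    have := congrArg Subtype.val hk
    simpa using this
  have : z₂ ∈ S₁ ⊓ S₂ := ⟨by rw [← hk']; exact S₁.zpow_mem hz₁ k, hz₂⟩
  rw [hi, Subgroup.mem_bot] at this
  exact hz₂1 this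

end Cfsg.Agent.Lib.Helper44.Dec
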