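import Mathlib
import Cfsg.Agent.Lib.Helper07.SpCardD
import Cfsg.Agent.Lib.Helper07.SLCard

set_option autoImplicit false

/-! Sylow 2-subgroups of `Sp_{2n}(q)`, `q` odd, normalise a conjugate of the diagonal sign group. -/

namespace Cfsg.Agent.Lib.Helper44

section abstract

/-- If the normaliser of a `p`-subgroup `E` has index prime to `p`, every Sylow `p`-subgroup
contains and normalises a conjugate of `E`. -/
lemma exists_conj_normal_in_sylow {G : Type*} [Group G] [Finite G] {p : ℕ} [Fact p.Prime]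
    (E : Subgroup G) (hE : IsPGroup p E) (hidx : ¬ p ∣ (Subgroup.normalizer (E : Set G)).index)
    (S : Sylow p G) :
    ∃ g : G, E.map (MulAut.conj g).toMonoidHom ≤ S ∧
      (S : Subgroup G) ≤ Subgroup.normalizer ((E.map (MulAut.conj g).toMonoidHom : Subgroup G) : Set G) := by
  set W := Subgroup.normalizer (E : Set G) with hW
  have hfix := S.isPGroup'.nonempty_fixed_point_of_prime_not_dvd_card (G ⧸ W)
    (by rwa [← Subgroup.index_eq_card])
  obtain ⟨x, hx⟩ := hfix
  obtain ⟨g, rfl⟩ := QuotientGroup.mk_surjective x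
  have hgs : ∀ s ∈ (S : Subgroup G), g⁻¹ * s * g ∈ W := by
    intro s hs
    have h1 := hx ⟨s, hs⟩
    have h2 : ((s * g : G) : G ⧸ W) = (g : G ⧸ W) := h1
    rw [QuotientGroup.eq] at h2
    have h3 := W.inv_mem h2
    have e : ((s * g)⁻¹ * g)⁻¹ = g⁻¹ * s * g := by group
    rwa [e] at h3
  set E' : Subgroup G := E.map (MulAut.conj g).toMonoidHom with hE'
  have hnorm : (S : Subgroup G) ≤ Subgroup.normalizer (E' : Set G) := by
    intro s hs
    rw [Subgroup.mem_normalizer_iff]
    have key : ∀ t ∈ (S : Subgroup G), ∀ h ∈ E', t * h * t⁻¹ ∈ E' := by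
      intro t ht h hh
      obtain ⟨e, he, rfl⟩ := hh
      have hw := hgs t ht
      rw [hW, Subgroup.mem_normalizer_iff] at hw
      have he' := (hw e).mp he
      refine ⟨g⁻¹ * t * g * e * (g⁻¹ * t * g)⁻¹, he', ?_⟩
      simp only [MulEquiv.coe_toMonoidHom, MulAut.conj_apply]
      group
    intro h
    constructor
    · exact key s hs h
    · intro hh
      have := key s⁻¹ ((S : Subgroup G).inv_mem hs) _ hh
      have e : s⁻¹ * (s * h * s⁻¹) * s⁻¹⁻¹ = h := by group
      rwa [e] at this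
  refine ⟨g, ?_, hnorm⟩
  have hE'p : IsPGroup p E' := hE.map _
  have hsup : IsPGroup p (E' ⊔ (S : Subgroup G) : Subgroup G) :=
    IsPGroup.to_sup_of_normal_left' hE'p S.isPGroup' hnorm
  have := S.is_maximal' hsup le_sup_right
  rw [← this]
  exact le_sup_left

end abstract

section numeric

/-- LTE at 2 for `q ^ (2k) - 1`, `q` odd. -/
lemma padicVal_pow_two_mul_sub_one {q : ℕ} (hq : Odd q) (hq1 : 1 < q) (k : ℕ) (hk : k ≠ 0) :
    padicValNat 2 (q ^ (2 * k) - 1) = padicValNat 2 (q ^ 2 - 1) + padicValNat 2 k := by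
  have hnd : ¬ 2 ∣ q := by
    rw [← even_iff_two_dvd]; exact Nat.not_even_iff_odd.mpr hq
  have hd : 2 ∣ q - 1 := by
    obtain ⟨r, rfl⟩ := hq
    exact ⟨r, by omega⟩
  have h1 := padicValNat.pow_two_sub_pow (x := q) (y := 1) hq1 hd hnd (n := 2 * k)
    (by omega) (even_two_mul k)
  have h3 := padicValNat.pow_two_sub_pow (x := q) (y := 1) hq1 hd hnd (n := 2)
    (by norm_num) (by norm_num)
  rw [one_pow] at h1 h3
  have h4 : padicValNat 2 (2 * k) = 1 + padicValNat 2 k := by
    rw [padicValNat.mul (by norm_num) hk]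
    simp
  have h5 : padicValNat 2 2 = 1 := by simp
  rw [h4] at h1
  rw [h5] at h3
  omega

lemma padicVal_prod_sp {q : ℕ} (hq : Odd q) (hq1 : 1 < q) (n : ℕ) :
    padicValNat 2 (∏ i ∈ Finset.range n, (q ^ (2 * (i + 1)) - 1)) =
      n * padicValNat 2 (q ^ 2 - 1) + padicValNat 2 n.factorial := by
  have hpos : ∀ k, k ≠ 0 → q ^ (2 * k) - 1 ≠ 0 := by
    intro k hk
    have : 1 < q ^ (2 * k) := Nat.one_lt_pow (by omega) hq1
    omega
  induction n with
  | zero => simp
  | succ n ih =>
    rw [Finset.prod_range_succ, padicValNat.mul, ih,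
      padicVal_pow_two_mul_sub_one hq hq1 (n + 1) (by omega), Nat.factorial_succ,
      padicValNat.mul (by omega) (Nat.factorial_ne_zero n)]
    · ring
    · apply Finset.prod_ne_zero_iff.mpr
      intro i _
      exact hpos (i + 1) (by omega)
    · exact hpos (n + 1) (by omega)

end numeric

end Cfsg.Agent.Lib.Helper44
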