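import Mathlib

set_option autoImplicit false

namespace Cfsg.Agent.Lib.Helper44

universe uF uV uI
variable {F : Type uF} [Field F]

lemma count_signs {J : Type*} [Fintype J] [DecidableEq J] (hJ : 0 < Fintype.card J)
    (S : Finset (J → F)) (hS : ∀ ε ∈ S, (∀ j, ε j = 1 ∨ ε j = -1) ∧ ∏ j, ε j = 1) :
    S.card ≤ 2 ^ (Fintype.card J - 1) := by
  classical
  obtain ⟨j₀⟩ : Nonempty J := Fintype.card_pos_iff.1 hJ
  let g : (J → F) → ({j // j ≠ j₀} → Bool) := fun ε j => decide (ε j.1 = 1)
  have hinj : Set.InjOn g (S : Set (J → F)) := by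
    intro ε hε ε' hε' h
    obtain ⟨h1, h2⟩ := hS ε hε
    obtain ⟨h1', h2'⟩ := hS ε' hε'
    have hoff : ∀ j, j ≠ j₀ → ε j = ε' j := by
      intro j hj
      have := congrFun h ⟨j, hj⟩
      simp only [g, decide_eq_decide] at this
      rcases h1 j with e | e
      · rw [e, this.1 e]
      · rcases h1' j with e' | e'
        · rw [this.2 e', e']
        · rw [e, e']
    funext j
    by_cases hj : j = j₀
    · subst hj
      have p1 : ∏ i, ε i = ε j * ∏ i ∈ Finset.univ.erase j, ε i :=
        (Finset.mul_prod_erase _ _ (Finset.mem_univ j)).symm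
      have p2 : ∏ i, ε' i = ε' j * ∏ i ∈ Finset.univ.erase j, ε' i :=
        (Finset.mul_prod_erase _ _ (Finset.mem_univ j)).symm
      have p3 : ∏ i ∈ Finset.univ.erase j, ε i = ∏ i ∈ Finset.univ.erase j, ε' i :=
        Finset.prod_congr rfl (fun i hi => hoff i (Finset.ne_of_mem_erase hi))
      rw [h2] at p1
      rw [h2', ← p3] at p2
      have hP : (∏ i ∈ Finset.univ.erase j, ε i) ≠ 0 := by
        intro h0
        rw [h0, mul_zero] at p1
        exact one_ne_zero p1
      exact mul_right_cancel₀ hP (p1.symm.trans p2)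
    · exact hoff j hj
  calc S.card ≤ (Finset.univ : Finset ({j // j ≠ j₀} → Bool)).card :=
        Finset.card_le_card_of_injOn g (fun _ _ => Finset.mem_univ _) hinj
    _ = 2 ^ (Fintype.card J - 1) := by
      rw [Finset.card_univ, Fintype.card_fun, Fintype.card_bool]
      congr 1
      simp [Fintype.card_subtype_compl]

/-- involutive endomorphisms in characteristic not two are semisimple -/
lemma invol_semisimple (h2 : (2 : F) ≠ 0) {V : Type*} [AddCommGroup V] [Module F V]
    (g : Module.End F V) (hg : g * g = 1) : g.IsSemisimple := by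
  have hsq : Squarefree (Polynomial.X ^ 2 - Polynomial.C (1 : F)) :=
    (Polynomial.separable_X_pow_sub_C (1 : F) (by exact_mod_cast h2) one_ne_zero).squarefree
  apply Module.End.isSemisimple_of_squarefree_aeval_eq_zero hsq
  simp [sq, hg]

lemma invol_iSup_eigenspace (h2 : (2 : F) ≠ 0) {V : Type*} [AddCommGroup V] [Module F V]
    (g : Module.End F V) (hg : g * g = 1) : ⨆ μ, g.eigenspace μ = ⊤ := by
  rw [eq_top_iff]
  intro v _
  have hgg : ∀ w, g (g w) = w := fun w => by
    have := congrArg (fun h : Module.End F V => h w) hg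
    simpa using this
  have hv : v = (2 : F)⁻¹ • (v + g v) + (2 : F)⁻¹ • (v - g v) := by
    rw [← smul_add]
    have : v + g v + (v - g v) = (2 : F) • v := by rw [two_smul]; abel
    rw [this, smul_smul, inv_mul_cancel₀ h2, one_smul]
  rw [hv]
  apply Submodule.add_mem
  · apply Submodule.mem_iSup_of_mem (1 : F)
    rw [Module.End.mem_eigenspace_iff]
    simp [map_add, hgg, add_comm]
  · apply Submodule.mem_iSup_of_mem (-1 : F)
    rw [Module.End.mem_eigenspace_iff]
    simp only [map_smul, map_sub, hgg, neg_smul, one_smul]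
    rw [← smul_neg, neg_sub]

lemma invol_eigenvalue {V : Type*} [AddCommGroup V] [Module F V]
    (g : Module.End F V) (hg : g * g = 1) (μ : F) (v : V) (hv : v ≠ 0) (h : g v = μ • v) :
    μ = 1 ∨ μ = -1 := by
  have hgg : g (g v) = v := by
    have := congrArg (fun h : Module.End F V => h v) hg
    simpa using this
  rw [h, map_smul, h, smul_smul] at hgg
  have h1 : (μ * μ - 1) • v = 0 := by rw [sub_smul, hgg, one_smul, sub_self]
  rcases smul_eq_zero.1 h1 with h0 | h0
  · have : (μ - 1) * (μ + 1) = 0 := by linear_combination h0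
    rcases mul_eq_zero.1 this with h3 | h3
    · left; linear_combination h3
    · right; linear_combination h3
  · exact absurd h0 hv

/-- A finite family of commuting involutions of a finite-dimensional space, closed under nothing in
particular, has a common eigenbasis. -/
lemma exists_common_eigenbasis [Fintype F] (h2 : (2 : F) ≠ 0) {V : Type uV} [AddCommGroup V] [Module F V]
    [FiniteDimensional F V] {ι : Type uI} [Fintype ι] (f : ι → Module.End F V)
    (hsq : ∀ i, f i * f i = 1) (hc : ∀ i j, Commute (f i) (f j)) :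
    ∃ (J : Type (max uF uI)) (_ : Fintype J) (b : Module.Basis J F V) (χ : J → ι → F),
      ∀ j i, f i (b j) = χ j i • b j := by
  classical
  have heig : ∀ i μ, (f i).maxGenEigenspace μ = (f i).eigenspace μ := fun i μ =>
    (invol_semisimple h2 (f i) (hsq i)).isFinitelySemisimple.maxGenEigenspace_eq_eigenspace μ
  have htop : ∀ i, ⨆ μ, (f i).maxGenEigenspace μ = ⊤ := by
    intro i
    simp only [heig]
    exact invol_iSup_eigenspace h2 (f i) (hsq i)
  have hmaps : ∀ i j φ, Set.MapsTo (f i) ((f j).maxGenEigenspace φ) ((f j).maxGenEigenspace φ) :=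
    fun i j φ => Module.End.mapsTo_maxGenEigenspace_of_comm (hc j i) φ
  have hsup := Module.End.iSup_iInf_maxGenEigenspace_eq_top_of_forall_mapsTo f hmaps htop
  have hind := Module.End.independent_iInf_maxGenEigenspace_of_forall_mapsTo f hmaps
  have hint := DirectSum.isInternal_submodule_of_iSupIndep_of_iSup_eq_top hind hsup
  let bχ : ∀ χ : ι → F, Module.Basis (Fin (Module.finrank F ↥(⨅ i, (f i).maxGenEigenspace (χ i)))) F
      ↥(⨅ i, (f i).maxGenEigenspace (χ i)) := fun χ => Module.finBasis F _
  refine ⟨Σ χ : ι → F, Fin (Module.finrank F ↥(⨅ i, (f i).maxGenEigenspace (χ i))), inferInstance,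
    hint.collectedBasis bχ, fun j => j.1, ?_⟩
  intro j i
  have hmem := hint.collectedBasis_mem bχ j
  have hmem' : hint.collectedBasis bχ j ∈ (f i).maxGenEigenspace (j.1 i) :=
    (Submodule.mem_iInf _).1 hmem i
  rw [heig, Module.End.mem_eigenspace_iff] at hmem'
  exact hmem'



end Cfsg.Agent.Lib.Helper44
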