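import Mathlib
import Cfsg.Agent.Lib.Helper44.SpSylow
import Cfsg.Agent.S2234

set_option autoImplicit false

/-! The subgroup `SL₂(F)ⁿ ⋊ Sₙ` of `Sp_{2n}(F)` and the sign group it normalises. -/

namespace Cfsg.Agent.Lib.Helper44

open Matrix Cfsg.Agent.S2233 Cfsg.Agent.S2234

section embed

variable {F : Type*} [Field F] (n : ℕ)

/-- block diagonal embedding of `SL₂ⁿ` -/
def dmat (f : Fin n → Matrix.SpecialLinearGroup (Fin 2) F) :
    Matrix (Fin n ⊕ Fin n) (Fin n ⊕ Fin n) F :=
  Matrix.fromBlocks (Matrix.diagonal fun i => (f i).1 0 0) (Matrix.diagonal fun i => (f i).1 0 1)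
    (Matrix.diagonal fun i => (f i).1 1 0) (Matrix.diagonal fun i => (f i).1 1 1)

lemma dmat_mem (f : Fin n → Matrix.SpecialLinearGroup (Fin 2) F) :
    dmat n f ∈ Matrix.symplecticGroup (Fin n) F := by
  rw [dmat, SymplecticGroup.fromBlocks_mem_iff]
  simp only [Matrix.diagonal_transpose, Matrix.diagonal_mul_diagonal]
  refine ⟨?_, ?_, ?_⟩
  · congr 1; funext i; ring
  · congr 1; funext i; ring
  · rw [Matrix.diagonal_sub, ← Matrix.diagonal_one]
    congr 1
    funext i
    have h : ((f i).1).det = 1 := (f i).2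
    rw [Matrix.det_fin_two] at h
    linear_combination h

lemma dmat_mul (f g : Fin n → Matrix.SpecialLinearGroup (Fin 2) F) :
    dmat n (f * g) = dmat n f * dmat n g := by
  unfold dmat
  rw [Matrix.fromBlocks_multiply]
  simp only [Matrix.diagonal_mul_diagonal, Matrix.diagonal_add, Pi.mul_apply,
    Matrix.SpecialLinearGroup.coe_mul, Matrix.mul_apply, Fin.sum_univ_two]

lemma dmat_one : dmat n (1 : Fin n → Matrix.SpecialLinearGroup (Fin 2) F) = 1 := by
  unfold dmat
  simp only [Pi.one_apply, Matrix.SpecialLinearGroup.coe_one, Matrix.one_apply_eq]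
  have h01 : ((1 : Matrix (Fin 2) (Fin 2) F) 0 1) = 0 := by simp
  have h10 : ((1 : Matrix (Fin 2) (Fin 2) F) 1 0) = 0 := by simp
  simp only [h01, h10]
  rw [Matrix.diagonal_one, Matrix.diagonal_zero, Matrix.fromBlocks_one]

/-- `SL₂ⁿ → Sp₂ₙ` -/
def dhom : (Fin n → Matrix.SpecialLinearGroup (Fin 2) F) →*
    ↥(Matrix.symplecticGroup (Fin n) F) where
  toFun f := ⟨dmat n f, dmat_mem n f⟩
  map_one' := Subtype.ext (dmat_one n)
  map_mul' f g := Subtype.ext (dmat_mul n f g)

/-- the block permutation matrix -/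
def pmat (σ : Equiv.Perm (Fin n)) : Matrix (Fin n ⊕ Fin n) (Fin n ⊕ Fin n) F :=
  Matrix.fromBlocks (Matrix.permMatrixHom (R := F) σ) 0 0 (Matrix.permMatrixHom (R := F) σ)

lemma pmat_mem (σ : Equiv.Perm (Fin n)) : pmat (F := F) n σ ∈ Matrix.symplecticGroup (Fin n) F := by
  rw [pmat, SymplecticGroup.fromBlocks_mem_iff]
  refine ⟨by simp, by simp, ?_⟩
  have : (Matrix.permMatrixHom (R := F) σ)ᵀ * Matrix.permMatrixHom (R := F) σ = 1 := by
    change ((σ⁻¹).permMatrix F)ᵀ * (σ⁻¹).permMatrix F = 1
    rw [Matrix.transpose_permMatrix, inv_inv, ← Matrix.permMatrix_mul, inv_mul_cancel,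
      Matrix.permMatrix_one]
  rw [this]
  simp

lemma pmat_mul (σ τ : Equiv.Perm (Fin n)) : pmat (F := F) n (σ * τ) = pmat n σ * pmat n τ := by
  unfold pmat
  rw [Matrix.fromBlocks_multiply, map_mul]
  simp

lemma pmat_one : pmat (F := F) n 1 = 1 := by
  unfold pmat
  rw [map_one, Matrix.fromBlocks_one]

/-- `Sₙ → Sp₂ₙ` -/
def phom : Equiv.Perm (Fin n) →* ↥(Matrix.symplecticGroup (Fin n) F) where
  toFun σ := ⟨pmat n σ, pmat_mem n σ⟩
  map_one' := Subtype.ext (pmat_one n)
  map_mul' σ τ := Subtype.ext (pmat_mul n σ τ)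

/-- moving a diagonal matrix across a permutation matrix -/
lemma perm_mul_diagonal (σ : Equiv.Perm (Fin n)) (a : Fin n → F) :
    Matrix.permMatrixHom (R := F) σ * Matrix.diagonal a =
      Matrix.diagonal (fun i => a (σ⁻¹ i)) * Matrix.permMatrixHom (R := F) σ := by
  change (σ⁻¹).permMatrix F * Matrix.diagonal a =
    Matrix.diagonal (fun i => a (σ⁻¹ i)) * (σ⁻¹).permMatrix F
  ext i j
  rw [Matrix.mul_diagonal, Matrix.diagonal_mul]
  by_cases h : σ⁻¹ i = j
  · subst h; ring
  · have : (σ⁻¹).permMatrix F i j = 0 := by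
      simp only [Equiv.Perm.permMatrix, PEquiv.toMatrix_apply, Equiv.toPEquiv_apply,
        Option.mem_def, Option.some.injEq]
      rw [if_neg h]
    rw [this]; ring

lemma pmat_mul_dmat (σ : Equiv.Perm (Fin n)) (f : Fin n → Matrix.SpecialLinearGroup (Fin 2) F) :
    pmat n σ * dmat n f = dmat n (fun i => f (σ⁻¹ i)) * pmat n σ := by
  unfold pmat dmat
  rw [Matrix.fromBlocks_multiply, Matrix.fromBlocks_multiply]
  simp only [Matrix.zero_mul, Matrix.mul_zero, add_zero, zero_add, perm_mul_diagonal]

lemma pmat_mul_smat (σ : Equiv.Perm (Fin n)) (ε : Fin n → ℤˣ) :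
    pmat (F := F) n σ * smat n ε = smat n (fun i => ε (σ⁻¹ i)) * pmat n σ := by
  unfold pmat smat
  rw [Matrix.fromBlocks_multiply, Matrix.fromBlocks_multiply]
  simp only [Matrix.zero_mul, Matrix.mul_zero, add_zero, zero_add, perm_mul_diagonal]

lemma dmat_mul_smat (f : Fin n → Matrix.SpecialLinearGroup (Fin 2) F) (ε : Fin n → ℤˣ) :
    dmat n f * smat n ε = smat n ε * dmat n f := by
  unfold dmat smat
  rw [Matrix.fromBlocks_multiply, Matrix.fromBlocks_multiply]
  simp only [Matrix.zero_mul, Matrix.mul_zero, add_zero, zero_add, Matrix.diagonal_mul_diagonal]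
  congr 1 <;> · congr 1; funext i; ring

/-- the coordinate permutation action -/
def permAut (H : Type*) [Group H] : Equiv.Perm (Fin n) →* MulAut (Fin n → H) where
  toFun σ :=
    { toFun := fun f i => f (σ⁻¹ i)
      invFun := fun f i => f (σ i)
      left_inv := fun f => by funext i; simp
      right_inv := fun f => by funext i; simp
      map_mul' := fun f g => rfl }
  map_one' := by
    ext f i
    simp
  map_mul' σ τ := by
    ext f i
    simp [_root_.mul_inv_rev]

@[simp] lemma permAut_apply (H : Type*) [Group H] (σ : Equiv.Perm (Fin n)) (f : Fin n → H)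
    (i : Fin n) : permAut n H σ f i = f (σ⁻¹ i) := rfl

lemma phom_mul_dhom (σ : Equiv.Perm (Fin n)) (f : Fin n → Matrix.SpecialLinearGroup (Fin 2) F) :
    phom n σ * dhom n f = dhom n (permAut n _ σ f) * phom n σ :=
  Subtype.ext (pmat_mul_dmat n σ f)

/-- the wreath product embedding -/
def wreathHom : (Fin n → Matrix.SpecialLinearGroup (Fin 2) F) ⋊[permAut n _] Equiv.Perm (Fin n) →*
    ↥(Matrix.symplecticGroup (Fin n) F) :=
  SemidirectProduct.lift (dhom n) (phom n) (by
    intro σ
    ext1 f
    simp only [MonoidHom.comp_apply, MulEquiv.coe_toMonoidHom, MulAut.conj_apply]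
    rw [eq_mul_inv_iff_mul_eq]
    exact (phom_mul_dhom n σ f).symm)

lemma wreathHom_apply
    (x : (Fin n → Matrix.SpecialLinearGroup (Fin 2) F) ⋊[permAut n _] Equiv.Perm (Fin n)) :
    wreathHom n x = dhom n x.left * phom n x.right := rfl

lemma wreathHom_injective : Function.Injective (wreathHom (F := F) n) := by
  rw [injective_iff_map_eq_one]
  intro x hx
  rw [wreathHom_apply] at hx
  have hm : dmat n x.left * pmat (F := F) n x.right = 1 := by
    have := congrArg Subtype.val hx
    exact this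
  unfold dmat pmat at hm
  rw [Matrix.fromBlocks_multiply, ← Matrix.fromBlocks_one, Matrix.fromBlocks_inj] at hm
  simp only [Matrix.zero_mul, Matrix.mul_zero, add_zero, zero_add] at hm
  obtain ⟨h11, h12, h21, h22⟩ := hm
  -- the permutation is trivial
  have hσ : x.right = 1 := by
    ext i
    have h := congrFun (congrFun h11 i) i
    change (Matrix.diagonal (fun i => (x.left i).1 0 0) * (x.right⁻¹).permMatrix F) i i = _ at h
    rw [Matrix.diagonal_mul, Matrix.one_apply_eq] at h
    simp only [Equiv.Perm.permMatrix, PEquiv.toMatrix_apply, Equiv.toPEquiv_apply,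
      Option.mem_def, Option.some.injEq] at h
    by_cases hi : x.right⁻¹ i = i
    · have : x.right i = i := by
        conv_lhs => rw [← hi]
        simp
      simp [this]
    · rw [if_neg hi, mul_zero] at h
      exact absurd h zero_ne_one
  rw [hσ, map_one, Matrix.mul_one] at h11 h12 h21 h22
  have hf : x.left = 1 := by
    funext i
    apply Subtype.ext
    have e11 := congrFun (congrFun h11 i) i
    have e12 := congrFun (congrFun h12 i) i
    have e21 := congrFun (congrFun h21 i) i
    have e22 := congrFun (congrFun h22 i) i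
    simp only [Matrix.diagonal_apply_eq, Matrix.one_apply_eq, Matrix.zero_apply] at e11 e12 e21 e22
    ext a b
    fin_cases a <;> fin_cases b
    · simpa using e11
    · simpa using e12
    · simpa using e21
    · simpa using e22
  ext1
  · exact hf
  · exact hσ

/-- conjugation by the wreath product preserves the sign group -/
lemma wreathHom_conj_shom
    (x : (Fin n → Matrix.SpecialLinearGroup (Fin 2) F) ⋊[permAut n _] Equiv.Perm (Fin n))
    (ε : Fin n → ℤˣ) :
    wreathHom n x * shom n ε * (wreathHom n x)⁻¹ = shom n (fun i => ε (x.right⁻¹ i)) := by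
  rw [mul_inv_eq_iff_eq_mul, wreathHom_apply]
  apply Subtype.ext
  change dmat n x.left * pmat n x.right * smat n ε =
    smat n (fun i => ε (x.right⁻¹ i)) * (dmat n x.left * pmat n x.right)
  rw [Matrix.mul_assoc, pmat_mul_smat, ← Matrix.mul_assoc, dmat_mul_smat, Matrix.mul_assoc]

end embed

end Cfsg.Agent.Lib.Helper44
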