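import Mathlib
import Cfsg.Agent.Lib.Helper44.SpWreath

set_option autoImplicit false

/-! Wreath-type subgroups `S ≀ T` of `H ≀ Sₙ`, Sylow 2-subgroups of `Sₙ` generated by involutions,
and the property "squares lie in the derived subgroup". -/

namespace Cfsg.Agent.Lib.Helper44

open scoped commutatorElement

section sqcomm

variable {G : Type*} [Group G]

/-- all squares of elements of `T` lie in the derived subgroup of `T` -/
def SqComm (T : Subgroup G) : Prop := ∀ x ∈ T, x ^ 2 ∈ ⁅T, T⁆

lemma sqComm_of_closure (X : Set G) (T : Subgroup G) (hT : T = Subgroup.closure X)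
    (hX : ∀ x ∈ X, x ^ 2 ∈ ⁅T, T⁆) : SqComm T := by
  intro x hx
  have hXT : X ⊆ T := by rw [hT]; exact Subgroup.subset_closure
  have key : x ∈ T ∧ x ^ 2 ∈ ⁅T, T⁆ := by
    rw [hT] at hx
    induction hx using Subgroup.closure_induction with
    | mem y hy => exact ⟨hXT hy, hX y hy⟩
    | one => exact ⟨T.one_mem, by rw [one_pow]; exact Subgroup.one_mem _⟩
    | mul a b _ _ iha ihb =>
      refine ⟨T.mul_mem iha.1 ihb.1, ?_⟩
      have e : (a * b) ^ 2 = a ^ 2 * ⁅a⁻¹, b⁆ * b ^ 2 := by
        rw [commutatorElement_def, sq, sq, sq]; group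
      rw [e]
      exact Subgroup.mul_mem _ (Subgroup.mul_mem _ iha.2
        (Subgroup.commutator_mem_commutator (T.inv_mem iha.1) ihb.1)) ihb.2
    | inv a _ iha =>
      refine ⟨T.inv_mem iha.1, ?_⟩
      rw [inv_pow]; exact Subgroup.inv_mem _ iha.2
  exact key.2

lemma SqComm.map {G' : Type*} [Group G'] (f : G →* G') {T : Subgroup G} (h : SqComm T) :
    SqComm (T.map f) := by
  rintro _ ⟨y, hy, rfl⟩
  rw [← map_pow, ← Subgroup.map_commutator]
  exact Subgroup.mem_map_of_mem f (h y hy)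

lemma sqComm_top_of_equiv {G' : Type*} [Group G'] (e : G ≃* G')
    (h : SqComm (⊤ : Subgroup G)) : SqComm (⊤ : Subgroup G') := by
  have := h.map e.toMonoidHom
  rwa [← MonoidHom.range_eq_map, MonoidHom.range_eq_top.mpr e.surjective] at this

lemma sqComm_of_top (T : Subgroup G) (h : SqComm (⊤ : Subgroup ↥T)) : SqComm T := by
  have := h.map T.subtype
  rwa [← MonoidHom.range_eq_map, Subgroup.range_subtype] at this

lemma SqComm.sq_mem_commutator {T : Subgroup G} (h : SqComm T) (x : ↥T) :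
    x ^ 2 ∈ commutator ↥T := by
  have h1 := h x.1 x.2
  rw [← Subgroup.map_subtype_commutator] at h1
  obtain ⟨y, hy, hyx⟩ := h1
  have : y = x ^ 2 := Subtype.ext (by rw [Subgroup.coe_pow]; exact hyx)
  rwa [← this]

end sqcomm

section quat

open QuaternionGroup

lemma quat_a_two_mem (m : ℕ) : (a 2 : QuaternionGroup m) ∈
    ⁅(⊤ : Subgroup (QuaternionGroup m)), (⊤ : Subgroup (QuaternionGroup m))⁆ := by
  have e : (a 2 : QuaternionGroup m) = ⁅(a 1 : QuaternionGroup m), (xa 0 : QuaternionGroup m)⁆ := by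
    rw [commutatorElement_def]
    have h1 : (a 1 : QuaternionGroup m)⁻¹ = a (-1) := rfl
    have h2 : (xa 0 : QuaternionGroup m)⁻¹ = xa (m + 0) := rfl
    rw [h1, h2, a_mul_xa, xa_mul_a, xa_mul_xa]
    congr 1
    have : ((2 * m : ℕ) : ZMod (2 * m)) = 0 := ZMod.natCast_self _
    push_cast at this
    linear_combination -this
  rw [e]
  exact Subgroup.commutator_mem_commutator (Subgroup.mem_top _) (Subgroup.mem_top _)

lemma quat_sqComm (m : ℕ) [NeZero m] (hm : Even m) :
    SqComm (⊤ : Subgroup (QuaternionGroup m)) := by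
  intro x _
  have hpow : ∀ k : ℕ, (a 2 : QuaternionGroup m) ^ k = a (2 * k) := by
    intro k
    have : (a 2 : QuaternionGroup m) = a 1 ^ 2 := by rw [a_one_pow]; rfl
    rw [this, ← pow_mul, a_one_pow]
    push_cast; rfl
  rcases x with i | i
  · have : (a i : QuaternionGroup m) ^ 2 = a 2 ^ i.val := by
      rw [hpow, sq, a_mul_a]
      congr 1
      rw [ZMod.natCast_zmod_val]
      ring
    rw [this]
    exact Subgroup.pow_mem _ (quat_a_two_mem m) _
  · obtain ⟨r, hr⟩ := hm
    have : (xa i : QuaternionGroup m) ^ 2 = a 2 ^ r := by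
      rw [hpow, sq, xa_mul_xa]
      congr 1
      have hm' : ((m : ℕ) : ZMod (2 * m)) = ((r + r : ℕ) : ZMod (2 * m)) := congrArg Nat.cast hr
      push_cast at hm'
      linear_combination hm'
    rw [this]
    exact Subgroup.pow_mem _ (quat_a_two_mem m) _

end quat

section wr

variable {H : Type*} [Group H] (n : ℕ)

/-- `S ≀ T` as a subgroup of `H ≀ Sₙ` -/
def wrSub (S : Subgroup H) (T : Subgroup (Equiv.Perm (Fin n))) :
    Subgroup ((Fin n → H) ⋊[permAut n H] Equiv.Perm (Fin n)) where
  carrier := {x | (∀ i, x.left i ∈ S) ∧ x.right ∈ T}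
  one_mem' := ⟨fun _ => S.one_mem, T.one_mem⟩
  mul_mem' := by
    rintro x y ⟨hx1, hx2⟩ ⟨hy1, hy2⟩
    refine ⟨fun i => ?_, ?_⟩
    · rw [SemidirectProduct.mul_left]
      simp only [Pi.mul_apply, permAut_apply]
      exact S.mul_mem (hx1 i) (hy1 _)
    · rw [SemidirectProduct.mul_right]; exact T.mul_mem hx2 hy2
  inv_mem' := by
    rintro x ⟨hx1, hx2⟩
    refine ⟨fun i => ?_, ?_⟩
    · rw [SemidirectProduct.inv_left]
      simp only [permAut_apply, Pi.inv_apply, inv_inv]
      exact S.inv_mem (hx1 _)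
    · rw [SemidirectProduct.inv_right]; exact T.inv_mem hx2

lemma mem_wrSub (S : Subgroup H) (T : Subgroup (Equiv.Perm (Fin n)))
    (x : (Fin n → H) ⋊[permAut n H] Equiv.Perm (Fin n)) :
    x ∈ wrSub n S T ↔ (∀ i, x.left i ∈ S) ∧ x.right ∈ T := Iff.rfl

lemma card_wrSub (S : Subgroup H) (T : Subgroup (Equiv.Perm (Fin n))) :
    Nat.card ↥(wrSub n S T) = Nat.card S ^ n * Nat.card T := by
  have e : ↥(wrSub n S T) ≃ (Fin n → ↥S) × ↥T :=
    { toFun := fun x => (fun i => ⟨x.1.left i, x.2.1 i⟩, ⟨x.1.right, x.2.2⟩)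
      invFun := fun p => ⟨⟨fun i => (p.1 i).1, p.2.1⟩, ⟨fun i => (p.1 i).2, p.2.2⟩⟩
      left_inv := fun x => rfl
      right_inv := fun p => rfl }
  rw [Nat.card_congr e, Nat.card_prod, Nat.card_fun]
  simp

/-- the generating set of `S ≀ T` -/
def wrGens (S : Subgroup H) (I : Set (Equiv.Perm (Fin n))) :
    Set ((Fin n → H) ⋊[permAut n H] Equiv.Perm (Fin n)) :=
  {x | ∃ i, ∃ s ∈ S, x = SemidirectProduct.inl (Pi.mulSingle i s)} ∪
    {x | ∃ t ∈ I, x = SemidirectProduct.inr t}

lemma wrSub_eq_closure (S : Subgroup H) (I : Set (Equiv.Perm (Fin n))) :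
    wrSub n S (Subgroup.closure I) = Subgroup.closure (wrGens n S I) := by
  classical
  apply le_antisymm
  · intro x hx
    rw [mem_wrSub] at hx
    rw [← SemidirectProduct.inl_left_mul_inr_right x]
    apply Subgroup.mul_mem
    · have h1 : Subgroup.pi Set.univ (fun _ : Fin n => S) ≤
          (Subgroup.closure (wrGens n S I)).comap SemidirectProduct.inl := by
        rw [Subgroup.pi_le_iff]
        rintro i _ ⟨s, hs, rfl⟩
        rw [Subgroup.mem_comap]
        apply Subgroup.subset_closure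
        left
        exact ⟨i, s, hs, rfl⟩
      have h2 : x.left ∈ Subgroup.pi Set.univ (fun _ : Fin n => S) := by
        rw [Subgroup.mem_pi]
        intro i _
        exact hx.1 i
      exact h1 h2
    · have h1 : (Subgroup.closure I).map
          (SemidirectProduct.inr : _ →* (Fin n → H) ⋊[permAut n H] Equiv.Perm (Fin n)) ≤
          Subgroup.closure (wrGens n S I) := by
        rw [MonoidHom.map_closure]
        apply Subgroup.closure_mono
        rintro _ ⟨t, ht, rfl⟩
        right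
        exact ⟨t, ht, rfl⟩
      exact h1 (Subgroup.mem_map_of_mem _ hx.2)
  · rw [Subgroup.closure_le]
    rintro x (⟨i, s, hs, rfl⟩ | ⟨t, ht, rfl⟩)
    · refine ⟨fun j => ?_, ?_⟩
      · rw [SemidirectProduct.left_inl, Pi.mulSingle_apply]
        split_ifs
        · exact hs
        · exact S.one_mem
      · rw [SemidirectProduct.right_inl]; exact Subgroup.one_mem _
    · refine ⟨fun j => ?_, ?_⟩
      · rw [SemidirectProduct.left_inr]; exact S.one_mem
      · rw [SemidirectProduct.right_inr]; exact Subgroup.subset_closure ht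

lemma wrSub_sqComm (S : Subgroup H) (hS : SqComm S) (I : Set (Equiv.Perm (Fin n)))
    (hI : ∀ t ∈ I, t ^ 2 = 1) : SqComm (wrSub n S (Subgroup.closure I)) := by
  classical
  apply sqComm_of_closure (wrGens n S I) _ (wrSub_eq_closure n S I)
  rintro x (⟨i, s, hs, rfl⟩ | ⟨t, ht, rfl⟩)
  · set f : H →* (Fin n → H) ⋊[permAut n H] Equiv.Perm (Fin n) :=
      SemidirectProduct.inl.comp (MonoidHom.mulSingle (fun _ : Fin n => H) i) with hf
    have e : (SemidirectProduct.inl (Pi.mulSingle i s) :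
        (Fin n → H) ⋊[permAut n H] Equiv.Perm (Fin n)) ^ 2 = f (s ^ 2) := by
      rw [map_pow]; rfl
    rw [e]
    have h1 : S.map f ≤ wrSub n S (Subgroup.closure I) := by
      rintro _ ⟨u, hu, rfl⟩
      rw [wrSub_eq_closure]
      apply Subgroup.subset_closure
      left
      exact ⟨i, u, hu, rfl⟩
    have h2 : f (s ^ 2) ∈ (⁅S, S⁆).map f := Subgroup.mem_map_of_mem f (hS s hs)
    rw [Subgroup.map_commutator] at h2
    exact Subgroup.commutator_mono h1 h1 h2
  · rw [← map_pow, hI t ht, map_one]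
    exact Subgroup.one_mem _

end wr

end Cfsg.Agent.Lib.Helper44
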