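import Mathlib
import Cfsg.Agent.Lib.Helper44.WreathSylow

set_option autoImplicit false

/-! A Sylow 2-subgroup of `Sₙ` generated by involutions. -/

namespace Cfsg.Agent.Lib.Helper44

open Equiv

/-- there is a set of involutions of `Sₙ` generating a subgroup of order the 2-part of `n!` -/
def InvGen (n : ℕ) : Prop :=
  ∃ I : Set (Perm (Fin n)), (∀ t ∈ I, t ^ 2 = 1) ∧
    Nat.card (Subgroup.closure I) = 2 ^ padicValNat 2 n.factorial

lemma invGen_of_injective {n m : ℕ} (f : Perm (Fin n) →* Perm (Fin m))
    (hf : Function.Injective f)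
    (hv : padicValNat 2 m.factorial = padicValNat 2 n.factorial) (h : InvGen n) : InvGen m := by
  obtain ⟨I, hI, hc⟩ := h
  refine ⟨f '' I, ?_, ?_⟩
  · rintro _ ⟨t, ht, rfl⟩
    rw [← map_pow, hI t ht, map_one]
  · rw [← MonoidHom.map_closure, Subgroup.card_map_of_injective hf, hc, hv]

lemma invGen_succ_of_even {n : ℕ} (hn : Even n) (h : InvGen n) : InvGen (n + 1) := by
  apply invGen_of_injective (Perm.viaEmbeddingHom (Fin.castSuccEmb (n := n)))
    (Perm.viaEmbeddingHom_injective _) _ h
  rw [Nat.factorial_succ, padicValNat.mul (by omega) (Nat.factorial_ne_zero n)]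
  have : padicValNat 2 (n + 1) = 0 := by
    apply padicValNat.eq_zero_of_not_dvd
    rw [← even_iff_two_dvd]
    exact Nat.not_even_iff_odd.mpr hn.add_one
  rw [this, zero_add]

/-- the base group of `C₂ ≀ Sₘ` acting on `Fin m × Fin 2` -/
def basePerm (m : ℕ) : (Fin m → Perm (Fin 2)) →* Perm (Fin m × Fin 2) where
  toFun f :=
    { toFun := fun p => (p.1, f p.1 p.2)
      invFun := fun p => (p.1, (f p.1)⁻¹ p.2)
      left_inv := fun p => by simp
      right_inv := fun p => by simp }
  map_one' := by
    apply Equiv.ext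
    intro p
    simp
  map_mul' f g := by
    apply Equiv.ext
    intro p
    simp

/-- the top group of `C₂ ≀ Sₘ` acting on `Fin m × Fin 2` -/
def topPerm (m : ℕ) : Perm (Fin m) →* Perm (Fin m × Fin 2) where
  toFun σ :=
    { toFun := fun p => (σ p.1, p.2)
      invFun := fun p => (σ⁻¹ p.1, p.2)
      left_inv := fun p => by simp
      right_inv := fun p => by simp }
  map_one' := by
    apply Equiv.ext
    intro p
    simp
  map_mul' f g := by
    apply Equiv.ext
    intro p
    simp

@[simp] lemma basePerm_apply (m : ℕ) (f : Fin m → Perm (Fin 2)) (p : Fin m × Fin 2) :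
    basePerm m f p = (p.1, f p.1 p.2) := rfl

@[simp] lemma topPerm_apply (m : ℕ) (σ : Perm (Fin m)) (p : Fin m × Fin 2) :
    topPerm m σ p = (σ p.1, p.2) := rfl

/-- `C₂ ≀ Sₘ → S_{m × 2}` -/
def wrPerm (m : ℕ) : (Fin m → Perm (Fin 2)) ⋊[permAut m _] Perm (Fin m) →* Perm (Fin m × Fin 2) :=
  SemidirectProduct.lift (basePerm m) (topPerm m) (by
    intro σ
    ext1 f
    simp only [MonoidHom.comp_apply, MulEquiv.coe_toMonoidHom, MulAut.conj_apply]
    rw [eq_mul_inv_iff_mul_eq]
    apply Equiv.ext
    intro p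
    simp)

lemma wrPerm_apply (m : ℕ) (x : (Fin m → Perm (Fin 2)) ⋊[permAut m _] Perm (Fin m)) :
    wrPerm m x = basePerm m x.left * topPerm m x.right := rfl

lemma wrPerm_injective (m : ℕ) : Function.Injective (wrPerm m) := by
  rw [injective_iff_map_eq_one]
  intro x hx
  rw [wrPerm_apply] at hx
  have h : ∀ p : Fin m × Fin 2, (x.right p.1, x.left (x.right p.1) p.2) = p := by
    intro p
    have := congrArg (fun e : Perm (Fin m × Fin 2) => e p) hx
    simpa using this
  have hσ : x.right = 1 := by
    apply Equiv.ext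
    intro i
    have := congrArg Prod.fst (h (i, 0))
    simpa using this
  have hf : x.left = 1 := by
    funext i
    apply Equiv.ext
    intro j
    have := congrArg Prod.snd (h (i, j))
    rw [hσ] at this
    simpa using this
  ext1
  · exact hf
  · exact hσ

lemma padicVal_factorial_mul_two (m : ℕ) :
    padicValNat 2 (m * 2).factorial = m + padicValNat 2 m.factorial := by
  induction m with
  | zero => simp
  | succ m ih =>
    have e : (m + 1) * 2 = (m * 2 + 1) + 1 := by ring
    rw [e, Nat.factorial_succ, Nat.factorial_succ,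
      padicValNat.mul (by omega) (by positivity),
      padicValNat.mul (by omega) (Nat.factorial_ne_zero _), ih, Nat.factorial_succ,
      padicValNat.mul (by omega) (Nat.factorial_ne_zero _)]
    have h1 : padicValNat 2 (m * 2 + 1) = 0 := by
      apply padicValNat.eq_zero_of_not_dvd
      omega
    have h2 : padicValNat 2 (m * 2 + 1 + 1) = 1 + padicValNat 2 (m + 1) := by
      have : m * 2 + 1 + 1 = 2 * (m + 1) := by ring
      rw [this, padicValNat.mul (by norm_num) (by omega)]
      simp
    rw [h1, h2]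
    ring

lemma perm_fin_two_sq (s : Perm (Fin 2)) : s ^ 2 = 1 := by
  have h : Nat.card (Perm (Fin 2)) = 2 := by
    rw [Nat.card_perm]; simp
  have := pow_card_eq_one' (G := Perm (Fin 2)) (x := s)
  rwa [h] at this

lemma invGen_mul_two {m : ℕ} (h : InvGen m) : InvGen (m * 2) := by
  classical
  obtain ⟨I, hI, hc⟩ := h
  set F : (Fin m → Perm (Fin 2)) ⋊[permAut m _] Perm (Fin m) →* Perm (Fin (m * 2)) :=
    (finProdFinEquiv (m := m) (n := 2)).permCongrHom.toMonoidHom.comp (wrPerm m) with hF
  have hFinj : Function.Injective F := by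
    rw [hF]
    exact (finProdFinEquiv (m := m) (n := 2)).permCongrHom.injective.comp (wrPerm_injective m)
  refine ⟨F '' (wrGens m (⊤ : Subgroup (Perm (Fin 2))) I), ?_, ?_⟩
  · rintro _ ⟨x, hx, rfl⟩
    rw [← map_pow]
    rcases hx with ⟨i, s, _, rfl⟩ | ⟨t, ht, rfl⟩
    · have : (SemidirectProduct.inl (Pi.mulSingle i s) :
          (Fin m → Perm (Fin 2)) ⋊[permAut m _] Perm (Fin m)) ^ 2 = 1 := by
        rw [← map_pow, ← Pi.mulSingle_pow, perm_fin_two_sq, Pi.mulSingle_one, map_one]
      rw [this, map_one]
    · rw [← map_pow, hI t ht, map_one, map_one]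
  · rw [← MonoidHom.map_closure, Subgroup.card_map_of_injective hFinj, ← wrSub_eq_closure,
      card_wrSub, hc, padicVal_factorial_mul_two, pow_add]
    congr 1
    rw [Nat.card_eq_fintype_card (α := ↥(⊤ : Subgroup (Perm (Fin 2))))]
    simp [Fintype.card_perm]

theorem invGen_all : ∀ n : ℕ, InvGen n := by
  intro n
  induction n using Nat.strong_induction_on with
  | _ n ih =>
    rcases Nat.eq_zero_or_pos n with rfl | hpos
    · refine ⟨∅, by simp, ?_⟩
      simp
    · obtain ⟨k, rfl⟩ : ∃ k, n = k + 1 := ⟨n - 1, by omega⟩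
      rcases Nat.even_or_odd k with hk | hk
      · exact invGen_succ_of_even hk (ih k (by omega))
      · obtain ⟨r, hr⟩ := hk
        have e : k + 1 = (r + 1) * 2 := by omega
        rw [e]
        exact invGen_mul_two (ih (r + 1) (by omega))

end Cfsg.Agent.Lib.Helper44
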