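import Mathlib
import Cfsg.Agent.Lib.Helper44.SymInvGen

set_option autoImplicit false

/-! Numerical functions bounding the orders of nilpotent subgroups of `Sₙ`:
`F2 n = |Syl₂(Sₙ)|`, `Gb n` (the maximal order of a nilpotent subgroup), `Bo n = 3^((n-1)/2)`
(a bound for the nilpotent subgroups of odd order). -/

namespace Cfsg.Agent.Lib.Helper44

open Nat

/-- the order of a Sylow `2`-subgroup of `Sₙ` -/
def F2 (n : ℕ) : ℕ := 2 ^ padicValNat 2 n.factorial

lemma F2_pos (n : ℕ) : 0 < F2 n := by unfold F2; positivity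

lemma F2_succ (n : ℕ) : F2 (n + 1) = F2 n * 2 ^ padicValNat 2 (n + 1) := by
  unfold F2
  rw [Nat.factorial_succ, padicValNat.mul (by omega) (Nat.factorial_ne_zero n), pow_add, mul_comm]

lemma F2_mul_le (a b : ℕ) : F2 a * F2 b ≤ F2 (a + b) := by
  unfold F2
  rw [← pow_add]
  apply Nat.pow_le_pow_right (by norm_num)
  have h := Nat.factorial_mul_factorial_dvd_factorial_add a b
  have h2 : 2 ^ (padicValNat 2 a.factorial + padicValNat 2 b.factorial) ∣ (a + b).factorial := by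
    rw [pow_add]
    exact (mul_dvd_mul pow_padicValNat_dvd pow_padicValNat_dvd).trans h
  exact (padicValNat_dvd_iff_le (Nat.factorial_ne_zero _)).mp h2

lemma F2_mono {a b : ℕ} (h : a ≤ b) : F2 a ≤ F2 b := by
  obtain ⟨c, rfl⟩ := Nat.exists_eq_add_of_le h
  calc F2 a = F2 a * 1 := (mul_one _).symm
    _ ≤ F2 a * F2 c := Nat.mul_le_mul_left _ (F2_pos c)
    _ ≤ F2 (a + c) := F2_mul_le a c

lemma padicVal_two_factorial (n : ℕ) :
    padicValNat 2 n.factorial = n - (Nat.digits 2 n).sum := by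
  have := sub_one_mul_padicValNat_factorial (p := 2) n
  simpa using this

lemma F2_two : F2 2 = 2 := by
  unfold F2
  rw [padicVal_two_factorial]
  norm_num

lemma F2_eight : F2 8 = 128 := by
  unfold F2
  rw [padicVal_two_factorial]
  norm_num

lemma F2_two_mul (r : ℕ) : F2 (2 * r) = 2 ^ r * F2 r := by
  unfold F2
  rw [mul_comm 2 r, padicVal_factorial_mul_two, pow_add]

lemma F2_four_add_one (c : ℕ) : F2 (4 * c + 1) = F2 (4 * c) := by
  rw [F2_succ, padicValNat.eq_zero_of_not_dvd (by omega)]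
  simp

lemma F2_four_add_two (c : ℕ) : F2 (4 * c + 2) = 2 * F2 (4 * c) := by
  rw [show 4 * c + 2 = (4 * c + 1) + 1 from rfl, F2_succ, F2_four_add_one]
  have : padicValNat 2 (4 * c + 1 + 1) = 1 := by
    have e : 4 * c + 1 + 1 = 2 * (2 * c + 1) := by ring
    have h1 : padicValNat 2 (2 * c + 1) = 0 := padicValNat.eq_zero_of_not_dvd (by omega)
    rw [e, padicValNat.mul (by norm_num) (by omega), h1]
    simp
  rw [this]
  ring

lemma F2_four_add_three (c : ℕ) : F2 (4 * c + 3) = 2 * F2 (4 * c) := by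
  rw [show 4 * c + 3 = (4 * c + 2) + 1 from rfl, F2_succ, F2_four_add_two,
    padicValNat.eq_zero_of_not_dvd (by omega)]
  simp

lemma F2_four_add_four (c : ℕ) : 8 * F2 (4 * c) ≤ F2 (4 * c + 4) := by
  rw [show 4 * c + 4 = (4 * c + 3) + 1 from rfl, F2_succ, F2_four_add_three]
  have : 2 ≤ padicValNat 2 (4 * c + 3 + 1) := by
    have e : 4 * c + 3 + 1 = 2 ^ 2 * (c + 1) := by ring
    rw [e, padicValNat.mul (by norm_num) (by omega), padicValNat.prime_pow]
    omega
  calc 8 * F2 (4 * c) = 2 * F2 (4 * c) * 2 ^ 2 := by ring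
    _ ≤ 2 * F2 (4 * c) * 2 ^ padicValNat 2 (4 * c + 3 + 1) :=
      Nat.mul_le_mul_left _ (Nat.pow_le_pow_right (by norm_num) this)

/-- the maximal order of a nilpotent subgroup of `Sₙ` -/
def Gb (n : ℕ) : ℕ := if n % 4 = 3 then 3 * F2 (n - 3) else F2 n

/-- `F2 (4c+i) / F2 (4c)` -/
def fq (i : ℕ) : ℕ := if 2 ≤ i then 2 else 1

/-- `Gb (4c+i) / F2 (4c)` -/
def gq (i : ℕ) : ℕ := if i = 3 then 3 else if i = 2 then 2 else 1

lemma F2_eq (c i : ℕ) (hi : i < 4) : F2 (4 * c + i) = fq i * F2 (4 * c) := by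
  interval_cases i
  · simp [fq]
  · rw [F2_four_add_one]; simp [fq]
  · rw [F2_four_add_two]; simp [fq]
  · rw [F2_four_add_three]; simp [fq]

lemma Gb_eq (c i : ℕ) (hi : i < 4) : Gb (4 * c + i) = gq i * F2 (4 * c) := by
  interval_cases i
  · have h : (4 * c + 0) % 4 ≠ 3 := by omega
    rw [Gb, if_neg h]; simp [gq]
  · have h : (4 * c + 1) % 4 ≠ 3 := by omega
    rw [Gb, if_neg h, F2_four_add_one]; simp [gq]
  · have h : (4 * c + 2) % 4 ≠ 3 := by omega
    rw [Gb, if_neg h, F2_four_add_two]; simp [gq]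
  · have h : (4 * c + 3) % 4 = 3 := by omega
    rw [Gb, if_pos h, Nat.add_sub_cancel]; simp [gq]

lemma exists_four_mul_add (a : ℕ) : ∃ x i, i < 4 ∧ a = 4 * x + i :=
  ⟨a / 4, a % 4, Nat.mod_lt _ (by norm_num), by omega⟩

lemma Gb_mul_le (a b : ℕ) : Gb a * Gb b ≤ Gb (a + b) := by
  obtain ⟨x, i, hi, rfl⟩ := exists_four_mul_add a
  obtain ⟨y, j, hj, rfl⟩ := exists_four_mul_add b
  rw [Gb_eq x i hi, Gb_eq y j hj]
  have hxy : F2 (4 * x) * F2 (4 * y) ≤ F2 (4 * (x + y)) := by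
    have := F2_mul_le (4 * x) (4 * y)
    rwa [← mul_add] at this
  by_cases hij : i + j < 4
  · have e : 4 * x + i + (4 * y + j) = 4 * (x + y) + (i + j) := by ring
    rw [e, Gb_eq (x + y) (i + j) hij]
    have hg : gq i * gq j ≤ gq (i + j) := by
      interval_cases i <;> interval_cases j <;> simp_all [gq]
    calc gq i * F2 (4 * x) * (gq j * F2 (4 * y))
        = (gq i * gq j) * (F2 (4 * x) * F2 (4 * y)) := by ring
      _ ≤ gq (i + j) * F2 (4 * (x + y)) := Nat.mul_le_mul hg hxy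
  · have e : 4 * x + i + (4 * y + j) = 4 * (x + y + 1) + (i + j - 4) := by omega
    rw [e, Gb_eq (x + y + 1) (i + j - 4) (by omega)]
    have h8 : 8 * F2 (4 * (x + y)) ≤ F2 (4 * (x + y + 1)) := by
      have := F2_four_add_four (x + y)
      rwa [show 4 * (x + y) + 4 = 4 * (x + y + 1) by ring] at this
    have hg : gq i * gq j ≤ 8 * gq (i + j - 4) := by
      interval_cases i <;> interval_cases j <;> simp_all [gq]
    calc gq i * F2 (4 * x) * (gq j * F2 (4 * y))
        = (gq i * gq j) * (F2 (4 * x) * F2 (4 * y)) := by ring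
      _ ≤ (8 * gq (i + j - 4)) * F2 (4 * (x + y)) := Nat.mul_le_mul hg hxy
      _ = gq (i + j - 4) * (8 * F2 (4 * (x + y))) := by ring
      _ ≤ gq (i + j - 4) * F2 (4 * (x + y + 1)) := Nat.mul_le_mul_left _ h8

lemma F2_le_Gb (n : ℕ) : F2 n ≤ Gb n := by
  obtain ⟨x, i, hi, rfl⟩ := exists_four_mul_add n
  rw [Gb_eq x i hi, F2_eq x i hi]
  apply Nat.mul_le_mul_right
  interval_cases i <;> simp [fq, gq]

lemma two_mul_Gb_le (n : ℕ) : 2 * Gb n ≤ 3 * F2 n := by
  obtain ⟨x, i, hi, rfl⟩ := exists_four_mul_add n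
  rw [Gb_eq x i hi, F2_eq x i hi]
  have : 2 * gq i ≤ 3 * fq i := by interval_cases i <;> simp [fq, gq]
  calc 2 * (gq i * F2 (4 * x)) = (2 * gq i) * F2 (4 * x) := by ring
    _ ≤ (3 * fq i) * F2 (4 * x) := Nat.mul_le_mul_right _ this
    _ = 3 * (fq i * F2 (4 * x)) := by ring

lemma Gb_of_mod {n : ℕ} (h : n % 4 ≠ 3) : Gb n = F2 n := by rw [Gb, if_neg h]

/-- the bound in the mixed case -/
lemma pow_mul_Gb_le (q r : ℕ) (hq : 3 ≤ q) (hr : 1 ≤ r) :
    (2 * q) ^ r * Gb r ≤ Gb (2 * q * r) := by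
  have h1 : q ≤ 2 ^ (q - 1) := by
    have := Nat.lt_two_pow_self (n := q - 1)
    omega
  have h2 : (2 * q) ^ r ≤ 2 ^ (q * r) := by
    calc (2 * q) ^ r = 2 ^ r * q ^ r := mul_pow 2 q r
      _ ≤ 2 ^ r * (2 ^ (q - 1)) ^ r := Nat.mul_le_mul_left _ (Nat.pow_le_pow_left h1 r)
      _ = 2 ^ (q * r) := by
        rw [← pow_mul, ← pow_add]
        congr 1
        obtain ⟨s, rfl⟩ : ∃ s, q = s + 1 := ⟨q - 1, by omega⟩
        rw [Nat.add_sub_cancel]
        ring
  have h3 : Gb r ≤ F2 (q * r) := by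
    have ha : 2 ≤ F2 ((q - 1) * r) := by
      rw [← F2_two]
      apply F2_mono
      have : 2 * 1 ≤ (q - 1) * r := Nat.mul_le_mul (by omega) hr
      omega
    have hb : F2 r * F2 ((q - 1) * r) ≤ F2 (q * r) := by
      have := F2_mul_le r ((q - 1) * r)
      have e : r + (q - 1) * r = q * r := by
        obtain ⟨s, rfl⟩ : ∃ s, q = s + 1 := ⟨q - 1, by omega⟩
        rw [Nat.add_sub_cancel]
        ring
      rwa [e] at this
    have hc := two_mul_Gb_le r
    have hd := F2_pos r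
    nlinarith
  calc (2 * q) ^ r * Gb r ≤ 2 ^ (q * r) * F2 (q * r) := Nat.mul_le_mul h2 h3
    _ = F2 (2 * (q * r)) := (F2_two_mul (q * r)).symm
    _ = F2 (2 * q * r) := by rw [mul_assoc]
    _ ≤ Gb (2 * q * r) := F2_le_Gb _

/-- a bound for the odd-order nilpotent subgroups of `Sₙ` -/
def Bo (n : ℕ) : ℕ := 3 ^ ((n - 1) / 2)

lemma Bo_pos (n : ℕ) : 0 < Bo n := by unfold Bo; positivity

lemma Bo_mul_le (a b : ℕ) (ha : 1 ≤ a) (hb : 1 ≤ b) : Bo a * Bo b ≤ Bo (a + b) := by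
  unfold Bo
  rw [← pow_add]
  apply Nat.pow_le_pow_right (by norm_num)
  omega

lemma two_mul_add_one_le_three_pow (h : ℕ) : 2 * h + 1 ≤ 3 ^ h := by
  induction h with
  | zero => simp
  | succ h ih =>
    rw [pow_succ]
    omega

lemma pow_mul_Bo_le (p r : ℕ) (hp : Odd p) (hr : 1 ≤ r) : p ^ r * Bo r ≤ Bo (p * r) := by
  obtain ⟨h, rfl⟩ := hp
  unfold Bo
  have e : ((2 * h + 1) * r - 1) / 2 = h * r + (r - 1) / 2 := by
    have : (2 * h + 1) * r = 2 * (h * r) + r := by ring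
    rw [this]
    omega
  rw [e, pow_add]
  apply Nat.mul_le_mul_right
  calc (2 * h + 1) ^ r ≤ (3 ^ h) ^ r := Nat.pow_le_pow_left (two_mul_add_one_le_three_pow h) r
    _ = 3 ^ (h * r) := (pow_mul 3 h r).symm

lemma F2_val (n v : ℕ) (h : n - (Nat.digits 2 n).sum = v) : F2 n = 2 ^ v := by
  unfold F2
  rw [padicVal_two_factorial, h]

lemma Bo_le_F2 : ∀ n : ℕ, 16 ≤ n → Bo n ≤ F2 n := by
  intro n
  induction n using Nat.strong_induction_on with
  | _ n ih =>
    intro hn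
    by_cases h24 : n < 24
    · interval_cases n
      · rw [F2_val 16 15 (by norm_num)]; norm_num [Bo]
      · rw [F2_val 17 15 (by norm_num)]; norm_num [Bo]
      · rw [F2_val 18 16 (by norm_num)]; norm_num [Bo]
      · rw [F2_val 19 16 (by norm_num)]; norm_num [Bo]
      · rw [F2_val 20 18 (by norm_num)]; norm_num [Bo]
      · rw [F2_val 21 18 (by norm_num)]; norm_num [Bo]
      · rw [F2_val 22 19 (by norm_num)]; norm_num [Bo]
      · rw [F2_val 23 19 (by norm_num)]; norm_num [Bo]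
    · obtain ⟨m, rfl⟩ : ∃ m, n = m + 8 := ⟨n - 8, by omega⟩
      have h1 := ih m (by omega) (by omega)
      have h2 : Bo (m + 8) = 81 * Bo m := by
        unfold Bo
        have : (m + 8 - 1) / 2 = (m - 1) / 2 + 4 := by omega
        rw [this, pow_add]
        ring
      have h3 : F2 m * F2 8 ≤ F2 (m + 8) := F2_mul_le m 8
      rw [F2_eight] at h3
      rw [h2]
      omega

lemma Bo_le_Gb (n : ℕ) (h5 : n ≠ 5) (h7 : n ≠ 7) : Bo n ≤ Gb n := by
  by_cases h16 : 16 ≤ n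
  · exact (Bo_le_F2 n h16).trans (F2_le_Gb n)
  · have hn : n < 16 := by omega
    interval_cases n
    · rw [Gb, if_neg (by norm_num), F2_val 0 0 (by norm_num)]; norm_num [Bo]
    · rw [Gb, if_neg (by norm_num), F2_val 1 0 (by norm_num)]; norm_num [Bo]
    · rw [Gb, if_neg (by norm_num), F2_val 2 1 (by norm_num)]; norm_num [Bo]
    · rw [Gb, if_pos (by norm_num), F2_val (3 - 3) 0 (by norm_num)]; norm_num [Bo]
    · rw [Gb, if_neg (by norm_num), F2_val 4 3 (by norm_num)]; norm_num [Bo]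
    · exact absurd rfl h5
    · rw [Gb, if_neg (by norm_num), F2_val 6 4 (by norm_num)]; norm_num [Bo]
    · exact absurd rfl h7
    · rw [Gb, if_neg (by norm_num), F2_val 8 7 (by norm_num)]; norm_num [Bo]
    · rw [Gb, if_neg (by norm_num), F2_val 9 7 (by norm_num)]; norm_num [Bo]
    · rw [Gb, if_neg (by norm_num), F2_val 10 8 (by norm_num)]; norm_num [Bo]
    · rw [Gb, if_pos (by norm_num), F2_val (11 - 3) 7 (by norm_num)]; norm_num [Bo]
    · rw [Gb, if_neg (by norm_num), F2_val 12 10 (by norm_num)]; norm_num [Bo]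
    · rw [Gb, if_neg (by norm_num), F2_val 13 10 (by norm_num)]; norm_num [Bo]
    · rw [Gb, if_neg (by norm_num), F2_val 14 11 (by norm_num)]; norm_num [Bo]
    · rw [Gb, if_pos (by norm_num), F2_val (15 - 3) 10 (by norm_num)]; norm_num [Bo]

lemma Gb_five : Gb 5 = 8 := by
  rw [Gb, if_neg (by norm_num), F2_val 5 3 (by norm_num)]; norm_num

lemma Gb_seven : Gb 7 = 24 := by
  rw [Gb, if_pos (by norm_num), F2_val (7 - 3) 3 (by norm_num)]; norm_num

lemma odd_dvd_le_five (m : ℕ) (hm : m ∣ Nat.factorial 5) (ho : Odd m) (h9 : m ≤ Bo 5) :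
    m ≤ Gb 5 := by
  rw [Gb_five]
  have h9' : m ≤ 9 := by simpa [Bo] using h9
  rcases (show m ≤ 8 ∨ m = 9 by omega) with h | rfl
  · exact h
  · norm_num [Nat.factorial] at hm

lemma odd_dvd_le_seven (m : ℕ) (hm : m ∣ Nat.factorial 7) (ho : Odd m) (h9 : m ≤ Bo 7) :
    m ≤ Gb 7 := by
  rw [Gb_seven]
  have h9' : m ≤ 27 := by simpa [Bo] using h9
  rcases (show m ≤ 24 ∨ m = 25 ∨ m = 26 ∨ m = 27 by omega) with h | rfl | rfl | rfl
  · exact h
  · norm_num [Nat.factorial] at hm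
  · exact absurd ho (by decide)
  · norm_num [Nat.factorial] at hm

end Cfsg.Agent.Lib.Helper44
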