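import Mathlib

set_option autoImplicit false

/-! Permutation groups: restriction to invariant sets, the block system of the orbits of a central
cyclic subgroup, and central elements of prime order in nilpotent groups. -/

namespace Cfsg.Agent.Lib.Helper44

open Equiv MulAction
open scoped commutatorElement

universe u

section nilp

variable {G : Type*} [Group G]

/-- a nontrivial normal subgroup of a nilpotent group meets the centre nontrivially -/
lemma normal_meets_center [hnil : Group.IsNilpotent G] (H : Subgroup G) [hH : H.Normal]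
    (hH0 : H ≠ ⊥) : ∃ x ∈ H, x ∈ Subgroup.center G ∧ x ≠ 1 := by
  classical
  obtain ⟨c, hc⟩ := hnil.nilpotent'
  have hex : ∃ n, H ⊓ Subgroup.upperCentralSeries G n ≠ ⊥ :=
    ⟨c, by rw [hc, inf_top_eq]; exact hH0⟩
  have hmin : ∀ m, m < Nat.find hex → ¬ (H ⊓ Subgroup.upperCentralSeries G m ≠ ⊥) :=
    fun m hm => Nat.find_min hex hm
  have hspec := Nat.find_spec hex
  set n := Nat.find hex with hn
  rcases Nat.eq_zero_or_eq_succ_pred n with h0 | hs
  · rw [h0, Subgroup.upperCentralSeries_zero, inf_bot_eq] at hspec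
    exact absurd rfl hspec
  · set k := n.pred with hk
    have hk' : H ⊓ Subgroup.upperCentralSeries G k = ⊥ := by
      by_contra h
      exact hmin k (by omega) h
    obtain ⟨x, hx, hx1'⟩ := (Subgroup.bot_or_exists_ne_one _).resolve_left hspec
    have hxN : (x : G) ∈ H := hx.1
    have hxZ : (x : G) ∈ Subgroup.upperCentralSeries G (k + 1) := by
      have := hx.2
      rwa [hs] at this
    refine ⟨x, hxN, ?_, hx1'⟩
    rw [Subgroup.mem_center_iff]
    intro y
    have h1 : ⁅(x : G), y⁆ ∈ Subgroup.upperCentralSeries G k :=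
      (Subgroup.mem_upperCentralSeries_succ_iff.mp hxZ) y
    have h2 : ⁅(x : G), y⁆ ∈ H := by
      rw [commutatorElement_def]
      have : (x : G) * y * (x : G)⁻¹ * y⁻¹ = x * (y * (x : G)⁻¹ * y⁻¹) := by group
      rw [this]
      exact H.mul_mem hxN (hH.conj_mem _ (H.inv_mem hxN) y)
    have h3 : ⁅(x : G), y⁆ ∈ H ⊓ Subgroup.upperCentralSeries G k := ⟨h2, h1⟩
    rw [hk', Subgroup.mem_bot, commutatorElement_def] at h3
    calc y * x = (x * y * (x : G)⁻¹ * y⁻¹)⁻¹ * (x * y) := by group
      _ = x * y := by rw [h3, inv_one, one_mul]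

/-- in a finite nilpotent group, every prime divisor of the order is the order of a central
element -/
lemma exists_central_of_prime_dvd [Finite G] [hnil : Group.IsNilpotent G] (p : ℕ)
    [hp : Fact p.Prime] (hdvd : p ∣ Nat.card G) :
    ∃ z : G, orderOf z = p ∧ ∀ g : G, g * z = z * g := by
  obtain ⟨P⟩ : Nonempty (Sylow p G) := Sylow.nonempty
  have hPn : (P : Subgroup G).Normal :=
    ((Group.isNilpotent_of_finite_tfae (G := G)).out 0 3 rfl rfl).mp hnil p hp P
  have hP0 : (P : Subgroup G) ≠ ⊥ := by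
    intro h
    have h1 := P.card_eq_multiplicity
    rw [h, Subgroup.card_bot] at h1
    have h2 : (Nat.card G).factorization p = 0 := by
      by_contra hne
      have : 1 < p ^ (Nat.card G).factorization p :=
        Nat.one_lt_pow hne hp.out.one_lt
      omega
    have h3 := (Nat.factorization_eq_zero_iff _ _).mp h2
    rcases h3 with h3 | h3 | h3
    · exact h3 hp.out
    · exact h3 hdvd
    · exact Nat.card_pos.ne' h3
  obtain ⟨x, hxP, hxZ, hx1⟩ := normal_meets_center (P : Subgroup G) hP0
  obtain ⟨j, hj⟩ := (IsPGroup.iff_orderOf.mp P.isPGroup') ⟨x, hxP⟩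
  have hj' : orderOf x = p ^ j := by
    rw [← hj]
    exact (Subgroup.orderOf_mk x hxP).symm
  have hj0 : j ≠ 0 := by
    rintro rfl
    rw [pow_zero, orderOf_eq_one_iff] at hj'
    exact hx1 hj'
  refine ⟨x ^ (orderOf x / p), ?_, ?_⟩
  · apply orderOf_pow_orderOf_div
    · rw [hj']
      exact pow_ne_zero _ hp.out.ne_zero
    · rw [hj']
      exact dvd_pow_self p hj0
  · intro g
    rw [Subgroup.mem_center_iff] at hxZ
    exact ((Commute.pow_right (hxZ g) _)).eq

/-- a nontrivial finite nilpotent group has a central element of prime order -/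
lemma exists_central_prime_order [Finite G] [hnil : Group.IsNilpotent G] [Nontrivial G] :
    ∃ p : ℕ, p.Prime ∧ ∃ z : G, orderOf z = p ∧ ∀ g : G, g * z = z * g := by
  have h1 : Nat.card G ≠ 1 := by
    intro h
    have := (Nat.card_eq_one_iff_unique.mp h).1
    exact not_subsingleton G this
  refine ⟨(Nat.card G).minFac, Nat.minFac_prime h1, ?_⟩
  have : Fact (Nat.card G).minFac.Prime := ⟨Nat.minFac_prime h1⟩
  exact exists_central_of_prime_dvd _ (Nat.minFac_dvd _)

end nilp

section split

variable {Ω : Type u} [Finite Ω]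

/-- restriction of a group of permutations to an invariant set -/
def resHom (N : Subgroup (Perm Ω)) (A : Set Ω) (hA : ∀ g ∈ N, ∀ ω, g ω ∈ A ↔ ω ∈ A) :
    ↥N →* Perm ↥A where
  toFun g := Perm.subtypePerm g.1 (hA g.1 g.2)
  map_one' := by
    ext x
    simp
  map_mul' g h := by
    ext x
    rfl

omit [Finite Ω] in
lemma resHom_apply (N : Subgroup (Perm Ω)) (A : Set Ω) (hA : ∀ g ∈ N, ∀ ω, g ω ∈ A ↔ ω ∈ A)
    (g : ↥N) (x : ↥A) : ((resHom N A hA g) x : Ω) = g.1 x := rfl

theorem exists_split (N : Subgroup (Perm Ω)) (A : Set Ω)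
    (hA : ∀ g ∈ N, ∀ ω, g ω ∈ A ↔ ω ∈ A) :
    ∃ (N1 : Subgroup (Perm ↥A)) (N2 : Subgroup (Perm ↥(Aᶜ : Set Ω))),
      (Group.IsNilpotent N → Group.IsNilpotent N1 ∧ Group.IsNilpotent N2) ∧
      Nat.card N1 ∣ Nat.card N ∧ Nat.card N2 ∣ Nat.card N ∧
      Nat.card N ≤ Nat.card N1 * Nat.card N2 := by
  have hAc : ∀ g ∈ N, ∀ ω, g ω ∈ (Aᶜ : Set Ω) ↔ ω ∈ (Aᶜ : Set Ω) :=
    fun g hg ω => not_congr (hA g hg ω)
  set f1 := resHom N A hA with hf1
  set f2 := resHom N (Aᶜ : Set Ω) hAc with hf2
  refine ⟨f1.range, f2.range, ?_, Subgroup.card_range_dvd f1, Subgroup.card_range_dvd f2, ?_⟩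
  · intro hN
    exact ⟨Group.nilpotent_of_surjective f1.rangeRestrict f1.rangeRestrict_surjective,
      Group.nilpotent_of_surjective f2.rangeRestrict f2.rangeRestrict_surjective⟩
  · have hinj : Function.Injective
        (fun g : ↥N => ((f1.rangeRestrict g, f2.rangeRestrict g) : ↥f1.range × ↥f2.range)) := by
      intro g h hgh
      have h1 : f1 g = f1 h := congrArg (fun p : ↥f1.range × ↥f2.range => (p.1 : Perm ↥A)) hgh
      have h2 : f2 g = f2 h :=
        congrArg (fun p : ↥f1.range × ↥f2.range => (p.2 : Perm ↥(Aᶜ : Set Ω))) hgh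
      apply Subtype.ext
      apply Equiv.ext
      intro ω
      by_cases hω : ω ∈ A
      · exact congrArg (fun σ : Perm ↥A => (σ ⟨ω, hω⟩ : Ω)) h1
      · exact congrArg (fun σ : Perm ↥(Aᶜ : Set Ω) => (σ ⟨ω, hω⟩ : Ω)) h2
    have := Nat.card_le_card_of_injective _ hinj
    rwa [Nat.card_prod] at this

end split

section blocks

variable {Ω : Type u} [Finite Ω]

theorem exists_blocks (N : Subgroup (Perm Ω)) (w : Perm Ω) (hwN : ∀ g ∈ N, g * w = w * g)
    (hfree : ∀ i : ℕ, ∀ ω, (w ^ i) ω = ω → w ^ i = 1) :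
    ∃ (Ω' : Type u) (_ : Finite Ω') (N' : Subgroup (Perm Ω')),
      Nat.card Ω = orderOf w * Nat.card Ω' ∧
      (Group.IsNilpotent N → Group.IsNilpotent N') ∧
      Nat.card N' ∣ Nat.card N ∧ Nat.card N ≤ orderOf w ^ Nat.card Ω' * Nat.card N' := by
  classical
  set C := Subgroup.zpowers w with hC
  have hcomm : ∀ g ∈ N, ∀ c : ↥C, g * c.1 = c.1 * g := by
    intro g hg c
    obtain ⟨k, hk⟩ := Subgroup.mem_zpowers_iff.mp c.2
    rw [← hk]
    exact ((Commute.zpow_right (hwN g hg) k)).eq
  have hsmul : ∀ (c : ↥C) (ω : Ω), c • ω = c.1 ω := fun c ω => rfl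
  -- the action on the orbits
  have hcompat : ∀ g : ↥N, ∀ a b : Ω, (orbitRel ↥C Ω) a b → (orbitRel ↥C Ω) (g.1 a) (g.1 b) := by
    intro g a b hab
    rw [orbitRel_apply, mem_orbit_iff] at hab ⊢
    obtain ⟨c, hc⟩ := hab
    refine ⟨c, ?_⟩
    rw [← hc, hsmul, hsmul, ← Perm.mul_apply, ← Perm.mul_apply, hcomm g.1 g.2 c]
  let ψ : ↥N →* Function.End (orbitRel.Quotient ↥C Ω) :=
    { toFun := fun g => Quotient.map' (fun ω => g.1 ω) (hcompat g)
      map_one' := by
        funext o
        induction o using Quotient.inductionOn' with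
        | h a => rfl
      map_mul' := by
        intro g h
        funext o
        induction o using Quotient.inductionOn' with
        | h a => rfl }
  let φ : ↥N →* Perm (orbitRel.Quotient ↥C Ω) := ψ.toHomPerm
  have hφ : ∀ (g : ↥N) (ω : Ω), φ g (Quotient.mk'' ω) = Quotient.mk'' (g.1 ω) := fun g ω => rfl
  have hfin : Finite (orbitRel.Quotient ↥C Ω) := Quotient.finite _
  refine ⟨orbitRel.Quotient ↥C Ω, hfin, φ.range, ?_, ?_, Subgroup.card_range_dvd φ, ?_⟩
  · -- counting points
    have hstab : ∀ ω : Ω, stabilizer ↥C ω = ⊥ := by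
      intro ω
      rw [eq_bot_iff]
      intro c hc
      rw [mem_stabilizer_iff, hsmul] at hc
      rw [Subgroup.mem_bot]
      have hfo : IsOfFinOrder w := isOfFinOrder_of_finite w
      obtain ⟨i, hi⟩ := (hfo.mem_powers_iff_mem_zpowers.mpr c.2)
      apply Subtype.ext
      rw [Subgroup.coe_one, ← hi]
      apply hfree i ω
      have : (w ^ i) = c.1 := hi
      rw [this]
      exact hc
    have e := selfEquivSigmaOrbitsQuotientStabilizer ↥C Ω
    have : Fintype (orbitRel.Quotient ↥C Ω) := Fintype.ofFinite _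
    rw [Nat.card_congr e, Nat.card_sigma]
    have : ∀ o : orbitRel.Quotient ↥C Ω,
        Nat.card (↥C ⧸ stabilizer ↥C (Quotient.out o)) = orderOf w := by
      intro o
      rw [hstab, ← Subgroup.index_eq_card, Subgroup.index_bot, Nat.card_zpowers]
    rw [Finset.sum_congr rfl (fun o _ => this o), Finset.sum_const, Finset.card_univ,
      Nat.card_eq_fintype_card, smul_eq_mul, mul_comm]
  · intro hN
    exact Group.nilpotent_of_surjective φ.rangeRestrict φ.rangeRestrict_surjective
  · -- the kernel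
    have hK : ∀ (g : ↥φ.ker) (ω : Ω), ∃ c : ↥C, c • ω = g.1.1 ω := by
      intro g ω
      have h1 : φ g.1 = 1 := g.2
      have h2 : φ g.1 (Quotient.mk'' ω) = Quotient.mk'' ω := by rw [h1]; rfl
      rw [hφ] at h2
      have h3 := Quotient.eq''.mp h2
      rw [orbitRel_apply, mem_orbit_iff] at h3
      exact h3
    choose e he using hK
    have hinj : Function.Injective
        (fun (g : ↥φ.ker) (o : orbitRel.Quotient ↥C Ω) => e g (Quotient.out o)) := by
      intro g g' hgg
      apply Subtype.ext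
      apply Subtype.ext
      apply Equiv.ext
      intro ω
      set o : orbitRel.Quotient ↥C Ω := Quotient.mk'' ω with ho
      have h1 : (Quotient.mk'' ω : orbitRel.Quotient ↥C Ω) = Quotient.mk'' (Quotient.out o) :=
        (Quotient.out_eq' o).symm
      have h2 := Quotient.eq''.mp h1
      rw [orbitRel_apply, mem_orbit_iff] at h2
      obtain ⟨d, hd⟩ := h2
      have hgo : e g (Quotient.out o) = e g' (Quotient.out o) := congrFun hgg o
      have key : ∀ k : ↥φ.ker, k.1.1 ω = d.1 ((e k (Quotient.out o)).1 (Quotient.out o)) := by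
        intro k
        rw [← hd, hsmul, ← Perm.mul_apply, hcomm k.1.1 k.1.2 d, Perm.mul_apply, ← he k, hsmul]
      rw [key g, key g', hgo]
    have h1 := Nat.card_le_card_of_injective _ hinj
    rw [Nat.card_fun, Nat.card_zpowers] at h1
    have h2 := Subgroup.card_mul_index φ.ker
    rw [Subgroup.index_ker] at h2
    rw [← h2]
    exact Nat.mul_le_mul_right _ h1

end blocks

end Cfsg.Agent.Lib.Helper44
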