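import Mathlib
import Cfsg.Agent.Lib.Helper44.NilpSymNum
import Cfsg.Agent.Lib.Helper44.PermBlocks

set_option autoImplicit false

/-! Nilpotent subgroups of `Sₙ` have order at most `Gb n`; in particular at most `|Syl₂(Sₙ)|` when
`n` is not `3` modulo `4`. -/

namespace Cfsg.Agent.Lib.Helper44

open Equiv MulAction

universe u

section aux

variable {Ω : Type u} [Finite Ω]

omit [Finite Ω] in
/-- an element of prime order without fixed points generates a group acting freely -/
lemma free_of_prime_order (w : Perm Ω) {p : ℕ} (hp : p.Prime) (hw : orderOf w = p)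
    (hfix : ∀ ω, w ω ≠ ω) : ∀ i : ℕ, ∀ ω, (w ^ i) ω = ω → w ^ i = 1 := by
  intro i ω hω
  by_contra hne
  have hnd : ¬ p ∣ i := by
    intro hd
    apply hne
    rw [← hw] at hd
    exact orderOf_dvd_iff_pow_eq_one.mp hd
  have hcop : Nat.Coprime i p := ((Nat.Prime.coprime_iff_not_dvd hp).mpr hnd).symm
  obtain ⟨m, h1⟩ := exists_pow_eq_self_of_coprime (x := w) (by rw [hw]; exact hcop)
  have h2 : ((w ^ i) ^ m) ω = ω := Perm.pow_apply_eq_self_of_apply_eq_self hω m
  rw [h1] at h2
  exact hfix ω h2

lemma card_add_card_compl (A : Set Ω) :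
    Nat.card ↥A + Nat.card ↥(Aᶜ : Set Ω) = Nat.card Ω := by
  classical
  rw [← Nat.card_sum]
  exact Nat.card_congr (Equiv.Set.sumCompl A)

/-- the splitting step of the induction -/
lemma split_step (N : Subgroup (Perm Ω)) (hN : Group.IsNilpotent N) (w : Perm Ω)
    (hwN : ∀ g ∈ N, g * w = w * g) (hw1 : w ≠ 1) (hfix : ∃ ω, w ω = ω) (f : ℕ → ℕ)
    (hf : ∀ a b, 1 ≤ a → 1 ≤ b → f a * f b ≤ f (a + b))
    (ih : ∀ m < Nat.card Ω, ∀ (Ω' : Type u) [Finite Ω'], Nat.card Ω' = m →
      ∀ N' : Subgroup (Perm Ω'), Group.IsNilpotent N' → Nat.card N' ∣ Nat.card N →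
        Nat.card N' ≤ f m) :
    Nat.card N ≤ f (Nat.card Ω) := by
  set A : Set Ω := {ω | w ω = ω} with hAdef
  have hA : ∀ g ∈ N, ∀ ω, g ω ∈ A ↔ ω ∈ A := by
    intro g hg ω
    change w (g ω) = g ω ↔ w ω = ω
    have h1 : w (g ω) = g (w ω) := by
      rw [← Perm.mul_apply, ← Perm.mul_apply, hwN g hg]
    rw [h1]
    exact g.injective.eq_iff
  obtain ⟨N1, N2, hnil, hd1, hd2, hle⟩ := exists_split N A hA
  have hcard := card_add_card_compl A
  have hA1 : 1 ≤ Nat.card ↥A := by
    obtain ⟨ω, hω⟩ := hfix
    have : Nonempty ↥A := ⟨⟨ω, hω⟩⟩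
    exact Nat.card_pos
  have hA2 : 1 ≤ Nat.card ↥(Aᶜ : Set Ω) := by
    have : ∃ ω, w ω ≠ ω := by
      by_contra hcon
      push Not at hcon
      exact hw1 (Equiv.ext hcon)
    obtain ⟨ω, hω⟩ := this
    have : Nonempty ↥(Aᶜ : Set Ω) := ⟨⟨ω, hω⟩⟩
    exact Nat.card_pos
  have h1 := ih (Nat.card ↥A) (by omega) ↥A rfl N1 (hnil hN).1 hd1
  have h2 := ih (Nat.card ↥(Aᶜ : Set Ω)) (by omega) ↥(Aᶜ : Set Ω) rfl N2 (hnil hN).2 hd2
  calc Nat.card N ≤ Nat.card N1 * Nat.card N2 := hle
    _ ≤ f (Nat.card ↥A) * f (Nat.card ↥(Aᶜ : Set Ω)) := Nat.mul_le_mul h1 h2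
    _ ≤ f (Nat.card ↥A + Nat.card ↥(Aᶜ : Set Ω)) := hf _ _ hA1 hA2
    _ = f (Nat.card Ω) := by rw [hcard]

/-- the block step of the induction -/
lemma block_step (N : Subgroup (Perm Ω)) (hN : Group.IsNilpotent N) (hNt : Nat.card N ≠ 1)
    (w : Perm Ω)
    (hwN : ∀ g ∈ N, g * w = w * g) (hw2 : 2 ≤ orderOf w)
    (hfree : ∀ i : ℕ, ∀ ω, (w ^ i) ω = ω → w ^ i = 1) (f : ℕ → ℕ)
    (hf : ∀ r, 1 ≤ r → orderOf w ^ r * f r ≤ f (orderOf w * r))
    (ih : ∀ m < Nat.card Ω, ∀ (Ω' : Type u) [Finite Ω'], Nat.card Ω' = m →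
      ∀ N' : Subgroup (Perm Ω'), Group.IsNilpotent N' → Nat.card N' ∣ Nat.card N →
        Nat.card N' ≤ f m) :
    Nat.card N ≤ f (Nat.card Ω) := by
  obtain ⟨Ω', hfin, N', hcard, hnil, hdvd, hle⟩ := exists_blocks N w hwN hfree
  set r := Nat.card Ω' with hr
  have hr1 : 1 ≤ r := by
    by_contra hcon
    have hr0 : r = 0 := by omega
    rw [hr0, mul_zero] at hcard
    have hemp : IsEmpty Ω := by
      rcases Nat.card_eq_zero.mp hcard with h | h
      · exact h
      · exact absurd ‹Finite Ω› (not_finite_iff_infinite.mpr h)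
    have hsub : Subsingleton (Perm Ω) := inferInstance
    have : Subsingleton ↥N := inferInstance
    exact hNt (Nat.card_unique)
  have hrk : r < Nat.card Ω := by
    rw [hcard]
    nlinarith
  have h1 := ih r hrk Ω' rfl N' (hnil hN) hdvd
  calc Nat.card N ≤ orderOf w ^ r * Nat.card N' := hle
    _ ≤ orderOf w ^ r * f r := Nat.mul_le_mul_left _ h1
    _ ≤ f (orderOf w * r) := hf r hr1
    _ = f (Nat.card Ω) := by rw [hcard]

end aux

/-- nilpotent subgroups of odd order of `Sₖ` have order at most `3^((k-1)/2)` -/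
theorem card_le_Bo : ∀ k : ℕ, ∀ (Ω : Type u) [Finite Ω], Nat.card Ω = k →
    ∀ N : Subgroup (Perm Ω), Group.IsNilpotent N → Odd (Nat.card N) → Nat.card N ≤ Bo k := by
  intro k
  induction k using Nat.strong_induction_on with
  | _ k ih =>
    intro Ω _ hk N hN hodd
    by_cases htriv : Nat.card N = 1
    · rw [htriv]
      exact Bo_pos k
    have hnt : Nontrivial ↥N := by
      rw [← Finite.one_lt_card_iff_nontrivial]
      have := Nat.card_pos (α := ↥N)
      omega
    obtain ⟨p, hp, z, hz, hzc⟩ := exists_central_prime_order (G := ↥N)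
    have hpodd : Odd p := by
      have h1 : p ∣ Nat.card N := by
        rw [← hz]
        exact orderOf_dvd_natCard z
      exact Odd.of_dvd_nat hodd h1
    have hw : orderOf (z : Perm Ω) = p := by
      rw [← hz]
      exact Subgroup.orderOf_coe z
    have hwN : ∀ g ∈ N, g * (z : Perm Ω) = (z : Perm Ω) * g :=
      fun g hg => congrArg Subtype.val (hzc ⟨g, hg⟩)
    have hih : ∀ m < Nat.card Ω, ∀ (Ω' : Type u) [Finite Ω'], Nat.card Ω' = m →
        ∀ N' : Subgroup (Perm Ω'), Group.IsNilpotent N' → Nat.card N' ∣ Nat.card N →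
          Nat.card N' ≤ Bo m := by
      intro m hm Ω' _ hm' N' hN' hd
      exact ih m (by omega) Ω' hm' N' hN' (Odd.of_dvd_nat hodd hd)
    rw [← hk]
    by_cases hfix : ∃ ω, (z : Perm Ω) ω = ω
    · apply split_step N hN (z : Perm Ω) hwN _ hfix Bo Bo_mul_le hih
      intro h1
      rw [h1, orderOf_one] at hw
      exact hp.one_lt.ne hw
    · push Not at hfix
      apply block_step N hN htriv (z : Perm Ω) hwN (by rw [hw]; exact hp.two_le)
        (free_of_prime_order _ hp hw hfix) Bo _ hih
      intro r hr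
      rw [hw]
      exact pow_mul_Bo_le p r hpodd hr

/-- nilpotent subgroups of `Sₖ` have order at most `Gb k` -/
theorem card_le_Gb : ∀ k : ℕ, ∀ (Ω : Type u) [Finite Ω], Nat.card Ω = k →
    ∀ N : Subgroup (Perm Ω), Group.IsNilpotent N → Nat.card N ≤ Gb k := by
  intro k
  induction k using Nat.strong_induction_on with
  | _ k ih =>
    intro Ω _ hk N hN
    have hdvdfact : Nat.card N ∣ k.factorial := by
      have := Subgroup.card_subgroup_dvd_card N
      rwa [Nat.card_perm, hk] at this
    by_cases hq : ∃ q : ℕ, q.Prime ∧ q ≠ 2 ∧ q ∣ Nat.card N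
    · obtain ⟨q, hqp, hq2, hqd⟩ := hq
      by_cases h2 : 2 ∣ Nat.card N
      · -- the mixed case
        have htriv : Nat.card N ≠ 1 := by
          intro h
          rw [h] at h2
          omega
        have : Fact (Nat.Prime 2) := ⟨Nat.prime_two⟩
        have : Fact q.Prime := ⟨hqp⟩
        obtain ⟨z, hz, hzc⟩ := exists_central_of_prime_dvd (G := ↥N) 2 h2
        obtain ⟨h, hh, hhc⟩ := exists_central_of_prime_dvd (G := ↥N) q hqd
        have hwz : orderOf (z : Perm Ω) = 2 := by
          rw [← hz]
          exact Subgroup.orderOf_coe z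
        have hwh : orderOf (h : Perm Ω) = q := by
          rw [← hh]
          exact Subgroup.orderOf_coe h
        have hzN : ∀ g ∈ N, g * (z : Perm Ω) = (z : Perm Ω) * g :=
          fun g hg => congrArg Subtype.val (hzc ⟨g, hg⟩)
        have hhN : ∀ g ∈ N, g * (h : Perm Ω) = (h : Perm Ω) * g :=
          fun g hg => congrArg Subtype.val (hhc ⟨g, hg⟩)
        have hih : ∀ m < Nat.card Ω, ∀ (Ω' : Type u) [Finite Ω'], Nat.card Ω' = m →
            ∀ N' : Subgroup (Perm Ω'), Group.IsNilpotent N' → Nat.card N' ∣ Nat.card N →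
              Nat.card N' ≤ Gb m := by
          intro m hm Ω' _ hm' N' hN' _
          exact ih m (by omega) Ω' hm' N' hN'
        have hGb : ∀ a b : ℕ, 1 ≤ a → 1 ≤ b → Gb a * Gb b ≤ Gb (a + b) :=
          fun a b _ _ => Gb_mul_le a b
        rw [← hk]
        by_cases hfz : ∃ ω, (z : Perm Ω) ω = ω
        · apply split_step N hN (z : Perm Ω) hzN _ hfz Gb hGb hih
          intro h1
          rw [h1, orderOf_one] at hwz
          omega
        by_cases hfh : ∃ ω, (h : Perm Ω) ω = ω
        · apply split_step N hN (h : Perm Ω) hhN _ hfh Gb hGb hih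
          intro h1
          rw [h1, orderOf_one] at hwh
          exact hqp.one_lt.ne hwh
        push Not at hfz hfh
        have hq3 : 3 ≤ q := by
          have := hqp.two_le
          omega
        have hqodd : Odd q := hqp.odd_of_ne_two hq2
        have hcomm : Commute (z : Perm Ω) (h : Perm Ω) := (hhN z.1 z.2)
        have hcop : Nat.Coprime (orderOf (z : Perm Ω)) (orderOf (h : Perm Ω)) := by
          rw [hwz, hwh]
          exact (Nat.coprime_primes Nat.prime_two hqp).mpr (Ne.symm hq2)
        have hord : orderOf ((z : Perm Ω) * (h : Perm Ω)) = 2 * q := by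
          rw [hcomm.orderOf_mul_eq_mul_orderOf_of_coprime hcop, hwz, hwh]
        have hfreez := free_of_prime_order (z : Perm Ω) Nat.prime_two hwz hfz
        have hfreeh := free_of_prime_order (h : Perm Ω) hqp hwh hfh
        have hfree : ∀ i : ℕ, ∀ ω, (((z : Perm Ω) * (h : Perm Ω)) ^ i) ω = ω →
            ((z : Perm Ω) * (h : Perm Ω)) ^ i = 1 := by
          intro i ω hω
          have hzq : ((z : Perm Ω) ^ (i * q)) ω = ω := by
            have h1 : ((((z : Perm Ω) * (h : Perm Ω)) ^ i) ^ q) ω = ω :=
              Perm.pow_apply_eq_self_of_apply_eq_self hω q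
            have h2 : (((z : Perm Ω) * (h : Perm Ω)) ^ i) ^ q = (z : Perm Ω) ^ (i * q) := by
              rw [← pow_mul, hcomm.mul_pow]
              have : (h : Perm Ω) ^ (i * q) = 1 := by
                rw [mul_comm, pow_mul, ← hwh, pow_orderOf_eq_one, one_pow]
              rw [this, mul_one]
            rwa [h2] at h1
          have hh2 : ((h : Perm Ω) ^ (i * 2)) ω = ω := by
            have h1 : ((((z : Perm Ω) * (h : Perm Ω)) ^ i) ^ 2) ω = ω :=
              Perm.pow_apply_eq_self_of_apply_eq_self hω 2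
            have h2 : (((z : Perm Ω) * (h : Perm Ω)) ^ i) ^ 2 = (h : Perm Ω) ^ (i * 2) := by
              rw [← pow_mul, hcomm.mul_pow]
              have : (z : Perm Ω) ^ (i * 2) = 1 := by
                rw [mul_comm, pow_mul, ← hwz, pow_orderOf_eq_one, one_pow]
              rw [this, one_mul]
            rwa [h2] at h1
          have h3 := hfreez _ ω hzq
          have h4 := hfreeh _ ω hh2
          have h5 : 2 ∣ i := by
            have : 2 ∣ i * q := by
              rw [← hwz]
              exact orderOf_dvd_of_pow_eq_one h3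
            rcases (Nat.Prime.dvd_mul Nat.prime_two).mp this with h | h
            · exact h
            · exfalso
              exact (Nat.not_even_iff_odd.mpr hqodd) (even_iff_two_dvd.mpr h)
          have h6 : q ∣ i := by
            have : q ∣ i * 2 := by
              rw [← hwh]
              exact orderOf_dvd_of_pow_eq_one h4
            rcases (Nat.Prime.dvd_mul hqp).mp this with h | h
            · exact h
            · exfalso
              have := Nat.le_of_dvd (by norm_num) h
              omega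
          rw [hcomm.mul_pow]
          have h7 : (z : Perm Ω) ^ i = 1 := by
            rw [← hwz] at h5
            exact orderOf_dvd_iff_pow_eq_one.mp h5
          have h8 : (h : Perm Ω) ^ i = 1 := by
            rw [← hwh] at h6
            exact orderOf_dvd_iff_pow_eq_one.mp h6
          rw [h7, h8, one_mul]
        have hwN : ∀ g ∈ N, g * ((z : Perm Ω) * (h : Perm Ω)) =
            ((z : Perm Ω) * (h : Perm Ω)) * g := by
          intro g hg
          rw [← mul_assoc, hzN g hg, mul_assoc, hhN g hg, ← mul_assoc]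
        apply block_step N hN htriv ((z : Perm Ω) * (h : Perm Ω)) hwN
          (by rw [hord]; omega) hfree Gb _ hih
        intro r hr
        rw [hord]
        exact pow_mul_Gb_le q r hq3 hr
      · -- odd order
        have hodd : Odd (Nat.card N) := by
          rw [← Nat.not_even_iff_odd, even_iff_two_dvd]
          exact h2
        have hB := card_le_Bo k Ω hk N hN hodd
        by_cases h5 : k = 5
        · subst h5
          exact odd_dvd_le_five _ hdvdfact hodd hB
        by_cases h7 : k = 7
        · subst h7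
          exact odd_dvd_le_seven _ hdvdfact hodd hB
        exact hB.trans (Bo_le_Gb k h5 h7)
    · -- a 2-group
      push Not at hq
      have hpow : Nat.card N = 2 ^ (Nat.card N).primeFactorsList.length := by
        apply Nat.eq_prime_pow_of_unique_prime_dvd Nat.card_pos.ne'
        intro d hd hdd
        by_contra hne
        exact hq d hd hne hdd
      have h1 : (Nat.card N).primeFactorsList.length ≤ padicValNat 2 k.factorial := by
        rw [hpow] at hdvdfact
        exact (padicValNat_dvd_iff_le (Nat.factorial_ne_zero _)).mp hdvdfact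
      calc Nat.card N = 2 ^ (Nat.card N).primeFactorsList.length := hpow
        _ ≤ F2 k := Nat.pow_le_pow_right (by norm_num) h1
        _ ≤ Gb k := F2_le_Gb k

end Cfsg.Agent.Lib.Helper44
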