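import Mathlib
import Cfsg.Agent.Lib.Helper44.NilpSym

set_option autoImplicit false

/-! Extremal nilpotent subgroups of `Sₙ`, `n ≡ 3 mod 4`: structure and conjugacy. -/

namespace Cfsg.Agent.Lib.Helper44

open Equiv

lemma card_sylow_perm (k : ℕ) (P : Sylow 2 (Perm (Fin k))) :
    Nat.card (P : Subgroup (Perm (Fin k))) = F2 k := by
  rw [Sylow.card_eq_multiplicity P, Nat.card_perm, Nat.card_fin,
    Nat.factorization_def _ Nat.prime_two]
  rfl

lemma centralizer_card_of_replicate {n : ℕ} (h : Perm (Fin n)) (k : ℕ) (hk : 1 ≤ k)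
    (hc : h.cycleType = Multiset.replicate k 3) :
    Nat.card (Subgroup.centralizer ({h} : Set (Perm (Fin n)))) =
      (n - 3 * k).factorial * 3 ^ k * k.factorial := by
  classical
  rw [Equiv.Perm.nat_card_centralizer, hc, Multiset.sum_replicate, Multiset.prod_replicate,
    Fintype.card_fin, smul_eq_mul, mul_comm k 3]
  congr 1
  have hne : k ≠ 0 := by omega
  rw [Multiset.toFinset_replicate, if_neg hne, Finset.prod_singleton, Multiset.count_replicate_self]

lemma F2_pred_lt {n : ℕ} (hn : n % 4 = 3) (h7 : 7 ≤ n) :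
    padicValNat 2 (n - 4).factorial + 2 ≤ padicValNat 2 (n - 3).factorial := by
  obtain ⟨c, rfl⟩ : ∃ c, n = 4 * c + 7 := ⟨(n - 7) / 4, by omega⟩
  have e1 : 4 * c + 7 - 3 = (4 * c + 3) + 1 := by omega
  have e2 : 4 * c + 7 - 4 = 4 * c + 3 := by omega
  rw [e1, e2, Nat.factorial_succ (4 * c + 3), padicValNat.mul (by omega) (Nat.factorial_ne_zero _)]
  have h4 : 2 ^ 2 ∣ 4 * c + 3 + 1 := ⟨c + 1, by ring⟩
  have := (padicValNat_dvd_iff_le (by omega)).mp h4
  omega

/-- **Structure** of a nilpotent subgroup of `Sₙ`, `n ≡ 3 mod 4`, of order `3·|Syl₂(S_{n-3})|`. -/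
theorem extremal_structure {n : ℕ} (hn : n % 4 = 3) (N : Subgroup (Perm (Fin n)))
    (hN : Group.IsNilpotent N) (hcard : Nat.card N = 3 * F2 (n - 3)) :
    ∃ (h : Perm (Fin n)) (T : Subgroup (Perm (Fin n))), h.IsThreeCycle ∧
      T ≤ Subgroup.centralizer ({h} : Set (Perm (Fin n))) ∧ Nat.card T = F2 (n - 3) ∧
      N = T ⊔ Subgroup.zpowers h := by
  classical
  have : Fact (Nat.Prime 3) := ⟨Nat.prime_three⟩
  have hNinst : Group.IsNilpotent ↥N := hN
  set v := padicValNat 2 (n - 3).factorial with hv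
  have hF2 : F2 (n - 3) = 2 ^ v := rfl
  have h3 : 3 ∣ Nat.card N := ⟨F2 (n - 3), hcard⟩
  obtain ⟨z, hz, hzc⟩ := exists_central_of_prime_dvd (G := ↥N) 3 h3
  set h : Perm (Fin n) := (z : Perm (Fin n)) with hh
  have hord : orderOf h = 3 := by
    rw [← hz]
    exact Subgroup.orderOf_coe z
  have hcomm : ∀ g ∈ N, g * h = h * g := fun g hg => congrArg Subtype.val (hzc ⟨g, hg⟩)
  -- the Sylow 2-subgroup
  obtain ⟨T'⟩ : Nonempty (Sylow 2 ↥N) := Sylow.nonempty
  set T : Subgroup (Perm (Fin n)) := (T' : Subgroup ↥N).map N.subtype with hT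
  have hTN : T ≤ N := Subgroup.map_subtype_le _
  have hTcard : Nat.card T = 2 ^ v := by
    rw [hT, Subgroup.card_map_of_injective N.subtype_injective, Sylow.card_eq_multiplicity T',
      Nat.factorization_def _ Nat.prime_two, hcard, hF2,
      padicValNat.mul (by norm_num) (by positivity), padicValNat.prime_pow,
      padicValNat.eq_zero_of_not_dvd (by norm_num), zero_add]
  have hTC : T ≤ Subgroup.centralizer ({h} : Set (Perm (Fin n))) := by
    intro t ht
    rw [Subgroup.mem_centralizer_iff]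
    intro x hx
    rw [Set.mem_singleton_iff] at hx
    rw [hx]
    exact (hcomm t (hTN ht)).symm
  -- the cycle type of `h`
  obtain ⟨k', hk'⟩ := Equiv.Perm.cycleType_prime_order (σ := h) (by rw [hord]; exact Nat.prime_three)
  rw [hord] at hk'
  have hCcard := centralizer_card_of_replicate h (k' + 1) (by omega) hk'
  have hdvd : 2 ^ v ∣ (n - 3 * (k' + 1)).factorial * 3 ^ (k' + 1) * (k' + 1).factorial := by
    rw [← hTcard, ← hCcard]
    exact Subgroup.card_dvd_of_le hTC
  have hsum : 3 * (k' + 1) ≤ n := by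
    have h1 := Equiv.Perm.sum_cycleType h
    rw [hk', Multiset.sum_replicate, smul_eq_mul] at h1
    have h2 : h.support.card ≤ n := by
      have := Finset.card_le_univ h.support
      simpa using this
    omega
  have hk0 : k' = 0 := by
    by_contra hne
    have hcop : Nat.Coprime (2 ^ v) (3 ^ (k' + 1)) := by
      apply Nat.Coprime.pow
      norm_num
    have hd2 : 2 ^ v ∣ (n - 3 * (k' + 1)).factorial * (k' + 1).factorial := by
      have : (n - 3 * (k' + 1)).factorial * 3 ^ (k' + 1) * (k' + 1).factorial =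
          3 ^ (k' + 1) * ((n - 3 * (k' + 1)).factorial * (k' + 1).factorial) := by ring
      rw [this] at hdvd
      exact hcop.dvd_of_dvd_mul_left hdvd
    have hd3 : (n - 3 * (k' + 1)).factorial * (k' + 1).factorial ∣ (n - 4).factorial := by
      apply (Nat.factorial_mul_factorial_dvd_factorial_add _ _).trans
      apply Nat.factorial_dvd_factorial
      omega
    have hd4 := hd2.trans hd3
    have hle := (padicValNat_dvd_iff_le (Nat.factorial_ne_zero _)).mp hd4
    have := F2_pred_lt hn (by omega)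
    omega
  have h3c : h.IsThreeCycle := by
    unfold Equiv.Perm.IsThreeCycle
    rw [hk', hk0]
    rfl
  refine ⟨h, T, h3c, hTC, by rw [hTcard, hF2], ?_⟩
  -- `N = T ⊔ ⟨h⟩`
  have hle : T ⊔ Subgroup.zpowers h ≤ N := by
    apply sup_le hTN
    rw [Subgroup.zpowers_le]
    exact z.2
  symm
  apply Subgroup.eq_of_le_of_card_ge hle
  have hd1 : 2 ^ v ∣ Nat.card ↥(T ⊔ Subgroup.zpowers h) := by
    rw [← hTcard]
    exact Subgroup.card_dvd_of_le le_sup_left
  have hd2 : 3 ∣ Nat.card ↥(T ⊔ Subgroup.zpowers h) := by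
    have : Nat.card (Subgroup.zpowers h) = 3 := by rw [Nat.card_zpowers, hord]
    rw [← this]
    exact Subgroup.card_dvd_of_le le_sup_right
  have hcop : Nat.Coprime 3 (2 ^ v) := by
    apply Nat.Coprime.pow_right
    norm_num
  have hd3 : 3 * 2 ^ v ∣ Nat.card ↥(T ⊔ Subgroup.zpowers h) := hcop.mul_dvd_of_dvd_of_dvd hd2 hd1
  rw [hcard, hF2]
  exact Nat.le_of_dvd Nat.card_pos hd3

/-- **Conjugacy** of the nilpotent subgroups of `Sₙ`, `n ≡ 3 mod 4`, of order
`3·|Syl₂(S_{n-3})|`. -/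
theorem extremal_conj {n : ℕ} (hn : n % 4 = 3) (N₁ N₂ : Subgroup (Perm (Fin n)))
    (hN₁ : Group.IsNilpotent N₁) (hN₂ : Group.IsNilpotent N₂)
    (hc₁ : Nat.card N₁ = 3 * F2 (n - 3)) (hc₂ : Nat.card N₂ = 3 * F2 (n - 3)) :
    ∃ g : Perm (Fin n), N₂ = N₁.map (MulAut.conj g).toMonoidHom := by
  classical
  obtain ⟨h₁, T₁, h3₁, hTC₁, hT₁, hN₁eq⟩ := extremal_structure hn N₁ hN₁ hc₁
  obtain ⟨h₂, T₂, h3₂, hTC₂, hT₂, hN₂eq⟩ := extremal_structure hn N₂ hN₂ hc₂
  have hconj : IsConj h₁ h₂ := by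
    rw [Equiv.Perm.isConj_iff_cycleType_eq, h3₁.cycleType, h3₂.cycleType]
  obtain ⟨g₀, hg₀⟩ := isConj_iff.mp hconj
  set C := Subgroup.centralizer ({h₂} : Set (Perm (Fin n))) with hC
  have hCcard : Nat.card C = (n - 3).factorial * 3 := by
    have := centralizer_card_of_replicate h₂ 1 le_rfl (by rw [h3₂.cycleType]; rfl)
    simpa using this
  set T₁' := T₁.map (MulAut.conj g₀).toMonoidHom with hT₁'
  have hT₁'C : T₁' ≤ C := by
    rintro _ ⟨t, ht, rfl⟩
    rw [hC, Subgroup.mem_centralizer_iff]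
    intro x hx
    rw [Set.mem_singleton_iff] at hx
    rw [hx]
    have h1 := (Subgroup.mem_centralizer_iff.mp (hTC₁ ht)) h₁ rfl
    simp only [MulEquiv.coe_toMonoidHom, MulAut.conj_apply]
    rw [← hg₀]
    calc g₀ * h₁ * g₀⁻¹ * (g₀ * t * g₀⁻¹) = g₀ * (h₁ * t) * g₀⁻¹ := by group
      _ = g₀ * (t * h₁) * g₀⁻¹ := by rw [h1]
      _ = g₀ * t * g₀⁻¹ * (g₀ * h₁ * g₀⁻¹) := by group
  have hT₁'card : Nat.card T₁' = F2 (n - 3) := by
    rw [hT₁', Subgroup.card_map_of_injective (MulAut.conj g₀).injective, hT₁]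
  have hfac : (Nat.card C).factorization 2 = padicValNat 2 (n - 3).factorial := by
    rw [hCcard, Nat.factorization_def _ Nat.prime_two,
      padicValNat.mul (Nat.factorial_ne_zero _) (by norm_num),
      padicValNat.eq_zero_of_not_dvd (by norm_num : ¬ 2 ∣ 3), add_zero]
  have hQ₁ : Nat.card (T₁'.subgroupOf C) = 2 ^ (Nat.card C).factorization 2 := by
    rw [hfac, Nat.card_congr (Subgroup.subgroupOfEquivOfLe hT₁'C).toEquiv, hT₁'card]
    rfl
  have hQ₂ : Nat.card (T₂.subgroupOf C) = 2 ^ (Nat.card C).factorization 2 := by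
    rw [hfac, Nat.card_congr (Subgroup.subgroupOfEquivOfLe hTC₂).toEquiv, hT₂]
    rfl
  let S₁ : Sylow 2 ↥C := Sylow.ofCard _ hQ₁
  let S₂ : Sylow 2 ↥C := Sylow.ofCard _ hQ₂
  obtain ⟨c, hc⟩ := MulAction.exists_smul_eq ↥C S₁ S₂
  have hc' : T₂.subgroupOf C = (T₁'.subgroupOf C).map (MulAut.conj c).toMonoidHom := by
    have : (S₂ : Subgroup ↥C) = (S₁ : Subgroup ↥C).map (MulAut.conj c).toMonoidHom := by
      rw [← hc]
      rfl
    exact this
  have hT₂eq : T₂ = T₁'.map (MulAut.conj (c : Perm (Fin n))).toMonoidHom := by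
    have h1 := congrArg (Subgroup.map C.subtype) hc'
    rw [Subgroup.map_subgroupOf_eq_of_le hTC₂, Subgroup.map_map] at h1
    have h2 : (C.subtype).comp (MulAut.conj c).toMonoidHom =
        (MulAut.conj (c : Perm (Fin n))).toMonoidHom.comp C.subtype := by
      ext x
      simp
    rw [h2, ← Subgroup.map_map, Subgroup.map_subgroupOf_eq_of_le hT₁'C] at h1
    exact h1
  refine ⟨(c : Perm (Fin n)) * g₀, ?_⟩
  have hconjmul : (MulAut.conj ((c : Perm (Fin n)) * g₀)).toMonoidHom =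
      (MulAut.conj (c : Perm (Fin n))).toMonoidHom.comp (MulAut.conj g₀).toMonoidHom := by
    ext x
    simp [mul_assoc]
  have hh : (MulAut.conj ((c : Perm (Fin n)) * g₀)).toMonoidHom h₁ = h₂ := by
    simp only [MulEquiv.coe_toMonoidHom, MulAut.conj_apply]
    have h1 := Subgroup.mem_centralizer_iff.mp c.2 h₂ rfl
    calc (c : Perm (Fin n)) * g₀ * h₁ * ((c : Perm (Fin n)) * g₀)⁻¹
        = (c : Perm (Fin n)) * (g₀ * h₁ * g₀⁻¹) * (c : Perm (Fin n))⁻¹ := by group
      _ = (c : Perm (Fin n)) * h₂ * (c : Perm (Fin n))⁻¹ := by rw [hg₀]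
      _ = h₂ * (c : Perm (Fin n)) * (c : Perm (Fin n))⁻¹ := by rw [h1]
      _ = h₂ := by group
  rw [hN₁eq, hN₂eq, Subgroup.map_sup, MonoidHom.map_zpowers, hh, hconjmul, ← Subgroup.map_map,
    ← hT₁', ← hT₂eq]

section existence

/-- the regular action of `ℤ/3` -/
def zmodPerm : Multiplicative (ZMod 3) →* Perm (ZMod 3) where
  toFun a := Equiv.addLeft (Multiplicative.toAdd a)
  map_one' := by
    ext x
    simp
  map_mul' a b := by
    ext x
    simp

lemma zmodPerm_injective : Function.Injective zmodPerm := by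
  intro a b h
  have := congrArg (fun σ : Perm (ZMod 3) => σ 0) h
  simpa [zmodPerm] using this

/-- **Existence** of a nilpotent subgroup `P × C₃` of `Sₙ`, `n ≥ 3`. -/
theorem exists_extremal {n : ℕ} (hn : 3 ≤ n) (P : Sylow 2 (Perm (Fin (n - 3)))) :
    ∃ M : Subgroup (Perm (Fin n)), Group.IsNilpotent M ∧ Nat.card M = 3 * Nat.card P ∧
      Nonempty (M ≃* (↥(P : Subgroup (Perm (Fin (n - 3)))) × Multiplicative (ZMod 3))) := by
  classical
  have e : Fin (n - 3) ⊕ ZMod 3 ≃ Fin n :=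
    Fintype.equivOfCardEq (by simp [ZMod.card]; omega)
  set Φ : ↥(P : Subgroup (Perm (Fin (n - 3)))) × Multiplicative (ZMod 3) →* Perm (Fin n) :=
    (e.permCongrHom).toMonoidHom.comp ((Perm.sumCongrHom (Fin (n - 3)) (ZMod 3)).comp
      (MonoidHom.prodMap (P : Subgroup (Perm (Fin (n - 3)))).subtype zmodPerm)) with hΦ
  have hΦinj : Function.Injective Φ := by
    apply (e.permCongrHom).injective.comp
    apply Perm.sumCongrHom_injective.comp
    intro x y h
    have h1 : (x.1 : Perm (Fin (n - 3))) = y.1 := by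
      have := congrArg Prod.fst h
      exact this
    have h2 : zmodPerm x.2 = zmodPerm y.2 := by
      have := congrArg Prod.snd h
      exact this
    exact Prod.ext (Subtype.ext h1) (zmodPerm_injective h2)
  have hPnil : Group.IsNilpotent ↥(P : Subgroup (Perm (Fin (n - 3)))) :=
    P.isPGroup'.isNilpotent
  have hnil : Group.IsNilpotent
      (↥(P : Subgroup (Perm (Fin (n - 3)))) × Multiplicative (ZMod 3)) := inferInstance
  let ι := MonoidHom.ofInjective hΦinj
  refine ⟨Φ.range, Group.nilpotent_of_mulEquiv ι, ?_, ⟨ι.symm⟩⟩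
  rw [← Nat.card_congr ι.toEquiv, Nat.card_prod, mul_comm]
  congr 1
  rw [Nat.card_eq_fintype_card]
  exact ZMod.card 3

end existence

end Cfsg.Agent.Lib.Helper44
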