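import Mathlib

set_option autoImplicit false

/-! S2222 (odd-index subgroups of `A_n` are pronormal): shared definition for the K-PrnA pack.
`swapsIn Q` = the transpositions lying in a subgroup `Q` of `Perm α`. -/

namespace Cfsg.Agent.Lib.Helper44.PrnA

open Equiv Equiv.Perm

universe u

/-- the transpositions lying in a subgroup of `Perm α` -/
noncomputable def swapsIn {α : Type u} [Fintype α] [DecidableEq α] (Q : Subgroup (Perm α)) :
    Finset (Perm α) := by
  classical exact Finset.univ.filter (fun τ => τ ∈ Q ∧ τ.IsSwap)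

theorem mem_swapsIn {α : Type u} [Fintype α] [DecidableEq α] (Q : Subgroup (Perm α)) (τ : Perm α) :
    τ ∈ swapsIn Q ↔ τ ∈ Q ∧ τ.IsSwap := by
  classical
  unfold swapsIn
  simp

end Cfsg.Agent.Lib.Helper44.PrnA
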