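import Mathlib
import Cfsg.Agent.Lib.Helper44.NilpSymNum

set_option autoImplicit false

/-! Numerics for the nilpotent subgroups of the alternating groups. -/

namespace Cfsg.Agent.Lib.Helper44

lemma F2_at_0 : F2 0 = 1 := by
  rw [F2_val 0 0 (by norm_num)]; norm_num

lemma F2_at_1 : F2 1 = 1 := by
  rw [F2_val 1 0 (by norm_num)]; norm_num

lemma F2_at_2 : F2 2 = 2 := by
  rw [F2_val 2 1 (by norm_num)]; norm_num

lemma F2_at_3 : F2 3 = 2 := by
  rw [F2_val 3 1 (by norm_num)]; norm_num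

lemma F2_at_4 : F2 4 = 8 := by
  rw [F2_val 4 3 (by norm_num)]; norm_num

lemma F2_at_5 : F2 5 = 8 := by
  rw [F2_val 5 3 (by norm_num)]; norm_num

lemma F2_at_6 : F2 6 = 16 := by
  rw [F2_val 6 4 (by norm_num)]; norm_num

lemma F2_at_7 : F2 7 = 16 := by
  rw [F2_val 7 4 (by norm_num)]; norm_num

lemma F2_at_8 : F2 8 = 128 := by
  rw [F2_val 8 7 (by norm_num)]; norm_num

lemma F2_at_9 : F2 9 = 128 := by
  rw [F2_val 9 7 (by norm_num)]; norm_num

lemma F2_at_10 : F2 10 = 256 := by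
  rw [F2_val 10 8 (by norm_num)]; norm_num

lemma F2_at_11 : F2 11 = 256 := by
  rw [F2_val 11 8 (by norm_num)]; norm_num

lemma F2_at_12 : F2 12 = 1024 := by
  rw [F2_val 12 10 (by norm_num)]; norm_num

lemma F2_at_13 : F2 13 = 1024 := by
  rw [F2_val 13 10 (by norm_num)]; norm_num

lemma F2_at_14 : F2 14 = 2048 := by
  rw [F2_val 14 11 (by norm_num)]; norm_num

lemma F2_at_15 : F2 15 = 2048 := by
  rw [F2_val 15 11 (by norm_num)]; norm_num

lemma F2_at_16 : F2 16 = 32768 := by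
  rw [F2_val 16 15 (by norm_num)]; norm_num

lemma F2_at_17 : F2 17 = 32768 := by
  rw [F2_val 17 15 (by norm_num)]; norm_num

lemma F2_at_18 : F2 18 = 65536 := by
  rw [F2_val 18 16 (by norm_num)]; norm_num

lemma F2_at_19 : F2 19 = 65536 := by
  rw [F2_val 19 16 (by norm_num)]; norm_num

lemma F2_at_20 : F2 20 = 262144 := by
  rw [F2_val 20 18 (by norm_num)]; norm_num

lemma F2_at_21 : F2 21 = 262144 := by
  rw [F2_val 21 18 (by norm_num)]; norm_num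

lemma F2_at_22 : F2 22 = 524288 := by
  rw [F2_val 22 19 (by norm_num)]; norm_num

lemma F2_at_23 : F2 23 = 524288 := by
  rw [F2_val 23 19 (by norm_num)]; norm_num

lemma F2_at_24 : F2 24 = 4194304 := by
  rw [F2_val 24 22 (by norm_num)]; norm_num

lemma F2_at_25 : F2 25 = 4194304 := by
  rw [F2_val 25 22 (by norm_num)]; norm_num

lemma F2_at_26 : F2 26 = 8388608 := by
  rw [F2_val 26 23 (by norm_num)]; norm_num

lemma F2_at_27 : F2 27 = 8388608 := by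
  rw [F2_val 27 23 (by norm_num)]; norm_num

lemma F2_at_28 : F2 28 = 33554432 := by
  rw [F2_val 28 25 (by norm_num)]; norm_num

/-- twice the maximal order of a nilpotent subgroup of `Aₙ` -/
def Ha (n : ℕ) : ℕ :=
  if n ≤ 1 then 2 else if n = 3 then 6 else if n = 5 then 10 else if n = 6 then 18
  else if n = 9 then 162 else Gb n

/-- the exceptional degrees -/
def Sp (n : ℕ) : Prop := n ≤ 1 ∨ n = 3 ∨ n = 5 ∨ n = 6 ∨ n = 9

lemma Ha_of_not_Sp {n : ℕ} (h : ¬ Sp n) : Ha n = Gb n := by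
  unfold Sp at h
  push Not at h
  obtain ⟨h1, h3, h5, h6, h9⟩ := h
  rw [Ha, if_neg (by omega), if_neg h3, if_neg h5, if_neg h6, if_neg h9]

lemma Gb_at_0 : Gb 0 = 1 := by
  rw [Gb, if_neg (by norm_num), F2_at_0]

lemma Gb_at_1 : Gb 1 = 1 := by
  rw [Gb, if_neg (by norm_num), F2_at_1]

lemma Gb_at_2 : Gb 2 = 2 := by
  rw [Gb, if_neg (by norm_num), F2_at_2]

lemma Gb_at_3 : Gb 3 = 3 := by
  rw [Gb, if_pos (by norm_num)]
  norm_num [F2_at_0]

lemma Gb_at_4 : Gb 4 = 8 := by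
  rw [Gb, if_neg (by norm_num), F2_at_4]

lemma Gb_at_5 : Gb 5 = 8 := by
  rw [Gb, if_neg (by norm_num), F2_at_5]

lemma Gb_at_6 : Gb 6 = 16 := by
  rw [Gb, if_neg (by norm_num), F2_at_6]

lemma Gb_at_7 : Gb 7 = 24 := by
  rw [Gb, if_pos (by norm_num)]
  norm_num [F2_at_4]

lemma Gb_at_8 : Gb 8 = 128 := by
  rw [Gb, if_neg (by norm_num), F2_at_8]

lemma Gb_at_9 : Gb 9 = 128 := by
  rw [Gb, if_neg (by norm_num), F2_at_9]

lemma Gb_at_10 : Gb 10 = 256 := by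
  rw [Gb, if_neg (by norm_num), F2_at_10]

lemma Gb_at_11 : Gb 11 = 384 := by
  rw [Gb, if_pos (by norm_num)]
  norm_num [F2_at_8]

lemma Gb_at_12 : Gb 12 = 1024 := by
  rw [Gb, if_neg (by norm_num), F2_at_12]

lemma Gb_at_13 : Gb 13 = 1024 := by
  rw [Gb, if_neg (by norm_num), F2_at_13]

lemma Gb_at_14 : Gb 14 = 2048 := by
  rw [Gb, if_neg (by norm_num), F2_at_14]

lemma Gb_at_15 : Gb 15 = 3072 := by
  rw [Gb, if_pos (by norm_num)]
  norm_num [F2_at_12]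

lemma Gb_at_16 : Gb 16 = 32768 := by
  rw [Gb, if_neg (by norm_num), F2_at_16]

lemma Gb_at_17 : Gb 17 = 32768 := by
  rw [Gb, if_neg (by norm_num), F2_at_17]

lemma Gb_at_18 : Gb 18 = 65536 := by
  rw [Gb, if_neg (by norm_num), F2_at_18]

lemma Gb_at_19 : Gb 19 = 98304 := by
  rw [Gb, if_pos (by norm_num)]
  norm_num [F2_at_16]

lemma Gb_at_20 : Gb 20 = 262144 := by
  rw [Gb, if_neg (by norm_num), F2_at_20]

lemma Gb_at_21 : Gb 21 = 262144 := by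
  rw [Gb, if_neg (by norm_num), F2_at_21]

lemma Gb_at_22 : Gb 22 = 524288 := by
  rw [Gb, if_neg (by norm_num), F2_at_22]

lemma Gb_at_23 : Gb 23 = 786432 := by
  rw [Gb, if_pos (by norm_num)]
  norm_num [F2_at_20]

lemma Gb_at_24 : Gb 24 = 4194304 := by
  rw [Gb, if_neg (by norm_num), F2_at_24]

lemma Gb_at_25 : Gb 25 = 4194304 := by
  rw [Gb, if_neg (by norm_num), F2_at_25]

lemma Gb_at_26 : Gb 26 = 8388608 := by
  rw [Gb, if_neg (by norm_num), F2_at_26]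

lemma Gb_at_27 : Gb 27 = 12582912 := by
  rw [Gb, if_pos (by norm_num)]
  norm_num [F2_at_24]

lemma Gb_at_28 : Gb 28 = 33554432 := by
  rw [Gb, if_neg (by norm_num), F2_at_28]

lemma Ha_at_0 : Ha 0 = 2 := by
  norm_num [Ha]

lemma Ha_at_1 : Ha 1 = 2 := by
  norm_num [Ha]

lemma Ha_at_2 : Ha 2 = 2 := by
  norm_num [Ha, Gb_at_2]

lemma Ha_at_3 : Ha 3 = 6 := by
  norm_num [Ha]

lemma Ha_at_4 : Ha 4 = 8 := by
  norm_num [Ha, Gb_at_4]

lemma Ha_at_5 : Ha 5 = 10 := by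
  norm_num [Ha]

lemma Ha_at_6 : Ha 6 = 18 := by
  norm_num [Ha]

lemma Ha_at_7 : Ha 7 = 24 := by
  norm_num [Ha, Gb_at_7]

lemma Ha_at_8 : Ha 8 = 128 := by
  norm_num [Ha, Gb_at_8]

lemma Ha_at_9 : Ha 9 = 162 := by
  norm_num [Ha]

lemma Ha_at_10 : Ha 10 = 256 := by
  norm_num [Ha, Gb_at_10]

lemma Ha_at_11 : Ha 11 = 384 := by
  norm_num [Ha, Gb_at_11]

lemma Ha_at_12 : Ha 12 = 1024 := by
  norm_num [Ha, Gb_at_12]

lemma Ha_at_13 : Ha 13 = 1024 := by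
  norm_num [Ha, Gb_at_13]

lemma Ha_at_14 : Ha 14 = 2048 := by
  norm_num [Ha, Gb_at_14]

lemma Ha_at_15 : Ha 15 = 3072 := by
  norm_num [Ha, Gb_at_15]

lemma Ha_at_16 : Ha 16 = 32768 := by
  norm_num [Ha, Gb_at_16]

lemma Ha_at_17 : Ha 17 = 32768 := by
  norm_num [Ha, Gb_at_17]

lemma Ha_at_18 : Ha 18 = 65536 := by
  norm_num [Ha, Gb_at_18]

lemma Ha_at_19 : Ha 19 = 98304 := by
  norm_num [Ha, Gb_at_19]

lemma Ha_at_20 : Ha 20 = 262144 := by
  norm_num [Ha, Gb_at_20]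

lemma Ha_at_21 : Ha 21 = 262144 := by
  norm_num [Ha, Gb_at_21]

lemma Ha_at_22 : Ha 22 = 524288 := by
  norm_num [Ha, Gb_at_22]

lemma Ha_at_23 : Ha 23 = 786432 := by
  norm_num [Ha, Gb_at_23]

lemma Ha_at_24 : Ha 24 = 4194304 := by
  norm_num [Ha, Gb_at_24]

lemma Ha_at_25 : Ha 25 = 4194304 := by
  norm_num [Ha, Gb_at_25]

lemma Ha_at_26 : Ha 26 = 8388608 := by
  norm_num [Ha, Gb_at_26]

lemma Ha_at_27 : Ha 27 = 12582912 := by
  norm_num [Ha, Gb_at_27]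

lemma Ha_at_28 : Ha 28 = 33554432 := by
  norm_num [Ha, Gb_at_28]

lemma Sp_iff (n : ℕ) : Sp n ↔ n = 0 ∨ n = 1 ∨ n = 3 ∨ n = 5 ∨ n = 6 ∨ n = 9 := by
  unfold Sp
  omega

lemma Gb_le_Ha (n : ℕ) : Gb n ≤ Ha n := by
  by_cases h : Sp n
  · rcases (Sp_iff n).mp h with rfl | rfl | rfl | rfl | rfl | rfl
    · rw [Gb_at_0, Ha_at_0]; norm_num
    · rw [Gb_at_1, Ha_at_1]; norm_num
    · rw [Gb_at_3, Ha_at_3]; norm_num
    · rw [Gb_at_5, Ha_at_5]; norm_num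
    · rw [Gb_at_6, Ha_at_6]; norm_num
    · rw [Gb_at_9, Ha_at_9]; norm_num
  · rw [Ha_of_not_Sp h]

lemma Ha_le_two_Gb (n : ℕ) : Ha n ≤ 2 * Gb n := by
  by_cases h : Sp n
  · rcases (Sp_iff n).mp h with rfl | rfl | rfl | rfl | rfl | rfl
    · rw [Gb_at_0, Ha_at_0]
    · rw [Gb_at_1, Ha_at_1]
    · rw [Gb_at_3, Ha_at_3]
    · rw [Gb_at_5, Ha_at_5]; norm_num
    · rw [Gb_at_6, Ha_at_6]; norm_num
    · rw [Gb_at_9, Ha_at_9]; norm_num
  · rw [Ha_of_not_Sp h]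
    omega

lemma F2_le_Ha (n : ℕ) : F2 n ≤ Ha n := (F2_le_Gb n).trans (Gb_le_Ha n)

/-- the splitting inequality -/
lemma Ha_mul_le (a b : ℕ) (ha : 1 ≤ a) (hb : 1 ≤ b) : Ha a * Ha b ≤ 2 * Ha (a + b) := by
  by_cases hSa : Sp a
  · by_cases hSb : Sp b
    · have ha' : a = 1 ∨ a = 3 ∨ a = 5 ∨ a = 6 ∨ a = 9 := by
        rcases (Sp_iff a).mp hSa with h | h | h | h | h | h <;> omega
      have hb' : b = 1 ∨ b = 3 ∨ b = 5 ∨ b = 6 ∨ b = 9 := by
        rcases (Sp_iff b).mp hSb with h | h | h | h | h | h <;> omega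
      rcases ha' with rfl | rfl | rfl | rfl | rfl <;>
        rcases hb' with rfl | rfl | rfl | rfl | rfl <;>
        norm_num [Ha_at_0, Ha_at_1, Ha_at_2, Ha_at_3, Ha_at_4, Ha_at_5, Ha_at_6, Ha_at_7, Ha_at_8, Ha_at_9, Ha_at_10, Ha_at_11, Ha_at_12, Ha_at_13, Ha_at_14, Ha_at_15, Ha_at_16, Ha_at_17, Ha_at_18, Ha_at_19, Ha_at_20, Ha_at_21, Ha_at_22, Ha_at_23, Ha_at_24, Ha_at_25, Ha_at_26, Ha_at_27, Ha_at_28]
    · calc Ha a * Ha b = Ha a * Gb b := by rw [Ha_of_not_Sp hSb]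
        _ ≤ 2 * Gb a * Gb b := Nat.mul_le_mul_right _ (Ha_le_two_Gb a)
        _ = 2 * (Gb a * Gb b) := by ring
        _ ≤ 2 * Gb (a + b) := Nat.mul_le_mul_left _ (Gb_mul_le a b)
        _ ≤ 2 * Ha (a + b) := Nat.mul_le_mul_left _ (Gb_le_Ha _)
  · by_cases hSb : Sp b
    · calc Ha a * Ha b = Gb a * Ha b := by rw [Ha_of_not_Sp hSa]
        _ ≤ Gb a * (2 * Gb b) := Nat.mul_le_mul_left _ (Ha_le_two_Gb b)
        _ = 2 * (Gb a * Gb b) := by ring
        _ ≤ 2 * Gb (a + b) := Nat.mul_le_mul_left _ (Gb_mul_le a b)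
        _ ≤ 2 * Ha (a + b) := Nat.mul_le_mul_left _ (Gb_le_Ha _)
    · calc Ha a * Ha b = Gb a * Gb b := by rw [Ha_of_not_Sp hSa, Ha_of_not_Sp hSb]
        _ ≤ Gb (a + b) := Gb_mul_le a b
        _ ≤ Ha (a + b) := Gb_le_Ha _
        _ ≤ 2 * Ha (a + b) := by omega

lemma two_mul_pow_le (q r : ℕ) (hq : 1 ≤ q) : (2 * q) ^ r ≤ 2 ^ (q * r) := by
  have h1 : q ≤ 2 ^ (q - 1) := by
    have := Nat.lt_two_pow_self (n := q - 1)
    omega
  calc (2 * q) ^ r = 2 ^ r * q ^ r := mul_pow 2 q r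
    _ ≤ 2 ^ r * (2 ^ (q - 1)) ^ r := Nat.mul_le_mul_left _ (Nat.pow_le_pow_left h1 r)
    _ = 2 ^ (q * r) := by
      rw [← pow_mul, ← pow_add]
      congr 1
      obtain ⟨s, rfl⟩ : ∃ s, q = s + 1 := ⟨q - 1, by omega⟩
      rw [Nat.add_sub_cancel]
      ring

/-- the block inequality in the mixed case -/
lemma Ha_pow_mixed (q r : ℕ) (hq : 3 ≤ q) (hr : 1 ≤ r) :
    2 * ((2 * q) ^ r * Gb r) ≤ Ha (2 * q * r) := by
  by_cases h4 : 4 ≤ (q - 1) * r
  · have h2 := two_mul_pow_le q r (by omega)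
    have ha : 8 ≤ F2 ((q - 1) * r) := by
      rw [← F2_at_4]
      exact F2_mono h4
    have hb : F2 r * F2 ((q - 1) * r) ≤ F2 (q * r) := by
      have := F2_mul_le r ((q - 1) * r)
      have e : r + (q - 1) * r = q * r := by
        obtain ⟨s, rfl⟩ : ∃ s, q = s + 1 := ⟨q - 1, by omega⟩
        rw [Nat.add_sub_cancel]
        ring
      rwa [e] at this
    have hc := two_mul_Gb_le r
    have hd := F2_pos r
    have h3 : 2 * Gb r ≤ F2 (q * r) := by nlinarith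
    calc 2 * ((2 * q) ^ r * Gb r) = (2 * q) ^ r * (2 * Gb r) := by ring
      _ ≤ 2 ^ (q * r) * F2 (q * r) := Nat.mul_le_mul h2 h3
      _ = F2 (2 * (q * r)) := (F2_two_mul (q * r)).symm
      _ = F2 (2 * q * r) := by rw [mul_assoc]
      _ ≤ Ha (2 * q * r) := F2_le_Ha _
  · push Not at h4
    have hr1 : r = 1 := by
      by_contra hne
      have : 2 * 2 ≤ (q - 1) * r := Nat.mul_le_mul (by omega) (by omega)
      omega
    subst hr1
    rw [mul_one] at h4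
    have hq' : q = 3 ∨ q = 4 := by omega
    rcases hq' with rfl | rfl
    · norm_num [Gb_at_1, Ha_at_6]
    · norm_num [Gb_at_1, Ha_at_8]

lemma two_pow_ge (h : ℕ) (hh : 3 ≤ h) : 2 * h + 1 ≤ 2 ^ h := by
  induction h with
  | zero => omega
  | succ h ih =>
    by_cases h3 : h = 2
    · subst h3
      norm_num
    · have := ih (by omega)
      rw [pow_succ]
      omega

lemma three_five_pow_le (r : ℕ) (hr : 1 ≤ r) : 3 * 5 ^ r ≤ 2 * 8 ^ r := by
  induction r with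
  | zero => omega
  | succ r ih =>
    by_cases h0 : r = 0
    · subst h0
      norm_num
    · have := ih (by omega)
      rw [pow_succ, pow_succ]
      omega

/-- `3^(r+1) ≤ 2^(r+1)·F2 r` for `r ≥ 10` -/
lemma three_pow_le : ∀ r : ℕ, 10 ≤ r → 3 ^ (r + 1) ≤ 2 ^ (r + 1) * F2 r := by
  intro r
  induction r using Nat.strong_induction_on with
  | _ r ih =>
    intro hr
    by_cases h18 : r < 18
    · interval_cases r
      · rw [F2_at_10]; norm_num
      · rw [F2_at_11]; norm_num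
      · rw [F2_at_12]; norm_num
      · rw [F2_at_13]; norm_num
      · rw [F2_at_14]; norm_num
      · rw [F2_at_15]; norm_num
      · rw [F2_at_16]; norm_num
      · rw [F2_at_17]; norm_num
    · obtain ⟨m, rfl⟩ : ∃ m, r = m + 8 := ⟨r - 8, by omega⟩
      have h1 := ih m (by omega) (by omega)
      have h3 : F2 m * F2 8 ≤ F2 (m + 8) := F2_mul_le m 8
      rw [F2_at_8] at h3
      have e1 : 3 ^ (m + 8 + 1) = 6561 * 3 ^ (m + 1) := by
        rw [show m + 8 + 1 = (m + 1) + 8 by ring, pow_add]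
        norm_num
        ring
      have e2 : 2 ^ (m + 8 + 1) = 256 * 2 ^ (m + 1) := by
        rw [show m + 8 + 1 = (m + 1) + 8 by ring, pow_add]
        norm_num
        ring
      rw [e1, e2]
      have hpos : 0 < 2 ^ (m + 1) := by positivity
      calc 6561 * 3 ^ (m + 1) ≤ 6561 * (2 ^ (m + 1) * F2 m) := Nat.mul_le_mul_left _ h1
        _ ≤ 256 * 2 ^ (m + 1) * (F2 m * 128) := by nlinarith [F2_pos m]
        _ ≤ 256 * 2 ^ (m + 1) * F2 (m + 8) := Nat.mul_le_mul_left _ h3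

/-- the crude criterion -/
lemma Ha_pow_of_le (h r : ℕ) (hle : 3 * (2 * h + 1) ^ r ≤ 2 ^ (h * r) * F2 (h * r)) :
    (2 * h + 1) ^ r * Ha r ≤ Ha ((2 * h + 1) * r) := by
  have h1 : Ha r ≤ 2 * Gb r := Ha_le_two_Gb r
  have h2 := two_mul_Gb_le r
  have h3 : F2 (2 * (h * r)) * F2 r ≤ F2 ((2 * h + 1) * r) := by
    have := F2_mul_le (2 * (h * r)) r
    have e : 2 * (h * r) + r = (2 * h + 1) * r := by ring
    rwa [e] at this
  rw [F2_two_mul] at h3
  have h4 : F2 ((2 * h + 1) * r) ≤ Ha ((2 * h + 1) * r) := F2_le_Ha _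
  have hpos := F2_pos r
  have h5 : (2 * h + 1) ^ r * Ha r ≤ (3 * (2 * h + 1) ^ r) * F2 r := by
    have : Ha r ≤ 3 * F2 r := by omega
    calc (2 * h + 1) ^ r * Ha r ≤ (2 * h + 1) ^ r * (3 * F2 r) := Nat.mul_le_mul_left _ this
      _ = (3 * (2 * h + 1) ^ r) * F2 r := by ring
  calc (2 * h + 1) ^ r * Ha r ≤ (3 * (2 * h + 1) ^ r) * F2 r := h5
    _ ≤ (2 ^ (h * r) * F2 (h * r)) * F2 r := Nat.mul_le_mul_right _ hle
    _ ≤ Ha ((2 * h + 1) * r) := h3.trans h4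

/-- the block inequality in the odd case -/
lemma Ha_pow_odd (p r : ℕ) (hp : Odd p) (hp3 : 3 ≤ p) (hr : 1 ≤ r) :
    p ^ r * Ha r ≤ Ha (p * r) := by
  obtain ⟨h, rfl⟩ := hp
  have hh : 1 ≤ h := by omega
  by_cases hr1 : r = 1
  · subst hr1
    rw [pow_one, mul_one, Ha_at_1]
    by_cases h1 : h = 1
    · subst h1
      norm_num [Ha_at_3]
    by_cases h2 : h = 2
    · subst h2
      norm_num [Ha_at_5]
    have h3 : 3 ≤ h := by omega
    have ha : F2 (2 * h) ≤ F2 (2 * h + 1) := F2_mono (by omega)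
    rw [F2_two_mul] at ha
    have hb : 2 ≤ F2 h := by
      rw [← F2_two]
      exact F2_mono (by omega)
    have hc := two_pow_ge h h3
    have hd := F2_le_Ha (2 * h + 1)
    nlinarith
  have hr2 : 2 ≤ r := by omega
  by_cases h3 : 3 ≤ h
  · apply Ha_pow_of_le
    have ha : (2 * h + 1) ^ r ≤ 2 ^ (h * r) := by
      rw [pow_mul]
      exact Nat.pow_le_pow_left (two_pow_ge h h3) r
    have hb : 8 ≤ F2 (h * r) := by
      rw [← F2_at_4]
      apply F2_mono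
      nlinarith
    calc 3 * (2 * h + 1) ^ r ≤ 3 * 2 ^ (h * r) := Nat.mul_le_mul_left _ ha
      _ ≤ F2 (h * r) * 2 ^ (h * r) := Nat.mul_le_mul_right _ (by omega)
      _ = 2 ^ (h * r) * F2 (h * r) := mul_comm _ _
  by_cases h2 : h = 2
  · subst h2
    apply Ha_pow_of_le
    have ha := three_five_pow_le r hr
    have hb : 2 ≤ F2 r := by
      rw [← F2_two]
      exact F2_mono hr2
    have e : 2 ^ (2 * r) * F2 (2 * r) = 8 ^ r * F2 r := by
      rw [F2_two_mul, pow_mul, ← mul_assoc, ← mul_pow]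
      norm_num
    rw [e]
    norm_num
    calc 3 * 5 ^ r ≤ 2 * 8 ^ r := ha
      _ ≤ F2 r * 8 ^ r := Nat.mul_le_mul_right _ hb
      _ = 8 ^ r * F2 r := mul_comm _ _
  have h1 : h = 1 := by omega
  subst h1
  norm_num
  by_cases h10 : r < 10
  · interval_cases r <;> norm_num [Ha_at_0, Ha_at_1, Ha_at_2, Ha_at_3, Ha_at_4, Ha_at_5, Ha_at_6, Ha_at_7, Ha_at_8, Ha_at_9, Ha_at_10, Ha_at_11, Ha_at_12, Ha_at_13, Ha_at_14, Ha_at_15, Ha_at_16, Ha_at_17, Ha_at_18, Ha_at_19, Ha_at_20, Ha_at_21, Ha_at_22, Ha_at_23, Ha_at_24, Ha_at_25, Ha_at_26, Ha_at_27, Ha_at_28]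
  · have hS : ¬ Sp r := by
      rw [Sp_iff]
      omega
    rw [Ha_of_not_Sp hS]
    have hc := three_pow_le r (by omega)
    have h2 := two_mul_Gb_le r
    have h3 : F2 (2 * r) * F2 r ≤ F2 (3 * r) := by
      have := F2_mul_le (2 * r) r
      have e : 2 * r + r = 3 * r := by ring
      rwa [e] at this
    rw [F2_two_mul] at h3
    have h4 : F2 (3 * r) ≤ Ha (3 * r) := F2_le_Ha _
    have hpos := F2_pos r
    have e1 : 3 ^ (r + 1) = 3 * 3 ^ r := by rw [pow_succ]; ring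
    have e2 : 2 ^ (r + 1) = 2 * 2 ^ r := by rw [pow_succ]; ring
    rw [e1, e2] at hc
    have h5 : 2 * (3 ^ r * Gb r) ≤ 2 * (2 ^ r * F2 r * F2 r) := by
      calc 2 * (3 ^ r * Gb r) = 3 ^ r * (2 * Gb r) := by ring
        _ ≤ 3 ^ r * (3 * F2 r) := Nat.mul_le_mul_left _ h2
        _ = (3 * 3 ^ r) * F2 r := by ring
        _ ≤ (2 * 2 ^ r * F2 r) * F2 r := Nat.mul_le_mul_right _ hc
        _ = 2 * (2 ^ r * F2 r * F2 r) := by ring
    have h6 : 3 ^ r * Gb r ≤ 2 ^ r * F2 r * F2 r := by omega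
    exact h6.trans (h3.trans h4)

end Cfsg.Agent.Lib.Helper44
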