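import Mathlib
import Cfsg.Agent.Lib.Helper44.NilpSym
import Cfsg.Agent.Lib.Helper44.NilpAltNum

set_option autoImplicit false

/-! Nilpotent subgroups of `Aₙ` have order at most `Ha n / 2`. -/

namespace Cfsg.Agent.Lib.Helper44

open Equiv MulAction

universe u

lemma sign_congr_inst {α : Type*} (d1 d2 : DecidableEq α) (f1 f2 : Fintype α) (x : Perm α) :
    @Perm.sign α d1 f1 x = @Perm.sign α d2 f2 x := by
  have hd : d1 = d2 := Subsingleton.elim _ _
  have hf : f1 = f2 := Subsingleton.elim _ _
  subst hd
  subst hf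
  rfl

section parity

variable {Ω : Type u} [Fintype Ω] [DecidableEq Ω]

/-- groups of odd order consist of even permutations -/
lemma sign_eq_one_of_odd_card (N : Subgroup (Perm Ω)) (hodd : Odd (Nat.card N)) :
    ∀ g ∈ N, Perm.sign g = 1 := by
  intro g hg
  have h1 : orderOf g ∣ Nat.card N := by
    have := orderOf_dvd_natCard (⟨g, hg⟩ : ↥N)
    rwa [Subgroup.orderOf_mk] at this
  have h2 : Odd (orderOf g) := Odd.of_dvd_nat hodd h1
  have h3 : Perm.sign g ^ orderOf g = 1 := by
    rw [← map_pow, pow_orderOf_eq_one, map_one]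
  rcases Int.units_eq_one_or (Perm.sign g) with h | h
  · exact h
  · rw [h, h2.neg_one_pow] at h3
    exact absurd h3 (by decide)

open scoped Classical in
/-- the splitting of a group of even permutations along an invariant set, keeping track of the
parities -/
theorem exists_split_parity (N : Subgroup (Perm Ω)) (hNe : ∀ g ∈ N, Perm.sign g = 1)
    (A : Set Ω) (hA : ∀ g ∈ N, ∀ ω, g ω ∈ A ↔ ω ∈ A) :
    ∃ (N1 : Subgroup (Perm ↥A)) (N2 : Subgroup (Perm ↥(Aᶜ : Set Ω))),
      (Group.IsNilpotent N → Group.IsNilpotent N1 ∧ Group.IsNilpotent N2) ∧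
      (((∀ x ∈ N1, Perm.sign x = 1) ∧ (∀ y ∈ N2, Perm.sign y = 1) ∧
          Nat.card N ≤ Nat.card N1 * Nat.card N2) ∨
        2 * Nat.card N ≤ Nat.card N1 * Nat.card N2) := by
  have hAc : ∀ g ∈ N, ∀ ω, g ω ∈ (Aᶜ : Set Ω) ↔ ω ∈ (Aᶜ : Set Ω) :=
    fun g hg ω => not_congr (hA g hg ω)
  set f1 := resHom N A hA with hf1
  set f2 := resHom N (Aᶜ : Set Ω) hAc with hf2
  refine ⟨f1.range, f2.range, ?_, ?_⟩
  · intro hN
    exact ⟨Group.nilpotent_of_surjective f1.rangeRestrict f1.rangeRestrict_surjective,
      Group.nilpotent_of_surjective f2.rangeRestrict f2.rangeRestrict_surjective⟩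
  -- the decomposition of the sign
  have hdecomp : ∀ g : ↥N, g.1 = Perm.ofSubtype (f1 g) * Perm.ofSubtype (f2 g) := by
    intro g
    ext ω
    rw [Perm.mul_apply]
    by_cases hω : ω ∈ A
    · rw [Perm.ofSubtype_apply_of_not_mem (f2 g) (fun h : ω ∈ (Aᶜ : Set Ω) => h hω),
        Perm.ofSubtype_apply_of_mem (f1 g) hω]
      rfl
    · have hω' : ω ∈ (Aᶜ : Set Ω) := hω
      rw [Perm.ofSubtype_apply_of_mem (f2 g) hω']
      have h1 : ((f2 g) ⟨ω, hω'⟩ : Ω) = g.1 ω := rfl
      have h2 : g.1 ω ∉ A := fun h => hω ((hA g.1 g.2 ω).mp h)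
      rw [h1, Perm.ofSubtype_apply_of_not_mem (f1 g) h2]
  have hsign : ∀ g : ↥N, Perm.sign (f1 g) * Perm.sign (f2 g) = 1 := by
    intro g
    have := hNe g.1 g.2
    rw [hdecomp g, map_mul, Perm.sign_ofSubtype, Perm.sign_ofSubtype] at this
    exact this
  let ι : ↥N →* ↥f1.range × ↥f2.range := f1.rangeRestrict.prod f2.rangeRestrict
  have hιinj : Function.Injective ι := by
    intro g h hgh
    have h1 : f1 g = f1 h := congrArg (fun p : ↥f1.range × ↥f2.range => (p.1 : Perm ↥A)) hgh
    have h2 : f2 g = f2 h :=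
      congrArg (fun p : ↥f1.range × ↥f2.range => (p.2 : Perm ↥(Aᶜ : Set Ω))) hgh
    apply Subtype.ext
    apply Equiv.ext
    intro ω
    by_cases hω : ω ∈ A
    · exact congrArg (fun σ : Perm ↥A => (σ ⟨ω, hω⟩ : Ω)) h1
    · exact congrArg (fun σ : Perm ↥(Aᶜ : Set Ω) => (σ ⟨ω, hω⟩ : Ω)) h2
  let χ : ↥f1.range × ↥f2.range →* ℤˣ :=
    (Perm.sign.comp f1.range.subtype).coprod (Perm.sign.comp f2.range.subtype)
  have hχ : ∀ p : ↥f1.range × ↥f2.range, χ p = Perm.sign (p.1 : Perm ↥A) *
      Perm.sign (p.2 : Perm ↥(Aᶜ : Set Ω)) := fun p => rfl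
  have hχι : ∀ g, χ (ι g) = 1 := fun g => by
    rw [hχ]
    exact hsign g
  have hle : Nat.card N ≤ Nat.card χ.ker := by
    have hinj : Function.Injective (fun g : ↥N => (⟨ι g, hχι g⟩ : ↥χ.ker)) := by
      intro g h hgh
      exact hιinj (congrArg Subtype.val hgh)
    exact Nat.card_le_card_of_injective _ hinj
  by_cases htop : χ.ker = ⊤
  · left
    refine ⟨?_, ?_, ?_⟩
    · intro x hx
      have hmem : ((⟨x, hx⟩, 1) : ↥f1.range × ↥f2.range) ∈ χ.ker := by
        rw [htop]
        trivial
      rw [MonoidHom.mem_ker, hχ] at hmem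
      simpa using hmem
    · intro y hy
      have hmem : ((1, ⟨y, hy⟩) : ↥f1.range × ↥f2.range) ∈ χ.ker := by
        rw [htop]
        trivial
      rw [MonoidHom.mem_ker, hχ] at hmem
      simpa using hmem
    · calc Nat.card N ≤ Nat.card (↥f1.range × ↥f2.range) :=
            Nat.card_le_card_of_injective ι hιinj
        _ = Nat.card f1.range * Nat.card f2.range := Nat.card_prod _ _
  · right
    have hidx : 2 ≤ χ.ker.index := by
      have h0 : χ.ker.index ≠ 0 := Subgroup.index_ne_zero_of_finite
      have h1 : χ.ker.index ≠ 1 := fun h => htop (Subgroup.index_eq_one.mp h)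
      omega
    have hmul := Subgroup.card_mul_index χ.ker
    rw [Nat.card_prod] at hmul
    calc 2 * Nat.card N ≤ 2 * Nat.card χ.ker := Nat.mul_le_mul_left _ hle
      _ = Nat.card χ.ker * 2 := mul_comm _ _
      _ ≤ Nat.card χ.ker * χ.ker.index := Nat.mul_le_mul_left _ hidx
      _ = Nat.card f1.range * Nat.card f2.range := hmul

end parity

/-- **Nilpotent groups of even permutations** of `k` points have order at most `Ha k / 2`. -/
theorem card_le_Ha : ∀ k : ℕ, ∀ (Ω : Type u) [Fintype Ω] [DecidableEq Ω], Nat.card Ω = k →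
    ∀ N : Subgroup (Perm Ω), Group.IsNilpotent N → (∀ g ∈ N, Perm.sign g = 1) →
      2 * Nat.card N ≤ Ha k := by
  intro k
  induction k using Nat.strong_induction_on with
  | _ k ih =>
    intro Ω _ _ hk N hN hNe
    classical
    -- the splitting step
    have hsplit : ∀ w : Perm Ω, (∀ g ∈ N, g * w = w * g) → w ≠ 1 → (∃ ω, w ω = ω) →
        2 * Nat.card N ≤ Ha k := by
      intro w hwN hw1 hfix
      set A : Set Ω := {ω | w ω = ω} with hAdef
      have hA : ∀ g ∈ N, ∀ ω, g ω ∈ A ↔ ω ∈ A := by
        intro g hg ω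
        change w (g ω) = g ω ↔ w ω = ω
        have h1 : w (g ω) = g (w ω) := by
          rw [← Perm.mul_apply, ← Perm.mul_apply, hwN g hg]
        rw [h1]
        exact g.injective.eq_iff
      obtain ⟨N1, N2, hnil, hcases⟩ := exists_split_parity N hNe A hA
      have hcard := card_add_card_compl A
      have hA1 : 1 ≤ Nat.card ↥A := by
        obtain ⟨ω, hω⟩ := hfix
        have : Nonempty ↥A := ⟨⟨ω, hω⟩⟩
        exact Nat.card_pos
      have hA2 : 1 ≤ Nat.card ↥(Aᶜ : Set Ω) := by
        have : ∃ ω, w ω ≠ ω := by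
          by_contra hcon
          push Not at hcon
          exact hw1 (Equiv.ext hcon)
        obtain ⟨ω, hω⟩ := this
        have : Nonempty ↥(Aᶜ : Set Ω) := ⟨⟨ω, hω⟩⟩
        exact Nat.card_pos
      rcases hcases with ⟨he1, he2, hle⟩ | hle
      · have he1' : ∀ x ∈ N1, Perm.sign x = 1 := fun x hx => by
          rw [← he1 x hx]
          exact sign_congr_inst _ _ _ _ x
        have he2' : ∀ y ∈ N2, Perm.sign y = 1 := fun y hy => by
          rw [← he2 y hy]
          exact sign_congr_inst _ _ _ _ y
        have h1 := ih (Nat.card ↥A) (by omega) ↥A rfl N1 (hnil hN).1 he1'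
        have h2 := ih (Nat.card ↥(Aᶜ : Set Ω)) (by omega) ↥(Aᶜ : Set Ω) rfl N2
          (hnil hN).2 he2'
        have h3 := Ha_mul_le _ _ hA1 hA2
        rw [hcard, hk] at h3
        have h4 : (2 * Nat.card N1) * (2 * Nat.card N2) ≤ Ha (Nat.card ↥A) *
            Ha (Nat.card ↥(Aᶜ : Set Ω)) := Nat.mul_le_mul h1 h2
        nlinarith
      · have h1 := card_le_Gb (Nat.card ↥A) ↥A rfl N1 (hnil hN).1
        have h2 := card_le_Gb _ ↥(Aᶜ : Set Ω) rfl N2 (hnil hN).2
        have h3 := Gb_mul_le (Nat.card ↥A) (Nat.card ↥(Aᶜ : Set Ω))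
        rw [hcard, hk] at h3
        calc 2 * Nat.card N ≤ Nat.card N1 * Nat.card N2 := hle
          _ ≤ Gb _ * Gb _ := Nat.mul_le_mul h1 h2
          _ ≤ Gb k := h3
          _ ≤ Ha k := Gb_le_Ha k
    have hdvdfact : Nat.card N ∣ k.factorial := by
      have := Subgroup.card_subgroup_dvd_card N
      rwa [Nat.card_perm, hk] at this
    by_cases hq : ∃ q : ℕ, q.Prime ∧ q ≠ 2 ∧ q ∣ Nat.card N
    · obtain ⟨q, hqp, hq2, hqd⟩ := hq
      have htriv : Nat.card N ≠ 1 := by
        intro h
        rw [h] at hqd
        exact hqp.one_lt.ne' (Nat.dvd_one.mp hqd)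
      have : Fact q.Prime := ⟨hqp⟩
      have hNinst : Group.IsNilpotent ↥N := hN
      obtain ⟨h, hh, hhc⟩ := exists_central_of_prime_dvd (G := ↥N) q hqd
      have hwh : orderOf (h : Perm Ω) = q := by
        rw [← hh]
        exact Subgroup.orderOf_coe h
      have hhN : ∀ g ∈ N, g * (h : Perm Ω) = (h : Perm Ω) * g :=
        fun g hg => congrArg Subtype.val (hhc ⟨g, hg⟩)
      have hq3 : 3 ≤ q := by
        have := hqp.two_le
        omega
      have hqodd : Odd q := hqp.odd_of_ne_two hq2
      have hh1 : (h : Perm Ω) ≠ 1 := by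
        intro h1
        rw [h1, orderOf_one] at hwh
        exact hqp.one_lt.ne hwh
      by_cases hfh : ∃ ω, (h : Perm Ω) ω = ω
      · exact hsplit _ hhN hh1 hfh
      push Not at hfh
      have hfreeh := free_of_prime_order (h : Perm Ω) hqp hwh hfh
      by_cases h2 : 2 ∣ Nat.card N
      · -- the mixed case
        have : Fact (Nat.Prime 2) := ⟨Nat.prime_two⟩
        obtain ⟨z, hz, hzc⟩ := exists_central_of_prime_dvd (G := ↥N) 2 h2
        have hwz : orderOf (z : Perm Ω) = 2 := by
          rw [← hz]
          exact Subgroup.orderOf_coe z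
        have hzN : ∀ g ∈ N, g * (z : Perm Ω) = (z : Perm Ω) * g :=
          fun g hg => congrArg Subtype.val (hzc ⟨g, hg⟩)
        have hz1 : (z : Perm Ω) ≠ 1 := by
          intro h1
          rw [h1, orderOf_one] at hwz
          omega
        by_cases hfz : ∃ ω, (z : Perm Ω) ω = ω
        · exact hsplit _ hzN hz1 hfz
        push Not at hfz
        have hcomm : Commute (z : Perm Ω) (h : Perm Ω) := (hhN z.1 z.2)
        have hcop : Nat.Coprime (orderOf (z : Perm Ω)) (orderOf (h : Perm Ω)) := by
          rw [hwz, hwh]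
          exact (Nat.coprime_primes Nat.prime_two hqp).mpr (Ne.symm hq2)
        have hord : orderOf ((z : Perm Ω) * (h : Perm Ω)) = 2 * q := by
          rw [hcomm.orderOf_mul_eq_mul_orderOf_of_coprime hcop, hwz, hwh]
        have hfreez := free_of_prime_order (z : Perm Ω) Nat.prime_two hwz hfz
        have hfree : ∀ i : ℕ, ∀ ω, (((z : Perm Ω) * (h : Perm Ω)) ^ i) ω = ω →
            ((z : Perm Ω) * (h : Perm Ω)) ^ i = 1 := by
          intro i ω hω
          have hzq : ((z : Perm Ω) ^ (i * q)) ω = ω := by
            have h1 : ((((z : Perm Ω) * (h : Perm Ω)) ^ i) ^ q) ω = ω :=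
              Perm.pow_apply_eq_self_of_apply_eq_self hω q
            have h2 : (((z : Perm Ω) * (h : Perm Ω)) ^ i) ^ q = (z : Perm Ω) ^ (i * q) := by
              rw [← pow_mul, hcomm.mul_pow]
              have : (h : Perm Ω) ^ (i * q) = 1 := by
                rw [mul_comm, pow_mul, ← hwh, pow_orderOf_eq_one, one_pow]
              rw [this, mul_one]
            rwa [h2] at h1
          have hh2 : ((h : Perm Ω) ^ (i * 2)) ω = ω := by
            have h1 : ((((z : Perm Ω) * (h : Perm Ω)) ^ i) ^ 2) ω = ω :=
              Perm.pow_apply_eq_self_of_apply_eq_self hω 2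
            have h2 : (((z : Perm Ω) * (h : Perm Ω)) ^ i) ^ 2 = (h : Perm Ω) ^ (i * 2) := by
              rw [← pow_mul, hcomm.mul_pow]
              have : (z : Perm Ω) ^ (i * 2) = 1 := by
                rw [mul_comm, pow_mul, ← hwz, pow_orderOf_eq_one, one_pow]
              rw [this, one_mul]
            rwa [h2] at h1
          have h3 := hfreez _ ω hzq
          have h4 := hfreeh _ ω hh2
          have h5 : 2 ∣ i := by
            have : 2 ∣ i * q := by
              rw [← hwz]
              exact orderOf_dvd_of_pow_eq_one h3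
            rcases (Nat.Prime.dvd_mul Nat.prime_two).mp this with h | h
            · exact h
            · exfalso
              exact (Nat.not_even_iff_odd.mpr hqodd) (even_iff_two_dvd.mpr h)
          have h6 : q ∣ i := by
            have : q ∣ i * 2 := by
              rw [← hwh]
              exact orderOf_dvd_of_pow_eq_one h4
            rcases (Nat.Prime.dvd_mul hqp).mp this with h | h
            · exact h
            · exfalso
              have := Nat.le_of_dvd (by norm_num) h
              omega
          rw [hcomm.mul_pow]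
          have h7 : (z : Perm Ω) ^ i = 1 := by
            rw [← hwz] at h5
            exact orderOf_dvd_iff_pow_eq_one.mp h5
          have h8 : (h : Perm Ω) ^ i = 1 := by
            rw [← hwh] at h6
            exact orderOf_dvd_iff_pow_eq_one.mp h6
          rw [h7, h8, one_mul]
        have hwN : ∀ g ∈ N, g * ((z : Perm Ω) * (h : Perm Ω)) =
            ((z : Perm Ω) * (h : Perm Ω)) * g := by
          intro g hg
          rw [← mul_assoc, hzN g hg, mul_assoc, hhN g hg, ← mul_assoc]
        obtain ⟨Ω', hfin, N', hcard, hnil, hdvd, hle⟩ :=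
          exists_blocks N ((z : Perm Ω) * (h : Perm Ω)) hwN hfree
        rw [hord] at hcard hle
        have hr1 : 1 ≤ Nat.card Ω' := by
          by_contra hcon
          have hr0 : Nat.card Ω' = 0 := by omega
          rw [hr0, mul_zero] at hcard
          have hemp : IsEmpty Ω := by
            rcases Nat.card_eq_zero.mp hcard with h | h
            · exact h
            · exact absurd (Finite.of_fintype Ω) (not_finite_iff_infinite.mpr h)
          have hsub : Subsingleton (Perm Ω) := inferInstance
          have : Subsingleton ↥N := inferInstance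
          exact htriv (Nat.card_unique)
        have h1 := card_le_Gb (Nat.card Ω') Ω' rfl N' (hnil hN)
        have h3 := Ha_pow_mixed q (Nat.card Ω') hq3 hr1
        rw [← hk, hcard]
        calc 2 * Nat.card N ≤ 2 * ((2 * q) ^ Nat.card Ω' * Nat.card N') :=
              Nat.mul_le_mul_left _ hle
          _ ≤ 2 * ((2 * q) ^ Nat.card Ω' * Gb (Nat.card Ω')) :=
              Nat.mul_le_mul_left _ (Nat.mul_le_mul_left _ h1)
          _ ≤ Ha (2 * q * Nat.card Ω') := h3
      · -- odd order
        have hodd : Odd (Nat.card N) := by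
          rw [← Nat.not_even_iff_odd, even_iff_two_dvd]
          exact h2
        obtain ⟨Ω', hfin, N', hcard, hnil, hdvd, hle⟩ :=
          exists_blocks N (h : Perm Ω) hhN hfreeh
        rw [hwh] at hcard hle
        have hr1 : 1 ≤ Nat.card Ω' := by
          by_contra hcon
          have hr0 : Nat.card Ω' = 0 := by omega
          rw [hr0, mul_zero] at hcard
          have hemp : IsEmpty Ω := by
            rcases Nat.card_eq_zero.mp hcard with h | h
            · exact h
            · exact absurd (Finite.of_fintype Ω) (not_finite_iff_infinite.mpr h)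
          have hsub : Subsingleton (Perm Ω) := inferInstance
          have : Subsingleton ↥N := inferInstance
          exact htriv (Nat.card_unique)
        have hrk : Nat.card Ω' < k := by
          rw [← hk, hcard]
          nlinarith
        have hN'odd : Odd (Nat.card N') := Odd.of_dvd_nat hodd hdvd
        have hFin : Fintype Ω' := Fintype.ofFinite Ω'
        have h1 := ih (Nat.card Ω') hrk Ω' rfl N' (hnil hN)
          (sign_eq_one_of_odd_card N' hN'odd)
        have h3 := Ha_pow_odd q (Nat.card Ω') hqodd hq3 hr1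
        rw [← hk, hcard]
        calc 2 * Nat.card N ≤ 2 * (q ^ Nat.card Ω' * Nat.card N') :=
              Nat.mul_le_mul_left _ hle
          _ = q ^ Nat.card Ω' * (2 * Nat.card N') := by ring
          _ ≤ q ^ Nat.card Ω' * Ha (Nat.card Ω') := Nat.mul_le_mul_left _ h1
          _ ≤ Ha (q * Nat.card Ω') := h3
    · -- a 2-group
      push Not at hq
      have hpow : Nat.card N = 2 ^ (Nat.card N).primeFactorsList.length := by
        apply Nat.eq_prime_pow_of_unique_prime_dvd Nat.card_pos.ne'
        intro d hd hdd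
        by_contra hne
        exact hq d hd hne hdd
      by_cases hk1 : k ≤ 1
      · have hsub : Subsingleton Ω := by
          rw [← Finite.card_le_one_iff_subsingleton]
          omega
        have hsub2 : Subsingleton (Perm Ω) := inferInstance
        have : Subsingleton ↥N := inferInstance
        have hN1 : Nat.card N = 1 := Nat.card_unique
        rw [hN1, Ha, if_pos hk1]
      · have hnt : Nontrivial Ω := by
          rw [← Finite.one_lt_card_iff_nontrivial]
          omega
        have hNA : N ≤ alternatingGroup Ω := fun g hg =>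
          Perm.mem_alternatingGroup.mpr (hNe g hg)
        have h1 : Nat.card N ∣ Nat.card (alternatingGroup Ω) := Subgroup.card_dvd_of_le hNA
        have h2 : 2 * Nat.card (alternatingGroup Ω) = k.factorial := by
          rw [two_mul_nat_card_alternatingGroup, Nat.card_perm, hk]
        have h3 : 2 * Nat.card N ∣ k.factorial := by
          rw [← h2]
          exact Nat.mul_dvd_mul_left 2 h1
        rw [hpow, ← pow_succ'] at h3
        have h4 := (padicValNat_dvd_iff_le (Nat.factorial_ne_zero _)).mp h3
        calc 2 * Nat.card N = 2 ^ ((Nat.card N).primeFactorsList.length + 1) := by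
              rw [pow_succ', ← hpow]
          _ ≤ F2 k := Nat.pow_le_pow_right (by norm_num) h4
          _ ≤ Ha k := F2_le_Ha k

section altn

/-- nilpotent subgroups of `Aₙ` -/
theorem card_le_Ha_alt (n : ℕ) (N : Subgroup (alternatingGroup (Fin n)))
    (hN : Group.IsNilpotent N) : 2 * Nat.card N ≤ Ha n := by
  set ι := (alternatingGroup (Fin n)).subtype with hι
  have hinj : Function.Injective ι := Subgroup.subtype_injective _
  have hnil : Group.IsNilpotent ↥(N.map ι) := by
    have hNinst : Group.IsNilpotent ↥N := hN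
    exact Group.nilpotent_of_mulEquiv (N.equivMapOfInjective ι hinj)
  have heven : ∀ g ∈ N.map ι, Perm.sign g = 1 := by
    rintro _ ⟨x, _, rfl⟩
    exact Perm.mem_alternatingGroup.mp x.2
  have := card_le_Ha n (Fin n) (by simp) (N.map ι) hnil heven
  rwa [Subgroup.card_map_of_injective hinj] at this

/-- the order of a Sylow `2`-subgroup of `Aₙ`, `n ≥ 2` -/
lemma two_mul_card_sylow_alt (n : ℕ) (hn : 2 ≤ n) (P : Sylow 2 (alternatingGroup (Fin n))) :
    2 * Nat.card P = F2 n := by
  have hnt : Nontrivial (Fin n) := Fin.nontrivial_iff_two_le.mpr hn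
  have h2 : 2 * Nat.card (alternatingGroup (Fin n)) = n.factorial := by
    rw [two_mul_nat_card_alternatingGroup, Nat.card_perm, Nat.card_fin]
  have hpos : Nat.card (alternatingGroup (Fin n)) ≠ 0 := Nat.card_pos.ne'
  have h3 : padicValNat 2 n.factorial =
      1 + padicValNat 2 (Nat.card (alternatingGroup (Fin n))) := by
    rw [← h2, padicValNat.mul (by norm_num) hpos]
    simp
  have h4 : Nat.card P = 2 ^ padicValNat 2 (Nat.card (alternatingGroup (Fin n))) := by
    rw [Sylow.card_eq_multiplicity P, Nat.factorization_def _ Nat.prime_two]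
  rw [h4, F2, h3, pow_add, pow_one]

end altn

end Cfsg.Agent.Lib.Helper44
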