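import Mathlib
import Cfsg.Agent.Lib.Helper41.InvBDefs

/-!
# K-IB leaf 16 (keystone 392826), main part: at most `2 * m` conjugates of `S` are moved by `a`

`moved_ncard_le_of` takes the conclusion of leaf 16a (different conjugates of `S` meet trivially and
commute) as a hypothesis.
-/

set_option autoImplicit false

namespace Cfsg.Agent.Lib.Helper44.InvB

open Cfsg.Agent.Lib.Helper41.InvB

variable {Γ : Type*} [Group Γ] [Finite Γ]

omit [Finite Γ] in
theorem center_eq_bot_of_simple (S : Subgroup Γ) (hS : IsSimpleGroup S)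
    (hna : ¬ ∀ x ∈ S, ∀ y ∈ S, x * y = y * x) : Subgroup.center ↥S = ⊥ := by
  rcases (Subgroup.center ↥S).normal_of_characteristic.eq_bot_or_eq_top with h0 | h0
  · exact h0
  · exfalso
    apply hna
    intro x hx y hy
    have hy' : (⟨y, hy⟩ : ↥S) ∈ Subgroup.center ↥S := by rw [h0]; trivial
    have := (Subgroup.mem_center_iff.mp hy') ⟨x, hx⟩
    exact congrArg Subtype.val this

omit [Finite Γ] in
theorem center_trivial_of_simple (S : Subgroup Γ) (hS : IsSimpleGroup S)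
    (hna : ¬ ∀ x ∈ S, ∀ y ∈ S, x * y = y * x) :
    ∀ x ∈ S, (∀ r ∈ S, r * x = x * r) → x = 1 := by
  intro x hx hc
  have hZ := center_eq_bot_of_simple S hS hna
  have hxc : (⟨x, hx⟩ : ↥S) ∈ Subgroup.center ↥S := by
    rw [Subgroup.mem_center_iff]
    intro g
    exact Subtype.ext (hc g.1 g.2)
  rw [hZ] at hxc
  exact congrArg Subtype.val (Subgroup.mem_bot.mp hxc)

theorem exists_odd_ne_one_of_simple (S : Subgroup Γ) (hS : IsSimpleGroup S)
    (hna : ¬ ∀ x ∈ S, ∀ y ∈ S, x * y = y * x) :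
    ∃ x ∈ S, Odd (orderOf x) ∧ x ≠ 1 := by
  by_contra hno
  push Not at hno
  have hZ := center_eq_bot_of_simple S hS hna
  have hP : IsPGroup 2 ↥S := by
    intro g
    have hpos : orderOf g ≠ 0 := (orderOf_pos g).ne'
    obtain ⟨k, r, hr, hkr⟩ := Nat.exists_eq_two_pow_mul_odd hpos
    refine ⟨k, ?_⟩
    have h2k : 2 ^ k ∣ orderOf g := ⟨r, hkr⟩
    have hodd : Odd (orderOf (g ^ 2 ^ k)) := by
      rw [orderOf_pow_of_dvd (by positivity) h2k, hkr, Nat.mul_div_cancel_left _ (by positivity)]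
      exact hr
    have := hno ((g ^ 2 ^ k : ↥S) : Γ) (Subtype.mem _) (by rwa [Subgroup.orderOf_coe])
    exact Subtype.ext this
  have : Fact (Nat.Prime 2) := ⟨Nat.prime_two⟩
  have hnt := hP.center_nontrivial
  rw [hZ] at hnt
  exact not_nontrivial _ hnt

theorem moved_ncard_le_of (a : Γ) (ha : a * a = 1) (S : Subgroup Γ) (hS : IsSimpleGroup S)
    (hna : ¬ ∀ x ∈ S, ∀ y ∈ S, x * y = y * x)
    (h16a : ∀ γ δ : Γ, conjS γ S ≠ conjS δ S →
      conjS γ S ⊓ conjS δ S = ⊥ ∧ ∀ x ∈ conjS γ S, ∀ y ∈ conjS δ S, x * y = y * x)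
    (m : ℕ) (hm : Nat.card (TG a) ≤ m) :
    Set.ncard {R : Subgroup Γ | (∃ γ : Γ, R = conjS γ S) ∧ conjS a R ≠ R} ≤ 2 * m := by
  classical
  have hainv : a⁻¹ = a := inv_eq_of_mul_eq_one_right ha
  set Mv : Set (Subgroup Γ) :=
    {R : Subgroup Γ | (∃ γ : Γ, R = conjS γ S) ∧ conjS a R ≠ R} with hMv
  -- different conjugates commute
  have hcomm : ∀ R R' : Subgroup Γ, (∃ γ, R = conjS γ S) → (∃ γ, R' = conjS γ S) → R ≠ R' →
      ∀ x ∈ R, ∀ y ∈ R', x * y = y * x := by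
    rintro R R' ⟨γ, rfl⟩ ⟨δ, rfl⟩ hne
    exact (h16a γ δ hne).2
  have hinvol : ∀ R : Subgroup Γ, conjS a (conjS a R) = R := by
    intro R; rw [← conjS_mul, ha, conjS_one]
  have hconjC : ∀ R : Subgroup Γ, (∃ γ, R = conjS γ S) → ∃ γ, conjS a R = conjS γ S := by
    rintro R ⟨γ, rfl⟩; exact ⟨a * γ, (conjS_mul a γ S).symm⟩
  have hmemconj : ∀ (R : Subgroup Γ) (x : Γ), x ∈ R → a * x * a⁻¹ ∈ conjS a R := by
    intro R x hx
    rw [mem_conjS_iff]
    have : a⁻¹ * (a * x * a⁻¹) * a = x := by group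
    rw [this]; exact hx
  -- conjugates have trivial centre
  have hcent : ∀ R : Subgroup Γ, (∃ γ, R = conjS γ S) →
      ∀ x ∈ R, (∀ r ∈ R, r * x = x * r) → x = 1 := by
    rintro R ⟨γ, rfl⟩ x hx hc
    rw [mem_conjS_iff] at hx
    have h1 : γ⁻¹ * x * γ = 1 := by
      apply center_trivial_of_simple S hS hna _ hx
      intro r hr
      have hr' : γ * r * γ⁻¹ ∈ conjS γ S := by
        rw [mem_conjS_iff]
        have : γ⁻¹ * (γ * r * γ⁻¹) * γ = r := by group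
        rw [this]; exact hr
      have h2 := hc _ hr'
      calc r * (γ⁻¹ * x * γ) = γ⁻¹ * ((γ * r * γ⁻¹) * x) * γ := by group
        _ = γ⁻¹ * (x * (γ * r * γ⁻¹)) * γ := by rw [h2]
        _ = γ⁻¹ * x * γ * r := by group
    calc x = γ * (γ⁻¹ * x * γ) * γ⁻¹ := by group
      _ = 1 := by rw [h1]; group
  -- conjugates have a nontrivial element of odd order
  have hodd : ∀ R : Subgroup Γ, (∃ γ, R = conjS γ S) → ∃ x ∈ R, Odd (orderOf x) ∧ x ≠ 1 := by
    rintro R ⟨γ, rfl⟩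
    obtain ⟨x, hx, hxo, hx1⟩ := exists_odd_ne_one_of_simple S hS hna
    refine ⟨γ * x * γ⁻¹, ?_, ?_, ?_⟩
    · rw [mem_conjS_iff]
      have : γ⁻¹ * (γ * x * γ⁻¹) * γ = x := by group
      rw [this]; exact hx
    · have := (MulAut.conj γ).orderOf_eq x
      rw [MulAut.conj_apply] at this
      rw [this]; exact hxo
    · intro h
      apply hx1
      calc x = γ⁻¹ * (γ * x * γ⁻¹) * γ := by group
        _ = 1 := by rw [h]; group
  -- the element of `TG a` attached to an odd-order element of a moved conjugate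
  have key : ∀ R ∈ Mv, ∀ x ∈ R, Odd (orderOf x) → x * (a * x⁻¹ * a⁻¹) ∈ TG a := by
    intro R hR x hx hxo
    have hy := hmemconj R x⁻¹ (R.inv_mem hx)
    have hc : Commute x (a * x⁻¹ * a⁻¹) :=
      hcomm R (conjS a R) hR.1 (hconjC R hR.1) (fun h => hR.2 h.symm) x hx _ hy
    refine ⟨?_, ?_⟩
    · apply Odd.of_dvd_nat hxo
      apply orderOf_dvd_of_pow_eq_one
      rw [hc.mul_pow, conj_pow, inv_pow, pow_orderOf_eq_one]
      simp
    · have e1 : a * (x * (a * x⁻¹ * a⁻¹)) * a⁻¹ = (a * x * a⁻¹) * ((a * a) * x⁻¹ * (a * a)⁻¹) := by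
        group
      rw [e1, ha]
      group
  have hex : ∀ R : ↥Mv, ∃ x ∈ R.1, Odd (orderOf x) ∧ x ≠ 1 := fun R => hodd R.1 R.2.1
  choose xf hxf using hex
  let f : ↥Mv → ↥(TG a) := fun R =>
    ⟨xf R * (a * (xf R)⁻¹ * a⁻¹), key R.1 R.2 (xf R) (hxf R).1 (hxf R).2.1⟩
  -- fibres of `f` have at most two members
  have hfib : ∀ R R' : ↥Mv, f R = f R' → R'.1 = R.1 ∨ R'.1 = conjS a R.1 := by
    intro R R' hff
    by_contra hcon
    push Not at hcon
    obtain ⟨hne1, hne2⟩ := hcon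
    have h0 : xf R * (a * (xf R)⁻¹ * a⁻¹) = xf R' * (a * (xf R')⁻¹ * a⁻¹) :=
      congrArg Subtype.val hff
    have hx : xf R = xf R' * (a * (xf R')⁻¹ * a⁻¹) * (a * (xf R)⁻¹ * a⁻¹)⁻¹ := by
      rw [← h0]; group
    apply (hxf R).2.2
    apply hcent R.1 R.2.1 _ (hxf R).1
    intro r hr
    -- `r` commutes with the three factors
    have c1 : r * xf R' = xf R' * r :=
      hcomm R.1 R'.1 R.2.1 R'.2.1 (fun h => hne1 h.symm) r hr _ (hxf R').1
    have c2 : r * (a * (xf R')⁻¹ * a⁻¹) = (a * (xf R')⁻¹ * a⁻¹) * r := by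
      refine hcomm R.1 (conjS a R'.1) R.2.1 (hconjC _ R'.2.1) ?_ r hr _
        (hmemconj _ _ (R'.1.inv_mem (hxf R').1))
      intro h
      apply hne2
      rw [h, hinvol]
    have c3 : r * (a * (xf R)⁻¹ * a⁻¹) = (a * (xf R)⁻¹ * a⁻¹) * r := by
      refine hcomm R.1 (conjS a R.1) R.2.1 (hconjC _ R.2.1) (fun h => R.2.2 h.symm) r hr _
        (hmemconj _ _ (R.1.inv_mem (hxf R).1))
    have c3' : r * (a * (xf R)⁻¹ * a⁻¹)⁻¹ = (a * (xf R)⁻¹ * a⁻¹)⁻¹ * r := by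
      calc r * (a * (xf R)⁻¹ * a⁻¹)⁻¹
          = (a * (xf R)⁻¹ * a⁻¹)⁻¹ * ((a * (xf R)⁻¹ * a⁻¹) * r) * (a * (xf R)⁻¹ * a⁻¹)⁻¹ := by
            group
        _ = (a * (xf R)⁻¹ * a⁻¹)⁻¹ * (r * (a * (xf R)⁻¹ * a⁻¹)) * (a * (xf R)⁻¹ * a⁻¹)⁻¹ := by
            rw [c3]
        _ = (a * (xf R)⁻¹ * a⁻¹)⁻¹ * r := by group
    rw [hx]
    calc r * (xf R' * (a * (xf R')⁻¹ * a⁻¹) * (a * (xf R)⁻¹ * a⁻¹)⁻¹)
        = (r * xf R') * (a * (xf R')⁻¹ * a⁻¹) * (a * (xf R)⁻¹ * a⁻¹)⁻¹ := by group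
      _ = xf R' * (r * (a * (xf R')⁻¹ * a⁻¹)) * (a * (xf R)⁻¹ * a⁻¹)⁻¹ := by rw [c1]; group
      _ = xf R' * (a * (xf R')⁻¹ * a⁻¹) * (r * (a * (xf R)⁻¹ * a⁻¹)⁻¹) := by rw [c2]; group
      _ = xf R' * (a * (xf R')⁻¹ * a⁻¹) * (a * (xf R)⁻¹ * a⁻¹)⁻¹ * r := by rw [c3']; group
  -- counting
  have hMvfin : Finite ↥Mv := Set.toFinite Mv
  have hTfin : Finite ↥(TG a) := Subtype.finite
  let _ : Fintype ↥Mv := Fintype.ofFinite _
  let _ : Fintype ↥(TG a) := Fintype.ofFinite _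
  have hcount : (Finset.univ : Finset ↥Mv).card ≤ 2 * ((Finset.univ : Finset ↥Mv).image f).card := by
    apply Finset.card_le_mul_card_image
    intro b hb
    obtain ⟨R₀, -, rfl⟩ := Finset.mem_image.mp hb
    have hR₀' : conjS a R₀.1 ∈ Mv := by
      refine ⟨hconjC _ R₀.2.1, ?_⟩
      rw [hinvol]
      exact fun h => R₀.2.2 h.symm
    have hsub : (Finset.univ.filter fun R : ↥Mv => f R = f R₀) ⊆ {R₀, ⟨conjS a R₀.1, hR₀'⟩} := by
      intro R hR
      have hfe : f R = f R₀ := (Finset.mem_filter.mp hR).2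
      rcases hfib R₀ R hfe.symm with h | h
      · rw [Finset.mem_insert]; left; exact Subtype.ext h
      · rw [Finset.mem_insert, Finset.mem_singleton]; right; exact Subtype.ext h
    exact (Finset.card_le_card hsub).trans Finset.card_le_two
  have himg : ((Finset.univ : Finset ↥Mv).image f).card ≤ m := by
    refine (Finset.card_le_univ _).trans ?_
    rw [← Nat.card_eq_fintype_card]
    exact hm
  calc Set.ncard Mv = Nat.card ↥Mv := (Nat.card_coe_set_eq Mv).symm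
    _ = (Finset.univ : Finset ↥Mv).card := by rw [Nat.card_eq_fintype_card, Finset.card_univ]
    _ ≤ 2 * ((Finset.univ : Finset ↥Mv).image f).card := hcount
    _ ≤ 2 * m := Nat.mul_le_mul_left 2 himg

end Cfsg.Agent.Lib.Helper44.InvB
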