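import Mathlib
import Cfsg.Agent.Lib.Helper41.InvBDefs
import Cfsg.Agent.Lib.Helper44.InvB16
import Cfsg.Agent.Lib.Helper50.InvB16a

/-!
# K-IB leaf 16 (keystone 392826): at most `2 * m` conjugates of `S` are moved by `a`
-/

set_option autoImplicit false

namespace Cfsg.Agent.Lib.Helper44.InvB

open Cfsg.Agent.Lib.Helper41.InvB

variable {Γ : Type*} [Group Γ] [Finite Γ]

theorem moved_ncard_le (a : Γ) (ha : a * a = 1) (N : Subgroup Γ) (hN : IsMinNormal N) (S : Subgroup Γ)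
    (hSN : S ≤ N) (hnorm : N ≤ Subgroup.normalizer (S : Set Γ)) (hS : IsSimpleGroup S)
    (hna : ¬ ∀ x ∈ S, ∀ y ∈ S, x * y = y * x) (m : ℕ) (hm : Nat.card (TG a) ≤ m) :
    Set.ncard {R : Subgroup Γ | (∃ γ : Γ, R = conjS γ S) ∧ conjS a R ≠ R} ≤ 2 * m :=
  moved_ncard_le_of a ha S hS hna
    (fun γ δ hne =>
      Cfsg.Agent.Lib.Helper50.InvB.conj_disjoint_commute N hN S hSN hnorm hS hna γ δ hne) m hm

end Cfsg.Agent.Lib.Helper44.InvB
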