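import Mathlib
import Cfsg.Agent.Lib.Helper44.WreathSylow

set_option autoImplicit false

/-! Sylow `p`-subgroups of `Sₙ` and `Aₙ` generated by elements of order `p`;
`p`-th powers lie in the derived subgroup. -/

namespace Cfsg.Agent.Lib.Helper44

open Equiv

section powcomm

variable {G : Type*} [Group G]

/-- all `p`-th powers of elements of `T` lie in the derived subgroup of `T` -/
def PowComm (p : ℕ) (T : Subgroup G) : Prop := ∀ x ∈ T, x ^ p ∈ ⁅T, T⁆

lemma powComm_closure (p : ℕ) (X : Set G)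
    (hX : ∀ x ∈ X, x ^ p ∈ ⁅Subgroup.closure X, Subgroup.closure X⁆) :
    PowComm p (Subgroup.closure X) := by
  set T := Subgroup.closure X with hT
  let φ : ↥T →* Abelianization ↥T := (powMonoidHom p).comp Abelianization.of
  have hmem : ∀ y : ↥T, y ∈ φ.ker ↔ (y : G) ^ p ∈ ⁅T, T⁆ := by
    intro y
    rw [MonoidHom.mem_ker]
    change (Abelianization.of y) ^ p = 1 ↔ _
    rw [← map_pow, ← MonoidHom.mem_ker, Abelianization.ker_of, ← Subgroup.map_subtype_commutator]
    constructor
    · intro h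
      exact ⟨y ^ p, h, by simp⟩
    · rintro ⟨z, hz, hzy⟩
      have : z = y ^ p := Subtype.ext (by rw [Subgroup.coe_pow]; exact hzy)
      rwa [← this]
  have hle : (⊤ : Subgroup ↥T) ≤ φ.ker := by
    rw [← Subgroup.closure_closure_coe_preimage (k := X), Subgroup.closure_le]
    intro y hy
    exact (hmem y).mpr (hX y.1 hy)
  intro x hx
  exact (hmem ⟨x, hx⟩).mp (hle (Subgroup.mem_top _))

lemma PowComm.map {G' : Type*} [Group G'] {p : ℕ} (f : G →* G') {T : Subgroup G}
    (h : PowComm p T) : PowComm p (T.map f) := by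
  rintro _ ⟨y, hy, rfl⟩
  rw [← map_pow, ← Subgroup.map_commutator]
  exact Subgroup.mem_map_of_mem f (h y hy)

lemma PowComm.of_map_injective {G' : Type*} [Group G'] {p : ℕ} (f : G →* G')
    (hf : Function.Injective f) {T : Subgroup G} (h : PowComm p (T.map f)) : PowComm p T := by
  intro x hx
  have h1 := h (f x) (Subgroup.mem_map_of_mem f hx)
  rw [← Subgroup.map_commutator, ← map_pow] at h1
  obtain ⟨y, hy, hyx⟩ := h1
  rwa [← hf hyx]

lemma PowComm.pow_mem_commutator {p : ℕ} {T : Subgroup G} (h : PowComm p T) (x : ↥T) :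
    x ^ p ∈ commutator ↥T := by
  have h1 := h x.1 x.2
  rw [← Subgroup.map_subtype_commutator] at h1
  obtain ⟨y, hy, hyx⟩ := h1
  have : y = x ^ p := Subtype.ext (by rw [Subgroup.coe_pow]; exact hyx)
  rwa [← this]

lemma powComm_closure_of_pow_eq_one (p : ℕ) (X : Set G) (hX : ∀ x ∈ X, x ^ p = 1) :
    PowComm p (Subgroup.closure X) :=
  powComm_closure p X (fun x hx => by rw [hX x hx]; exact Subgroup.one_mem _)

end powcomm

section wrB

variable {H : Type*} [Group H] (n : ℕ)

/-- `B ⋊ T` as a subgroup of `H ≀ Sₙ`, for a permutation-invariant subgroup `B` of the base -/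
def wrSubB (B : Subgroup (Fin n → H)) (hB : ∀ σ f, f ∈ B → permAut n H σ f ∈ B)
    (T : Subgroup (Perm (Fin n))) :
    Subgroup ((Fin n → H) ⋊[permAut n H] Perm (Fin n)) where
  carrier := {x | x.left ∈ B ∧ x.right ∈ T}
  one_mem' := ⟨B.one_mem, T.one_mem⟩
  mul_mem' := by
    rintro x y ⟨hx1, hx2⟩ ⟨hy1, hy2⟩
    refine ⟨?_, ?_⟩
    · rw [SemidirectProduct.mul_left]
      exact B.mul_mem hx1 (hB _ _ hy1)
    · rw [SemidirectProduct.mul_right]; exact T.mul_mem hx2 hy2
  inv_mem' := by
    rintro x ⟨hx1, hx2⟩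
    refine ⟨?_, ?_⟩
    · rw [SemidirectProduct.inv_left]
      exact hB _ _ (B.inv_mem hx1)
    · rw [SemidirectProduct.inv_right]; exact T.inv_mem hx2

lemma card_wrSubB (B : Subgroup (Fin n → H)) (hB : ∀ σ f, f ∈ B → permAut n H σ f ∈ B)
    (T : Subgroup (Perm (Fin n))) :
    Nat.card ↥(wrSubB n B hB T) = Nat.card B * Nat.card T := by
  have e : ↥(wrSubB n B hB T) ≃ ↥B × ↥T :=
    { toFun := fun x => (⟨x.1.left, x.2.1⟩, ⟨x.1.right, x.2.2⟩)
      invFun := fun p => ⟨⟨p.1.1, p.2.1⟩, ⟨p.1.2, p.2.2⟩⟩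
      left_inv := fun x => rfl
      right_inv := fun p => rfl }
  rw [Nat.card_congr e, Nat.card_prod]

/-- generators of `B ⋊ T` -/
def wrGensB (B : Subgroup (Fin n → H)) (I : Set (Perm (Fin n))) :
    Set ((Fin n → H) ⋊[permAut n H] Perm (Fin n)) :=
  {x | ∃ b ∈ B, x = SemidirectProduct.inl b} ∪ {x | ∃ t ∈ I, x = SemidirectProduct.inr t}

lemma wrSubB_eq_closure (B : Subgroup (Fin n → H))
    (hB : ∀ σ f, f ∈ B → permAut n H σ f ∈ B) (I : Set (Perm (Fin n))) :
    wrSubB n B hB (Subgroup.closure I) = Subgroup.closure (wrGensB n B I) := by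
  apply le_antisymm
  · rintro x ⟨hx1, hx2⟩
    rw [← SemidirectProduct.inl_left_mul_inr_right x]
    apply Subgroup.mul_mem
    · apply Subgroup.subset_closure
      left
      exact ⟨x.left, hx1, rfl⟩
    · have h1 : (Subgroup.closure I).map
          (SemidirectProduct.inr : _ →* (Fin n → H) ⋊[permAut n H] Perm (Fin n)) ≤
          Subgroup.closure (wrGensB n B I) := by
        rw [MonoidHom.map_closure]
        apply Subgroup.closure_mono
        rintro _ ⟨t, ht, rfl⟩
        right
        exact ⟨t, ht, rfl⟩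
      exact h1 (Subgroup.mem_map_of_mem _ hx2)
  · rw [Subgroup.closure_le]
    rintro x (⟨b, hb, rfl⟩ | ⟨t, ht, rfl⟩)
    · refine ⟨?_, ?_⟩
      · rw [SemidirectProduct.left_inl]; exact hb
      · rw [SemidirectProduct.right_inl]; exact Subgroup.one_mem _
    · refine ⟨?_, ?_⟩
      · rw [SemidirectProduct.left_inr]; exact B.one_mem
      · rw [SemidirectProduct.right_inr]; exact Subgroup.subset_closure ht

end wrB

section perm

/-- the base group of `S_k ≀ Sₘ` acting on `Fin m × Fin k` -/
def basePermK (m k : ℕ) : (Fin m → Perm (Fin k)) →* Perm (Fin m × Fin k) where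
  toFun f := Equiv.prodCongrRight f
  map_one' := by
    apply Equiv.ext
    intro p
    simp [Equiv.prodCongrRight]
  map_mul' f g := by
    apply Equiv.ext
    intro p
    simp [Equiv.prodCongrRight]

/-- the top group of `S_k ≀ Sₘ` acting on `Fin m × Fin k` -/
def topPermK (m k : ℕ) : Perm (Fin m) →* Perm (Fin m × Fin k) where
  toFun σ := Equiv.prodCongrLeft (fun _ => σ)
  map_one' := by
    apply Equiv.ext
    intro p
    simp [Equiv.prodCongrLeft]
  map_mul' f g := by
    apply Equiv.ext
    intro p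
    simp [Equiv.prodCongrLeft]

@[simp] lemma basePermK_apply (m k : ℕ) (f : Fin m → Perm (Fin k)) (p : Fin m × Fin k) :
    basePermK m k f p = (p.1, f p.1 p.2) := rfl

@[simp] lemma topPermK_apply (m k : ℕ) (σ : Perm (Fin m)) (p : Fin m × Fin k) :
    topPermK m k σ p = (σ p.1, p.2) := rfl

/-- `S_k ≀ Sₘ → S_{m × k}` -/
def wrPermK (m k : ℕ) :
    (Fin m → Perm (Fin k)) ⋊[permAut m _] Perm (Fin m) →* Perm (Fin m × Fin k) :=
  SemidirectProduct.lift (basePermK m k) (topPermK m k) (by
    intro σ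
    ext1 f
    simp only [MonoidHom.comp_apply, MulEquiv.coe_toMonoidHom, MulAut.conj_apply]
    rw [eq_mul_inv_iff_mul_eq]
    apply Equiv.ext
    intro p
    simp)

lemma wrPermK_apply (m k : ℕ) (x : (Fin m → Perm (Fin k)) ⋊[permAut m _] Perm (Fin m)) :
    wrPermK m k x = basePermK m k x.left * topPermK m k x.right := rfl

lemma wrPermK_injective (m k : ℕ) [NeZero k] : Function.Injective (wrPermK m k) := by
  rw [injective_iff_map_eq_one]
  intro x hx
  rw [wrPermK_apply] at hx
  have h : ∀ p : Fin m × Fin k, (x.right p.1, x.left (x.right p.1) p.2) = p := by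
    intro p
    have := congrArg (fun e : Perm (Fin m × Fin k) => e p) hx
    simpa using this
  have hσ : x.right = 1 := by
    apply Equiv.ext
    intro i
    have := congrArg Prod.fst (h (i, 0))
    simpa using this
  have hf : x.left = 1 := by
    funext i
    apply Equiv.ext
    intro j
    have := congrArg Prod.snd (h (i, j))
    rw [hσ] at this
    simpa using this
  ext1
  · exact hf
  · exact hσ

lemma sign_basePermK (m k : ℕ) (f : Fin m → Perm (Fin k)) :
    Perm.sign (basePermK m k f) = ∏ i, Perm.sign (f i) :=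
  Perm.sign_prodCongrRight f

lemma sign_topPermK (m k : ℕ) (σ : Perm (Fin m)) :
    Perm.sign (topPermK m k σ) = Perm.sign σ ^ k := by
  have := Perm.sign_prodCongrLeft (α := Fin k) (β := Fin m) (fun _ => σ)
  rw [Finset.prod_const, Finset.card_univ, Fintype.card_fin] at this
  exact this

/-- the full embedding `S_k ≀ Sₘ → S_{m k}` -/
def wrFin (m k : ℕ) :
    (Fin m → Perm (Fin k)) ⋊[permAut m _] Perm (Fin m) →* Perm (Fin (m * k)) :=
  (finProdFinEquiv (m := m) (n := k)).permCongrHom.toMonoidHom.comp (wrPermK m k)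

lemma wrFin_injective (m k : ℕ) [NeZero k] : Function.Injective (wrFin m k) :=
  (finProdFinEquiv (m := m) (n := k)).permCongrHom.injective.comp (wrPermK_injective m k)

lemma sign_wrFin (m k : ℕ) (x : (Fin m → Perm (Fin k)) ⋊[permAut m _] Perm (Fin m)) :
    Perm.sign (wrFin m k x) = (∏ i, Perm.sign (x.left i)) * Perm.sign x.right ^ k := by
  change Perm.sign ((finProdFinEquiv (m := m) (n := k)).permCongr (wrPermK m k x)) = _
  rw [Perm.sign_permCongr, wrPermK_apply, Perm.sign_mul, sign_basePermK, sign_topPermK]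

end perm

section pgen

/-- there is a set of elements of order dividing `p` in `Sₙ` generating a subgroup of order the
`p`-part of `n!` -/
def PGen (p n : ℕ) : Prop :=
  ∃ I : Set (Perm (Fin n)), (∀ t ∈ I, t ^ p = 1) ∧
    Nat.card (Subgroup.closure I) = p ^ padicValNat p n.factorial

lemma pGen_of_injective {p n m : ℕ} (f : Perm (Fin n) →* Perm (Fin m))
    (hf : Function.Injective f)
    (hv : padicValNat p m.factorial = padicValNat p n.factorial) (h : PGen p n) : PGen p m := by
  obtain ⟨I, hI, hc⟩ := h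
  refine ⟨f '' I, ?_, ?_⟩
  · rintro _ ⟨t, ht, rfl⟩
    rw [← map_pow, hI t ht, map_one]
  · rw [← MonoidHom.map_closure, Subgroup.card_map_of_injective hf, hc, hv]

lemma pGen_succ {p n : ℕ} [hp : Fact p.Prime] (hn : ¬ p ∣ n + 1) (h : PGen p n) : PGen p (n + 1) := by
  apply pGen_of_injective (Perm.viaEmbeddingHom (Fin.castSuccEmb (n := n)))
    (Perm.viaEmbeddingHom_injective _) _ h
  rw [Nat.factorial_succ, padicValNat.mul (by omega) (Nat.factorial_ne_zero n),
    padicValNat.eq_zero_of_not_dvd hn, zero_add]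

lemma pGen_mul {p : ℕ} [hp : Fact p.Prime] {m : ℕ} (h : PGen p m) : PGen p (m * p) := by
  classical
  haveI : NeZero p := ⟨hp.out.ne_zero⟩
  obtain ⟨I, hI, hc⟩ := h
  obtain ⟨c, hc0⟩ := exists_prime_orderOf_dvd_card (G := Perm (Fin p)) p (by
    rw [Fintype.card_perm, Fintype.card_fin]
    exact Nat.dvd_factorial hp.out.pos le_rfl)
  set C : Subgroup (Perm (Fin p)) := Subgroup.zpowers c with hC
  have hCcard : Nat.card C = p := by rw [hC, Nat.card_zpowers, hc0]
  have hCpow : ∀ s ∈ C, s ^ p = 1 := by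
    intro s hs
    have := pow_card_eq_one' (G := ↥C) (x := ⟨s, hs⟩)
    rw [hCcard] at this
    exact congrArg Subtype.val this
  refine ⟨wrFin m p '' (wrGens m C I), ?_, ?_⟩
  · rintro _ ⟨x, hx, rfl⟩
    rw [← map_pow]
    rcases hx with ⟨i, s, hs, rfl⟩ | ⟨t, ht, rfl⟩
    · have : (SemidirectProduct.inl (Pi.mulSingle i s) :
          (Fin m → Perm (Fin p)) ⋊[permAut m _] Perm (Fin m)) ^ p = 1 := by
        rw [← map_pow, ← Pi.mulSingle_pow, hCpow s hs, Pi.mulSingle_one, map_one]
      rw [this, map_one]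
    · rw [← map_pow, hI t ht, map_one, map_one]
  · rw [← MonoidHom.map_closure, Subgroup.card_map_of_injective (wrFin_injective m p),
      ← wrSub_eq_closure, card_wrSub, hc, hCcard, mul_comm m p, padicValNat_factorial_mul,
      ← pow_add, add_comm]

theorem pGen_all (p : ℕ) [hp : Fact p.Prime] : ∀ n : ℕ, PGen p n := by
  intro n
  induction n using Nat.strong_induction_on with
  | _ n ih =>
    rcases Nat.eq_zero_or_pos n with rfl | hpos
    · refine ⟨∅, by simp, ?_⟩
      simp
    · obtain ⟨k, rfl⟩ : ∃ k, n = k + 1 := ⟨n - 1, by omega⟩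
      by_cases hd : p ∣ k + 1
      · obtain ⟨r, hr⟩ := hd
        have hp2 := hp.out.two_le
        have hr1 : r < k + 1 := by
          rcases Nat.eq_zero_or_pos r with rfl | h0
          · omega
          · nlinarith
        rw [hr, mul_comm]
        exact pGen_mul (ih r hr1)
      · exact pGen_succ hd (ih k (by omega))

end pgen

end Cfsg.Agent.Lib.Helper44
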