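import Mathlib
import Cfsg.Agent.Lib.Helper44.SymPGen

set_option autoImplicit false

/-! Sylow 2-subgroups of `Sₙ` and `Aₙ` in a unique maximal subgroup: general tools, invariants
(matching, bipartition) of Sylow 2-subgroups of `Sₙ`, and the symmetric group case. -/

namespace Cfsg.Agent.Lib.Helper44.SylMax

open Equiv MulAction Set
open scoped Pointwise
open Cfsg.Agent.Lib.Helper44

section general
variable {G : Type*} [Group G]

lemma not_existsUnique_coatom [Finite G] (R H1 H2 : Subgroup G) (h1 : R ≤ H1) (h2 : R ≤ H2)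
    (hH1 : H1 ≠ ⊤) (hH2 : H2 ≠ ⊤) (hsup : H1 ⊔ H2 = ⊤) :
    ¬ ∃! M : Subgroup G, IsCoatom M ∧ R ≤ M := by
  rintro ⟨M, ⟨hM, hRM⟩, huniq⟩
  obtain ⟨M1, hM1, hle1⟩ := (eq_top_or_exists_le_coatom H1).resolve_left hH1
  obtain ⟨M2, hM2, hle2⟩ := (eq_top_or_exists_le_coatom H2).resolve_left hH2
  have e1 := huniq M1 ⟨hM1, h1.trans hle1⟩
  have e2 := huniq M2 ⟨hM2, h2.trans hle2⟩
  have : H1 ⊔ H2 ≤ M := sup_le (e1 ▸ hle1) (e2 ▸ hle2)
  rw [hsup] at this
  exact hM.1 (top_le_iff.mp this)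

lemma not_existsUnique_of_two_coatoms (R M1 M2 : Subgroup G) (h1 : IsCoatom M1)
    (h2 : IsCoatom M2) (hR1 : R ≤ M1) (hR2 : R ≤ M2) (hne : M1 ≠ M2) :
    ¬ ∃! M : Subgroup G, IsCoatom M ∧ R ≤ M := by
  rintro ⟨M, _, huniq⟩
  exact hne ((huniq M1 ⟨h1, hR1⟩).trans (huniq M2 ⟨h2, hR2⟩).symm)

lemma sylow_conj_into [Finite G] {p : ℕ} [Fact p.Prime] (R : Sylow p G) (T : Subgroup G)
    (hT : IsPGroup p T) : ∃ g : G, ∀ t ∈ T, g * t * g⁻¹ ∈ R := by
  obtain ⟨Q, hQ⟩ := hT.exists_le_sylow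
  obtain ⟨g, hg⟩ := MulAction.exists_smul_eq G Q R
  refine ⟨g, fun t ht => ?_⟩
  rw [← hg]
  have : MulAut.conj g • t ∈ (MulAut.conj g • (Q : Subgroup G)) :=
    Subgroup.smul_mem_pointwise_smul _ _ _ (hQ ht)
  have h2 : g * t * g⁻¹ ∈ MulAut.conj g • (Q : Subgroup G) := by
    simpa [MulAut.smul_def] using this
  exact h2

lemma sylow_le_conj_range [Finite G] {p : ℕ} [Fact p.Prime] (R : Sylow p G)
    {K : Type*} [Group K] [Finite K] (f : K →* G) (hf : Function.Injective f)
    (hv : (Nat.card K).factorization p = (Nat.card G).factorization p) :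
    ∃ g : G, ∀ x ∈ R, ∃ k : K, x = g * f k * g⁻¹ := by
  obtain ⟨Q⟩ : Nonempty (Sylow p K) := inferInstance
  have hcard : Nat.card ((Q : Subgroup K).map f) = p ^ (Nat.card G).factorization p := by
    rw [Subgroup.card_map_of_injective hf, Q.card_eq_multiplicity, hv]
  obtain ⟨g, hg⟩ := MulAction.exists_smul_eq G (Sylow.ofCard _ hcard) R
  refine ⟨g, fun x hx => ?_⟩
  rw [← hg] at hx
  have hx' : x ∈ MulAut.conj g • ((Q : Subgroup K).map f) := hx
  rw [Subgroup.mem_pointwise_smul_iff_inv_smul_mem] at hx'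
  obtain ⟨k, _, hk⟩ := hx'
  refine ⟨k, ?_⟩
  rw [hk]
  simp [MulAut.smul_def, mul_assoc]

lemma isPGroup_two_of_sq (T : Subgroup G) (h : ∀ t ∈ T, t * t = 1) : IsPGroup 2 T := by
  rintro ⟨t, ht⟩
  refine ⟨1, ?_⟩
  ext
  simp [pow_two, h t ht]

end general

section top

variable {α : Type*} [Finite α]

/-- Variant of Mathlib's maximality proof: an overgroup of a set stabilizer for which the
complement is not a block is everything. -/
theorem perm_eq_top_of_stabilizer_lt {s : Set α} (hα : s.ncard ≤ sᶜ.ncard)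
    (G : Subgroup (Perm α)) (hG : stabilizer (Perm α) s < G) (hblk : ¬ IsBlock G sᶜ) :
    G = ⊤ := by
  classical
  have : Fintype α := Fintype.ofFinite α
  have hG' : stabilizer (Perm α) sᶜ < G := by rwa [stabilizer_compl]
  obtain ⟨g, hg_swap, hg⟩ := Equiv.Perm.has_swap_mem_of_lt_stabilizer s G hG
  apply Equiv.Perm.subgroup_eq_top_of_isPreprimitive_of_isSwap_mem _ g hg_swap hg
  have := G.isPretransitive_of_stabilizer_lt hG Equiv.Perm.exists_mem_stabilizer_smul_eq
  apply IsPreprimitive.mk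
  intro B hB
  unfold IsTrivialBlock
  rw [or_iff_not_imp_left]
  intro hB'
  have hB_not_le_sc (B : Set α) (hB : IsBlock G B) (hBsc : B ⊆ sᶜ) :
      B.Subsingleton :=
    hB.subsingleton_of_ssubset_of_stabilizer_Perm_le (hBsc.ssubset_of_ne (by
      rintro rfl
      exact hblk hB)) hG'.le
  have hB_not_le_s (B : Set α) (hB : IsBlock G B) (hBs : B ⊆ s) : B.Subsingleton :=
    have := MulAction.isPreprimitive_stabilizer_subgroup (M := Perm α) hG.le
    hB.subsingleton_of_stabilizer_lt_of_subset hB_not_le_sc hG hBs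
  have hsub : sᶜ ⊆ B := by
    have _ := Equiv.Perm.isMultiplyPretransitive α (s.ncard + 1)
    apply MulAction.IsBlock.compl_subset_of_stabilizer_le_of_not_subset_of_not_subset_compl hG.le
      (fun h => hB' (hB_not_le_s B hB h)) (fun h => hB' (hB_not_le_sc B hB h)) hB
  apply hB.eq_univ_of_card_lt
  have hne : sᶜ ≠ B := by
    rintro rfl
    exact hblk hB
  have hlt : sᶜ.ncard < B.ncard := Set.ncard_lt_ncard (hsub.ssubset_of_ne hne) (Set.toFinite B)
  rw [← Set.ncard_add_ncard_compl s]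
  lia

end top

section topAlt

variable {α : Type*} [Fintype α] [DecidableEq α]

theorem alt_eq_top_of_stabilizer_lt {s : Set α} (h0 : s.Nontrivial) (h1 : sᶜ.Nontrivial)
    (h4 : 4 < Nat.card α) (hs : s.ncard ≤ (sᶜ : Set α).ncard)
    (G : Subgroup (alternatingGroup α)) (hG : stabilizer (alternatingGroup α) s < G)
    (hblk : ¬ IsBlock G sᶜ) : G = ⊤ := by
  have := ncard_add_ncard_compl s
  suffices IsPreprimitive G α from
    alternatingGroup.subgroup_eq_top_of_isPreprimitive h4 G hG.le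
  have := G.isPretransitive_of_stabilizer_lt hG
    (alternatingGroup.exists_mem_stabilizer_smul_eq (Nat.le_of_succ_le h4))
  apply IsPreprimitive.mk
  intro B hB
  rw [IsTrivialBlock, or_iff_not_imp_left]
  intro hB'
  have hB_not_le_sc (B : Set α) (hB : IsBlock G B) (hBsc : B ⊆ sᶜ) :
      B.Subsingleton :=
    IsBlock.subsingleton_of_ssubset_compl_of_stabilizer_alternatingGroup_le h0
      (hBsc.ssubset_of_ne (by
        rintro rfl
        exact hblk hB))
      hG.le hB
  have hB_not_le_s (B : Set α) (hB : IsBlock G B) (hBs : B ⊆ s) :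
      B.Subsingleton :=
    have : IsPreprimitive (stabilizer G s) s :=
      alternatingGroup.stabilizer_subgroup_isPreprimitive h1 hG.le
    hB.subsingleton_of_stabilizer_lt_of_subset hB_not_le_sc hG hBs
  have hsub : sᶜ ⊆ B := by
    suffices IsMultiplyPretransitive (↥(alternatingGroup α)) α (s.ncard + 1) by
      apply hB.compl_subset_of_stabilizer_le_of_not_subset_of_not_subset_compl
        hG.le (fun h => hB' (hB_not_le_s B hB h)) (fun h => hB' (hB_not_le_sc B hB h))
    have := alternatingGroup.isMultiplyPretransitive α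
    apply isMultiplyPretransitive_of_le (n := Nat.card α - 2) _ (Nat.sub_le _ _)
    have : 2 ≤ sᶜ.ncard := by
      rw [← Set.one_lt_ncard_iff_nontrivial] at h1
      omega
    omega
  apply hB.eq_univ_of_card_lt
  have hne : sᶜ ≠ B := by
    rintro rfl
    exact hblk hB
  have hlt : sᶜ.ncard < B.ncard := Set.ncard_lt_ncard (hsub.ssubset_of_ne hne) (Set.toFinite B)
  lia

end topAlt

section inv

lemma perm_fin_two_comm (a b : Perm (Fin 2)) : a * b = b * a := by
  revert a b
  decide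

theorem exists_matching (m : ℕ) (R : Sylow 2 (Perm (Fin (m * 2)))) :
    ∃ ι : Perm (Fin (m * 2)), ι * ι = 1 ∧ (∀ v, ι v ≠ v) ∧ ∀ x ∈ R, x * ι = ι * x := by
  have hv : (Nat.card ((Fin m → Perm (Fin 2)) ⋊[permAut m _] Perm (Fin m))).factorization 2 =
      (Nat.card (Perm (Fin (m * 2)))).factorization 2 := by
    rw [SemidirectProduct.card, Nat.card_fun, Nat.card_perm, Nat.card_perm, Nat.card_perm,
      Nat.card_eq_fintype_card, Nat.card_eq_fintype_card, Nat.card_eq_fintype_card,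
      Fintype.card_fin, Fintype.card_fin, Fintype.card_fin,
      Nat.factorization_def _ Nat.prime_two, Nat.factorization_def _ Nat.prime_two,
      mul_comm m 2, padicValNat_factorial_mul,
      padicValNat.mul (by positivity) (Nat.factorial_ne_zero m)]
    simp [add_comm]
  have : Finite ((Fin m → Perm (Fin 2)) ⋊[permAut m _] Perm (Fin m)) :=
    Finite.of_equiv _ SemidirectProduct.equivProd.symm
  obtain ⟨g, hg⟩ := sylow_le_conj_range R (wrFin m 2) (wrFin_injective m 2) hv
  set z : (Fin m → Perm (Fin 2)) ⋊[permAut m _] Perm (Fin m) :=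
    SemidirectProduct.inl (fun _ => swap 0 1) with hz
  have hzz : z * z = 1 := by
    rw [hz, ← map_mul]
    have : (fun _ : Fin m => (swap 0 1 : Perm (Fin 2))) * (fun _ => swap 0 1) = 1 := by
      funext i
      simp
    rw [this, map_one]
  have hzc : ∀ k : (Fin m → Perm (Fin 2)) ⋊[permAut m _] Perm (Fin m), k * z = z * k := by
    intro k
    ext1
    · rw [SemidirectProduct.mul_left, SemidirectProduct.mul_left]
      funext i
      simp only [hz, SemidirectProduct.left_inl, SemidirectProduct.right_inl, map_one,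
        Pi.mul_apply, permAut_apply]
      simp only [MulAut.one_apply]
      exact perm_fin_two_comm _ _
    · simp [hz]
  have hfix : ∀ w : Fin (m * 2), wrFin m 2 z w ≠ w := by
    intro w hw
    have h1 : wrFin m 2 z w = finProdFinEquiv (wrPermK m 2 z (finProdFinEquiv.symm w)) := rfl
    rw [h1, wrPermK_apply] at hw
    have h2 := congrArg finProdFinEquiv.symm hw
    rw [Equiv.symm_apply_apply] at h2
    have h3 := congrArg Prod.snd h2
    simp [hz] at h3
    have hd : ∀ j : Fin 2, (swap 0 1 : Perm (Fin 2)) j ≠ j := by decide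
    exact hd _ h3
  refine ⟨g * wrFin m 2 z * g⁻¹, ?_, ?_, ?_⟩
  · have : wrFin m 2 z * wrFin m 2 z = 1 := by rw [← map_mul, hzz, map_one]
    calc g * wrFin m 2 z * g⁻¹ * (g * wrFin m 2 z * g⁻¹)
        = g * (wrFin m 2 z * wrFin m 2 z) * g⁻¹ := by group
      _ = 1 := by rw [this]; group
  · intro v hv'
    apply hfix (g⁻¹ v)
    apply g.injective
    have : (g * wrFin m 2 z * g⁻¹) v = g (wrFin m 2 z (g⁻¹ v)) := rfl
    rw [← this, hv']
    simp
  · intro x hx
    obtain ⟨k, rfl⟩ := hg x hx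
    have : wrFin m 2 k * wrFin m 2 z = wrFin m 2 z * wrFin m 2 k := by
      rw [← map_mul, ← map_mul, hzc]
    calc g * wrFin m 2 k * g⁻¹ * (g * wrFin m 2 z * g⁻¹)
        = g * (wrFin m 2 k * wrFin m 2 z) * g⁻¹ := by group
      _ = g * (wrFin m 2 z * wrFin m 2 k) * g⁻¹ := by rw [this]
      _ = g * wrFin m 2 z * g⁻¹ * (g * wrFin m 2 k * g⁻¹) := by group

lemma padicVal_two_pow_factorial (j : ℕ) : padicValNat 2 (2 ^ j).factorial = 2 ^ j - 1 := by
  induction j with
  | zero => simp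
  | succ j ih =>
    rw [pow_succ', padicValNat_factorial_mul, ih]
    have : 1 ≤ 2 ^ j := Nat.one_le_two_pow
    omega

lemma perm_fin_two_cases (σ : Perm (Fin 2)) :
    (∀ i, σ i = 0 ↔ i = 0) ∨ (∀ i, σ i = 0 ↔ i ≠ 0) := by
  revert σ
  decide

theorem exists_bipartition (j : ℕ) (R : Sylow 2 (Perm (Fin (2 * 2 ^ j)))) :
    ∃ B : Set (Fin (2 * 2 ^ j)), B.ncard = 2 ^ j ∧ ∀ x ∈ R, x • B = B ∨ x • B = Bᶜ := by
  have h1 : 1 ≤ 2 ^ j := Nat.one_le_two_pow
  have : NeZero (2 ^ j) := ⟨by omega⟩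
  have hv : (Nat.card ((Fin 2 → Perm (Fin (2 ^ j))) ⋊[permAut 2 _] Perm (Fin 2))).factorization 2 =
      (Nat.card (Perm (Fin (2 * 2 ^ j)))).factorization 2 := by
    rw [SemidirectProduct.card, Nat.card_fun, Nat.card_perm, Nat.card_perm, Nat.card_perm,
      Nat.card_eq_fintype_card, Nat.card_eq_fintype_card, Nat.card_eq_fintype_card,
      Fintype.card_fin, Fintype.card_fin, Fintype.card_fin,
      Nat.factorization_def _ Nat.prime_two, Nat.factorization_def _ Nat.prime_two,
      padicValNat_factorial_mul,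
      padicValNat.mul (pow_ne_zero _ (Nat.factorial_ne_zero _)) (Nat.factorial_ne_zero 2),
      padicValNat.pow, padicVal_two_pow_factorial]
    have : padicValNat 2 (Nat.factorial 2) = 1 := by
      rw [Nat.factorial_two]
      exact padicValNat_self
    rw [this]
    omega
  have : Finite ((Fin 2 → Perm (Fin (2 ^ j))) ⋊[permAut 2 _] Perm (Fin 2)) :=
    Finite.of_equiv _ SemidirectProduct.equivProd.symm
  obtain ⟨g, hg⟩ := sylow_le_conj_range R (wrFin 2 (2 ^ j)) (wrFin_injective 2 (2 ^ j)) hv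
  set B0 : Set (Fin (2 * 2 ^ j)) := {w | (finProdFinEquiv.symm w).1 = 0} with hB0
  have hkey : ∀ (k : (Fin 2 → Perm (Fin (2 ^ j))) ⋊[permAut 2 _] Perm (Fin 2)) (w : Fin (2 * 2 ^ j)),
      (finProdFinEquiv.symm (wrFin 2 (2 ^ j) k w)).1 = k.right (finProdFinEquiv.symm w).1 := by
    intro k w
    have h1 : wrFin 2 (2 ^ j) k w =
        finProdFinEquiv (wrPermK 2 (2 ^ j) k (finProdFinEquiv.symm w)) := rfl
    rw [h1, Equiv.symm_apply_apply, wrPermK_apply]
    simp
  have hsm : ∀ k : (Fin 2 → Perm (Fin (2 ^ j))) ⋊[permAut 2 _] Perm (Fin 2),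
      wrFin 2 (2 ^ j) k • B0 = B0 ∨ wrFin 2 (2 ^ j) k • B0 = B0ᶜ := by
    intro k
    rcases perm_fin_two_cases k.right with hc | hc
    · left
      ext y
      rw [Set.mem_smul_set_iff_inv_smul_mem]
      set w := (wrFin 2 (2 ^ j) k)⁻¹ • y with hw
      have hy : y = wrFin 2 (2 ^ j) k w := by
        rw [hw, Equiv.Perm.smul_def]
        simp
      show (finProdFinEquiv.symm w).1 = 0 ↔ (finProdFinEquiv.symm y).1 = 0
      rw [hy, hkey, hc]
    · right
      ext y
      rw [Set.mem_smul_set_iff_inv_smul_mem]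
      set w := (wrFin 2 (2 ^ j) k)⁻¹ • y with hw
      have hy : y = wrFin 2 (2 ^ j) k w := by
        rw [hw, Equiv.Perm.smul_def]
        simp
      show (finProdFinEquiv.symm w).1 = 0 ↔ ¬ (finProdFinEquiv.symm y).1 = 0
      rw [hy, hkey, hc]
      simp
  refine ⟨g • B0, ?_, ?_⟩
  · rw [Set.ncard_smul_set]
    have : B0 = (fun j' : Fin (2 ^ j) => finProdFinEquiv ((0 : Fin 2), j')) '' Set.univ := by
      ext w
      constructor
      · intro hw
        refine ⟨(finProdFinEquiv.symm w).2, Set.mem_univ _, ?_⟩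
        have : ((0 : Fin 2), (finProdFinEquiv.symm w).2) = finProdFinEquiv.symm w := by
          ext1
          · exact hw.symm
          · rfl
        show finProdFinEquiv ((0 : Fin 2), (finProdFinEquiv.symm w).2) = w
        rw [this, Equiv.apply_symm_apply]
      · rintro ⟨j', _, rfl⟩
        show (finProdFinEquiv.symm (finProdFinEquiv ((0 : Fin 2), j'))).1 = 0
        rw [Equiv.symm_apply_apply]
    rw [this, Set.ncard_image_of_injective, Set.ncard_univ, Nat.card_eq_fintype_card,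
      Fintype.card_fin]
    intro a b hab
    have := finProdFinEquiv.injective hab
    exact (Prod.mk.inj this).2
  · intro x hx
    obtain ⟨k, rfl⟩ := hg x hx
    have e1 : (g * wrFin 2 (2 ^ j) k * g⁻¹) • (g • B0) = g • (wrFin 2 (2 ^ j) k • B0) := by
      rw [smul_smul, smul_smul]
      congr 1
      group
    rw [e1]
    rcases hsm k with h | h
    · left
      rw [h]
    · right
      rw [h, Set.smul_set_compl]

end inv

section symBack

variable {n : ℕ}

lemma exists_swap_mem (hn : 2 ≤ n) (R : Sylow 2 (Perm (Fin n))) :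
    ∃ a b : Fin n, a ≠ b ∧ swap a b ∈ R := by
  let a : Fin n := ⟨0, by omega⟩
  let b : Fin n := ⟨1, by omega⟩
  have hab : a ≠ b := by simp [a, b, Fin.ext_iff]
  have hsw : (swap a b).IsSwap := ⟨a, b, hab, rfl⟩
  have hT : IsPGroup 2 (Subgroup.zpowers (swap a b)) :=
    IsPGroup.of_card (n := 1) (by rw [Nat.card_zpowers, hsw.orderOf, pow_one])
  obtain ⟨g, hg⟩ := sylow_conj_into R _ hT
  refine ⟨g a, g b, fun h => hab (g.injective h), ?_⟩
  have := hg _ (Subgroup.mem_zpowers (swap a b))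
  rwa [← Equiv.swap_apply_apply] at this

lemma exists_cycle_mem {k : ℕ} (hk : 1 ≤ k) (hn : n = 2 ^ k + 1) (R : Sylow 2 (Perm (Fin n))) :
    ∃ c : Perm (Fin n), c ∈ R ∧ c.IsCycle ∧ c.support.card = 2 ^ k := by
  have hl : ((List.finRange n).tail).length = 2 ^ k := by simp [hn]
  have hnd : ((List.finRange n).tail).Nodup := (List.nodup_finRange n).tail
  have h2 : 2 ≤ 2 ^ k := by
    calc 2 = 2 ^ 1 := by norm_num
      _ ≤ 2 ^ k := Nat.pow_le_pow_right (by norm_num) hk
  set c0 := ((List.finRange n).tail).formPerm with hc0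
  have hcyc : c0.IsCycle := List.isCycle_formPerm hnd (by rw [hl]; exact h2)
  have hsupp : c0.support.card = 2 ^ k := by
    rw [hc0, List.support_formPerm_of_nodup _ hnd (by
      intro x hx
      rw [hx] at hl
      simp at hl
      omega), List.toFinset_card_of_nodup hnd, hl]
  have hord : orderOf c0 = 2 ^ k := by rw [hcyc.orderOf, hsupp]
  have hT : IsPGroup 2 (Subgroup.zpowers c0) :=
    IsPGroup.of_card (n := k) (by rw [Nat.card_zpowers, hord])
  obtain ⟨g, hg⟩ := sylow_conj_into R _ hT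
  refine ⟨g * c0 * g⁻¹, hg c0 (Subgroup.mem_zpowers c0), hcyc.conj, ?_⟩
  rw [Equiv.Perm.card_support_conj, hsupp]

lemma two_pretransitive_of {α : Type*} [DecidableEq α] (M : Subgroup (Perm α)) (ω : α)
    (hmove : ∃ h ∈ M, h ω ≠ ω)
    (htr : ∀ u v, u ≠ ω → v ≠ ω → ∃ r ∈ M, r u = v ∧ r ω = ω) :
    IsMultiplyPretransitive M α 2 := by
  obtain ⟨h, hhM, hh⟩ := hmove
  have T1 : ∀ a, ∃ g ∈ M, g a = ω := by
    intro a
    by_cases ha : a = ω
    · exact ⟨1, M.one_mem, by simp [ha]⟩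
    · obtain ⟨r, hr, hra, _⟩ := htr a (h ω) ha hh
      refine ⟨h⁻¹ * r, M.mul_mem (M.inv_mem hhM) hr, ?_⟩
      simp [hra]
  rw [is_two_pretransitive_iff]
  intro a b c d hab hcd
  obtain ⟨g1, hg1, hg1a⟩ := T1 a
  obtain ⟨g2, hg2, hg2c⟩ := T1 c
  have hb' : g1 b ≠ ω := fun e => hab (g1.injective (hg1a.trans e.symm))
  have hd' : g2 d ≠ ω := fun e => hcd (g2.injective (hg2c.trans e.symm))
  obtain ⟨r, hr, hrb, hrω⟩ := htr (g1 b) (g2 d) hb' hd'
  refine ⟨⟨g2⁻¹ * r * g1, M.mul_mem (M.mul_mem (M.inv_mem hg2) hr) hg1⟩, ?_, ?_⟩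
  · show (g2⁻¹ * r * g1) a = c
    rw [Equiv.Perm.mul_apply, Equiv.Perm.mul_apply, hg1a, hrω, ← hg2c]
    simp
  · show (g2⁻¹ * r * g1) b = d
    simp [hrb]

theorem sym_unique {k : ℕ} (hk : 2 ≤ k) (hn : n = 2 ^ k + 1) (R : Sylow 2 (Perm (Fin n))) :
    ∃! M : Subgroup (Perm (Fin n)), IsCoatom M ∧ (R : Subgroup (Perm (Fin n))) ≤ M := by
  have h4 : 4 ≤ 2 ^ k := by
    calc 4 = 2 ^ 2 := by norm_num
      _ ≤ 2 ^ k := Nat.pow_le_pow_right (by norm_num) hk
  have hodd : ¬ 2 ∣ Nat.card (Fin n) := by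
    rw [Nat.card_eq_fintype_card, Fintype.card_fin, hn]
    have : 2 ∣ 2 ^ k := dvd_pow_self 2 (by omega)
    omega
  obtain ⟨ω, hω⟩ := R.isPGroup'.nonempty_fixed_point_of_prime_not_dvd_card (Fin n) hodd
  have hfix : ∀ x ∈ R, x ω = ω := fun x hx => hω ⟨x, hx⟩
  obtain ⟨c, hcR, hcyc, hcard⟩ := exists_cycle_mem (by omega) hn R
  have hsupp : ∀ u, u ≠ ω → u ∈ c.support := by
    have hsub : c.support ⊆ Finset.univ.erase ω := by
      intro u hu
      rw [Finset.mem_erase]
      refine ⟨fun e => ?_, Finset.mem_univ _⟩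
      rw [Equiv.Perm.mem_support] at hu
      exact hu (e ▸ hfix c hcR)
    have heq : c.support = Finset.univ.erase ω := by
      apply Finset.eq_of_subset_of_card_le hsub
      rw [Finset.card_erase_of_mem (Finset.mem_univ _), Finset.card_univ, Fintype.card_fin,
        hcard, hn]
      simp
    intro u hu
    rw [heq]
    simp [hu]
  have htr : ∀ u v, u ≠ ω → v ≠ ω → ∃ r ∈ R, r u = v ∧ r ω = ω := by
    intro u v hu hv
    obtain ⟨i, hi⟩ := hcyc.sameCycle (Equiv.Perm.mem_support.mp (hsupp u hu))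
      (Equiv.Perm.mem_support.mp (hsupp v hv))
    exact ⟨c ^ i, Subgroup.zpow_mem _ hcR i, hi, hfix _ (Subgroup.zpow_mem _ hcR i)⟩
  obtain ⟨a, b, hab, hswap⟩ := exists_swap_mem (by omega) R
  set M0 := stabilizer (Perm (Fin n)) ({ω} : Set (Fin n)) with hM0
  have hM0co : IsCoatom M0 := by
    apply Equiv.Perm.isCoatom_stabilizer
    · exact ⟨ω, rfl⟩
    · obtain ⟨u, hu⟩ : ∃ u : Fin n, u ≠ ω := by
        by_contra hcon
        push Not at hcon
        have : Fintype.card (Fin n) ≤ 1 := Fintype.card_le_one_iff.mpr (fun x y => by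
          rw [hcon x, hcon y])
        rw [Fintype.card_fin] at this
        omega
      exact ⟨u, hu⟩
    · rw [Set.ncard_singleton, Nat.card_eq_fintype_card, Fintype.card_fin]
      omega
  have hRM0 : (R : Subgroup _) ≤ M0 := by
    intro x hx
    rw [hM0, stabilizer_singleton, mem_stabilizer_iff]
    exact hfix x hx
  refine ⟨M0, ⟨hM0co, hRM0⟩, ?_⟩
  rintro M ⟨hM, hRM⟩
  by_contra hne
  have hnle : ¬ M ≤ M0 := by
    intro hle
    rcases hM.le_iff.mp hle with h | h
    · exact hM0co.1 h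
    · exact hne h.symm
  obtain ⟨h, hhM, hh⟩ := SetLike.not_le_iff_exists.mp hnle
  have hhω : h ω ≠ ω := by
    intro e
    apply hh
    rw [hM0, stabilizer_singleton, mem_stabilizer_iff]
    exact e
  have h2 : IsMultiplyPretransitive M (Fin n) 2 :=
    two_pretransitive_of M ω ⟨h, hhM, hhω⟩ (fun u v hu hv => by
      obtain ⟨r, hr, h1, h2⟩ := htr u v hu hv
      exact ⟨r, hRM hr, h1, h2⟩)
  have hprim : IsPreprimitive M (Fin n) := isPreprimitive_of_is_two_pretransitive h2
  exact hM.1 (Equiv.Perm.subgroup_eq_top_of_isPreprimitive_of_isSwap_mem hprim (swap a b)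
    ⟨a, b, hab, rfl⟩ (hRM hswap))

end symBack

end Cfsg.Agent.Lib.Helper44.SylMax
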