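import Mathlib
import Cfsg.Agent.Lib.Helper44.SylMax

set_option autoImplicit false

/-! Sylow 2-subgroups of `Sₙ`: invariant sets and the non-uniqueness of maximal overgroups when
`n ≠ 2 ^ k + 1`. -/

namespace Cfsg.Agent.Lib.Helper44.SylMax

open Equiv MulAction Set
open scoped Pointwise

section sets

variable {n : ℕ}

lemma orbit_ncard_pow (R : Sylow 2 (Perm (Fin n))) (v : Fin n) :
    ∃ i : ℕ, (orbit (↥(R : Subgroup (Perm (Fin n)))) v).ncard = 2 ^ i := by
  obtain ⟨i, hi⟩ := R.isPGroup'.card_orbit v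
  exact ⟨i, by rw [← hi, Nat.card_coe_set_eq]⟩

lemma smul_orbit_eq (R : Subgroup (Perm (Fin n))) (v : Fin n) (x : Perm (Fin n)) (hx : x ∈ R) :
    x • orbit R v = orbit R v :=
  MulAction.smul_orbit (⟨x, hx⟩ : R) v

theorem exists_matching' (hn : Even n) (R : Sylow 2 (Perm (Fin n))) :
    ∃ ι : Perm (Fin n), ι * ι = 1 ∧ (∀ v, ι v ≠ v) ∧ ∀ x ∈ R, x * ι = ι * x := by
  obtain ⟨m, hm⟩ := hn
  obtain rfl : n = m * 2 := by omega
  exact exists_matching m R

theorem exists_bipartition' (j : ℕ) (hn : n = 2 * 2 ^ j) (R : Sylow 2 (Perm (Fin n))) :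
    ∃ B : Set (Fin n), B.ncard = 2 ^ j ∧ ∀ x ∈ R, x • B = B ∨ x • B = Bᶜ := by
  subst hn
  exact exists_bipartition j R

/-- `n` odd, `n - 1` not a power of two: a fixed point and an invariant set avoiding it and two
further points. -/
lemma odd_sets (hn : 5 ≤ n) (hodd : Odd n) (hpow : ∀ i, n ≠ 2 ^ i + 1)
    (R : Sylow 2 (Perm (Fin n))) :
    ∃ (ω : Fin n) (O : Set (Fin n)), (∀ x ∈ R, x ω = ω) ∧ (∀ x ∈ R, x • O = O) ∧ ω ∉ O ∧
      O.Nonempty ∧ ∃ q1 q2 : Fin n, q1 ≠ q2 ∧ q1 ≠ ω ∧ q2 ≠ ω ∧ q1 ∉ O ∧ q2 ∉ O := by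
  have hnd : ¬ 2 ∣ Nat.card (Fin n) := by
    rw [Nat.card_eq_fintype_card, Fintype.card_fin]
    exact hodd.not_two_dvd_nat
  obtain ⟨ω, hω⟩ := R.isPGroup'.nonempty_fixed_point_of_prime_not_dvd_card (Fin n) hnd
  have hfix : ∀ x ∈ R, x ω = ω := fun x hx => hω ⟨x, hx⟩
  obtain ⟨v, hv⟩ : ∃ v : Fin n, v ≠ ω := by
    by_contra hcon
    push Not at hcon
    have : Fintype.card (Fin n) ≤ 1 := Fintype.card_le_one_iff.mpr (fun x y => by
      rw [hcon x, hcon y])
    rw [Fintype.card_fin] at this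
    omega
  set O := orbit (↥(R : Subgroup (Perm (Fin n)))) v with hO
  have hωO : ω ∉ O := by
    rintro ⟨⟨x, hx⟩, hxv⟩
    apply hv
    have h1 : x v = ω := hxv
    have h2 : x ω = ω := hfix x hx
    exact x.injective (h1.trans h2.symm)
  obtain ⟨i, hi⟩ := orbit_ncard_pow R v
  have hOne : O.Nonempty := ⟨v, mem_orbit_self v⟩
  -- the complement of `O ∪ {ω}` has at least two elements
  have hcard : (insert ω O).ncard = 2 ^ i + 1 := by
    rw [Set.ncard_insert_of_notMem hωO (Set.toFinite O), hi]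
  have hcompl : (insert ω O).ncard + (insert ω O)ᶜ.ncard = n := by
    rw [Set.ncard_add_ncard_compl, Nat.card_eq_fintype_card, Fintype.card_fin]
  have hge : 2 ≤ (insert ω O)ᶜ.ncard := by
    have h1 : n ≠ 2 ^ i + 1 := hpow i
    have h2 : n ≠ 2 ^ i + 2 := by
      intro h
      rcases Nat.eq_zero_or_pos i with rfl | hpos
      · norm_num at h
        omega
      · obtain ⟨r, hr⟩ := hodd
        have : 2 ∣ 2 ^ i := dvd_pow_self 2 (by omega)
        omega
    omega
  obtain ⟨q1, q2, hq1, hq2, hne⟩ := (Set.one_lt_ncard_iff (Set.toFinite (insert ω O)ᶜ)).mp (by omega)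
  rw [Set.mem_compl_iff, Set.mem_insert_iff, not_or] at hq1 hq2
  exact ⟨ω, O, hfix, fun x hx => smul_orbit_eq _ v x hx, hωO, hOne, q1, q2, hne, hq1.1, hq2.1,
    hq1.2, hq2.2⟩

/-- `n` even, not a power of two: an invariant set and an invariant matching. -/
lemma even_sets (hn : 5 ≤ n) (heven : Even n) (hpow : ∀ i, n ≠ 2 ^ i)
    (R : Sylow 2 (Perm (Fin n))) :
    ∃ (O : Set (Fin n)) (ι : Perm (Fin n)), (∀ x ∈ R, x • O = O) ∧ O.Nonempty ∧ Oᶜ.Nonempty ∧
      n ≠ 2 * O.ncard ∧ ι * ι = 1 ∧ (∀ v, ι v ≠ v) ∧ ∀ x ∈ R, x * ι = ι * x := by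
  obtain ⟨ι, h1, h2, h3⟩ := exists_matching' heven R
  let v : Fin n := ⟨0, by omega⟩
  set O := orbit (↥(R : Subgroup (Perm (Fin n)))) v with hO
  obtain ⟨i, hi⟩ := orbit_ncard_pow R v
  refine ⟨O, ι, fun x hx => smul_orbit_eq _ v x hx, ⟨v, mem_orbit_self v⟩, ?_, ?_, h1, h2, h3⟩
  · rw [Set.nonempty_compl]
    intro h
    rw [hO] at h
    rw [h, Set.ncard_univ, Nat.card_eq_fintype_card, Fintype.card_fin] at hi
    exact hpow i hi
  · rw [hO, hi, ← pow_succ']
    exact hpow (i + 1)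

end sets

section comm

variable {α : Type*} [Fintype α] [DecidableEq α]

lemma exists_pq (h3 : 3 ≤ Fintype.card α) (S : Set α) (hS : S.Nonempty) (hSc : Sᶜ.Nonempty)
    (ι : Perm α) : ∃ p q, p ∈ S ∧ q ∉ S ∧ q ≠ ι p := by
  obtain ⟨p0, hp0⟩ := hS
  obtain ⟨q0, hq0⟩ := hSc
  by_cases h : q0 = ι p0
  · obtain ⟨w, hw1, hw2⟩ : ∃ w, w ≠ p0 ∧ w ≠ q0 := by
      by_contra hcon
      push Not at hcon
      have : Fintype.card α ≤ 2 := by
        calc Fintype.card α = (Finset.univ : Finset α).card := rfl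
          _ ≤ ({p0, q0} : Finset α).card := Finset.card_le_card (fun x _ => by
              by_cases hx : x = p0
              · simp [hx]
              · simp [hcon x hx])
          _ ≤ 2 := Finset.card_le_two
      omega
    by_cases hwS : w ∈ S
    · refine ⟨w, q0, hwS, hq0, ?_⟩
      intro e
      exact hw1 (ι.injective (e.symm.trans h))
    · exact ⟨p0, w, hp0, hwS, fun e => hw2 (e.trans h.symm)⟩
  · exact ⟨p0, q0, hp0, hq0, h⟩

/-- the element `(p q)(ιp ιq)` -/
def dswap (ι : Perm α) (p q : α) : Perm α := swap p q * swap (ι p) (ι q)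

omit [Fintype α] [DecidableEq α] in
lemma invol_apply {ι : Perm α} (hι : ι * ι = 1) (v : α) : ι (ι v) = v := by
  have := congrArg (fun e : Perm α => e v) hι
  simpa using this

lemma swap_comm_of_disjoint {a b c d : α} (hab : a ≠ b) (hcd : c ≠ d) (hac : a ≠ c) (had : a ≠ d)
    (hbc : b ≠ c) (hbd : b ≠ d) : swap a b * swap c d = swap c d * swap a b := by
  have : Equiv.Perm.Disjoint (swap a b) (swap c d) := by
    rw [Equiv.Perm.disjoint_iff_disjoint_support, Equiv.Perm.support_swap hab,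
      Equiv.Perm.support_swap hcd, Finset.disjoint_left]
    intro x hx hx'
    simp only [Finset.mem_insert, Finset.mem_singleton] at hx hx'
    rcases hx with rfl | rfl <;> rcases hx' with rfl | rfl <;> simp_all
  exact this.commute

lemma dswap_comm {ι : Perm α} (hι : ι * ι = 1) (hf : ∀ v, ι v ≠ v) {p q : α} (hpq : p ≠ q)
    (hq : q ≠ ι p) : dswap ι p q * ι = ι * dswap ι p q := by
  have hqp : p ≠ ι q := fun e => hq (by rw [e, invol_apply hι])
  unfold dswap
  have e1 : ι * swap p q = swap (ι p) (ι q) * ι := Equiv.mul_swap_eq_swap_mul ι p q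
  have e2 : ι * swap (ι p) (ι q) = swap p q * ι := by
    have := Equiv.mul_swap_eq_swap_mul ι (ι p) (ι q)
    rwa [invol_apply hι, invol_apply hι] at this
  have e3 : swap (ι p) (ι q) * swap p q = swap p q * swap (ι p) (ι q) :=
    swap_comm_of_disjoint (fun e => hpq (ι.injective e)) hpq (hf p) (Ne.symm hq) (Ne.symm hqp)
      (hf q)
  calc swap p q * swap (ι p) (ι q) * ι = swap (ι p) (ι q) * swap p q * ι := by rw [e3]
    _ = swap (ι p) (ι q) * (swap p q * ι) := by rw [mul_assoc]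
    _ = swap (ι p) (ι q) * (ι * swap (ι p) (ι q)) := by rw [e2]
    _ = (swap (ι p) (ι q) * ι) * swap (ι p) (ι q) := by rw [mul_assoc]
    _ = (ι * swap p q) * swap (ι p) (ι q) := by rw [e1]
    _ = ι * (swap p q * swap (ι p) (ι q)) := by rw [mul_assoc]

omit [Fintype α] in
lemma dswap_apply_left {ι : Perm α} (hι : ι * ι = 1) (hf : ∀ v, ι v ≠ v) {p q : α}
    (hq : q ≠ ι p) : dswap ι p q p = q := by
  have hqp : p ≠ ι q := fun e => hq (by rw [e, invol_apply hι])
  unfold dswap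
  rw [Equiv.Perm.mul_apply, Equiv.swap_apply_of_ne_of_ne (Ne.symm (hf p)) hqp,
    Equiv.swap_apply_left]

omit [Fintype α] [DecidableEq α] in
lemma ncard_triple_le (a b c : α) : ({a, b, c} : Set α).ncard ≤ 3 := by
  calc ({a, b, c} : Set α).ncard ≤ ({b, c} : Set α).ncard + 1 := Set.ncard_insert_le _ _
    _ ≤ (({c} : Set α).ncard + 1) + 1 := Nat.add_le_add_right (Set.ncard_insert_le _ _) 1
    _ = 3 := by rw [Set.ncard_singleton]

omit [Fintype α] in
lemma swap_not_comm {ι : Perm α} (hι : ι * ι = 1) (hf : ∀ v, ι v ≠ v) {p q : α} (hpq : p ≠ q)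
    (hq : q ≠ ι p) : swap p q ∉ Subgroup.centralizer ({ι} : Set (Perm α)) := by
  have hqp : p ≠ ι q := fun e => hq (by rw [e, invol_apply hι])
  intro hmem
  rw [Subgroup.mem_centralizer_iff] at hmem
  have h1 := hmem ι rfl
  rw [Equiv.mul_swap_eq_swap_mul] at h1
  have h2 : swap (ι p) (ι q) = swap p q := mul_right_cancel h1
  have h3 := congrArg (fun e : Perm α => e p) h2
  simp only [Equiv.swap_apply_left] at h3
  rw [Equiv.swap_apply_of_ne_of_ne (Ne.symm (hf p)) hqp] at h3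
  exact hpq h3

omit [Fintype α] in
lemma dswap_apply_of_ne {ι : Perm α} {p q w : α} (h1 : w ≠ p) (h2 : w ≠ q) (h3 : w ≠ ι p)
    (h4 : w ≠ ι q) : dswap ι p q w = w := by
  unfold dswap
  rw [Equiv.Perm.mul_apply, Equiv.swap_apply_of_ne_of_ne h3 h4, Equiv.swap_apply_of_ne_of_ne h1 h2]

lemma sign_dswap {ι : Perm α} {p q : α} (hpq : p ≠ q) : Equiv.Perm.sign (dswap ι p q) = 1 := by
  unfold dswap
  rw [Equiv.Perm.sign_mul, Equiv.Perm.sign_swap hpq,
    Equiv.Perm.sign_swap (fun e => hpq (ι.injective e))]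
  rfl

end comm

section symFwd

variable {n : ℕ}

theorem sym_not_unique_odd (hn : 5 ≤ n) (hodd : Odd n) (hpow : ∀ i, n ≠ 2 ^ i + 1)
    (R : Sylow 2 (Perm (Fin n))) :
    ¬ ∃! M : Subgroup (Perm (Fin n)), IsCoatom M ∧ (R : Subgroup (Perm (Fin n))) ≤ M := by
  obtain ⟨ω, O, hfix, hO, hωO, hOne, q1, q2, hne, hq1, hq2, hq1O, hq2O⟩ :=
    odd_sets hn hodd hpow R
  have hcard : Nat.card (Fin n) = n := by simp
  have hM1 : IsCoatom (stabilizer (Perm (Fin n)) ({ω} : Set (Fin n))) := by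
    apply Equiv.Perm.isCoatom_stabilizer (s := ({ω} : Set (Fin n))) (Set.singleton_nonempty ω)
      ⟨q1, by simpa using hq1⟩
    rw [Set.ncard_singleton, hcard]
    omega
  have hM2 : IsCoatom (stabilizer (Perm (Fin n)) O) := by
    apply Equiv.Perm.isCoatom_stabilizer hOne ⟨ω, hωO⟩
    rw [hcard]
    intro h
    obtain ⟨r, hr⟩ := hodd
    omega
  apply not_existsUnique_of_two_coatoms _ _ _ hM1 hM2
  · intro x hx
    rw [stabilizer_singleton, mem_stabilizer_iff]
    exact hfix x hx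
  · intro x hx
    exact mem_stabilizer_iff.mpr (hO x hx)
  · intro heq
    have hmem : swap ω q1 ∈ stabilizer (Perm (Fin n)) O := by
      rw [← stabilizer_compl]
      exact Equiv.Perm.swap_mem_stabilizer hωO hq1O
    rw [← heq, stabilizer_singleton, mem_stabilizer_iff, Equiv.Perm.smul_def,
      Equiv.swap_apply_left] at hmem
    exact hq1 hmem

theorem sym_not_unique_even (hn : 5 ≤ n) (heven : Even n) (hpow : ∀ i, n ≠ 2 ^ i)
    (R : Sylow 2 (Perm (Fin n))) :
    ¬ ∃! M : Subgroup (Perm (Fin n)), IsCoatom M ∧ (R : Subgroup (Perm (Fin n))) ≤ M := by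
  obtain ⟨O, ι, hO, hOne, hOc, hcardO, hι, hf, hc⟩ := even_sets hn heven hpow R
  have hcard : Nat.card (Fin n) = n := by simp
  have hM1 : IsCoatom (stabilizer (Perm (Fin n)) O) :=
    Equiv.Perm.isCoatom_stabilizer hOne hOc (by rw [hcard]; exact hcardO)
  obtain ⟨p, q, hp, hq, hqp⟩ := exists_pq (by rw [Fintype.card_fin]; omega) O hOne hOc ι
  have hpq : p ≠ q := fun e => hq (e ▸ hp)
  have hcomm : dswap ι p q * ι = ι * dswap ι p q := dswap_comm hι hf hpq hqp
  have hnot : dswap ι p q ∉ stabilizer (Perm (Fin n)) O := by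
    intro hmem
    rw [mem_stabilizer_iff] at hmem
    have : dswap ι p q • p ∈ dswap ι p q • O := Set.smul_mem_smul_set hp
    rw [hmem, Equiv.Perm.smul_def, dswap_apply_left hι hf hqp] at this
    exact hq this
  have hin : dswap ι p q ∈ Subgroup.centralizer ({ι} : Set (Perm (Fin n))) := by
    rw [Subgroup.mem_centralizer_iff]
    rintro y rfl
    exact hcomm.symm
  apply not_existsUnique_coatom _ (stabilizer (Perm (Fin n)) O)
    (Subgroup.centralizer ({ι} : Set (Perm (Fin n))))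
  · intro x hx
    exact mem_stabilizer_iff.mpr (hO x hx)
  · intro x hx
    rw [Subgroup.mem_centralizer_iff]
    rintro y rfl
    exact (hc x hx).symm
  · exact hM1.1
  · intro htop
    have : swap p q ∈ Subgroup.centralizer ({ι} : Set (Perm (Fin n))) := by
      rw [htop]
      exact Subgroup.mem_top _
    exact swap_not_comm hι hf hpq hqp this
  · apply hM1.2
    apply lt_of_le_of_ne le_sup_left
    intro heq
    apply hnot
    rw [heq]
    exact Subgroup.mem_sup_right hin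

/-- the stabilizer of a bipartition `{B, Bᶜ}` -/
def bipStab (B : Set (Fin n)) : Subgroup (Perm (Fin n)) where
  carrier := {x | x • B = B ∨ x • B = Bᶜ}
  one_mem' := Or.inl (one_smul _ _)
  mul_mem' := by
    rintro x y hx hy
    show (x * y) • B = B ∨ (x * y) • B = Bᶜ
    rw [mul_smul]
    rcases hy with hy | hy <;> rcases hx with hx | hx
    · left; rw [hy, hx]
    · right; rw [hy, hx]
    · right; rw [hy, Set.smul_set_compl, hx]
    · left; rw [hy, Set.smul_set_compl, hx, compl_compl]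
  inv_mem' := by
    rintro x hx
    show x⁻¹ • B = B ∨ x⁻¹ • B = Bᶜ
    rcases hx with hx | hx
    · left
      rw [inv_smul_eq_iff, hx]
    · right
      rw [inv_smul_eq_iff, Set.smul_set_compl, hx, compl_compl]

lemma mem_bipStab (B : Set (Fin n)) (x : Perm (Fin n)) :
    x ∈ bipStab B ↔ x • B = B ∨ x • B = Bᶜ := Iff.rfl

/-- data for the power of two case -/
lemma pow_sets (j : ℕ) (hj : 2 ≤ j) (hn : n = 2 * 2 ^ j) (R : Sylow 2 (Perm (Fin n))) :
    ∃ (B : Set (Fin n)) (ι : Perm (Fin n)) (p q w1 w2 : Fin n),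
      B.ncard = 2 ^ j ∧ Bᶜ.ncard = 2 ^ j ∧ (∀ x ∈ R, x • B = B ∨ x • B = Bᶜ) ∧
      ι * ι = 1 ∧ (∀ v, ι v ≠ v) ∧ (∀ x ∈ R, x * ι = ι * x) ∧ p ∈ B ∧ q ∉ B ∧ q ≠ ι p ∧
      w1 ∈ B ∧ dswap ι p q w1 = w1 ∧ w2 ∉ B ∧ dswap ι p q w2 = w2 := by
  obtain ⟨B, hBcard, hB⟩ := exists_bipartition' j hn R
  obtain ⟨ι, hι, hf, hc⟩ := exists_matching' ⟨2 ^ j, by omega⟩ R
  have h4 : 4 ≤ 2 ^ j := by
    calc 4 = 2 ^ 2 := by norm_num
      _ ≤ 2 ^ j := Nat.pow_le_pow_right (by norm_num) hj
  have hBc : Bᶜ.ncard = 2 ^ j := by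
    have := Set.ncard_add_ncard_compl B
    rw [Nat.card_eq_fintype_card, Fintype.card_fin] at this
    omega
  have hBne : B.Nonempty := by
    rw [← Set.ncard_pos]
    omega
  have hBcne : Bᶜ.Nonempty := by
    rw [← Set.ncard_pos]
    omega
  obtain ⟨p, q, hp, hq, hqp⟩ := exists_pq (by rw [Fintype.card_fin]; omega) B hBne hBcne ι
  have hpq : p ≠ q := fun e => hq (e ▸ hp)
  obtain ⟨w1, hw1B, hw1⟩ := Set.exists_mem_notMem_of_ncard_lt_ncard
    (s := ({p, ι p, ι q} : Set (Fin n))) (t := B) (by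
      have : ({p, ι p, ι q} : Set (Fin n)).ncard ≤ 3 := ncard_triple_le _ _ _
      omega)
  obtain ⟨w2, hw2B, hw2⟩ := Set.exists_mem_notMem_of_ncard_lt_ncard
    (s := ({q, ι p, ι q} : Set (Fin n))) (t := Bᶜ) (by
      have : ({q, ι p, ι q} : Set (Fin n)).ncard ≤ 3 := ncard_triple_le _ _ _
      omega)
  simp only [Set.mem_insert_iff, Set.mem_singleton_iff, not_or] at hw1 hw2
  refine ⟨B, ι, p, q, w1, w2, hBcard, hBc, hB, hι, hf, hc, hp, hq, hqp, hw1B, ?_, hw2B, ?_⟩
  · exact dswap_apply_of_ne hw1.1 (fun e => hq (e ▸ hw1B)) hw1.2.1 hw1.2.2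
  · exact dswap_apply_of_ne (fun e => hw2B (e ▸ hp)) hw2.1 hw2.2.1 hw2.2.2

theorem sym_not_unique_pow (j : ℕ) (hj : 2 ≤ j) (hn : n = 2 * 2 ^ j)
    (R : Sylow 2 (Perm (Fin n))) :
    ¬ ∃! M : Subgroup (Perm (Fin n)), IsCoatom M ∧ (R : Subgroup (Perm (Fin n))) ≤ M := by
  obtain ⟨B, ι, p, q, w1, w2, hBcard, hBc, hB, hι, hf, hc, hp, hq, hqp, hw1B, hw1, hw2B, hw2⟩ :=
    pow_sets j hj hn R
  have hpq : p ≠ q := fun e => hq (e ▸ hp)
  have hcomm : dswap ι p q * ι = ι * dswap ι p q := dswap_comm hι hf hpq hqp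
  have hin : dswap ι p q ∈ Subgroup.centralizer ({ι} : Set (Perm (Fin n))) := by
    rw [Subgroup.mem_centralizer_iff]
    rintro y rfl
    exact hcomm.symm
  have hhq : dswap ι p q • p = q := dswap_apply_left hι hf hqp
  -- `h • B ≠ B` and `h • B ≠ Bᶜ`
  have hne1 : dswap ι p q • B ≠ B := by
    intro e
    have : dswap ι p q • p ∈ dswap ι p q • B := Set.smul_mem_smul_set hp
    rw [e, hhq] at this
    exact hq this
  have hne2 : dswap ι p q • B ≠ Bᶜ := by
    intro e
    have : dswap ι p q • w1 ∈ dswap ι p q • B := Set.smul_mem_smul_set hw1B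
    rw [e, Equiv.Perm.smul_def, hw1] at this
    exact this hw1B
  have hnot : dswap ι p q ∉ bipStab B := by
    rw [mem_bipStab]
    rintro (e | e)
    · exact hne1 e
    · exact hne2 e
  apply not_existsUnique_coatom _ (Subgroup.centralizer ({ι} : Set (Perm (Fin n)))) (bipStab B)
  · intro x hx
    rw [Subgroup.mem_centralizer_iff]
    rintro y rfl
    exact (hc x hx).symm
  · intro x hx
    exact hB x hx
  · intro htop
    have : swap p q ∈ Subgroup.centralizer ({ι} : Set (Perm (Fin n))) := by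
      rw [htop]
      exact Subgroup.mem_top _
    exact swap_not_comm hι hf hpq hqp this
  · intro htop
    apply hnot
    rw [htop]
    exact Subgroup.mem_top _
  · apply perm_eq_top_of_stabilizer_lt (s := B) (by rw [hBcard, hBc])
    · apply lt_of_le_of_ne
      · intro x hx
        apply Subgroup.mem_sup_right
        rw [mem_bipStab]
        left
        exact mem_stabilizer_iff.mp hx
      · intro heq
        have h1 : dswap ι p q ∈ stabilizer (Perm (Fin n)) B := by
          rw [heq]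
          exact Subgroup.mem_sup_left hin
        exact hne1 (mem_stabilizer_iff.mp h1)
    · intro hblk
      have hK : dswap ι p q ∈ Subgroup.centralizer ({ι} : Set (Perm (Fin n))) ⊔ bipStab B :=
        Subgroup.mem_sup_left hin
      rcases isBlock_iff_smul_eq_or_disjoint.mp hblk ⟨dswap ι p q, hK⟩ with e | e
      · have e' : dswap ι p q • Bᶜ = Bᶜ := e
        rw [Set.smul_set_compl, compl_inj_iff] at e'
        exact hne1 e'
      · have e' : Disjoint (dswap ι p q • Bᶜ) Bᶜ := e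
        rw [Set.disjoint_left] at e'
        apply e' (a := w2) _ hw2B
        have : dswap ι p q • w2 ∈ dswap ι p q • Bᶜ := Set.smul_mem_smul_set hw2B
        rwa [Equiv.Perm.smul_def, hw2] at this

end symFwd

section symIff

variable {n : ℕ}

theorem sym_iff (hn : 5 ≤ n) (R : Sylow 2 (Perm (Fin n))) :
    (∃! M : Subgroup (Perm (Fin n)), IsCoatom M ∧ (R : Subgroup (Perm (Fin n))) ≤ M) ↔
      ∃ k : ℕ, 2 ≤ k ∧ n = 2 ^ k + 1 := by
  constructor
  · intro h
    by_contra hcon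
    push Not at hcon
    rcases Nat.even_or_odd n with heven | hodd
    · by_cases hp : ∃ i, n = 2 ^ i
      · obtain ⟨i, hi⟩ := hp
        have hi3 : 3 ≤ i := by
          by_contra hlt
          have : i ≤ 2 := by omega
          have : 2 ^ i ≤ 2 ^ 2 := Nat.pow_le_pow_right (by norm_num) this
          omega
        obtain ⟨j, rfl⟩ : ∃ j, i = j + 1 := ⟨i - 1, by omega⟩
        exact sym_not_unique_pow j (by omega) (by rw [hi, pow_succ']) R h
      · push Not at hp
        exact sym_not_unique_even hn heven hp R h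
    · apply sym_not_unique_odd hn hodd _ R h
      intro i hi
      apply hcon i _ hi
      by_contra hlt
      have : i ≤ 1 := by omega
      have : 2 ^ i ≤ 2 ^ 1 := Nat.pow_le_pow_right (by norm_num) this
      omega
  · rintro ⟨k, hk, hnk⟩
    exact sym_unique hk hnk R

end symIff

end Cfsg.Agent.Lib.Helper44.SylMax
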