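import Mathlib
import Cfsg.Agent.Lib.Helper44.SylMaxSym

set_option autoImplicit false

/-! A 2-element of a symmetric group in a unique Sylow 2-subgroup: the even-degree reduction.
For a fixed-point-free involution `ι` the centralizer of `ι` maps onto the symmetric group of the
set `PQ ι` of `ι`-orbits, with a 2-group as kernel, and every Sylow 2-subgroup centralizes such
an `ι`. -/

namespace Cfsg.Agent.Lib.Helper44.UniqSyl

open Equiv Equiv.Perm
open Cfsg.Agent.Lib.Helper44.SylMax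

universe u

section general

variable {G : Type*} [Group G]

/-- membership in exactly one Sylow 2-subgroup -/
def Uniq (x : G) : Prop := ∃! P : Sylow 2 G, x ∈ P

lemma exists_sylow_mem [Finite G] (g : G) (hg : ∃ k : ℕ, g ^ (2 ^ k) = 1) :
    ∃ P : Sylow 2 G, g ∈ P := by
  obtain ⟨k, hk⟩ := hg
  have hP : IsPGroup 2 (Subgroup.zpowers g) := by
    rintro ⟨y, hy⟩
    obtain ⟨i, rfl⟩ := Subgroup.mem_zpowers_iff.mp hy
    refine ⟨k, ?_⟩
    ext
    simp only [Subgroup.coe_pow, Subgroup.coe_one]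
    rw [← zpow_natCast, ← zpow_mul, mul_comm, zpow_mul, zpow_natCast, hk, one_zpow]
  obtain ⟨P, hP⟩ := hP.exists_le_sylow
  exact ⟨P, hP (Subgroup.mem_zpowers g)⟩

lemma uniq_of_subsingleton [Subsingleton G] (x : G) : Uniq x := by
  obtain ⟨P⟩ : Nonempty (Sylow 2 G) := inferInstance
  refine ⟨P, ?_, ?_⟩
  · rw [Subsingleton.elim x 1]
    exact one_mem _
  · intro Q _
    apply Sylow.ext
    exact Subsingleton.elim _ _

end general

variable {α : Type u}

/-- fixed-point-free involution -/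
structure FPF (ι : Perm α) : Prop where
  sq : ι * ι = 1
  ne : ∀ v, ι v ≠ v

/-- the set of orbits of `ι` -/
abbrev PQ (ι : Perm α) : Type u := Quotient (SameCycle.setoid ι)

/-- the class of a point -/
def pmk (ι : Perm α) (v : α) : PQ ι := Quotient.mk _ v

lemma zpow_invol {ι : Perm α} (hι : ι * ι = 1) (i : ℤ) : ι ^ i = 1 ∨ ι ^ i = ι := by
  have h2 : ι ^ (2 : ℤ) = 1 := by
    rw [zpow_two]
    exact hι
  rcases Int.even_or_odd' i with ⟨k, rfl | rfl⟩
  · left
    rw [zpow_mul, h2, one_zpow]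
  · right
    rw [zpow_add, zpow_mul, h2, one_zpow, zpow_one, one_mul]

lemma sameCycle_invol {ι : Perm α} (hι : ι * ι = 1) (v w : α) :
    SameCycle ι v w ↔ w = v ∨ w = ι v := by
  constructor
  · rintro ⟨i, rfl⟩
    rcases zpow_invol hι i with h | h
    · left
      rw [h]
      rfl
    · right
      rw [h]
  · rintro (rfl | rfl)
    · exact SameCycle.refl _ _
    · exact ⟨1, by simp⟩

lemma pmk_eq_iff {ι : Perm α} (hι : ι * ι = 1) (v w : α) :
    pmk ι v = pmk ι w ↔ w = v ∨ w = ι v := by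
  rw [← sameCycle_invol hι]
  exact Quotient.eq

lemma pmk_invol (ι : Perm α) (v : α) : pmk ι (ι v) = pmk ι v := by
  apply Quotient.sound
  exact ⟨-1, by simp⟩

lemma pmk_surjective (ι : Perm α) : Function.Surjective (pmk ι) := Quotient.mk_surjective

/-- the centralizer of `ι` -/
abbrev Cent (ι : Perm α) : Subgroup (Perm α) := Subgroup.centralizer ({ι} : Set (Perm α))

lemma mem_cent {ι g : Perm α} : g ∈ Cent ι ↔ g * ι = ι * g := by
  rw [Subgroup.mem_centralizer_iff]
  constructor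
  · intro h
    exact (h ι rfl).symm
  · intro h k hk
    rw [Set.mem_singleton_iff] at hk
    rw [hk]
    exact h.symm

lemma cent_apply {ι g : Perm α} (hg : g ∈ Cent ι) (v : α) : g (ι v) = ι (g v) := by
  have := congrArg (fun e : Perm α => e v) (mem_cent.mp hg)
  simpa using this

lemma cent_sameCycle {ι g : Perm α} (hg : g ∈ Cent ι) {a b : α} (h : SameCycle ι a b) :
    SameCycle ι (g a) (g b) := by
  obtain ⟨i, rfl⟩ := h
  refine ⟨i, ?_⟩
  have hc : Commute g ι := mem_cent.mp hg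
  have := congrArg (fun e : Perm α => e a) (hc.zpow_right i).eq
  simpa using this.symm

instance pqAction (ι : Perm α) : MulAction (Cent ι) (PQ ι) where
  smul g q := Quotient.map (g : Perm α) (fun _ _ h => cent_sameCycle g.2 h) q
  one_smul q := by
    induction q using Quotient.inductionOn
    rfl
  mul_smul g h q := by
    induction q using Quotient.inductionOn
    rfl

/-- the action of the centralizer on the orbits -/
def piHom (ι : Perm α) : Cent ι →* Perm (PQ ι) := MulAction.toPermHom (Cent ι) (PQ ι)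

lemma piHom_pmk (ι : Perm α) (g : Cent ι) (v : α) :
    piHom ι g (pmk ι v) = pmk ι ((g : Perm α) v) := rfl

lemma piHom_pow_pmk (ι : Perm α) (g : Cent ι) (k : ℕ) (v : α) :
    ((piHom ι g) ^ k) (pmk ι v) = pmk ι (((g : Perm α) ^ k) v) := by
  rw [← map_pow, piHom_pmk]
  rfl

lemma piHom_eq_one_iff {ι : Perm α} (hι : ι * ι = 1) (g : Cent ι) :
    piHom ι g = 1 ↔ ∀ v, (g : Perm α) v = v ∨ (g : Perm α) v = ι v := by
  constructor
  · intro h v
    have h1 : piHom ι g (pmk ι v) = pmk ι v := by rw [h]; rfl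
    rw [piHom_pmk, eq_comm, pmk_eq_iff hι] at h1
    exact h1
  · intro h
    ext q
    obtain ⟨v, rfl⟩ := pmk_surjective ι q
    rw [piHom_pmk, Perm.one_apply, eq_comm, pmk_eq_iff hι]
    exact h v

lemma ker_sq {ι : Perm α} (hι : ι * ι = 1) (g : Cent ι) (hg : piHom ι g = 1) : g * g = 1 := by
  rw [piHom_eq_one_iff hι] at hg
  ext v
  simp only [Subgroup.coe_mul, Perm.mul_apply, Subgroup.coe_one, Perm.one_apply]
  rcases hg v with h | h
  · rw [h, h]
  · rw [h, cent_apply g.2, h, invol_apply hι]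

lemma ker_isPGroup {ι : Perm α} (hι : ι * ι = 1) : IsPGroup 2 (piHom ι).ker := by
  rintro ⟨g, hg⟩
  refine ⟨1, ?_⟩
  ext1
  simp only [Subgroup.coe_one, pow_one, pow_two]
  exact ker_sq hι g (MonoidHom.mem_ker.mp hg)


section fin

variable [Fintype α] [DecidableEq α]

omit [Fintype α] in
lemma swap_mem_cent {ι : Perm α} (hι : ι * ι = 1) (v : α) : swap v (ι v) ∈ Cent ι := by
  rw [mem_cent]
  have := Equiv.mul_swap_eq_swap_mul ι v (ι v)
  rw [invol_apply hι, Equiv.swap_comm (ι v) v] at this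
  exact this.symm

omit [Fintype α] in
lemma swap_mem_ker {ι : Perm α} (hι : ι * ι = 1) (v : α) :
    piHom ι ⟨swap v (ι v), swap_mem_cent hι v⟩ = 1 := by
  rw [piHom_eq_one_iff hι]
  intro u
  simp only
  by_cases h1 : u = v
  · right
    rw [h1, Equiv.swap_apply_left]
  · by_cases h2 : u = ι v
    · right
      rw [h2, Equiv.swap_apply_right, invol_apply hι]
    · left
      exact Equiv.swap_apply_of_ne_of_ne h1 h2

omit [Fintype α] in
/-- a fixed-point-free involution commuting with all the transpositions `(v ιv)` is `ι` -/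
lemma fpf_eq_of_comm_swaps {ι ι' : Perm α} (hι : FPF ι) (hι' : FPF ι')
    (h : ∀ v, swap v (ι v) * ι' = ι' * swap v (ι v)) : ι' = ι := by
  ext v
  have h1 := congrArg (fun e : Perm α => e v) (h v)
  simp only [Perm.mul_apply, Equiv.swap_apply_left] at h1
  by_contra hne
  have h2 : swap v (ι v) (ι' v) = ι' v :=
    Equiv.swap_apply_of_ne_of_ne (hι'.ne v) hne
  rw [h2] at h1
  have h3 := ι'.injective h1
  exact hι.ne v h3.symm

lemma dswap_mem_cent {ι : Perm α} (hι : FPF ι) {p q : α} (hpq : p ≠ q) (hq : q ≠ ι p) :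
    dswap ι p q ∈ Cent ι := mem_cent.mpr (dswap_comm hι.sq hι.ne hpq hq)

omit [Fintype α] in
lemma dswap_apply_right' {ι : Perm α} (hι : FPF ι) {p q : α} (hq : q ≠ ι p) :
    dswap ι p q q = p := by
  have hqp : p ≠ ι q := fun e => hq (by rw [e, invol_apply hι.sq])
  unfold dswap
  rw [Equiv.Perm.mul_apply, Equiv.swap_apply_of_ne_of_ne hq (Ne.symm (hι.ne q)),
    Equiv.swap_apply_right]

lemma piHom_dswap {ι : Perm α} [DecidableEq (PQ ι)] (hι : FPF ι) {p q : α} (hpq : p ≠ q) (hq : q ≠ ι p) :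
    piHom ι ⟨dswap ι p q, dswap_mem_cent hι hpq hq⟩ = swap (pmk ι p) (pmk ι q) := by
  have hqp : p ≠ ι q := fun e => hq (by rw [e, invol_apply hι.sq])
  have hc := dswap_mem_cent hι hpq hq
  ext c
  obtain ⟨u, rfl⟩ := pmk_surjective ι c
  rw [piHom_pmk]
  simp only
  by_cases h1 : pmk ι u = pmk ι p
  · rw [h1, Equiv.swap_apply_left]
    rw [eq_comm, pmk_eq_iff hι.sq] at h1
    rcases h1 with rfl | rfl
    · rw [dswap_apply_left hι.sq hι.ne hq]
    · rw [cent_apply hc, dswap_apply_left hι.sq hι.ne hq, pmk_invol]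
  · by_cases h2 : pmk ι u = pmk ι q
    · rw [h2, Equiv.swap_apply_right]
      rw [eq_comm, pmk_eq_iff hι.sq] at h2
      rcases h2 with rfl | rfl
      · rw [dswap_apply_right' hι hq]
      · rw [cent_apply hc, dswap_apply_right' hι hq, pmk_invol]
    · rw [Equiv.swap_apply_of_ne_of_ne h1 h2]
      rw [eq_comm, pmk_eq_iff hι.sq] at h1 h2
      push Not at h1 h2
      rw [dswap_apply_of_ne h1.1 h2.1 h1.2 h2.2]

lemma piHom_surjective {ι : Perm α} (hι : FPF ι) : Function.Surjective (piHom ι) := by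
  classical
  rw [← MonoidHom.range_eq_top, eq_top_iff, ← Equiv.Perm.closure_isSwap, Subgroup.closure_le]
  rintro σ ⟨c, d, hcd, rfl⟩
  obtain ⟨p, rfl⟩ := pmk_surjective ι c
  obtain ⟨q, rfl⟩ := pmk_surjective ι d
  have hpq : p ≠ q := fun e => hcd (by rw [e])
  have hq : q ≠ ι p := fun e => hcd (by rw [e, pmk_invol])
  exact ⟨_, piHom_dswap hι hpq hq⟩


omit [DecidableEq α] in
/-- every Sylow 2-subgroup of a symmetric group of even degree centralizes a fixed-point-free
involution -/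
theorem exists_fpf (heven : Even (Fintype.card α)) (T : Sylow 2 (Perm α)) :
    ∃ ι : Perm α, FPF ι ∧ ∀ g ∈ T, g ∈ Cent ι := by
  set n := Fintype.card α with hn
  let e : α ≃ Fin n := Fintype.equivFin α
  let ϕ : Perm (Fin n) →* Perm α := (e.symm.permCongrHom).toMonoidHom
  have hϕ : Function.Injective ϕ := (e.symm.permCongrHom).injective
  have hϕs : Function.Surjective ϕ := (e.symm.permCongrHom).surjective
  have hr : (T : Subgroup (Perm α)) ≤ ϕ.range := by
    rw [MonoidHom.range_eq_top.mpr hϕs]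
    exact le_top
  obtain ⟨ι₀, h1, h2, h3⟩ := exists_matching' heven (T.comapOfInjective ϕ hϕ hr)
  have happ : ∀ (σ : Perm (Fin n)) (v : α), ϕ σ v = e.symm (σ (e v)) := fun σ v => rfl
  refine ⟨ϕ ι₀, ⟨?_, ?_⟩, ?_⟩
  · rw [← map_mul, h1, map_one]
  · intro v hv
    rw [happ] at hv
    apply h2 (e v)
    rw [← e.apply_symm_apply (ι₀ (e v)), hv]
  · intro g hg
    obtain ⟨σ, rfl⟩ := hϕs g
    rw [mem_cent, ← map_mul, ← map_mul]
    congr 1
    apply h3
    show σ ∈ (T.comapOfInjective ϕ hϕ hr : Subgroup _)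
    rw [Sylow.coe_comapOfInjective]
    exact hg

/-- the full preimage in `Perm α` of a subgroup of `Perm (PQ ι)` -/
def liftK (ι : Perm α) (R : Subgroup (Perm (PQ ι))) : Subgroup (Perm α) :=
  (R.comap (piHom ι)).map (Cent ι).subtype

omit [Fintype α] [DecidableEq α] in
lemma mem_liftK {ι : Perm α} {R : Subgroup (Perm (PQ ι))} {g : Perm α} :
    g ∈ liftK ι R ↔ ∃ hg : g ∈ Cent ι, piHom ι ⟨g, hg⟩ ∈ R := by
  unfold liftK
  rw [Subgroup.mem_map]
  constructor
  · rintro ⟨k, hk, rfl⟩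
    exact ⟨k.2, hk⟩
  · rintro ⟨hg, h⟩
    exact ⟨⟨g, hg⟩, h, rfl⟩

omit [Fintype α] [DecidableEq α] in
lemma liftK_le_cent {ι : Perm α} (R : Subgroup (Perm (PQ ι))) : liftK ι R ≤ Cent ι := by
  intro g hg
  exact (mem_liftK.mp hg).1

omit [Fintype α] [DecidableEq α] in
lemma liftK_isPGroup {ι : Perm α} (hι : ι * ι = 1) {R : Subgroup (Perm (PQ ι))}
    (hR : IsPGroup 2 R) : IsPGroup 2 (liftK ι R) :=
  (hR.comap_of_ker_isPGroup (piHom ι) (ker_isPGroup hι)).map _

omit [Fintype α] in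
lemma swap_mem_liftK {ι : Perm α} (hι : ι * ι = 1) (R : Subgroup (Perm (PQ ι))) (v : α) :
    swap v (ι v) ∈ liftK ι R := by
  rw [mem_liftK]
  refine ⟨swap_mem_cent hι v, ?_⟩
  rw [swap_mem_ker hι v]
  exact one_mem _

/-- the preimage of a Sylow 2-subgroup is a Sylow 2-subgroup -/
theorem sylow_lift (heven : Even (Fintype.card α)) {ι : Perm α} (hι : FPF ι)
    (R : Sylow 2 (Perm (PQ ι))) :
    ∃ P : Sylow 2 (Perm α), (P : Subgroup (Perm α)) = liftK ι (R : Subgroup _) := by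
  obtain ⟨T, hT⟩ := (liftK_isPGroup hι.sq R.isPGroup').exists_le_sylow
  obtain ⟨ι', hι', hc⟩ := exists_fpf heven T
  have hιι : ι' = ι := by
    apply fpf_eq_of_comm_swaps hι hι'
    intro v
    exact mem_cent.mp (hc _ (hT (swap_mem_liftK hι.sq _ v)))
  subst hιι
  have hTc : (T : Subgroup (Perm α)) ≤ Cent ι' := hc
  have hmax : ((T : Subgroup (Perm α)).subgroupOf (Cent ι')).map (piHom ι') =
      (R : Subgroup _) := by
    apply R.is_maximal'
    · exact (T.isPGroup'.comap_subtype).map _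
    · intro r hr
      obtain ⟨g, rfl⟩ := piHom_surjective hι r
      refine ⟨g, Subgroup.mem_subgroupOf.mpr ?_, rfl⟩
      apply hT
      rw [mem_liftK]
      exact ⟨g.2, hr⟩
  refine ⟨T, le_antisymm ?_ hT⟩
  intro t ht
  rw [mem_liftK]
  refine ⟨hTc ht, ?_⟩
  rw [← hmax]
  exact ⟨⟨t, hTc ht⟩, Subgroup.mem_subgroupOf.mpr ht, rfl⟩

omit [Fintype α] [DecidableEq α] in
/-- a Sylow 2-subgroup inside the centralizer is the preimage of a Sylow 2-subgroup -/
theorem sylow_proj {ι : Perm α} (hι : ι * ι = 1) (P : Sylow 2 (Perm α))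
    (hP : (P : Subgroup (Perm α)) ≤ Cent ι) :
    ∃ R : Sylow 2 (Perm (PQ ι)), (P : Subgroup (Perm α)) = liftK ι (R : Subgroup _) := by
  have h2 : IsPGroup 2 (((P : Subgroup (Perm α)).subgroupOf (Cent ι)).map (piHom ι)) :=
    (P.isPGroup'.comap_subtype).map _
  obtain ⟨R, hR⟩ := h2.exists_le_sylow
  refine ⟨R, ?_⟩
  symm
  apply P.is_maximal' (liftK_isPGroup hι R.isPGroup')
  intro g hg
  rw [mem_liftK]
  refine ⟨hP hg, ?_⟩
  apply hR
  exact ⟨⟨g, hP hg⟩, Subgroup.mem_subgroupOf.mpr hg, rfl⟩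

lemma liftK_injective {ι : Perm α} (hι : FPF ι) {R₁ R₂ : Subgroup (Perm (PQ ι))}
    (h : liftK ι R₁ = liftK ι R₂) : R₁ = R₂ := by
  have key : ∀ {A B : Subgroup (Perm (PQ ι))}, liftK ι A = liftK ι B → A ≤ B := by
    intro A B hAB r hr
    obtain ⟨g, rfl⟩ := piHom_surjective hι r
    have : (g : Perm α) ∈ liftK ι A := mem_liftK.mpr ⟨g.2, hr⟩
    rw [hAB, mem_liftK] at this
    exact this.2
  exact le_antisymm (key h) (key h.symm)

/-- the even-degree reduction -/
theorem uniq_even (heven : Even (Fintype.card α)) (x : Perm α) (hx : ∃ k : ℕ, x ^ (2 ^ k) = 1) :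
    Uniq x ↔ ∃ ι : Perm α, FPF ι ∧ ∃ hc : x ∈ Cent ι,
      (∀ ι' : Perm α, FPF ι' → x ∈ Cent ι' → ι' = ι) ∧ Uniq (piHom ι ⟨x, hc⟩) := by
  have hbar : ∀ (ι : Perm α) (hc : x ∈ Cent ι), ∃ k : ℕ, (piHom ι ⟨x, hc⟩) ^ (2 ^ k) = 1 := by
    intro ι hc
    obtain ⟨k, hk⟩ := hx
    refine ⟨k, ?_⟩
    rw [← map_pow]
    have : (⟨x, hc⟩ : Cent ι) ^ (2 ^ k) = 1 := by
      ext1
      simp only [Subgroup.coe_pow, Subgroup.coe_one]
      exact hk
    rw [this, map_one]
  constructor
  · rintro ⟨P, hxP, hPu⟩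
    obtain ⟨ι, hι, hc⟩ := exists_fpf heven P
    refine ⟨ι, hι, hc x hxP, ?_, ?_⟩
    · intro ι' hι' hc'
      obtain ⟨R', hR'⟩ := exists_sylow_mem _ (hbar ι' hc')
      obtain ⟨P', hP'⟩ := sylow_lift heven hι' R'
      have hxP' : x ∈ P' := by
        show x ∈ (P' : Subgroup (Perm α))
        rw [hP', mem_liftK]
        exact ⟨hc', hR'⟩
      have hPP : P' = P := hPu P' hxP'
      symm
      apply fpf_eq_of_comm_swaps hι' hι
      intro v
      apply mem_cent.mp
      apply hc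
      rw [← hPP]
      show _ ∈ (P' : Subgroup (Perm α))
      rw [hP']
      exact swap_mem_liftK hι'.sq _ v
    · obtain ⟨R, hR⟩ := exists_sylow_mem _ (hbar ι (hc x hxP))
      refine ⟨R, hR, ?_⟩
      intro R₂ hR₂
      obtain ⟨P₁, hP₁⟩ := sylow_lift heven hι R
      obtain ⟨P₂, hP₂⟩ := sylow_lift heven hι R₂
      have hx₁ : x ∈ P₁ := by
        show x ∈ (P₁ : Subgroup (Perm α))
        rw [hP₁, mem_liftK]
        exact ⟨hc x hxP, hR⟩
      have hx₂ : x ∈ P₂ := by
        show x ∈ (P₂ : Subgroup (Perm α))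
        rw [hP₂, mem_liftK]
        exact ⟨hc x hxP, hR₂⟩
      have h12 : P₂ = P₁ := (hPu P₂ hx₂).trans (hPu P₁ hx₁).symm
      apply Sylow.ext
      apply liftK_injective hι
      rw [← hP₁, ← hP₂, h12]
  · rintro ⟨ι, hι, hc, hu, R, hxR, hRu⟩
    obtain ⟨P, hxP⟩ := exists_sylow_mem x hx
    have key : ∀ P' : Sylow 2 (Perm α), x ∈ P' →
        (P' : Subgroup (Perm α)) = liftK ι (R : Subgroup _) := by
      intro P' hxP'
      obtain ⟨ι', hι', hc'⟩ := exists_fpf heven P'
      have := hu ι' hι' (hc' x hxP')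
      subst this
      obtain ⟨R', hR'⟩ := sylow_proj hι'.sq P' hc'
      have hxR' : piHom ι' ⟨x, hc⟩ ∈ R' := by
        have : x ∈ liftK ι' (R' : Subgroup _) := by
          rw [← hR']
          exact hxP'
        exact (mem_liftK.mp this).2
      rw [hR', hRu R' hxR']
    refine ⟨P, hxP, ?_⟩
    intro P' hxP'
    apply Sylow.ext
    rw [key P' hxP', key P hxP]

end fin

end Cfsg.Agent.Lib.Helper44.UniqSyl
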