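import Mathlib
import Cfsg.Agent.Lib.Helper44.UniqSylA

set_option autoImplicit false

/-! The base group of the centralizer of a fixed-point-free involution `ι`: the permutations
`bset f` (`f : PQ ι → ZMod 2`) swapping the points of the `ι`-orbits `x` with `f x = 1`. -/

namespace Cfsg.Agent.Lib.Helper44.AltIndec

open Equiv Equiv.Perm
open Cfsg.Agent.Lib.Helper44.SylMax Cfsg.Agent.Lib.Helper44.UniqSyl

universe u

variable {α : Type u}

/-- the total version of `piHom` -/
noncomputable def ph (ι : Perm α) (g : Perm α) : Perm (PQ ι) := by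
  classical
  exact if h : g ∈ Cent ι then piHom ι ⟨g, h⟩ else 1

lemma ph_eq {ι g : Perm α} (hg : g ∈ Cent ι) : ph ι g = piHom ι ⟨g, hg⟩ := by
  unfold ph
  rw [dif_pos hg]

lemma ph_pmk {ι g : Perm α} (hg : g ∈ Cent ι) (v : α) : ph ι g (pmk ι v) = pmk ι (g v) := by
  rw [ph_eq hg, piHom_pmk]

lemma ph_mul {ι g h : Perm α} (hg : g ∈ Cent ι) (hh : h ∈ Cent ι) :
    ph ι (g * h) = ph ι g * ph ι h := by
  rw [ph_eq hg, ph_eq hh, ph_eq (mul_mem hg hh), ← map_mul]
  rfl

lemma ph_one (ι : Perm α) : ph ι 1 = 1 := by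
  rw [ph_eq (one_mem _)]
  exact map_one _

lemma ph_inv {ι g : Perm α} (hg : g ∈ Cent ι) : ph ι g⁻¹ = (ph ι g)⁻¹ := by
  rw [ph_eq hg, ph_eq (inv_mem hg), ← map_inv]
  rfl

lemma ph_eq_one_iff {ι g : Perm α} (hι : ι * ι = 1) (hg : g ∈ Cent ι) :
    ph ι g = 1 ↔ ∀ v, g v = v ∨ g v = ι v := by
  rw [ph_eq hg, piHom_eq_one_iff hι]

lemma zmod_two_cases (a : ZMod 2) : a = 0 ∨ a = 1 := by
  fin_cases a
  · left; rfl
  · right; rfl

/-- the element of the base group attached to `f` -/
def bset {ι : Perm α} (hι : ι * ι = 1) (f : PQ ι → ZMod 2) : Perm α where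
  toFun v := if f (pmk ι v) = 1 then ι v else v
  invFun v := if f (pmk ι v) = 1 then ι v else v
  left_inv v := by
    by_cases h : f (pmk ι v) = 1
    · simp only [h, if_true, pmk_invol, invol_apply hι]
    · simp only [h, if_false]
  right_inv v := by
    by_cases h : f (pmk ι v) = 1
    · simp only [h, if_true, pmk_invol, invol_apply hι]
    · simp only [h, if_false]

lemma bset_apply {ι : Perm α} (hι : ι * ι = 1) (f : PQ ι → ZMod 2) (v : α) :
    bset hι f v = if f (pmk ι v) = 1 then ι v else v := rfl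

lemma bset_apply_one {ι : Perm α} (hι : ι * ι = 1) {f : PQ ι → ZMod 2} {v : α}
    (h : f (pmk ι v) = 1) : bset hι f v = ι v := by
  rw [bset_apply, if_pos h]

lemma bset_apply_zero {ι : Perm α} (hι : ι * ι = 1) {f : PQ ι → ZMod 2} {v : α}
    (h : f (pmk ι v) = 0) : bset hι f v = v := by
  rw [bset_apply, if_neg]
  rw [h]
  exact zero_ne_one

lemma pmk_bset {ι : Perm α} (hι : ι * ι = 1) (f : PQ ι → ZMod 2) (v : α) :
    pmk ι (bset hι f v) = pmk ι v := by
  rw [bset_apply]
  split_ifs
  · exact pmk_invol ι v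
  · rfl

lemma bset_zero {ι : Perm α} (hι : ι * ι = 1) : bset hι (0 : PQ ι → ZMod 2) = 1 := by
  ext v
  rw [bset_apply_zero hι (by rfl)]
  rfl

lemma bset_add {ι : Perm α} (hι : ι * ι = 1) (f f' : PQ ι → ZMod 2) :
    bset hι (f + f') = bset hι f * bset hι f' := by
  ext v
  simp only [Perm.mul_apply, bset_apply, Pi.add_apply]
  rcases zmod_two_cases (f (pmk ι v)) with h | h <;>
  rcases zmod_two_cases (f' (pmk ι v)) with h' | h' <;>
  simp [h, h', pmk_invol, invol_apply hι]

lemma bset_mul_self {ι : Perm α} (hι : ι * ι = 1) (f : PQ ι → ZMod 2) :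
    bset hι f * bset hι f = 1 := by
  rw [← bset_add, ← bset_zero hι]
  congr 1
  ext x
  rw [Pi.add_apply]
  rcases zmod_two_cases (f x) with h | h <;> rw [h] <;> rfl

lemma bset_inv {ι : Perm α} (hι : ι * ι = 1) (f : PQ ι → ZMod 2) :
    (bset hι f)⁻¹ = bset hι f := by
  rw [inv_eq_iff_mul_eq_one]
  exact bset_mul_self hι f

lemma bset_mem_cent {ι : Perm α} (hι : ι * ι = 1) (f : PQ ι → ZMod 2) : bset hι f ∈ Cent ι := by
  rw [mem_cent]
  ext v
  rw [Perm.mul_apply, Perm.mul_apply, bset_apply, bset_apply, pmk_invol]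
  split_ifs <;> rfl

lemma ph_bset {ι : Perm α} (hι : ι * ι = 1) (f : PQ ι → ZMod 2) : ph ι (bset hι f) = 1 := by
  rw [ph_eq_one_iff hι (bset_mem_cent hι f)]
  intro v
  rw [bset_apply]
  split_ifs
  · right; rfl
  · left; rfl

lemma bset_injective {ι : Perm α} (hι : FPF ι) {f f' : PQ ι → ZMod 2}
    (h : bset hι.sq f = bset hι.sq f') : f = f' := by
  ext x
  obtain ⟨v, rfl⟩ := pmk_surjective ι x
  have h1 : bset hι.sq f v = bset hι.sq f' v := by rw [h]
  rcases zmod_two_cases (f (pmk ι v)) with hf | hf <;>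
  rcases zmod_two_cases (f' (pmk ι v)) with hf' | hf'
  · rw [hf, hf']
  · rw [bset_apply_zero hι.sq hf, bset_apply_one hι.sq hf'] at h1
    exact absurd h1.symm (hι.ne v)
  · rw [bset_apply_one hι.sq hf, bset_apply_zero hι.sq hf'] at h1
    exact absurd h1 (hι.ne v)
  · rw [hf, hf']

/-- conjugation acts on the base group by permuting the coordinates -/
lemma conj_bset {ι : Perm α} (hι : ι * ι = 1) {g : Perm α} (hg : g ∈ Cent ι)
    (f : PQ ι → ZMod 2) :
    g * bset hι f * g⁻¹ = bset hι (fun x => f ((ph ι g)⁻¹ x)) := by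
  ext v
  rw [Perm.mul_apply, Perm.mul_apply, bset_apply, bset_apply]
  have h1 : (ph ι g)⁻¹ (pmk ι v) = pmk ι (g⁻¹ v) := by
    rw [← ph_inv hg, ph_pmk (inv_mem hg)]
  rw [h1]
  split_ifs
  · rw [cent_apply hg]
    simp
  · simp

/-- every element of the kernel is a `bset` -/
lemma exists_bset {ι : Perm α} (hι : FPF ι) {g : Perm α} (hg : g ∈ Cent ι) (h1 : ph ι g = 1) :
    ∃ f : PQ ι → ZMod 2, g = bset hι.sq f := by
  classical
  rw [ph_eq_one_iff hι.sq hg] at h1
  refine ⟨fun x => if ∃ v, pmk ι v = x ∧ g v ≠ v then 1 else 0, ?_⟩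
  ext v
  have key : (∃ w, pmk ι w = pmk ι v ∧ g w ≠ w) ↔ g v ≠ v := by
    constructor
    · rintro ⟨w, hw, hgw⟩
      rw [eq_comm, pmk_eq_iff hι.sq] at hw
      rcases hw with rfl | rfl
      · exact hgw
      · intro hv
        apply hgw
        rw [cent_apply hg, hv]
    · intro hv
      exact ⟨v, rfl, hv⟩
  rw [bset_apply]
  by_cases hv : g v = v
  · rw [if_neg, hv]
    rw [if_neg]
    · exact zero_ne_one
    · rw [key]
      exact not_not.mpr hv
  · rw [if_pos]
    · exact (h1 v).resolve_left hv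
    · rw [if_pos]
      rw [key]
      exact hv

lemma bset_mem_liftK {ι : Perm α} (hι : ι * ι = 1) (f : PQ ι → ZMod 2)
    (R : Subgroup (Perm (PQ ι))) : bset hι f ∈ liftK ι R := by
  rw [mem_liftK]
  refine ⟨bset_mem_cent hι f, ?_⟩
  rw [← ph_eq, ph_bset]
  exact one_mem _

section fin

variable [Fintype α] [DecidableEq α]

omit [Fintype α] in
lemma bset_single {ι : Perm α} (hι : FPF ι) [DecidableEq (PQ ι)] (v : α) :
    bset hι.sq (Pi.single (pmk ι v) 1) = swap v (ι v) := by
  ext w
  rw [bset_apply]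
  by_cases h : pmk ι w = pmk ι v
  · rw [h, Pi.single_eq_same, if_pos rfl]
    rw [eq_comm, pmk_eq_iff hι.sq] at h
    rcases h with rfl | rfl
    · rw [Equiv.swap_apply_left]
    · rw [Equiv.swap_apply_right, invol_apply hι.sq]
  · rw [Pi.single_eq_of_ne h, if_neg zero_ne_one]
    rw [eq_comm, pmk_eq_iff hι.sq] at h
    push Not at h
    rw [Equiv.swap_apply_of_ne_of_ne h.1 h.2]

lemma sign_bset_aux {ι : Perm α} (hι : FPF ι) [Fintype (PQ ι)] [DecidableEq (PQ ι)] :
    ∀ n : ℕ, ∀ f : PQ ι → ZMod 2, (Finset.univ.filter (fun x => f x = 1)).card = n →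
      Perm.sign (bset hι.sq f) = (-1) ^ n := by
  intro n
  induction n with
  | zero =>
    intro f hf
    rw [Finset.card_eq_zero, Finset.filter_eq_empty_iff] at hf
    have : f = 0 := by
      ext x
      exact (zmod_two_cases (f x)).resolve_right (hf (Finset.mem_univ x))
    rw [this, bset_zero, Perm.sign_one, pow_zero]
  | succ n ih =>
    intro f hf
    have hpos : 0 < (Finset.univ.filter (fun x => f x = 1)).card := by omega
    obtain ⟨x₀, hx₀⟩ := Finset.card_pos.mp hpos
    rw [Finset.mem_filter] at hx₀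
    obtain ⟨v, hv⟩ := pmk_surjective ι x₀
    set f' : PQ ι → ZMod 2 := f + Pi.single x₀ 1 with hf'
    have hff : f = f' + Pi.single x₀ 1 := by
      ext x
      rw [hf', Pi.add_apply, Pi.add_apply, add_assoc]
      by_cases hx : x = x₀
      · subst hx
        rw [Pi.single_eq_same]
        have : (1 : ZMod 2) + 1 = 0 := rfl
        rw [this, add_zero]
      · rw [Pi.single_eq_of_ne hx, add_zero, add_zero]
    have hfilt : Finset.univ.filter (fun x => f' x = 1) =
        (Finset.univ.filter (fun x => f x = 1)).erase x₀ := by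
      ext x
      rw [Finset.mem_erase, Finset.mem_filter, Finset.mem_filter]
      simp only [Finset.mem_univ, true_and]
      by_cases hx : x = x₀
      · subst hx
        rw [hf', Pi.add_apply, Pi.single_eq_same, hx₀.2]
        constructor
        · intro h
          exact absurd h (by decide)
        · intro h
          exact absurd rfl h.1
      · rw [hf', Pi.add_apply, Pi.single_eq_of_ne hx, add_zero]
        exact ⟨fun h => ⟨hx, h⟩, fun h => h.2⟩
    have hcard : (Finset.univ.filter (fun x => f' x = 1)).card = n := by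
      rw [hfilt, Finset.card_erase_of_mem (Finset.mem_filter.mpr hx₀), hf]
      rfl
    rw [hff, bset_add, Perm.sign_mul, ih f' hcard, ← hv, bset_single hι v,
      Perm.sign_swap (Ne.symm (hι.ne v)), pow_succ]

lemma sum_eq_card_filter {X : Type*} [Fintype X] (f : X → ZMod 2) :
    ∑ x, f x = ((Finset.univ.filter (fun x => f x = 1)).card : ZMod 2) := by
  rw [Finset.card_filter, Nat.cast_sum]
  apply Finset.sum_congr rfl
  intro x _
  rcases zmod_two_cases (f x) with h | h
  · rw [h, if_neg zero_ne_one, Nat.cast_zero]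
  · rw [h, if_pos rfl, Nat.cast_one]

/-- the sign of an element of the base group -/
lemma sign_bset {ι : Perm α} (hι : FPF ι) [Fintype (PQ ι)] (f : PQ ι → ZMod 2) :
    Perm.sign (bset hι.sq f) = 1 ↔ ∑ x, f x = 0 := by
  classical
  rw [sign_bset_aux hι _ f rfl, sum_eq_card_filter, ZMod.natCast_eq_zero_iff_even]
  constructor
  · intro h
    by_contra hodd
    rw [Nat.not_even_iff_odd] at hodd
    rw [hodd.neg_one_pow] at h
    exact absurd h (by decide)
  · intro h
    exact h.neg_one_pow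

end fin

end Cfsg.Agent.Lib.Helper44.AltIndec
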