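import Mathlib
import Cfsg.Prelude.Def_TwoFusion
import Cfsg.Agent.Lib.Helper44.AltIndecA

set_option autoImplicit false
set_option linter.unusedSectionVars false
set_option linter.unusedVariables false

/-! Indecomposability of the even part of a Sylow 2-subgroup of a symmetric group of degree
`2m`, `m ≥ 4` even: the abstract argument. -/

namespace Cfsg.Agent.Lib.Helper44.AltIndec

open Equiv Equiv.Perm
open Cfsg.Agent.Lib.Helper44.SylMax Cfsg.Agent.Lib.Helper44.UniqSyl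

universe u

section dp

variable {G₀ : Type*} [Group G₀] {S₁ S₂ S : Subgroup G₀}

lemma dp_symm (h : Cfsg.IsInternalDirectProduct S₁ S₂ S) :
    Cfsg.IsInternalDirectProduct S₂ S₁ S := by
  obtain ⟨h1, h2, hc, hi, hs⟩ := h
  exact ⟨h2, h1, fun a ha b hb => (hc b hb a ha).symm, by rw [inf_comm]; exact hi,
    by rw [sup_comm]; exact hs⟩

lemma dp_exists (h : Cfsg.IsInternalDirectProduct S₁ S₂ S) {g : G₀} (hg : g ∈ S) :
    ∃ s₁ ∈ S₁, ∃ s₂ ∈ S₂, g = s₁ * s₂ := by
  obtain ⟨h1, h2, hc, hi, hs⟩ := h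
  have hcl : S = Subgroup.closure ((S₁ : Set G₀) ∪ S₂) := by
    rw [Subgroup.closure_union, Subgroup.closure_eq, Subgroup.closure_eq, hs]
  rw [hcl] at hg
  induction hg using Subgroup.closure_induction with
  | mem x hx =>
    rcases hx with hx | hx
    · exact ⟨x, hx, 1, one_mem _, (mul_one x).symm⟩
    · exact ⟨1, one_mem _, x, hx, (one_mul x).symm⟩
  | one => exact ⟨1, one_mem _, 1, one_mem _, (mul_one 1).symm⟩
  | mul x y _ _ hx hy =>
    obtain ⟨a, ha, b, hb, rfl⟩ := hx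
    obtain ⟨c, hc', d, hd, rfl⟩ := hy
    refine ⟨a * c, mul_mem ha hc', b * d, mul_mem hb hd, ?_⟩
    rw [mul_assoc, ← mul_assoc b c d, ← hc c hc' b hb, mul_assoc, mul_assoc]
  | inv x _ hx =>
    obtain ⟨a, ha, b, hb, rfl⟩ := hx
    refine ⟨a⁻¹, inv_mem ha, b⁻¹, inv_mem hb, ?_⟩
    rw [mul_inv_rev]
    exact (hc a⁻¹ (inv_mem ha) b⁻¹ (inv_mem hb)).symm

lemma dp_unique (h : Cfsg.IsInternalDirectProduct S₁ S₂ S) {s₁ t₁ s₂ t₂ : G₀}
    (hs₁ : s₁ ∈ S₁) (ht₁ : t₁ ∈ S₁) (hs₂ : s₂ ∈ S₂) (ht₂ : t₂ ∈ S₂)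
    (heq : s₁ * s₂ = t₁ * t₂) : s₁ = t₁ ∧ s₂ = t₂ := by
  obtain ⟨h1, h2, hc, hi, hs⟩ := h
  have key : t₁⁻¹ * s₁ = t₂ * s₂⁻¹ := by
    rw [inv_mul_eq_iff_eq_mul, ← mul_assoc, ← heq, mul_inv_cancel_right]
  have hmem : t₁⁻¹ * s₁ ∈ S₁ ⊓ S₂ :=
    Subgroup.mem_inf.mpr
      ⟨mul_mem (inv_mem ht₁) hs₁, by rw [key]; exact mul_mem ht₂ (inv_mem hs₂)⟩
  rw [hi, Subgroup.mem_bot] at hmem
  have e1 : s₁ = t₁ := by rw [inv_mul_eq_one] at hmem; exact hmem.symm
  refine ⟨e1, ?_⟩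
  rw [e1] at heq
  exact mul_left_cancel heq

/-- the components of an element commuting with `b` commute with `b` -/
lemma dp_commute (h : Cfsg.IsInternalDirectProduct S₁ S₂ S) {e b s₁ s₂ : G₀} (hb : b ∈ S)
    (hs₁ : s₁ ∈ S₁) (hs₂ : s₂ ∈ S₂) (he : e = s₁ * s₂) (hcomm : e * b = b * e) :
    s₁ * b = b * s₁ ∧ s₂ * b = b * s₂ := by
  obtain ⟨t₁, ht₁, t₂, ht₂, rfl⟩ := dp_exists h hb
  have hc := h.2.2.1
  have h1 : (s₁ * t₁) * (s₂ * t₂) = (t₁ * s₁) * (t₂ * s₂) := by
    calc (s₁ * t₁) * (s₂ * t₂) = s₁ * (t₁ * s₂) * t₂ := by group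
      _ = s₁ * (s₂ * t₁) * t₂ := by rw [hc t₁ ht₁ s₂ hs₂]
      _ = (s₁ * s₂) * (t₁ * t₂) := by group
      _ = (t₁ * t₂) * (s₁ * s₂) := by rw [← he, hcomm]
      _ = t₁ * (t₂ * s₁) * s₂ := by group
      _ = t₁ * (s₁ * t₂) * s₂ := by rw [hc s₁ hs₁ t₂ ht₂]
      _ = (t₁ * s₁) * (t₂ * s₂) := by group
  obtain ⟨e1, e2⟩ := dp_unique h (mul_mem hs₁ ht₁) (mul_mem ht₁ hs₁) (mul_mem hs₂ ht₂)
    (mul_mem ht₂ hs₂) h1
  constructor
  · calc s₁ * (t₁ * t₂) = (s₁ * t₁) * t₂ := by group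
      _ = (t₁ * s₁) * t₂ := by rw [e1]
      _ = t₁ * (s₁ * t₂) := by group
      _ = t₁ * (t₂ * s₁) := by rw [hc s₁ hs₁ t₂ ht₂]
      _ = (t₁ * t₂) * s₁ := by group
  · calc s₂ * (t₁ * t₂) = (s₂ * t₁) * t₂ := by group
      _ = (t₁ * s₂) * t₂ := by rw [hc t₁ ht₁ s₂ hs₂]
      _ = t₁ * (s₂ * t₂) := by group
      _ = t₁ * (t₂ * s₂) := by rw [e2]
      _ = (t₁ * t₂) * s₂ := by group

end dp

section main

variable {α : Type u} [Fintype α] [DecidableEq α]

section pre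

variable {ι : Perm α} [DecidableEq (PQ ι)]

lemma pair_apply {x y : PQ ι} (hxy : x ≠ y) (w : PQ ι) :
    ((Pi.single x 1 + Pi.single y 1 : PQ ι → ZMod 2) w = 1 ↔ (w = x ∨ w = y)) ∧
    ((Pi.single x 1 + Pi.single y 1 : PQ ι → ZMod 2) w = 0 ↔ (w ≠ x ∧ w ≠ y)) := by
  rw [Pi.add_apply]
  by_cases h1 : w = x
  · subst h1
    rw [Pi.single_eq_same, Pi.single_eq_of_ne hxy, add_zero]
    exact ⟨⟨fun _ => Or.inl rfl, fun _ => rfl⟩, ⟨fun h => absurd h one_ne_zero, fun h => absurd rfl h.1⟩⟩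
  · by_cases h2 : w = y
    · subst h2
      rw [Pi.single_eq_same, Pi.single_eq_of_ne h1, zero_add]
      exact ⟨⟨fun _ => Or.inr rfl, fun _ => rfl⟩,
        ⟨fun h => absurd h one_ne_zero, fun h => absurd rfl h.2⟩⟩
    · rw [Pi.single_eq_of_ne h1, Pi.single_eq_of_ne h2, add_zero]
      exact ⟨⟨fun h => absurd h zero_ne_one, fun h => h.elim (fun h => absurd h h1) (fun h => absurd h h2)⟩,
        ⟨fun _ => ⟨h1, h2⟩, fun _ => rfl⟩⟩

lemma pair_sum [Fintype (PQ ι)] {x y : PQ ι} (hxy : x ≠ y) :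
    ∑ w, (Pi.single x 1 + Pi.single y 1 : PQ ι → ZMod 2) w = 0 := by
  simp only [Pi.add_apply]
  rw [Finset.sum_add_distrib, Finset.sum_pi_single', Finset.sum_pi_single']
  simp only [Finset.mem_univ, if_true]
  rfl

end pre

/-- the setting: `T` centralizes the fixed-point-free involution `ι`, contains the base group,
and induces on the `ι`-orbits a group containing the transpositions of the matching `ι'` -/
structure Ctx (ι : Perm α) [DecidableEq (PQ ι)] (ι' : Perm (PQ ι)) (T : Subgroup (Perm α)) :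
    Prop where
  fpf : FPF ι
  fpf' : FPF ι'
  le_cent : T ≤ Cent ι
  base : ∀ f : PQ ι → ZMod 2, bset fpf.sq f ∈ T
  top : ∀ x : PQ ι, ∃ g ∈ T, ph ι g = swap x (ι' x)
  three : ∀ x : PQ ι, ∃ y z : PQ ι, y ≠ x ∧ z ≠ x ∧ y ≠ z
  ne : Nonempty (PQ ι)

variable {ι : Perm α} [DecidableEq (PQ ι)] [Fintype (PQ ι)] {ι' : Perm (PQ ι)}
  {T : Subgroup (Perm α)}

/-- an element centralizing the even part of the base group acts trivially on the orbits -/
lemma ph_eq_one_of_commute (c : Ctx ι ι' T) {g : Perm α} (hg : g ∈ Cent ι)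
    (h : ∀ x y : PQ ι, x ≠ y →
      g * bset c.fpf.sq (Pi.single x 1 + Pi.single y 1) =
        bset c.fpf.sq (Pi.single x 1 + Pi.single y 1) * g) : ph ι g = 1 := by
  have key : ∀ x y : PQ ι, x ≠ y → ph ι g x = x ∨ ph ι g x = y := by
    intro x y hxy
    have h1 : g * bset c.fpf.sq (Pi.single x 1 + Pi.single y 1) * g⁻¹ =
        bset c.fpf.sq (Pi.single x 1 + Pi.single y 1) := by
      rw [h x y hxy, mul_inv_cancel_right]
    rw [conj_bset c.fpf.sq hg] at h1
    have h2 := congrFun (bset_injective c.fpf h1) (ph ι g x)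
    have h3 : (ph ι g)⁻¹ (ph ι g x) = x := by simp
    simp only [h3] at h2
    rw [((pair_apply hxy x).1).mpr (Or.inl rfl)] at h2
    exact (pair_apply hxy _).1.mp h2.symm
  ext x
  obtain ⟨y, z, hy, hz, hyz⟩ := c.three x
  rw [Perm.one_apply]
  rcases key x y (Ne.symm hy) with h1 | h1
  · exact h1
  · rcases key x z (Ne.symm hz) with h2 | h2
    · exact h2
    · exact absurd (h1.symm.trans h2) hyz

lemma bset_mem_G (c : Ctx ι ι' T) {f : PQ ι → ZMod 2} (hf : ∑ x, f x = 0) :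
    bset c.fpf.sq f ∈ T ⊓ alternatingGroup α :=
  Subgroup.mem_inf.mpr
    ⟨c.base f, Equiv.Perm.mem_alternatingGroup.mpr ((sign_bset c.fpf f).mpr hf)⟩

lemma zmod_two_add_self (a : ZMod 2) : a + a = 0 := by
  rcases zmod_two_cases a with h | h <;> rw [h] <;> rfl

lemma zmod_two_add_of_ne {a b : ZMod 2} (h : a ≠ b) : a + b = 1 := by
  rcases zmod_two_cases a with ha | ha <;> rcases zmod_two_cases b with hb | hb <;>
    rw [ha, hb] at h ⊢
  · exact absurd rfl h
  · rfl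
  · rfl
  · exact absurd rfl h

lemma bset_comm (hι : ι * ι = 1) (f f' : PQ ι → ZMod 2) :
    bset hι f * bset hι f' = bset hι f' * bset hι f := by
  rw [← bset_add, ← bset_add, add_comm]

variable {S₁ S₂ : Subgroup (Perm α)}

lemma mem_cent_of_mem (c : Ctx ι ι' T)
    (hdp : Cfsg.IsInternalDirectProduct S₁ S₂ (T ⊓ alternatingGroup α)) {s : Perm α}
    (hs : s ∈ S₁) : s ∈ Cent ι :=
  c.le_cent (Subgroup.mem_inf.mp (hdp.1 hs)).1

/-- the components of an element of the base group lie in the base group -/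
lemma exists_bset_dp (c : Ctx ι ι' T)
    (hdp : Cfsg.IsInternalDirectProduct S₁ S₂ (T ⊓ alternatingGroup α)) {e : Perm α}
    (he : e ∈ T ⊓ alternatingGroup α) (h1 : ph ι e = 1) :
    ∃ f₁ f₂ : PQ ι → ZMod 2, bset c.fpf.sq f₁ ∈ S₁ ∧ bset c.fpf.sq f₂ ∈ S₂ ∧
      e = bset c.fpf.sq f₁ * bset c.fpf.sq f₂ := by
  obtain ⟨s₁, hs₁, s₂, hs₂, hes⟩ := dp_exists hdp he
  have heC : e ∈ Cent ι := c.le_cent (Subgroup.mem_inf.mp he).1
  obtain ⟨f, hf⟩ := exists_bset c.fpf heC h1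
  have hcomm : ∀ x y : PQ ι, x ≠ y →
      s₁ * bset c.fpf.sq (Pi.single x 1 + Pi.single y 1) =
        bset c.fpf.sq (Pi.single x 1 + Pi.single y 1) * s₁ ∧
      s₂ * bset c.fpf.sq (Pi.single x 1 + Pi.single y 1) =
        bset c.fpf.sq (Pi.single x 1 + Pi.single y 1) * s₂ := by
    intro x y hxy
    apply dp_commute hdp (bset_mem_G c (pair_sum hxy)) hs₁ hs₂ hes
    rw [hf]
    exact bset_comm c.fpf.sq _ _
  have hp1 : ph ι s₁ = 1 :=
    ph_eq_one_of_commute c (mem_cent_of_mem c hdp hs₁) (fun x y hxy => (hcomm x y hxy).1)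
  have hp2 : ph ι s₂ = 1 :=
    ph_eq_one_of_commute c (mem_cent_of_mem c (dp_symm hdp) hs₂)
      (fun x y hxy => (hcomm x y hxy).2)
  obtain ⟨f₁, hf₁⟩ := exists_bset c.fpf (mem_cent_of_mem c hdp hs₁) hp1
  obtain ⟨f₂, hf₂⟩ := exists_bset c.fpf (mem_cent_of_mem c (dp_symm hdp) hs₂) hp2
  exact ⟨f₁, f₂, hf₁ ▸ hs₁, hf₂ ▸ hs₂, by rw [← hf₁, ← hf₂]; exact hes⟩

/-- an element of `S₁` centralizing the part of the base group in `S₁` acts trivially on the
orbits -/
lemma ph_eq_one_of_commute_dp (c : Ctx ι ι' T)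
    (hdp : Cfsg.IsInternalDirectProduct S₁ S₂ (T ⊓ alternatingGroup α)) {s : Perm α}
    (hs : s ∈ S₁)
    (h : ∀ f : PQ ι → ZMod 2, bset c.fpf.sq f ∈ S₁ → s * bset c.fpf.sq f = bset c.fpf.sq f * s) :
    ph ι s = 1 := by
  apply ph_eq_one_of_commute c (mem_cent_of_mem c hdp hs)
  intro x y hxy
  obtain ⟨f₁, f₂, hf₁, hf₂, hb⟩ :=
    exists_bset_dp c hdp (bset_mem_G c (pair_sum hxy)) (ph_bset c.fpf.sq _)
  rw [hb, ← mul_assoc, h f₁ hf₁, mul_assoc, hdp.2.2.1 s hs _ hf₂, ← mul_assoc]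

lemma pair_ne_one (c : Ctx ι ι' T) {x y : PQ ι} (hxy : x ≠ y) :
    bset c.fpf.sq (Pi.single x 1 + Pi.single y 1) ≠ 1 := by
  intro h
  rw [← bset_zero c.fpf.sq] at h
  have := congrFun (bset_injective c.fpf h) x
  rw [((pair_apply hxy x).1).mpr (Or.inl rfl)] at this
  exact one_ne_zero this

/-- a component not centralizing its part of the base group forces the pair element into it -/
lemma pair_mem_of_not_commute (c : Ctx ι ι' T)
    (hdp : Cfsg.IsInternalDirectProduct S₁ S₂ (T ⊓ alternatingGroup α)) {x : PQ ι}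
    {g s₁ s₂ : Perm α} (hs₁ : s₁ ∈ S₁) (hs₂ : s₂ ∈ S₂) (hg : g = s₁ * s₂)
    (hph : ph ι g = swap x (ι' x)) {f : PQ ι → ZMod 2} (hf : bset c.fpf.sq f ∈ S₁)
    (hne : s₁ * bset c.fpf.sq f ≠ bset c.fpf.sq f * s₁) :
    bset c.fpf.sq (Pi.single x 1 + Pi.single (ι' x) 1) ∈ S₁ := by
  have hx' : x ≠ ι' x := Ne.symm (c.fpf'.ne x)
  have hgC : g ∈ Cent ι := by
    rw [hg]
    exact mul_mem (mem_cent_of_mem c hdp hs₁) (mem_cent_of_mem c (dp_symm hdp) hs₂)
  have h1 : s₁ * bset c.fpf.sq f * s₁⁻¹ = g * bset c.fpf.sq f * g⁻¹ := by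
    have h2 : s₂ * bset c.fpf.sq f = bset c.fpf.sq f * s₂ := (hdp.2.2.1 _ hf s₂ hs₂).symm
    rw [hg, mul_inv_rev]
    calc s₁ * bset c.fpf.sq f * s₁⁻¹ = s₁ * (bset c.fpf.sq f * s₂ * s₂⁻¹) * s₁⁻¹ := by group
      _ = s₁ * (s₂ * bset c.fpf.sq f * s₂⁻¹) * s₁⁻¹ := by rw [h2]
      _ = s₁ * s₂ * bset c.fpf.sq f * (s₂⁻¹ * s₁⁻¹) := by group
  rw [conj_bset c.fpf.sq hgC, hph] at h1
  set f' : PQ ι → ZMod 2 := fun w => f ((swap x (ι' x))⁻¹ w) with hf'
  have hmem : bset c.fpf.sq f' ∈ S₁ := by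
    rw [← h1]
    exact mul_mem (mul_mem hs₁ hf) (inv_mem hs₁)
  have hne' : f' ≠ f := by
    intro h
    apply hne
    rw [h] at h1
    calc s₁ * bset c.fpf.sq f = (s₁ * bset c.fpf.sq f * s₁⁻¹) * s₁ := by group
      _ = bset c.fpf.sq f * s₁ := by rw [h1]
  have hfx : f x ≠ f (ι' x) := by
    intro h
    apply hne'
    ext w
    rw [hf', Equiv.swap_inv]
    simp only
    by_cases h1 : w = x
    · rw [h1, Equiv.swap_apply_left, h]
    · by_cases h2 : w = ι' x
      · rw [h2, Equiv.swap_apply_right, h]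
      · rw [Equiv.swap_apply_of_ne_of_ne h1 h2]
  have hsum : f' + f = Pi.single x 1 + Pi.single (ι' x) 1 := by
    ext w
    rw [Pi.add_apply, hf', Equiv.swap_inv]
    simp only
    by_cases h1 : w = x
    · rw [h1, Equiv.swap_apply_left, ((pair_apply hx' x).1).mpr (Or.inl rfl)]
      exact zmod_two_add_of_ne (Ne.symm hfx)
    · by_cases h2 : w = ι' x
      · rw [h2, Equiv.swap_apply_right, ((pair_apply hx' (ι' x)).1).mpr (Or.inr rfl)]
        exact zmod_two_add_of_ne hfx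
      · rw [Equiv.swap_apply_of_ne_of_ne h1 h2, ((pair_apply hx' w).2).mpr ⟨h1, h2⟩]
        exact zmod_two_add_self _
  rw [← hsum, bset_add]
  exact mul_mem hmem hf

/-- the matching transposition at `x` comes from `S` -/
def Side (c : Ctx ι ι' T) (S : Subgroup (Perm α)) (x : PQ ι) : Prop :=
  bset c.fpf.sq (Pi.single x 1 + Pi.single (ι' x) 1) ∈ S ∧
    ∃ s ∈ S, ph ι s = swap x (ι' x)

lemma sign_bset_single (c : Ctx ι ι' T) (x : PQ ι) :
    Perm.sign (bset c.fpf.sq (Pi.single x 1)) = -1 := by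
  rcases Int.units_eq_one_or (Perm.sign (bset c.fpf.sq (Pi.single x 1))) with h | h
  · rw [sign_bset c.fpf, Finset.sum_pi_single'] at h
    simp at h
  · exact h

/-- an even element of `T` inducing the matching transposition at `x` -/
lemma exists_top (c : Ctx ι ι' T) (x : PQ ι) :
    ∃ g ∈ T ⊓ alternatingGroup α, ph ι g = swap x (ι' x) := by
  obtain ⟨g, hgT, hg⟩ := c.top x
  rcases Int.units_eq_one_or (Perm.sign g) with h | h
  · exact ⟨g, Subgroup.mem_inf.mpr ⟨hgT, Equiv.Perm.mem_alternatingGroup.mpr h⟩, hg⟩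
  · refine ⟨g * bset c.fpf.sq (Pi.single x 1), Subgroup.mem_inf.mpr ⟨mul_mem hgT (c.base _), ?_⟩, ?_⟩
    · rw [Equiv.Perm.mem_alternatingGroup, Perm.sign_mul, h, sign_bset_single c]
      rfl
    · rw [ph_mul (c.le_cent hgT) (bset_mem_cent _ _), ph_bset, mul_one, hg]

lemma side_or (c : Ctx ι ι' T)
    (hdp : Cfsg.IsInternalDirectProduct S₁ S₂ (T ⊓ alternatingGroup α)) (x : PQ ι) :
    Side c S₁ x ∨ Side c S₂ x := by
  classical
  have hx' : x ≠ ι' x := Ne.symm (c.fpf'.ne x)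
  obtain ⟨g, hgG, hg⟩ := exists_top c x
  obtain ⟨s₁, hs₁, s₂, hs₂, hgs⟩ := dp_exists hdp hgG
  have hs₁C := mem_cent_of_mem c hdp hs₁
  have hs₂C := mem_cent_of_mem c (dp_symm hdp) hs₂
  have hmul : ph ι s₁ * ph ι s₂ = swap x (ι' x) := by
    rw [← ph_mul hs₁C hs₂C, ← hgs, hg]
  by_cases C₁ : ∀ f : PQ ι → ZMod 2, bset c.fpf.sq f ∈ S₁ →
      s₁ * bset c.fpf.sq f = bset c.fpf.sq f * s₁
  · by_cases C₂ : ∀ f : PQ ι → ZMod 2, bset c.fpf.sq f ∈ S₂ →
        s₂ * bset c.fpf.sq f = bset c.fpf.sq f * s₂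
    · exfalso
      rw [ph_eq_one_of_commute_dp c hdp hs₁ C₁,
        ph_eq_one_of_commute_dp c (dp_symm hdp) hs₂ C₂, one_mul] at hmul
      have := congrArg (fun σ : Perm (PQ ι) => σ x) hmul
      simp only [Perm.one_apply, Equiv.swap_apply_left] at this
      exact hx' this
    · right
      push Not at C₂
      obtain ⟨f, hf, hne⟩ := C₂
      have hgs' : g = s₂ * s₁ := by rw [hgs]; exact hdp.2.2.1 s₁ hs₁ s₂ hs₂
      refine ⟨pair_mem_of_not_commute c (dp_symm hdp) hs₂ hs₁ hgs' hg hf hne, s₂, hs₂, ?_⟩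
      rw [ph_eq_one_of_commute_dp c hdp hs₁ C₁, one_mul] at hmul
      exact hmul
  · left
    push Not at C₁
    obtain ⟨f, hf, hne⟩ := C₁
    have hmem := pair_mem_of_not_commute c hdp hs₁ hs₂ hgs hg hf hne
    refine ⟨hmem, s₁, hs₁, ?_⟩
    by_cases C₂ : ∀ f : PQ ι → ZMod 2, bset c.fpf.sq f ∈ S₂ →
        s₂ * bset c.fpf.sq f = bset c.fpf.sq f * s₂
    · rw [ph_eq_one_of_commute_dp c (dp_symm hdp) hs₂ C₂, mul_one] at hmul
      exact hmul
    · exfalso
      push Not at C₂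
      obtain ⟨f₂, hf₂, hne₂⟩ := C₂
      have hgs' : g = s₂ * s₁ := by rw [hgs]; exact hdp.2.2.1 s₁ hs₁ s₂ hs₂
      have hmem₂ := pair_mem_of_not_commute c (dp_symm hdp) hs₂ hs₁ hgs' hg hf₂ hne₂
      have : bset c.fpf.sq (Pi.single x 1 + Pi.single (ι' x) 1) ∈ S₁ ⊓ S₂ :=
        Subgroup.mem_inf.mpr ⟨hmem, hmem₂⟩
      rw [hdp.2.2.2.1, Subgroup.mem_bot] at this
      exact pair_ne_one c hx' this

/-- an element of the other factor has coordinates constant on the matched pair -/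
lemma apply_eq_of_side (c : Ctx ι ι' T)
    (hdp : Cfsg.IsInternalDirectProduct S₁ S₂ (T ⊓ alternatingGroup α)) {z : PQ ι}
    (hz : Side c S₁ z) {f : PQ ι → ZMod 2} (hf : bset c.fpf.sq f ∈ S₂) :
    f (ι' z) = f z := by
  obtain ⟨-, s, hs, hph⟩ := hz
  have hcomm : s * bset c.fpf.sq f = bset c.fpf.sq f * s := hdp.2.2.1 s hs _ hf
  have h1 : s * bset c.fpf.sq f * s⁻¹ = bset c.fpf.sq f := by
    rw [hcomm, mul_inv_cancel_right]
  rw [conj_bset c.fpf.sq (mem_cent_of_mem c hdp hs), hph] at h1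
  have h2 := congrFun (bset_injective c.fpf h1) z
  simp only [Equiv.swap_inv, Equiv.swap_apply_left] at h2
  exact h2

lemma side_not_both (c : Ctx ι ι' T)
    (hdp : Cfsg.IsInternalDirectProduct S₁ S₂ (T ⊓ alternatingGroup α)) {z : PQ ι}
    (h1 : Side c S₁ z) (h2 : Side c S₂ z) : False := by
  have : bset c.fpf.sq (Pi.single z 1 + Pi.single (ι' z) 1) ∈ S₁ ⊓ S₂ :=
    Subgroup.mem_inf.mpr ⟨h1.1, h2.1⟩
  rw [hdp.2.2.2.1, Subgroup.mem_bot] at this
  exact pair_ne_one c (Ne.symm (c.fpf'.ne z)) this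

lemma invol' (c : Ctx ι ι' T) (z : PQ ι) : ι' (ι' z) = z := invol_apply c.fpf'.sq z

lemma pair_swap_eq (c : Ctx ι ι' T) (z : PQ ι) :
    (Pi.single (ι' z) 1 + Pi.single (ι' (ι' z)) 1 : PQ ι → ZMod 2) =
      Pi.single z 1 + Pi.single (ι' z) 1 := by
  rw [invol' c, add_comm]

lemma side_apply (c : Ctx ι ι' T) {S : Subgroup (Perm α)} {z : PQ ι} (h : Side c S z) :
    Side c S (ι' z) := by
  obtain ⟨h1, s, hs, hph⟩ := h
  refine ⟨?_, s, hs, ?_⟩
  · rw [pair_swap_eq c]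
    exact h1
  · rw [invol' c, Equiv.swap_comm]
    exact hph

/-- the sum of the coordinates over an `ι'`-invariant set of orbits vanishes for functions
constant on the matched pairs -/
lemma sum_eq_zero_of_invariant (c : Ctx ι ι' T) (A : Finset (PQ ι))
    (hA : ∀ z ∈ A, ι' z ∈ A) (f : PQ ι → ZMod 2) (hf : ∀ z ∈ A, f (ι' z) = f z) :
    ∑ z ∈ A, f z = 0 := by
  apply Finset.sum_involution (fun z _ => ι' z)
  · intro z hz
    rw [hf z hz]
    exact zmod_two_add_self _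
  · intro z _ _
    exact c.fpf'.ne z
  · intro z hz
    exact hA z hz
  · intro z _
    exact invol' c z

lemma side_excl (c : Ctx ι ι' T)
    (hdp : Cfsg.IsInternalDirectProduct S₁ S₂ (T ⊓ alternatingGroup α)) {x y : PQ ι}
    (h1 : Side c S₁ x) (h2 : Side c S₂ y) : False := by
  classical
  have hxy : x ≠ y := by
    rintro rfl
    exact side_not_both c hdp h1 h2
  obtain ⟨f₁, f₂, hf₁, hf₂, hb⟩ :=
    exists_bset_dp c hdp (bset_mem_G c (pair_sum hxy)) (ph_bset c.fpf.sq _)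
  rw [← bset_add] at hb
  have hsum : (Pi.single x 1 + Pi.single y 1 : PQ ι → ZMod 2) = f₁ + f₂ := bset_injective c.fpf hb
  set X₁ : Finset (PQ ι) := Finset.univ.filter (fun z => Side c S₁ z) with hX₁
  -- the part of `f₂` on `X₁`
  have e2 : ∑ z ∈ X₁, f₂ z = 0 := by
    apply sum_eq_zero_of_invariant c
    · intro z hz
      rw [hX₁, Finset.mem_filter] at hz ⊢
      exact ⟨Finset.mem_univ _, side_apply c hz.2⟩
    · intro z hz
      rw [hX₁, Finset.mem_filter] at hz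
      exact apply_eq_of_side c hdp hz.2 hf₂
  -- the part of `f₁` off `X₁`
  have e1' : ∑ z ∈ Finset.univ.filter (fun z => ¬ Side c S₁ z), f₁ z = 0 := by
    apply sum_eq_zero_of_invariant c
    · intro z hz
      rw [Finset.mem_filter] at hz ⊢
      refine ⟨Finset.mem_univ _, fun h => hz.2 ?_⟩
      have := side_apply c h
      rwa [invol' c] at this
    · intro z hz
      rw [Finset.mem_filter] at hz
      have hz2 : Side c S₂ z := (side_or c hdp z).resolve_left hz.2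
      exact apply_eq_of_side c (dp_symm hdp) hz2 hf₁
  have e1all : ∑ z, f₁ z = 0 := by
    rw [← sign_bset c.fpf]
    exact Equiv.Perm.mem_alternatingGroup.mp (Subgroup.mem_inf.mp (hdp.1 hf₁)).2
  have e1 : ∑ z ∈ X₁, f₁ z = 0 := by
    have := Finset.sum_filter_add_sum_filter_not Finset.univ (fun z => Side c S₁ z) f₁
    rw [e1', add_zero, e1all] at this
    exact this
  have e3 : ∑ z ∈ X₁, (Pi.single x 1 + Pi.single y 1 : PQ ι → ZMod 2) z = 0 := by
    rw [hsum]
    simp only [Pi.add_apply]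
    rw [Finset.sum_add_distrib, e1, e2, add_zero]
  simp only [Pi.add_apply] at e3
  rw [Finset.sum_add_distrib, Finset.sum_pi_single', Finset.sum_pi_single'] at e3
  have hx1 : x ∈ X₁ := by
    rw [hX₁, Finset.mem_filter]
    exact ⟨Finset.mem_univ _, h1⟩
  have hy1 : y ∉ X₁ := by
    rw [hX₁, Finset.mem_filter]
    rintro ⟨-, h⟩
    exact side_not_both c hdp h h2
  rw [if_pos hx1, if_neg hy1, add_zero] at e3
  exact one_ne_zero e3

/-- products of the pair elements -/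
lemma bset_mem_of_invariant (c : Ctx ι ι' T) {S : Subgroup (Perm α)}
    (hall : ∀ z : PQ ι, bset c.fpf.sq (Pi.single z 1 + Pi.single (ι' z) 1) ∈ S) :
    ∀ n : ℕ, ∀ f : PQ ι → ZMod 2, (∀ z, f (ι' z) = f z) →
      (Finset.univ.filter (fun z => f z = 1)).card = n → bset c.fpf.sq f ∈ S := by
  intro n
  induction n using Nat.strong_induction_on with
  | _ n ih =>
    intro f hf hn
    by_cases h0 : ∀ z, f z = 0
    · have : f = 0 := funext h0
      rw [this, bset_zero]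
      exact one_mem _
    · push Not at h0
      obtain ⟨z, hz⟩ := h0
      have hz1 : f z = 1 := (zmod_two_cases (f z)).resolve_left hz
      have hzz : z ≠ ι' z := Ne.symm (c.fpf'.ne z)
      set p : PQ ι → ZMod 2 := Pi.single z 1 + Pi.single (ι' z) 1 with hp
      set f' : PQ ι → ZMod 2 := f + p with hf'
      have hff : f = f' + p := by
        ext w
        rw [hf', Pi.add_apply, Pi.add_apply, add_assoc, zmod_two_add_self, add_zero]
      have hpinv : ∀ w, p (ι' w) = p w := by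
        intro w
        rcases zmod_two_cases (p w) with h | h
        · rw [h]
          rw [hp, (pair_apply hzz _).2] at h ⊢
          refine ⟨fun e => h.2 ?_, fun e => h.1 ?_⟩
          · rw [← e, invol' c]
          · have := congrArg ι' e
            rwa [invol' c, invol' c] at this
        · rw [h]
          rw [hp, (pair_apply hzz _).1] at h ⊢
          rcases h with h | h
          · right; rw [h]
          · left; rw [h, invol' c]
      have hf'inv : ∀ w, f' (ι' w) = f' w := by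
        intro w
        rw [hf', Pi.add_apply, Pi.add_apply, hf w, hpinv w]
      have hsub : Finset.univ.filter (fun w => f' w = 1) ⊂
          Finset.univ.filter (fun w => f w = 1) := by
        rw [Finset.ssubset_iff_of_subset]
        · refine ⟨z, Finset.mem_filter.mpr ⟨Finset.mem_univ _, hz1⟩, ?_⟩
          rw [Finset.mem_filter]
          rintro ⟨-, h⟩
          rw [hf', Pi.add_apply, hz1, hp, ((pair_apply hzz z).1).mpr (Or.inl rfl)] at h
          exact absurd h (by decide)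
        · intro w hw
          rw [Finset.mem_filter] at hw ⊢
          refine ⟨Finset.mem_univ _, ?_⟩
          have hw2 := hw.2
          rw [hf', Pi.add_apply] at hw2
          rcases zmod_two_cases (p w) with h | h
          · rw [h, add_zero] at hw2
            exact hw2
          · exfalso
            rw [hp, (pair_apply hzz w).1] at h
            rcases h with h | h
            · rw [h, hz1, hp, ((pair_apply hzz z).1).mpr (Or.inl rfl)] at hw2
              exact absurd hw2 (by decide)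
            · rw [h, hf z, hz1, hp, ((pair_apply hzz (ι' z)).1).mpr (Or.inr rfl)] at hw2
              exact absurd hw2 (by decide)
      have hlt := Finset.card_lt_card hsub
      rw [hn] at hlt
      rw [hff, bset_add]
      exact mul_mem (ih _ hlt f' hf'inv rfl) (hall z)

/-- if all matching transpositions come from `S₁`, the other factor is trivial -/
lemma eq_bot_of_side (c : Ctx ι ι' T)
    (hdp : Cfsg.IsInternalDirectProduct S₁ S₂ (T ⊓ alternatingGroup α))
    (hall : ∀ x, Side c S₁ x) : S₂ = ⊥ := by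
  have hdp' := dp_symm hdp
  -- elements of `S₂` preserve the matched pairs
  have G1 : ∀ t ∈ S₂, ∀ x : PQ ι, ph ι t x = x ∨ ph ι t x = ι' x := by
    intro t ht x
    have hx' : x ≠ ι' x := Ne.symm (c.fpf'.ne x)
    have hcomm := hdp.2.2.1 _ (hall x).1 t ht
    have h1 : t * bset c.fpf.sq (Pi.single x 1 + Pi.single (ι' x) 1) * t⁻¹ =
        bset c.fpf.sq (Pi.single x 1 + Pi.single (ι' x) 1) := by
      rw [← hcomm, mul_inv_cancel_right]
    rw [conj_bset c.fpf.sq (mem_cent_of_mem c hdp' ht)] at h1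
    have h2 := congrFun (bset_injective c.fpf h1) (ph ι t x)
    have h3 : (ph ι t)⁻¹ (ph ι t x) = x := by simp
    simp only [h3] at h2
    rw [((pair_apply hx' x).1).mpr (Or.inl rfl)] at h2
    exact (pair_apply hx' _).1.mp h2.symm
  rw [eq_bot_iff]
  intro s hs
  rw [Subgroup.mem_bot]
  have hsC := mem_cent_of_mem c hdp' hs
  have G3 : ∀ f : PQ ι → ZMod 2, bset c.fpf.sq f ∈ S₂ →
      s * bset c.fpf.sq f = bset c.fpf.sq f * s := by
    intro f hf
    have h1 : s * bset c.fpf.sq f * s⁻¹ = bset c.fpf.sq f := by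
      rw [conj_bset c.fpf.sq hsC]
      congr 1
      ext w
      rw [← ph_inv hsC]
      rcases G1 s⁻¹ (inv_mem hs) w with h | h
      · rw [h]
      · rw [h]
        exact apply_eq_of_side c hdp (hall w) hf
    calc s * bset c.fpf.sq f = (s * bset c.fpf.sq f * s⁻¹) * s := by group
      _ = bset c.fpf.sq f * s := by rw [h1]
  have G4 : ph ι s = 1 := ph_eq_one_of_commute_dp c hdp' hs G3
  obtain ⟨f, hf⟩ := exists_bset c.fpf hsC G4
  have hfS₂ : bset c.fpf.sq f ∈ S₂ := hf ▸ hs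
  have hfinv : ∀ z, f (ι' z) = f z := fun z => apply_eq_of_side c hdp (hall z) hfS₂
  have hS₁ : bset c.fpf.sq f ∈ S₁ :=
    bset_mem_of_invariant c (fun z => (hall z).1) _ f hfinv rfl
  have : bset c.fpf.sq f ∈ S₁ ⊓ S₂ := Subgroup.mem_inf.mpr ⟨hS₁, hfS₂⟩
  rw [hdp.2.2.2.1, Subgroup.mem_bot] at this
  rw [hf, this]

/-- the even part of `T` is directly indecomposable -/
theorem indec (c : Ctx ι ι' T)
    (hdp : Cfsg.IsInternalDirectProduct S₁ S₂ (T ⊓ alternatingGroup α)) :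
    S₁ = ⊥ ∨ S₂ = ⊥ := by
  obtain ⟨x₀⟩ := c.ne
  rcases side_or c hdp x₀ with h | h
  · right
    apply eq_bot_of_side c hdp
    intro y
    rcases side_or c hdp y with hy | hy
    · exact hy
    · exact (side_excl c hdp h hy).elim
  · left
    apply eq_bot_of_side c (dp_symm hdp)
    intro y
    rcases side_or c hdp y with hy | hy
    · exact (side_excl c hdp hy h).elim
    · exact hy

end main

end Cfsg.Agent.Lib.Helper44.AltIndec
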