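import Mathlib
import Cfsg.Agent.Lib.Helper44.SylMaxSym

set_option autoImplicit false

namespace Cfsg.Agent.Lib.Helper44.SylMax

open Equiv MulAction Set
open scoped Pointwise

section altFwd

variable {n : ℕ}

lemma exists_sylow_perm_ge (R : Sylow 2 (alternatingGroup (Fin n))) :
    ∃ Rt : Sylow 2 (Perm (Fin n)),
      ∀ x : alternatingGroup (Fin n), x ∈ R ↔ (x : Perm (Fin n)) ∈ Rt := by
  have hp : IsPGroup 2 ((R : Subgroup (alternatingGroup (Fin n))).map
      (alternatingGroup (Fin n)).subtype) := R.isPGroup'.map _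
  obtain ⟨Rt, hRt⟩ := hp.exists_le_sylow
  refine ⟨Rt, fun x => ⟨fun hx => hRt ⟨x, hx, rfl⟩, fun hx => ?_⟩⟩
  have hQ : IsPGroup 2 ((Rt : Subgroup (Perm (Fin n))).comap (alternatingGroup (Fin n)).subtype) :=
    Rt.isPGroup'.comap_of_injective _ (Subgroup.subtype_injective _)
  have hle : (R : Subgroup (alternatingGroup (Fin n))) ≤
      (Rt : Subgroup (Perm (Fin n))).comap (alternatingGroup (Fin n)).subtype :=
    fun y hy => hRt ⟨y, hy, rfl⟩
  have := R.is_maximal' hQ hle
  have hx' : x ∈ (Rt : Subgroup (Perm (Fin n))).comap (alternatingGroup (Fin n)).subtype := hx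
  rw [this] at hx'
  exact hx'

theorem alt_not_unique_odd (hn : 5 ≤ n) (hodd : Odd n) (hpow : ∀ i, n ≠ 2 ^ i + 1)
    (R : Sylow 2 (alternatingGroup (Fin n))) :
    ¬ ∃! M : Subgroup (alternatingGroup (Fin n)), IsCoatom M ∧
      (R : Subgroup (alternatingGroup (Fin n))) ≤ M := by
  obtain ⟨Rt, hRt⟩ := exists_sylow_perm_ge R
  obtain ⟨ω, O, hfix, hO, hωO, hOne, q1, q2, hne, hq1, hq2, hq1O, hq2O⟩ :=
    odd_sets hn hodd hpow Rt
  have hcard : Nat.card (Fin n) = n := by simp
  have hM1 : IsCoatom (stabilizer (alternatingGroup (Fin n)) ({ω} : Set (Fin n))) := by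
    apply alternatingGroup.isCoatom_stabilizer (s := ({ω} : Set (Fin n)))
      (Set.singleton_nonempty ω) ⟨q1, by simpa using hq1⟩
    rw [Set.ncard_singleton, hcard]
    omega
  have hM2 : IsCoatom (stabilizer (alternatingGroup (Fin n)) O) := by
    apply alternatingGroup.isCoatom_stabilizer hOne ⟨ω, hωO⟩
    rw [hcard]
    intro h
    obtain ⟨r, hr⟩ := hodd
    omega
  apply not_existsUnique_of_two_coatoms _ _ _ hM1 hM2
  · intro x hx
    rw [stabilizer_singleton, mem_stabilizer_iff]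
    exact hfix x ((hRt x).mp hx)
  · intro x hx
    exact mem_stabilizer_iff.mpr (hO x ((hRt x).mp hx))
  · intro heq
    have hs1 : swap ω q1 • O = O := by
      have : swap ω q1 ∈ stabilizer (Perm (Fin n)) O := by
        rw [← stabilizer_compl]
        exact Equiv.Perm.swap_mem_stabilizer hωO hq1O
      exact mem_stabilizer_iff.mp this
    have hs2 : swap ω q2 • O = O := by
      have : swap ω q2 ∈ stabilizer (Perm (Fin n)) O := by
        rw [← stabilizer_compl]
        exact Equiv.Perm.swap_mem_stabilizer hωO hq2O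
      exact mem_stabilizer_iff.mp this
    have heven : swap ω q1 * swap ω q2 ∈ alternatingGroup (Fin n) := by
      rw [Equiv.Perm.mem_alternatingGroup, Equiv.Perm.sign_mul, Equiv.Perm.sign_swap hq1.symm,
        Equiv.Perm.sign_swap hq2.symm]
      rfl
    have hmem : (⟨swap ω q1 * swap ω q2, heven⟩ : alternatingGroup (Fin n)) ∈
        stabilizer (alternatingGroup (Fin n)) O := by
      rw [mem_stabilizer_iff]
      show (swap ω q1 * swap ω q2) • O = O
      rw [mul_smul, hs2, hs1]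
    rw [← heq, stabilizer_singleton, mem_stabilizer_iff] at hmem
    have h1 : (swap ω q1 * swap ω q2) ω = ω := hmem
    rw [Equiv.Perm.mul_apply, Equiv.swap_apply_left,
      Equiv.swap_apply_of_ne_of_ne hq2 (Ne.symm hne)] at h1
    exact hq2 h1

lemma three_not_comm {α : Type*} [DecidableEq α] {ι : Perm α} (hι : ι * ι = 1)
    (hf : ∀ v, ι v ≠ v) {p q : α} (hpq : p ≠ q) (hq : q ≠ ι p) :
    swap p (ι p) * swap p q ∉ Subgroup.centralizer ({ι} : Set (Perm α)) := by
  have hqp : p ≠ ι q := fun e => hq (by rw [e, invol_apply hι])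
  intro hmem
  rw [Subgroup.mem_centralizer_iff] at hmem
  have h1 := congrArg (fun e : Perm α => e q) (hmem ι rfl)
  simp only [Equiv.Perm.mul_apply, Equiv.swap_apply_right, Equiv.swap_apply_left] at h1
  rw [invol_apply hι, Equiv.swap_apply_of_ne_of_ne (Ne.symm hqp) (hf q),
    Equiv.swap_apply_of_ne_of_ne (Ne.symm hqp) (fun e => hpq (ι.injective e).symm)] at h1
  exact hqp h1

lemma sign_three {α : Type*} [DecidableEq α] [Fintype α] {a b c : α} (hab : a ≠ b) (hac : a ≠ c) :
    Equiv.Perm.sign (swap a b * swap a c) = 1 := by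
  rw [Equiv.Perm.sign_mul, Equiv.Perm.sign_swap hab, Equiv.Perm.sign_swap hac]
  rfl

theorem alt_not_unique_even (hn : 5 ≤ n) (heven : Even n) (hpow : ∀ i, n ≠ 2 ^ i)
    (R : Sylow 2 (alternatingGroup (Fin n))) :
    ¬ ∃! M : Subgroup (alternatingGroup (Fin n)), IsCoatom M ∧
      (R : Subgroup (alternatingGroup (Fin n))) ≤ M := by
  obtain ⟨Rt, hRt⟩ := exists_sylow_perm_ge R
  obtain ⟨O, ι, hO, hOne, hOc, hcardO, hι, hf, hc⟩ := even_sets hn heven hpow Rt
  have hcard : Nat.card (Fin n) = n := by simp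
  have hM1 : IsCoatom (stabilizer (alternatingGroup (Fin n)) O) :=
    alternatingGroup.isCoatom_stabilizer hOne hOc (by rw [hcard]; exact hcardO)
  obtain ⟨p, q, hp, hq, hqp⟩ := exists_pq (by rw [Fintype.card_fin]; omega) O hOne hOc ι
  have hpq : p ≠ q := fun e => hq (e ▸ hp)
  have hcomm : dswap ι p q * ι = ι * dswap ι p q := dswap_comm hι hf hpq hqp
  have heven' : dswap ι p q ∈ alternatingGroup (Fin n) :=
    Equiv.Perm.mem_alternatingGroup.mpr (sign_dswap hpq)
  have hnot : (⟨dswap ι p q, heven'⟩ : alternatingGroup (Fin n)) ∉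
      stabilizer (alternatingGroup (Fin n)) O := by
    intro hmem
    rw [mem_stabilizer_iff] at hmem
    have hmem' : dswap ι p q • O = O := hmem
    have : dswap ι p q • p ∈ dswap ι p q • O := Set.smul_mem_smul_set hp
    rw [hmem', Equiv.Perm.smul_def, dswap_apply_left hι hf hqp] at this
    exact hq this
  have hin : (⟨dswap ι p q, heven'⟩ : alternatingGroup (Fin n)) ∈
      (Subgroup.centralizer ({ι} : Set (Perm (Fin n)))).subgroupOf (alternatingGroup (Fin n)) := by
    rw [Subgroup.mem_subgroupOf, Subgroup.mem_centralizer_iff]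
    rintro y rfl
    exact hcomm.symm
  apply not_existsUnique_coatom _ (stabilizer (alternatingGroup (Fin n)) O)
    ((Subgroup.centralizer ({ι} : Set (Perm (Fin n)))).subgroupOf (alternatingGroup (Fin n)))
  · intro x hx
    exact mem_stabilizer_iff.mpr (hO x ((hRt x).mp hx))
  · intro x hx
    rw [Subgroup.mem_subgroupOf, Subgroup.mem_centralizer_iff]
    rintro y rfl
    exact (hc x ((hRt x).mp hx)).symm
  · exact hM1.1
  · intro htop
    have h3 : swap p (ι p) * swap p q ∈ alternatingGroup (Fin n) :=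
      Equiv.Perm.mem_alternatingGroup.mpr (sign_three (Ne.symm (hf p)) hpq)
    have : (⟨_, h3⟩ : alternatingGroup (Fin n)) ∈
        (Subgroup.centralizer ({ι} : Set (Perm (Fin n)))).subgroupOf
          (alternatingGroup (Fin n)) := by
      rw [htop]
      exact Subgroup.mem_top _
    rw [Subgroup.mem_subgroupOf] at this
    exact three_not_comm hι hf hpq hqp this
  · apply hM1.2
    apply lt_of_le_of_ne le_sup_left
    intro heq
    apply hnot
    rw [heq]
    exact Subgroup.mem_sup_right hin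

theorem alt_not_unique_pow (j : ℕ) (hj : 2 ≤ j) (hn : n = 2 * 2 ^ j)
    (R : Sylow 2 (alternatingGroup (Fin n))) :
    ¬ ∃! M : Subgroup (alternatingGroup (Fin n)), IsCoatom M ∧
      (R : Subgroup (alternatingGroup (Fin n))) ≤ M := by
  obtain ⟨Rt, hRt⟩ := exists_sylow_perm_ge R
  obtain ⟨B, ι, p, q, w1, w2, hBcard, hBc, hB, hι, hf, hc, hp, hq, hqp, hw1B, hw1, hw2B, hw2⟩ :=
    pow_sets j hj hn Rt
  have h4 : 4 ≤ 2 ^ j := by
    calc 4 = 2 ^ 2 := by norm_num
      _ ≤ 2 ^ j := Nat.pow_le_pow_right (by norm_num) hj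
  have hpq : p ≠ q := fun e => hq (e ▸ hp)
  have hcomm : dswap ι p q * ι = ι * dswap ι p q := dswap_comm hι hf hpq hqp
  have heven' : dswap ι p q ∈ alternatingGroup (Fin n) :=
    Equiv.Perm.mem_alternatingGroup.mpr (sign_dswap hpq)
  have hin : (⟨dswap ι p q, heven'⟩ : alternatingGroup (Fin n)) ∈
      (Subgroup.centralizer ({ι} : Set (Perm (Fin n)))).subgroupOf (alternatingGroup (Fin n)) := by
    rw [Subgroup.mem_subgroupOf, Subgroup.mem_centralizer_iff]
    rintro y rfl
    exact hcomm.symm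
  have hhq : dswap ι p q • p = q := dswap_apply_left hι hf hqp
  have hne1 : dswap ι p q • B ≠ B := by
    intro e
    have : dswap ι p q • p ∈ dswap ι p q • B := Set.smul_mem_smul_set hp
    rw [e, hhq] at this
    exact hq this
  have hne2 : dswap ι p q • B ≠ Bᶜ := by
    intro e
    have : dswap ι p q • w1 ∈ dswap ι p q • B := Set.smul_mem_smul_set hw1B
    rw [e, Equiv.Perm.smul_def, hw1] at this
    exact this hw1B
  have hnot : dswap ι p q ∉ bipStab B := by
    rw [mem_bipStab]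
    rintro (e | e)
    · exact hne1 e
    · exact hne2 e
  apply not_existsUnique_coatom _
    ((Subgroup.centralizer ({ι} : Set (Perm (Fin n)))).subgroupOf (alternatingGroup (Fin n)))
    ((bipStab B).subgroupOf (alternatingGroup (Fin n)))
  · intro x hx
    rw [Subgroup.mem_subgroupOf, Subgroup.mem_centralizer_iff]
    rintro y rfl
    exact (hc x ((hRt x).mp hx)).symm
  · intro x hx
    rw [Subgroup.mem_subgroupOf]
    exact hB x ((hRt x).mp hx)
  · intro htop
    have h3 : swap p (ι p) * swap p q ∈ alternatingGroup (Fin n) :=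
      Equiv.Perm.mem_alternatingGroup.mpr (sign_three (Ne.symm (hf p)) hpq)
    have : (⟨_, h3⟩ : alternatingGroup (Fin n)) ∈
        (Subgroup.centralizer ({ι} : Set (Perm (Fin n)))).subgroupOf
          (alternatingGroup (Fin n)) := by
      rw [htop]
      exact Subgroup.mem_top _
    rw [Subgroup.mem_subgroupOf] at this
    exact three_not_comm hι hf hpq hqp this
  · intro htop
    apply hnot
    have : (⟨dswap ι p q, heven'⟩ : alternatingGroup (Fin n)) ∈
        (bipStab B).subgroupOf (alternatingGroup (Fin n)) := by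
      rw [htop]
      exact Subgroup.mem_top _
    exact Subgroup.mem_subgroupOf.mp this
  · have hBnt : B.Nontrivial := by
      rw [← Set.one_lt_ncard_iff_nontrivial]
      omega
    have hBcnt : Bᶜ.Nontrivial := by
      rw [← Set.one_lt_ncard_iff_nontrivial]
      omega
    apply alt_eq_top_of_stabilizer_lt (s := B) hBnt hBcnt
      (by rw [Nat.card_eq_fintype_card, Fintype.card_fin]; omega) (by rw [hBcard, hBc])
    · apply lt_of_le_of_ne
      · intro x hx
        apply Subgroup.mem_sup_right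
        rw [Subgroup.mem_subgroupOf, mem_bipStab]
        left
        exact mem_stabilizer_iff.mp hx
      · intro heq
        have h1 : (⟨dswap ι p q, heven'⟩ : alternatingGroup (Fin n)) ∈
            stabilizer (alternatingGroup (Fin n)) B := by
          rw [heq]
          exact Subgroup.mem_sup_left hin
        exact hne1 (mem_stabilizer_iff.mp h1)
    · intro hblk
      have hK : (⟨dswap ι p q, heven'⟩ : alternatingGroup (Fin n)) ∈
          (Subgroup.centralizer ({ι} : Set (Perm (Fin n)))).subgroupOf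
            (alternatingGroup (Fin n)) ⊔ (bipStab B).subgroupOf (alternatingGroup (Fin n)) :=
        Subgroup.mem_sup_left hin
      rcases isBlock_iff_smul_eq_or_disjoint.mp hblk ⟨_, hK⟩ with e | e
      · have e' : dswap ι p q • Bᶜ = Bᶜ := e
        rw [Set.smul_set_compl, compl_inj_iff] at e'
        exact hne1 e'
      · have e' : Disjoint (dswap ι p q • Bᶜ) Bᶜ := e
        rw [Set.disjoint_left] at e'
        apply e' (a := w2) _ hw2B
        have : dswap ι p q • w2 ∈ dswap ι p q • Bᶜ := Set.smul_mem_smul_set hw2B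
        rwa [Equiv.Perm.smul_def, hw2] at this

end altFwd

section pairs

/-- the pairing `2i ↔ 2i+1` on `Fin n` (the last point is fixed when `n` is odd) -/
def pairFun (n : ℕ) (v : Fin n) : Fin n :=
  if h : v.val % 2 = 0 then (if h' : v.val + 1 < n then ⟨v.val + 1, h'⟩ else v)
  else ⟨v.val - 1, by omega⟩

lemma pairFun_val (n : ℕ) (v : Fin n) :
    (pairFun n v).val = if v.val % 2 = 0 then (if v.val + 1 < n then v.val + 1 else v.val)
      else v.val - 1 := by
  unfold pairFun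
  split_ifs <;> rfl

lemma pairFun_invol (n : ℕ) : Function.Involutive (pairFun n) := by
  intro v
  apply Fin.ext
  rw [pairFun_val, pairFun_val]
  have := v.isLt
  split_ifs <;> omega

/-- the pairing as a permutation -/
def pairPerm (n : ℕ) : Perm (Fin n) := (pairFun_invol n).toPerm

lemma pairPerm_mul_self (n : ℕ) : pairPerm n * pairPerm n = 1 := by
  ext v
  show ((pairFun n (pairFun n v)) : ℕ) = v
  rw [pairFun_invol n v]

lemma pairPerm_fixed {n : ℕ} (v : Fin n) : pairPerm n v = v ↔ v.val % 2 = 0 ∧ v.val + 1 = n := by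
  have hv : (pairPerm n v).val = (pairFun n v).val := rfl
  rw [Fin.ext_iff, hv, pairFun_val]
  have := v.isLt
  split_ifs <;> omega

variable {α : Type*} [DecidableEq α]

/-- permutations preserving each pair of an involution -/
def pairGroup (ι : Perm α) (hι : ι * ι = 1) : Subgroup (Perm α) where
  carrier := {σ | ∀ v, σ v = v ∨ σ v = ι v}
  one_mem' := fun v => Or.inl rfl
  mul_mem' := by
    intro σ τ hσ hτ v
    show σ (τ v) = v ∨ σ (τ v) = ι v
    rcases hτ v with h | h <;> rcases hσ (τ v) with h' | h'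
    · left; rw [h', h]
    · right; rw [h', h]
    · right; rw [h', h]
    · left; rw [h', h, invol_apply hι]
  inv_mem' := by
    intro σ hσ v
    show σ⁻¹ v = v ∨ σ⁻¹ v = ι v
    have h0 : σ (σ⁻¹ v) = v := by simp
    rcases hσ (σ⁻¹ v) with h | h
    · left
      rw [h0] at h
      exact h.symm
    · right
      rw [h0] at h
      have h2 := congrArg ι h
      rw [invol_apply hι] at h2
      exact h2.symm

omit [DecidableEq α] in
lemma pairGroup_sq (ι : Perm α) (hι : ι * ι = 1) (σ : Perm α) (hσ : σ ∈ pairGroup ι hι) :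
    σ * σ = 1 := by
  ext v
  show σ (σ v) = v
  rcases hσ v with h | h
  · rw [h, h]
  · rcases hσ (σ v) with h' | h'
    · have : σ v = v := σ.injective h'
      rw [this, this]
    · rw [h', h, invol_apply hι]

lemma swap_mem_pairGroup (ι : Perm α) (hι : ι * ι = 1) (u : α) :
    swap u (ι u) ∈ pairGroup ι hι := by
  intro v
  by_cases h1 : v = u
  · right
    rw [h1, Equiv.swap_apply_left]
  · by_cases h2 : v = ι u
    · right
      rw [h2, Equiv.swap_apply_right, invol_apply hι]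
    · left
      exact Equiv.swap_apply_of_ne_of_ne h1 h2

end pairs

section threecycle

variable {α : Type*} [DecidableEq α] [Fintype α]

/-- two double transpositions whose supports meet in exactly one point: the square of the product
is a 3-cycle -/
lemma three_cycle_of_overlap {x1 x2 x3 x4 y2 y3 y4 : α}
    (h12 : x1 ≠ x2) (h13 : x1 ≠ x3) (h14 : x1 ≠ x4) (h23 : x2 ≠ x3) (h24 : x2 ≠ x4)
    (h34 : x3 ≠ x4) (k12 : x1 ≠ y2) (k13 : x1 ≠ y3) (k14 : x1 ≠ y4) (k23 : y2 ≠ y3)
    (k24 : y2 ≠ y4) (k34 : y3 ≠ y4) (m22 : x2 ≠ y2) (m23 : x2 ≠ y3) (m24 : x2 ≠ y4)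
    (m32 : x3 ≠ y2) (m33 : x3 ≠ y3) (m34 : x3 ≠ y4) (m42 : x4 ≠ y2) (m43 : x4 ≠ y3)
    (m44 : x4 ≠ y4) :
    (((swap x1 x2 * swap x3 x4) * (swap x1 y2 * swap y3 y4)) ^ 2).IsThreeCycle := by
  have c1 : swap x3 x4 * swap x1 y2 = swap x1 y2 * swap x3 x4 :=
    swap_comm_of_disjoint h34 k12 h13.symm m32 h14.symm m42
  have c2 : swap x3 x4 * swap x1 x2 = swap x1 x2 * swap x3 x4 :=
    swap_comm_of_disjoint h34 h12 h13.symm h23.symm h14.symm h24.symm
  have c3 : swap y3 y4 * swap x1 x2 = swap x1 x2 * swap y3 y4 :=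
    swap_comm_of_disjoint k34 h12 k13.symm m23.symm k14.symm m24.symm
  have c4 : swap y3 y4 * swap x1 y2 = swap x1 y2 * swap y3 y4 :=
    swap_comm_of_disjoint k34 k12 k13.symm k23.symm k14.symm k24.symm
  have c5 : swap x3 x4 * swap y3 y4 = swap y3 y4 * swap x3 x4 :=
    swap_comm_of_disjoint h34 k34 m33 m34 m43 m44
  have e : ((swap x1 x2 * swap x3 x4) * (swap x1 y2 * swap y3 y4)) ^ 2 =
      (swap x1 x2 * swap x1 y2) ^ 2 := by
    have e1 : (swap x1 x2 * swap x3 x4) * (swap x1 y2 * swap y3 y4) =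
        (swap x1 x2 * swap x1 y2) * (swap x3 x4 * swap y3 y4) := by
      rw [mul_assoc, ← mul_assoc (swap x3 x4), c1, mul_assoc, ← mul_assoc]
    have e2 : (swap x3 x4 * swap y3 y4) * (swap x1 x2 * swap x1 y2) =
        (swap x1 x2 * swap x1 y2) * (swap x3 x4 * swap y3 y4) := by
      rw [mul_assoc, ← mul_assoc (swap y3 y4), c3, mul_assoc, c4, ← mul_assoc, ← mul_assoc, c2,
        mul_assoc (swap x1 x2), c1]
      simp only [mul_assoc]
    have e3 : (swap x3 x4 * swap y3 y4) * (swap x3 x4 * swap y3 y4) = 1 := by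
      rw [mul_assoc, ← mul_assoc (swap y3 y4), ← c5, mul_assoc, Equiv.swap_mul_self, mul_one,
        Equiv.swap_mul_self]
    rw [e1, pow_two, pow_two]
    calc (swap x1 x2 * swap x1 y2) * (swap x3 x4 * swap y3 y4) *
          ((swap x1 x2 * swap x1 y2) * (swap x3 x4 * swap y3 y4))
        = (swap x1 x2 * swap x1 y2) * ((swap x3 x4 * swap y3 y4) *
          (swap x1 x2 * swap x1 y2)) * (swap x3 x4 * swap y3 y4) := by simp only [mul_assoc]
      _ = (swap x1 x2 * swap x1 y2) * ((swap x1 x2 * swap x1 y2) *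
          (swap x3 x4 * swap y3 y4)) * (swap x3 x4 * swap y3 y4) := by rw [e2]
      _ = (swap x1 x2 * swap x1 y2) * (swap x1 x2 * swap x1 y2) *
          ((swap x3 x4 * swap y3 y4) * (swap x3 x4 * swap y3 y4)) := by simp only [mul_assoc]
      _ = (swap x1 x2 * swap x1 y2) * (swap x1 x2 * swap x1 y2) := by rw [e3, mul_one]
  rw [e]
  exact (Equiv.Perm.isThreeCycle_swap_mul_swap_same h12 k12 m22).isThreeCycle_sq

end threecycle

section altData

variable {n : ℕ}

lemma exists_ne_three (h : 4 ≤ n) (a b c : Fin n) : ∃ w : Fin n, w ≠ a ∧ w ≠ b ∧ w ≠ c := by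
  by_contra hcon
  push Not at hcon
  have : Fintype.card (Fin n) ≤ 3 := by
    calc Fintype.card (Fin n) = (Finset.univ : Finset (Fin n)).card := rfl
      _ ≤ ({a, b, c} : Finset (Fin n)).card := Finset.card_le_card (fun x _ => by
          by_cases h1 : x = a
          · simp [h1]
          · by_cases h2 : x = b
            · simp [h2]
            · simp [hcon x h1 h2])
      _ ≤ 3 := Finset.card_le_three
  rw [Fintype.card_fin] at this
  omega

lemma alt_trans {k : ℕ} (hk : 2 ≤ k) (hn : n = 2 ^ k + 1) (Rt : Sylow 2 (Perm (Fin n))) :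
    ∃ ω : Fin n, (∀ x ∈ Rt, x ω = ω) ∧
      ∀ u v, u ≠ ω → v ≠ ω → ∃ x ∈ Rt, Equiv.Perm.sign x = 1 ∧ x u = v := by
  have h4 : 4 ≤ 2 ^ k := by
    calc 4 = 2 ^ 2 := by norm_num
      _ ≤ 2 ^ k := Nat.pow_le_pow_right (by norm_num) hk
  have hodd : ¬ 2 ∣ Nat.card (Fin n) := by
    rw [Nat.card_eq_fintype_card, Fintype.card_fin, hn]
    have : 2 ∣ 2 ^ k := dvd_pow_self 2 (by omega)
    omega
  obtain ⟨ω, hω⟩ := Rt.isPGroup'.nonempty_fixed_point_of_prime_not_dvd_card (Fin n) hodd
  have hfix : ∀ x ∈ Rt, x ω = ω := fun x hx => hω ⟨x, hx⟩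
  obtain ⟨c, hcR, hcyc, hcard⟩ := exists_cycle_mem (by omega) hn Rt
  have hsupp : ∀ u, u ≠ ω → u ∈ c.support := by
    have hsub : c.support ⊆ Finset.univ.erase ω := by
      intro u hu
      rw [Finset.mem_erase]
      refine ⟨fun e => ?_, Finset.mem_univ _⟩
      rw [Equiv.Perm.mem_support] at hu
      exact hu (e ▸ hfix c hcR)
    have heq : c.support = Finset.univ.erase ω := by
      apply Finset.eq_of_subset_of_card_le hsub
      rw [Finset.card_erase_of_mem (Finset.mem_univ _), Finset.card_univ, Fintype.card_fin,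
        hcard, hn]
      simp
    intro u hu
    rw [heq]
    simp [hu]
  have htr : ∀ u v, u ≠ ω → v ≠ ω → ∃ r ∈ Rt, r u = v := by
    intro u v hu hv
    obtain ⟨i, hi⟩ := hcyc.sameCycle (Equiv.Perm.mem_support.mp (hsupp u hu))
      (Equiv.Perm.mem_support.mp (hsupp v hv))
    exact ⟨c ^ i, Subgroup.zpow_mem _ hcR i, hi⟩
  obtain ⟨a, b, hab, hswap⟩ := exists_swap_mem (by omega) Rt
  have L1 : ∀ u v, u ≠ ω → v ≠ ω → ((u ≠ a ∧ u ≠ b) ∨ (v ≠ a ∧ v ≠ b)) →
      ∃ x ∈ Rt, Equiv.Perm.sign x = 1 ∧ x u = v := by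
    intro u v hu hv hcase
    obtain ⟨x, hx, hxu⟩ := htr u v hu hv
    rcases Int.units_eq_one_or (Equiv.Perm.sign x) with hs | hs
    · exact ⟨x, hx, hs, hxu⟩
    · rcases hcase with ⟨h1, h2⟩ | ⟨h1, h2⟩
      · refine ⟨x * swap a b, Subgroup.mul_mem _ hx hswap, ?_, ?_⟩
        · rw [Equiv.Perm.sign_mul, hs, Equiv.Perm.sign_swap hab]
          rfl
        · rw [Equiv.Perm.mul_apply, Equiv.swap_apply_of_ne_of_ne h1 h2, hxu]
      · refine ⟨swap a b * x, Subgroup.mul_mem _ hswap hx, ?_, ?_⟩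
        · rw [Equiv.Perm.sign_mul, hs, Equiv.Perm.sign_swap hab]
          rfl
        · rw [Equiv.Perm.mul_apply, hxu, Equiv.swap_apply_of_ne_of_ne h1 h2]
  refine ⟨ω, hfix, fun u v hu hv => ?_⟩
  by_cases h : (u ≠ a ∧ u ≠ b) ∨ (v ≠ a ∧ v ≠ b)
  · exact L1 u v hu hv h
  · obtain ⟨w, hwω, hwa, hwb⟩ := exists_ne_three (by omega) ω a b
    obtain ⟨y1, hy1, hs1, h1⟩ := L1 u w hu hwω (Or.inr ⟨hwa, hwb⟩)
    obtain ⟨y2, hy2, hs2, h2⟩ := L1 w v hwω hv (Or.inl ⟨hwa, hwb⟩)
    refine ⟨y2 * y1, Subgroup.mul_mem _ hy2 hy1, ?_, ?_⟩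
    · rw [Equiv.Perm.sign_mul, hs1, hs2]
      rfl
    · rw [Equiv.Perm.mul_apply, h1, h2]

lemma alt_pairs (Rt : Sylow 2 (Perm (Fin n))) (ω : Fin n) (hfix : ∀ x ∈ Rt, x ω = ω) :
    ∃ ι : Perm (Fin n), ι * ι = 1 ∧ (∀ v, ι v = v ↔ v = ω) ∧ ∀ u, swap u (ι u) ∈ Rt := by
  obtain ⟨g, hg⟩ := sylow_conj_into Rt (pairGroup (pairPerm n) (pairPerm_mul_self n))
    (isPGroup_two_of_sq _ (pairGroup_sq _ _))
  set ι : Perm (Fin n) := g * pairPerm n * g⁻¹ with hιdef
  have hι : ι * ι = 1 := by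
    rw [hιdef]
    calc g * pairPerm n * g⁻¹ * (g * pairPerm n * g⁻¹)
        = g * (pairPerm n * pairPerm n) * g⁻¹ := by group
      _ = 1 := by rw [pairPerm_mul_self]; group
  have hsw : ∀ u, swap u (ι u) ∈ Rt := by
    intro u
    have h1 := hg _ (swap_mem_pairGroup (pairPerm n) (pairPerm_mul_self n) (g⁻¹ u))
    rw [← Equiv.swap_apply_apply] at h1
    have e1 : g (g⁻¹ u) = u := by simp
    have e2 : g (pairPerm n (g⁻¹ u)) = ι u := rfl
    rwa [e1, e2] at h1
  have hιω : ι ω = ω := by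
    by_contra hne
    have := hfix _ (hsw ω)
    rw [Equiv.swap_apply_left] at this
    exact hne this
  have hfixiff : ∀ v, ι v = v ↔ (g⁻¹ v).val % 2 = 0 ∧ (g⁻¹ v).val + 1 = n := by
    intro v
    rw [← pairPerm_fixed]
    constructor
    · intro h
      have : g (pairPerm n (g⁻¹ v)) = v := h
      apply g.injective
      rw [this]
      simp
    · intro h
      show g (pairPerm n (g⁻¹ v)) = v
      rw [h]
      simp
  refine ⟨ι, hι, fun v => ⟨fun h => ?_, fun h => h ▸ hιω⟩, hsw⟩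
  have h1 := (hfixiff v).mp h
  have h2 := (hfixiff ω).mp hιω
  have : g⁻¹ v = g⁻¹ ω := Fin.ext (by omega)
  exact (g⁻¹).injective this

end altData

section altBack

variable {α : Type*} [DecidableEq α] [Fintype α]

lemma exists_avoid8 (h : 9 ≤ Fintype.card α) (a1 a2 a3 a4 a5 a6 a7 a8 : α) :
    ∃ v, v ≠ a1 ∧ v ≠ a2 ∧ v ≠ a3 ∧ v ≠ a4 ∧ v ≠ a5 ∧ v ≠ a6 ∧ v ≠ a7 ∧ v ≠ a8 := by
  by_contra hcon
  have hall : ∀ x, x ∈ [a1, a2, a3, a4, a5, a6, a7, a8].toFinset := by
    intro x
    by_contra hx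
    apply hcon
    refine ⟨x, ?_⟩
    simp only [List.mem_toFinset, List.mem_cons, List.not_mem_nil, or_false, not_or] at hx
    exact hx
  have : Fintype.card α ≤ 8 := by
    calc Fintype.card α = (Finset.univ : Finset α).card := rfl
      _ ≤ ([a1, a2, a3, a4, a5, a6, a7, a8].toFinset).card :=
          Finset.card_le_card (fun x _ => hall x)
      _ ≤ [a1, a2, a3, a4, a5, a6, a7, a8].length := List.toFinset_card_le _
      _ = 8 := rfl
  omega

/-- the key step: a double transposition meeting the pairing in a suitable way yields a 3-cycle -/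
lemma exists_three_cycle_of_pairs (h9 : 9 ≤ Fintype.card α) (H : Subgroup (Perm α))
    {ι : Perm α} (hι : ι * ι = 1) {ω : α} (hfix : ∀ v, ι v = v ↔ v = ω)
    (hd : ∀ u v, u ≠ ω → v ≠ ω → swap u (ι u) * swap v (ι v) ∈ H)
    {x1 x2 x3 x4 : α} (h12 : x1 ≠ x2) (h13 : x1 ≠ x3) (h14 : x1 ≠ x4) (h23 : x2 ≠ x3)
    (h24 : x2 ≠ x4) (h34 : x3 ≠ x4) (hs : swap x1 x2 * swap x3 x4 ∈ H)
    (hω : ω = x2 ∨ ω = x3 ∨ ω = x4)
    (m2 : x2 ≠ ι x1) (m3 : x3 ≠ ι x1) (m4 : x4 ≠ ι x1) :
    ∃ c ∈ H, c.IsThreeCycle := by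
  obtain ⟨v, v1, v2, v3, v4, v5, v6, v7, v8⟩ :=
    exists_avoid8 h9 x1 x2 x3 x4 (ι x1) (ι x2) (ι x3) (ι x4)
  have hx1ω : x1 ≠ ω := by
    rcases hω with e | e | e
    · rw [e]; exact h12
    · rw [e]; exact h13
    · rw [e]; exact h14
  have hvω : v ≠ ω := by
    rcases hω with e | e | e
    · rw [e]; exact v2
    · rw [e]; exact v3
    · rw [e]; exact v4
  have flip : ∀ {a b : α}, a ≠ ι b → b ≠ ι a := by
    intro a b hab e
    apply hab
    rw [e, invol_apply hι]
  have hne : ∀ {a : α}, a ≠ ω → a ≠ ι a := fun ha e => ha ((hfix _).mp e.symm)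
  refine ⟨((swap x1 x2 * swap x3 x4) * (swap x1 (ι x1) * swap v (ι v))) ^ 2,
    H.pow_mem (H.mul_mem hs (hd x1 v hx1ω hvω)) 2, ?_⟩
  apply three_cycle_of_overlap h12 h13 h14 h23 h24 h34 (hne hx1ω) v1.symm (flip v5) v5.symm
    (fun e => v1 (ι.injective e).symm) (hne hvω) m2 v2.symm (flip v6) m3 v3.symm (flip v7) m4
    v4.symm (flip v8)

end altBack

section altBack2

variable {n : ℕ}

lemma alt_data {k : ℕ} (hk : 2 ≤ k) (hn : n = 2 ^ k + 1)
    (R : Sylow 2 (alternatingGroup (Fin n))) :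
    ∃ (ω : Fin n) (ι : Perm (Fin n)), ι * ι = 1 ∧ (∀ v, ι v = v ↔ v = ω) ∧
      (∀ x ∈ R, (x : Perm (Fin n)) ω = ω) ∧
      (∀ u v, u ≠ ω → v ≠ ω → ∃ x ∈ R, (x : Perm (Fin n)) u = v) ∧
      (∀ u v, u ≠ ω → v ≠ ω → ∃ x ∈ R, (x : Perm (Fin n)) = swap u (ι u) * swap v (ι v)) := by
  obtain ⟨Rt, hRt⟩ := exists_sylow_perm_ge R
  obtain ⟨ω, hfix, htr⟩ := alt_trans hk hn Rt
  obtain ⟨ι, hι, hιfix, hsw⟩ := alt_pairs Rt ω hfix
  refine ⟨ω, ι, hι, hιfix, fun x hx => hfix _ ((hRt x).mp hx), fun u v hu hv => ?_,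
    fun u v hu hv => ?_⟩
  · obtain ⟨x, hx, hs, hxu⟩ := htr u v hu hv
    exact ⟨⟨x, Equiv.Perm.mem_alternatingGroup.mpr hs⟩, (hRt _).mpr hx, hxu⟩
  · have hu' : u ≠ ι u := fun e => hu ((hιfix u).mp e.symm)
    have hv' : v ≠ ι v := fun e => hv ((hιfix v).mp e.symm)
    have hs : Equiv.Perm.sign (swap u (ι u) * swap v (ι v)) = 1 := by
      rw [Equiv.Perm.sign_mul, Equiv.Perm.sign_swap hu', Equiv.Perm.sign_swap hv']
      rfl
    exact ⟨⟨_, Equiv.Perm.mem_alternatingGroup.mpr hs⟩,
      (hRt _).mpr (Subgroup.mul_mem _ (hsw u) (hsw v)), rfl⟩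

lemma alt_top_of_three_cycle (M : Subgroup (alternatingGroup (Fin n)))
    (hprim : IsPreprimitive (M.map (alternatingGroup (Fin n)).subtype) (Fin n))
    (c : Perm (Fin n)) (hc : c ∈ M.map (alternatingGroup (Fin n)).subtype)
    (h3 : c.IsThreeCycle) : M = ⊤ := by
  have hle := Equiv.Perm.alternatingGroup_le_of_isPreprimitive_of_isThreeCycle_mem hprim h3 hc
  rw [eq_top_iff]
  intro x _
  obtain ⟨y, hy, hyx⟩ := hle x.2
  have : y = x := Subtype.ext hyx
  rwa [this] at hy

end altBack2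

section altBack3

variable {n : ℕ}

lemma alt_three_cycle (h9 : 9 ≤ n) (H : Subgroup (Perm (Fin n)))
    (h2 : IsMultiplyPretransitive H (Fin n) 2)
    {ι : Perm (Fin n)} (hι : ι * ι = 1) {ω : Fin n} (hfix : ∀ v, ι v = v ↔ v = ω)
    (hd : ∀ u v, u ≠ ω → v ≠ ω → swap u (ι u) * swap v (ι v) ∈ H) :
    ∃ c ∈ H, c.IsThreeCycle := by
  have h9' : 9 ≤ Fintype.card (Fin n) := by rw [Fintype.card_fin]; exact h9
  obtain ⟨p, hpω, -, -⟩ := exists_ne_three (by omega) ω ω ω
  have hιne : ∀ {a : Fin n}, a ≠ ω → ι a ≠ ω := by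
    intro a ha e
    apply ha
    have := congrArg ι e
    rw [invol_apply hι, (hfix ω).mpr rfl] at this
    exact this
  have hne : ∀ {a : Fin n}, a ≠ ω → a ≠ ι a := fun ha e => ha ((hfix _).mp e.symm)
  have hinj : ∀ {a b : Fin n}, a ≠ b → ι a ≠ ι b := fun hab e => hab (ι.injective e)
  have hflip : ∀ {a b : Fin n}, a ≠ ι b → ι a ≠ b := by
    intro a b hab e
    apply hab
    rw [← e, invol_apply hι]
  have hp' : ι p ≠ ω := hιne hpω
  have hpp' : p ≠ ι p := hne hpω
  obtain ⟨q, hqω, hqp, hqp'⟩ := exists_ne_three (by omega) ω p (ι p)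
  have hq' : ι q ≠ ω := hιne hqω
  have hqq' : q ≠ ι q := hne hqω
  have hq'p : ι q ≠ p := hflip hqp'
  have hq'p' : ι q ≠ ι p := hinj hqp
  have h2' : ∀ {a b c d : Fin n}, a ≠ b → c ≠ d → ∃ g : H, g • a = c ∧ g • b = d :=
    is_two_pretransitive_iff.mp h2
  obtain ⟨g1, hg1p, hg1p'⟩ := @h2' p (ι p) p ω hpp' hpω
  have hg1p : (g1 : Perm (Fin n)) p = p := hg1p
  have hg1p' : (g1 : Perm (Fin n)) (ι p) = ω := hg1p'
  set a := (g1 : Perm (Fin n)) q with ha
  set b := (g1 : Perm (Fin n)) (ι q) with hb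
  have hs : swap p ω * swap a b ∈ H := by
    have h1 : (g1 : Perm (Fin n)) * (swap p (ι p) * swap q (ι q)) * (g1 : Perm (Fin n))⁻¹ ∈ H :=
      H.mul_mem (H.mul_mem g1.2 (hd p q hpω hqω)) (H.inv_mem g1.2)
    have h2 : (g1 : Perm (Fin n)) * (swap p (ι p) * swap q (ι q)) * (g1 : Perm (Fin n))⁻¹ =
        swap p ω * swap a b := by
      rw [ha, hb, Equiv.swap_apply_apply]
      nth_rewrite 3 [← hg1p]
      rw [← hg1p', Equiv.swap_apply_apply]
      group
    rwa [h2] at h1
  have hgne : ∀ {x y : Fin n}, x ≠ y → (g1 : Perm (Fin n)) x ≠ (g1 : Perm (Fin n)) y :=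
    fun hxy e => hxy ((g1 : Perm (Fin n)).injective e)
  have hab : a ≠ b := hgne hqq'
  have hap : a ≠ p := by rw [← hg1p]; exact hgne hqp
  have haω : a ≠ ω := by rw [← hg1p']; exact hgne hqp'
  have hbp : b ≠ p := by rw [← hg1p]; exact hgne hq'p
  have hbω : b ≠ ω := by rw [← hg1p']; exact hgne hq'p'
  by_cases c1 : ι p = a
  · -- use x1 = b, x2 = a, x3 = p, x4 = ω
    have hs' : swap b a * swap p ω ∈ H := by
      rw [Equiv.swap_comm b a, swap_comm_of_disjoint hab hpω hap haω hbp hbω]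
      exact hs
    apply exists_three_cycle_of_pairs h9' H hι hfix hd hab.symm hbp hbω hap haω hpω hs'
      (Or.inr (Or.inr rfl))
    · intro e
      rw [← c1] at e
      exact hbp (ι.injective e).symm
    · intro e
      apply hab
      rw [← c1, e, invol_apply hι]
    · exact (hιne hbω).symm
  · by_cases c2 : ι p = b
    · -- use x1 = a, x2 = b, x3 = p, x4 = ω
      have hs' : swap a b * swap p ω ∈ H := by
        rw [swap_comm_of_disjoint hab hpω hap haω hbp hbω]
        exact hs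
      apply exists_three_cycle_of_pairs h9' H hι hfix hd hab hap haω hbp hbω hpω hs'
        (Or.inr (Or.inr rfl))
      · intro e
        rw [← c2] at e
        exact hap (ι.injective e).symm
      · intro e
        apply hab
        rw [← c2, e, invol_apply hι]
      · exact (hιne haω).symm
    · -- use x1 = p, x2 = ω, x3 = a, x4 = b
      apply exists_three_cycle_of_pairs h9' H hι hfix hd hpω (Ne.symm hap) (Ne.symm hbp)
        (Ne.symm haω) (Ne.symm hbω) hab hs (Or.inl rfl) (Ne.symm hp') (Ne.symm c1) (Ne.symm c2)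

end altBack3

section altFive

lemma alt_five_top (M : Subgroup (alternatingGroup (Fin 5)))
    (R : Sylow 2 (alternatingGroup (Fin 5)))
    (hRM : (R : Subgroup (alternatingGroup (Fin 5))) ≤ M)
    (htr : IsPretransitive (M.map (alternatingGroup (Fin 5)).subtype) (Fin 5)) : M = ⊤ := by
  have h60 : Nat.card (alternatingGroup (Fin 5)) = 60 := by
    rw [nat_card_alternatingGroup, Nat.card_eq_fintype_card, Fintype.card_fin]
    rfl
  have h4 : 4 ∣ Nat.card M := by
    have : 2 ^ 2 ∣ Nat.card R := R.pow_dvd_card_of_pow_dvd_card (by rw [h60]; norm_num)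
    exact dvd_trans this (Subgroup.card_dvd_of_le hRM)
  have h5 : 5 ∣ Nat.card M := by
    have e : Nat.card (M.map (alternatingGroup (Fin 5)).subtype) = Nat.card M :=
      Subgroup.card_map_of_injective (Subgroup.subtype_injective _)
    rw [← e]
    have := MulAction.index_stabilizer_of_transitive
      (M.map (alternatingGroup (Fin 5)).subtype) (0 : Fin 5)
    rw [Nat.card_eq_fintype_card, Fintype.card_fin] at this
    have h' := Subgroup.index_dvd_card
      (stabilizer (M.map (alternatingGroup (Fin 5)).subtype) (0 : Fin 5))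
    rwa [this] at h'
  have h20 : 20 ∣ Nat.card M :=
    Nat.Coprime.mul_dvd_of_dvd_of_dvd (by norm_num : Nat.Coprime 4 5) h4 h5
  have hidx : M.index * Nat.card M = 60 := by rw [Subgroup.index_mul_card, h60]
  obtain ⟨c, hc⟩ := h20
  have h3 : M.index * c = 3 := by
    rw [hc] at hidx
    have : 20 * (M.index * c) = 20 * 3 := by
      calc 20 * (M.index * c) = M.index * (20 * c) := by ring
        _ = 20 * 3 := hidx
    exact Nat.eq_of_mul_eq_mul_left (by norm_num) this
  have hi : M.index = 1 ∨ M.index = 3 := by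
    have hdvd : M.index ∣ 3 := ⟨c, h3.symm⟩
    exact (Nat.dvd_prime Nat.prime_three).mp hdvd
  rcases hi with h | h
  · exact Subgroup.index_eq_one.mp h
  · exfalso
    have hMtop : M ≠ ⊤ := by
      intro e
      rw [e, Subgroup.index_top] at h
      omega
    have hcore : M.normalCore = ⊥ := by
      rcases (Subgroup.normalCore_normal M).eq_bot_or_eq_top with h' | h'
      · exact h'
      · exfalso
        apply hMtop
        rw [eq_top_iff, ← h']
        exact Subgroup.normalCore_le M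
    have hinj : Function.Injective
        (MulAction.toPermHom (alternatingGroup (Fin 5)) (alternatingGroup (Fin 5) ⧸ M)) := by
      rw [← MonoidHom.ker_eq_bot_iff, ← Subgroup.normalCore_eq_ker, hcore]
    have hle := Nat.card_le_card_of_injective _ hinj
    rw [h60, Nat.card_perm, ← Subgroup.index_eq_card, h] at hle
    norm_num [Nat.factorial] at hle

end altFive

section altMain

variable {n : ℕ}

theorem alt_unique {k : ℕ} (hk : 2 ≤ k) (hn : n = 2 ^ k + 1)
    (R : Sylow 2 (alternatingGroup (Fin n))) :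
    ∃! M : Subgroup (alternatingGroup (Fin n)), IsCoatom M ∧
      (R : Subgroup (alternatingGroup (Fin n))) ≤ M := by
  have h4 : 4 ≤ 2 ^ k := by
    calc 4 = 2 ^ 2 := by norm_num
      _ ≤ 2 ^ k := Nat.pow_le_pow_right (by norm_num) hk
  obtain ⟨ω, ι, hι, hιfix, hfix, htr, hd⟩ := alt_data hk hn R
  have hcard : Nat.card (Fin n) = n := by simp
  obtain ⟨u0, hu0, -, -⟩ := exists_ne_three (by omega) ω ω ω
  set M0 := stabilizer (alternatingGroup (Fin n)) ({ω} : Set (Fin n)) with hM0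
  have hM0co : IsCoatom M0 := by
    apply alternatingGroup.isCoatom_stabilizer (s := ({ω} : Set (Fin n)))
      (Set.singleton_nonempty ω) ⟨u0, by simpa using hu0⟩
    rw [Set.ncard_singleton, hcard]
    omega
  have hRM0 : (R : Subgroup _) ≤ M0 := by
    intro x hx
    rw [hM0, stabilizer_singleton, mem_stabilizer_iff]
    exact hfix x hx
  refine ⟨M0, ⟨hM0co, hRM0⟩, ?_⟩
  rintro M ⟨hM, hRM⟩
  by_contra hne
  have hnle : ¬ M ≤ M0 := by
    intro hle
    rcases hM.le_iff.mp hle with h | h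
    · exact hM0co.1 h
    · exact hne h.symm
  obtain ⟨h, hhM, hh⟩ := SetLike.not_le_iff_exists.mp hnle
  have hhω : (h : Perm (Fin n)) ω ≠ ω := by
    intro e
    apply hh
    rw [hM0, stabilizer_singleton, mem_stabilizer_iff]
    exact e
  set M' := M.map (alternatingGroup (Fin n)).subtype with hM'
  have hmem : ∀ x ∈ R, (x : Perm (Fin n)) ∈ M' := fun x hx => ⟨x, hRM hx, rfl⟩
  have h2 : IsMultiplyPretransitive M' (Fin n) 2 :=
    two_pretransitive_of M' ω ⟨h, ⟨h, hhM, rfl⟩, hhω⟩ (fun u v hu hv => by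
      obtain ⟨x, hx, hxu⟩ := htr u v hu hv
      exact ⟨x, hmem x hx, hxu, hfix x hx⟩)
  have hprim : IsPreprimitive M' (Fin n) := isPreprimitive_of_is_two_pretransitive h2
  apply hM.1
  by_cases hk2 : k = 2
  · subst hk2
    obtain rfl : n = 5 := by omega
    exact alt_five_top M R hRM hprim.toIsPretransitive
  · have hk3 : 3 ≤ k := by omega
    have h8 : 8 ≤ 2 ^ k := by
      calc 8 = 2 ^ 3 := by norm_num
        _ ≤ 2 ^ k := Nat.pow_le_pow_right (by norm_num) hk3
    obtain ⟨c, hc, h3⟩ := alt_three_cycle (by omega) M' h2 hι hιfix (fun u v hu hv => by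
      obtain ⟨x, hx, hxe⟩ := hd u v hu hv
      rw [← hxe]
      exact hmem x hx)
    exact alt_top_of_three_cycle M hprim c hc h3

theorem alt_iff (hn : 5 ≤ n) (R : Sylow 2 (alternatingGroup (Fin n))) :
    (∃! M : Subgroup (alternatingGroup (Fin n)), IsCoatom M ∧
      (R : Subgroup (alternatingGroup (Fin n))) ≤ M) ↔
      ∃ k : ℕ, 2 ≤ k ∧ n = 2 ^ k + 1 := by
  constructor
  · intro h
    by_contra hcon
    push Not at hcon
    rcases Nat.even_or_odd n with heven | hodd
    · by_cases hp : ∃ i, n = 2 ^ i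
      · obtain ⟨i, hi⟩ := hp
        have hi3 : 3 ≤ i := by
          by_contra hlt
          have : i ≤ 2 := by omega
          have : 2 ^ i ≤ 2 ^ 2 := Nat.pow_le_pow_right (by norm_num) this
          omega
        obtain ⟨j, rfl⟩ : ∃ j, i = j + 1 := ⟨i - 1, by omega⟩
        exact alt_not_unique_pow j (by omega) (by rw [hi, pow_succ']) R h
      · push Not at hp
        exact alt_not_unique_even hn heven hp R h
    · apply alt_not_unique_odd hn hodd _ R h
      intro i hi
      apply hcon i _ hi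
      by_contra hlt
      have : i ≤ 1 := by omega
      have : 2 ^ i ≤ 2 ^ 1 := Nat.pow_le_pow_right (by norm_num) this
      omega
  · rintro ⟨k, hk, hnk⟩
    exact alt_unique hk hnk R

end altMain

end Cfsg.Agent.Lib.Helper44.SylMax
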