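import Mathlib
import Cfsg.Agent.Lib.Helper44.AltIndecB
import Cfsg.Agent.Lib.Helper44.SylMaxAlt
import Cfsg.Agent.Lib.Helper44.Decomp

set_option autoImplicit false
set_option linter.unusedSectionVars false

/-! The Sylow 2-subgroups of `A_N`, `4 ∣ N`, `8 ≤ N`, are directly indecomposable. -/

namespace Cfsg.Agent.Lib.Helper44.AltIndec

open Equiv Equiv.Perm
open Cfsg.Agent.Lib.Helper44.SylMax Cfsg.Agent.Lib.Helper44.UniqSyl Cfsg.Agent.Lib.Helper44.Dec

universe u

variable {α : Type u} [Fintype α] [DecidableEq α]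

/-- the orbits of a fixed-point-free involution have two points -/
lemma card_PQ {ι : Perm α} (hι : FPF ι) [Fintype (PQ ι)] :
    2 * Fintype.card (PQ ι) = Fintype.card α := by
  classical
  rw [← Fintype.card_congr (Equiv.sigmaFiberEquiv (pmk ι)), Fintype.card_sigma]
  have : ∀ q : PQ ι, Fintype.card {v : α // pmk ι v = q} = 2 := by
    intro q
    obtain ⟨v₀, rfl⟩ := pmk_surjective ι q
    rw [Fintype.card_subtype, Finset.card_eq_two]
    refine ⟨v₀, ι v₀, Ne.symm (hι.ne v₀), ?_⟩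
    ext w
    rw [Finset.mem_filter, Finset.mem_insert, Finset.mem_singleton, pmk_eq_iff hι.sq]
    constructor
    · rintro ⟨-, h | h⟩
      · left; exact h.symm
      · right
        rw [h, invol_apply hι.sq]
    · rintro (h | h)
      · exact ⟨Finset.mem_univ _, Or.inl h.symm⟩
      · refine ⟨Finset.mem_univ _, Or.inr ?_⟩
        rw [h, invol_apply hι.sq]
  rw [Finset.sum_congr rfl (fun q _ => this q), Finset.sum_const, Finset.card_univ, smul_eq_mul,
    mul_comm]

lemma exists_two_ne {X : Type*} [Fintype X] (h : 3 ≤ Fintype.card X) (x : X) :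
    ∃ y z : X, y ≠ x ∧ z ≠ x ∧ y ≠ z := by
  classical
  obtain ⟨a, b, c, hab, hac, hbc⟩ := Fintype.two_lt_card_iff.mp (by omega : 2 < Fintype.card X)
  by_cases ha : a = x
  · subst ha
    exact ⟨b, c, Ne.symm hab, Ne.symm hac, hbc⟩
  · by_cases hb : b = x
    · subst hb
      exact ⟨a, c, ha, Ne.symm hbc, hac⟩
    · exact ⟨a, b, ha, hb, hab⟩

/-- the context exists for every Sylow 2-subgroup in degree `N`, `4 ∣ N`, `8 ≤ N` -/
theorem exists_ctx (h4 : 4 ∣ Fintype.card α) (h8 : 8 ≤ Fintype.card α) (T : Sylow 2 (Perm α)) :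
    ∃ (ι : Perm α) (_ : DecidableEq (PQ ι)) (_ : Fintype (PQ ι)) (ι' : Perm (PQ ι)),
      Ctx ι ι' (T : Subgroup (Perm α)) := by
  classical
  have heven : Even (Fintype.card α) := by
    obtain ⟨k, hk⟩ := h4
    exact ⟨2 * k, by omega⟩
  obtain ⟨ι, hι, hTc⟩ := exists_fpf heven T
  obtain ⟨R, hR⟩ := sylow_proj hι.sq T hTc
  have : Fintype (PQ ι) := Fintype.ofFinite _
  have hcard := card_PQ hι
  have heven' : Even (Fintype.card (PQ ι)) := by
    obtain ⟨k, hk⟩ := h4
    exact ⟨k, by omega⟩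
  obtain ⟨ι', hι', hRc⟩ := exists_fpf heven' R
  obtain ⟨R', hR'⟩ := sylow_proj hι'.sq R hRc
  refine ⟨ι, inferInstance, inferInstance, ι', ?_⟩
  refine ⟨hι, hι', hTc, ?_, ?_, ?_, ?_⟩
  · intro f
    rw [hR]
    exact bset_mem_liftK hι.sq f _
  · intro x
    have hsw : swap x (ι' x) ∈ (R : Subgroup (Perm (PQ ι))) := by
      rw [hR']
      exact swap_mem_liftK hι'.sq _ x
    obtain ⟨g, hg⟩ := piHom_surjective hι (swap x (ι' x))
    refine ⟨(g : Perm α), ?_, ?_⟩
    · rw [hR, mem_liftK]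
      exact ⟨g.2, by rw [hg]; exact hsw⟩
    · rw [ph_eq g.2]
      exact hg
  · intro x
    exact exists_two_ne (by omega) x
  · have : 0 < Fintype.card (PQ ι) := by omega
    exact Fintype.card_pos_iff.mp this

/-- the even part of a Sylow 2-subgroup of `S_N` is indecomposable -/
theorem not_decomp_even_part (h4 : 4 ∣ Fintype.card α) (h8 : 8 ≤ Fintype.card α)
    (T : Sylow 2 (Perm α)) :
    ¬ Decomp ↥((T : Subgroup (Perm α)) ⊓ alternatingGroup α) := by
  rw [← decomp_subgroup_iff]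
  rintro ⟨S₁, S₂, h1, h2, hdp⟩
  obtain ⟨ι, _, _, ι', c⟩ := exists_ctx h4 h8 T
  rcases indec c hdp with h | h
  · exact h1 h
  · exact h2 h

/-- K-S2221-G -/
theorem alt_sylow_indecomp (N : ℕ) (h4 : 4 ∣ N) (h8 : 8 ≤ N)
    (P : Sylow 2 (alternatingGroup (Fin N))) :
    ¬ Decomp ↥(P : Subgroup (alternatingGroup (Fin N))) := by
  obtain ⟨T, hT⟩ := exists_sylow_perm_ge P
  have hmap : (P : Subgroup (alternatingGroup (Fin N))).map (alternatingGroup (Fin N)).subtype =
      (T : Subgroup (Perm (Fin N))) ⊓ alternatingGroup (Fin N) := by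
    ext g
    rw [Subgroup.mem_map, Subgroup.mem_inf]
    constructor
    · rintro ⟨x, hx, rfl⟩
      exact ⟨(hT x).mp hx, x.2⟩
    · rintro ⟨hg1, hg2⟩
      exact ⟨⟨g, hg2⟩, (hT ⟨g, hg2⟩).mpr hg1, rfl⟩
  have e : ↥(P : Subgroup (alternatingGroup (Fin N))) ≃*
      ↥((T : Subgroup (Perm (Fin N))) ⊓ alternatingGroup (Fin N)) :=
    ((P : Subgroup (alternatingGroup (Fin N))).equivMapOfInjective _
      (Subgroup.subtype_injective _)).trans (MulEquiv.subgroupCongr hmap)
  rw [decomp_congr e]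
  apply not_decomp_even_part
  · rw [Fintype.card_fin]; exact h4
  · rw [Fintype.card_fin]; exact h8

end Cfsg.Agent.Lib.Helper44.AltIndec
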