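import Mathlib
import Cfsg.Agent.Lib.Helper44.SymPGen

set_option autoImplicit false

/-! Sylow `p`-subgroups of `Aₙ` generated by elements of order `p`. -/

namespace Cfsg.Agent.Lib.Helper44

open Equiv

section even

/-- the product of the signs of the coordinates -/
def signProd (m : ℕ) : (Fin m → Perm (Fin 2)) →* ℤˣ where
  toFun f := ∏ i, Perm.sign (f i)
  map_one' := by simp
  map_mul' f g := by simp [Finset.prod_mul_distrib]

lemma signProd_apply (m : ℕ) (f : Fin m → Perm (Fin 2)) :
    signProd m f = ∏ i, Perm.sign (f i) := rfl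

lemma signProd_permAut (m : ℕ) (σ : Perm (Fin m)) (f : Fin m → Perm (Fin 2)) :
    signProd m (permAut m _ σ f) = signProd m f := by
  rw [signProd_apply, signProd_apply]
  exact Equiv.prod_comp σ⁻¹ (fun i => Perm.sign (f i))

lemma signProd_mulSingle (m : ℕ) (i : Fin m) (s : Perm (Fin 2)) :
    signProd m (Pi.mulSingle i s) = Perm.sign s := by
  classical
  rw [signProd_apply]
  have : ∀ j, Perm.sign ((Pi.mulSingle i s : Fin m → Perm (Fin 2)) j) =
      (Pi.mulSingle i (Perm.sign s) : Fin m → ℤˣ) j := by
    intro j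
    exact Pi.apply_mulSingle (fun _ => Perm.sign) (fun _ => map_one _) i s j
  simp_rw [this]
  rw [Finset.prod_pi_mulSingle']
  simp

lemma card_ker_signProd (m : ℕ) (hm : 1 ≤ m) : 2 * Nat.card (signProd m).ker = 2 ^ m := by
  have hsurj : Function.Surjective (signProd m) := by
    intro u
    rcases Int.units_eq_one_or u with rfl | rfl
    · exact ⟨1, map_one _⟩
    · refine ⟨Pi.mulSingle ⟨0, by omega⟩ (Equiv.swap 0 1), ?_⟩
      rw [signProd_mulSingle, Perm.sign_swap (by decide)]
  have h1 : (signProd m).ker.index = 2 := by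
    rw [Subgroup.index_ker, MonoidHom.range_eq_top.mpr hsurj, Subgroup.card_top]
    simp
  have h2 := (signProd m).ker.index_mul_card
  rw [h1, Nat.card_fun, Nat.card_perm] at h2
  simpa using h2

/-- a set of even involutions generating a subgroup of half the 2-part of `n!` -/
def EvGen (n : ℕ) : Prop :=
  ∃ I : Set (Perm (Fin n)), (∀ t ∈ I, t ^ 2 = 1 ∧ Perm.sign t = 1) ∧
    2 * Nat.card (Subgroup.closure I) = 2 ^ padicValNat 2 n.factorial

lemma evGen_mul_two {m : ℕ} (hm : 1 ≤ m) : EvGen (m * 2) := by
  classical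
  obtain ⟨I, hI, hc⟩ := pGen_all 2 m
  have hB : ∀ (σ : Perm (Fin m)) (f : Fin m → Perm (Fin 2)),
      f ∈ (signProd m).ker → permAut m _ σ f ∈ (signProd m).ker := by
    intro σ f hf
    rw [MonoidHom.mem_ker] at hf ⊢
    rw [signProd_permAut, hf]
  have hsq : ∀ s : Perm (Fin 2), s ^ 2 = 1 := by
    intro s
    have h : Nat.card (Perm (Fin 2)) = 2 := by
      rw [Nat.card_perm]; simp
    have := pow_card_eq_one' (G := Perm (Fin 2)) (x := s)
    rwa [h] at this
  refine ⟨wrFin m 2 '' (wrGensB m (signProd m).ker I), ?_, ?_⟩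
  · rintro _ ⟨x, hx, rfl⟩
    rcases hx with ⟨b, hb, rfl⟩ | ⟨t, ht, rfl⟩
    · refine ⟨?_, ?_⟩
      · rw [← map_pow, ← map_pow]
        have : b ^ 2 = 1 := by
          funext i
          exact hsq (b i)
        rw [this, map_one, map_one]
      · rw [sign_wrFin, SemidirectProduct.left_inl, SemidirectProduct.right_inl, map_one, one_pow,
          mul_one]
        exact hb
    · refine ⟨?_, ?_⟩
      · rw [← map_pow, ← map_pow, hI t ht, map_one, map_one]
      · rw [sign_wrFin, SemidirectProduct.left_inr, SemidirectProduct.right_inr]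
        simp only [Pi.one_apply, map_one, Finset.prod_const_one, one_mul]
        exact Int.units_sq _
  · rw [← MonoidHom.map_closure, Subgroup.card_map_of_injective (wrFin_injective m 2),
      ← wrSubB_eq_closure m _ hB, card_wrSubB, hc, ← mul_assoc, card_ker_signProd m hm,
      mul_comm m 2, padicValNat_factorial_mul, ← pow_add, add_comm]

lemma evGen_succ {n : ℕ} (hn : Even n) (h : EvGen n) : EvGen (n + 1) := by
  classical
  obtain ⟨I, hI, hc⟩ := h
  refine ⟨Perm.viaEmbeddingHom (Fin.castSuccEmb (n := n)) '' I, ?_, ?_⟩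
  · rintro _ ⟨t, ht, rfl⟩
    refine ⟨by rw [← map_pow, (hI t ht).1, map_one], ?_⟩
    rw [Perm.viaEmbeddingHom_apply, Perm.viaEmbedding, Perm.sign_extendDomain]
    exact (hI t ht).2
  · rw [← MonoidHom.map_closure,
      Subgroup.card_map_of_injective (Perm.viaEmbeddingHom_injective _), hc,
      Nat.factorial_succ, padicValNat.mul (by omega) (Nat.factorial_ne_zero n)]
    have : padicValNat 2 (n + 1) = 0 := by
      apply padicValNat.eq_zero_of_not_dvd
      rw [← even_iff_two_dvd]
      exact Nat.not_even_iff_odd.mpr hn.add_one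
    rw [this, zero_add]

theorem evGen_all {n : ℕ} (hn : 2 ≤ n) : EvGen n := by
  rcases Nat.even_or_odd n with he | ho
  · obtain ⟨r, hr⟩ := he
    have : n = r * 2 := by omega
    rw [this]
    exact evGen_mul_two (by omega)
  · obtain ⟨r, hr⟩ := ho
    have : n = r * 2 + 1 := by omega
    rw [this]
    exact evGen_succ ⟨r, by ring⟩ (evGen_mul_two (by omega))

end even

section alt

/-- a set of even elements of order dividing `p` generating a subgroup of order the `p`-part of
`|Aₙ|` -/
def AGen (p n : ℕ) : Prop :=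
  ∃ I : Set (Perm (Fin n)), (∀ t ∈ I, t ^ p = 1 ∧ Perm.sign t = 1) ∧
    Nat.card (Subgroup.closure I) = p ^ padicValNat p (Nat.card (alternatingGroup (Fin n)))

theorem aGen_all (p : ℕ) [hp : Fact p.Prime] (n : ℕ) : AGen p n := by
  classical
  by_cases hn : n ≤ 1
  · refine ⟨∅, by simp, ?_⟩
    have h1 : Nat.card (Perm (Fin n)) = 1 := by
      rw [Nat.card_perm, Nat.card_eq_fintype_card, Fintype.card_fin]
      interval_cases n <;> rfl
    have h2 : Nat.card (alternatingGroup (Fin n)) = 1 := by
      have := Subgroup.card_subgroup_dvd_card (alternatingGroup (Fin n))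
      rw [h1] at this
      exact Nat.dvd_one.mp this
    rw [h2]
    simp
  · push_neg at hn
    haveI : Nontrivial (Fin n) := Fin.nontrivial_iff_two_le.mpr hn
    have hA : 2 * Nat.card (alternatingGroup (Fin n)) = n.factorial := by
      rw [two_mul_nat_card_alternatingGroup, Nat.card_perm, Nat.card_eq_fintype_card,
        Fintype.card_fin]
    have hApos : Nat.card (alternatingGroup (Fin n)) ≠ 0 := Nat.card_pos.ne'
    by_cases hp2 : p = 2
    · subst hp2
      obtain ⟨I, hI, hc⟩ := evGen_all hn
      refine ⟨I, hI, ?_⟩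
      rw [← hA, padicValNat.mul (by norm_num) hApos, padicValNat_self, pow_add, pow_one] at hc
      exact Nat.eq_of_mul_eq_mul_left (by norm_num) hc
    · obtain ⟨I, hI, hc⟩ := pGen_all p n
      have hodd : Odd p := hp.out.odd_of_ne_two hp2
      refine ⟨I, fun t ht => ⟨hI t ht, ?_⟩, ?_⟩
      · have h1 : Perm.sign t ^ p = 1 := by rw [← map_pow, hI t ht, map_one]
        rcases Int.units_eq_one_or (Perm.sign t) with h | h
        · exact h
        · rw [h, hodd.neg_one_pow] at h1
          exact absurd h1 (by decide)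
      · rw [hc, ← hA, padicValNat.mul (by norm_num) hApos]
        have : padicValNat p 2 = 0 := by
          apply padicValNat.eq_zero_of_not_dvd
          intro hd
          exact hp2 ((Nat.prime_dvd_prime_iff_eq hp.out Nat.prime_two).mp hd)
        rw [this, zero_add]

end alt

section main

theorem sylow_perm_powComm (p : ℕ) [hp : Fact p.Prime] (n : ℕ) (P : Sylow p (Perm (Fin n))) :
    PowComm p (P : Subgroup (Perm (Fin n))) := by
  classical
  obtain ⟨I, hI, hc⟩ := pGen_all p n
  have hcard : Nat.card (Subgroup.closure I) =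
      p ^ (Nat.card (Perm (Fin n))).factorization p := by
    rw [hc, Nat.factorization_def _ hp.out, Nat.card_perm, Nat.card_eq_fintype_card,
      Fintype.card_fin]
  let P0 : Sylow p (Perm (Fin n)) := Sylow.ofCard (Subgroup.closure I) hcard
  obtain ⟨g, hg⟩ := MulAction.exists_smul_eq (Perm (Fin n)) P0 P
  have hP : (P : Subgroup (Perm (Fin n))) =
      (Subgroup.closure I).map (MulAut.conj g).toMonoidHom := by
    rw [← hg]
    rfl
  rw [hP]
  exact (powComm_closure_of_pow_eq_one p I hI).map _

theorem sylow_alt_powComm (p : ℕ) [hp : Fact p.Prime] (n : ℕ)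
    (Q : Sylow p (alternatingGroup (Fin n))) :
    PowComm p (Q : Subgroup (alternatingGroup (Fin n))) := by
  classical
  obtain ⟨I, hI, hc⟩ := aGen_all p n
  have hle : Subgroup.closure I ≤ alternatingGroup (Fin n) := by
    rw [Subgroup.closure_le]
    intro t ht
    exact Perm.mem_alternatingGroup.mpr (hI t ht).2
  set Q0 : Subgroup (alternatingGroup (Fin n)) :=
    (Subgroup.closure I).subgroupOf (alternatingGroup (Fin n)) with hQ0
  have hmap : Q0.map (alternatingGroup (Fin n)).subtype = Subgroup.closure I :=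
    Subgroup.map_subgroupOf_eq_of_le hle
  have hQ0pc : PowComm p Q0 := by
    apply PowComm.of_map_injective (alternatingGroup (Fin n)).subtype
      (Subgroup.subtype_injective _)
    rw [hmap]
    exact powComm_closure_of_pow_eq_one p I (fun t ht => (hI t ht).1)
  have hcard : Nat.card Q0 = p ^ (Nat.card (alternatingGroup (Fin n))).factorization p := by
    rw [Nat.factorization_def _ hp.out, ← hc, ← hmap,
      Subgroup.card_map_of_injective (Subgroup.subtype_injective _)]
  let P0 : Sylow p (alternatingGroup (Fin n)) := Sylow.ofCard Q0 hcard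
  obtain ⟨g, hg⟩ := MulAction.exists_smul_eq (alternatingGroup (Fin n)) P0 Q
  have hP : (Q : Subgroup (alternatingGroup (Fin n))) =
      Q0.map (MulAut.conj g).toMonoidHom := by
    rw [← hg]
    rfl
  rw [hP]
  exact hQ0pc.map _

end main

end Cfsg.Agent.Lib.Helper44
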