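import Mathlib
import Cfsg.Agent.Lib.Helper07.PSLnC

set_option autoImplicit false

namespace Cfsg.Agent.Lib.Helper44.BigCell

open Matrix Cfsg.Agent.Lib.Helper07
open scoped Pointwise

variable {n : ℕ}

/-- `SL_n(F_2)` -/
abbrev SLn (n : ℕ) := Matrix.SpecialLinearGroup (Fin n) (ZMod 2)

/-- unitriangular element of `SL_n(F_2)` from a strictly upper triangular matrix -/
def mkUT (A : Matrix (Fin n) (Fin n) (ZMod 2)) (hA : ∀ i j, j ≤ i → A i j = 0) : SLn n :=
  ⟨1 + A, by
    have hup : (1 + A).BlockTriangular id := by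
      intro i j hij
      have hji : j < i := hij
      rw [Matrix.add_apply, Matrix.one_apply_ne (ne_of_gt hji), hA i j hji.le, add_zero]
    rw [Matrix.det_of_isUpperTriangular hup]
    apply Finset.prod_eq_one
    intro i _
    rw [Matrix.add_apply, Matrix.one_apply_eq, hA i i le_rfl, add_zero]⟩

lemma mkUT_val (A : Matrix (Fin n) (Fin n) (ZMod 2)) (hA : ∀ i j, j ≤ i → A i j = 0) :
    ((mkUT A hA : SLn n) : Matrix (Fin n) (Fin n) (ZMod 2)) = 1 + A := rfl

lemma mkUT_mem (A : Matrix (Fin n) (Fin n) (ZMod 2)) (hA : ∀ i j, j ≤ i → A i j = 0) :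
    mkUT A hA ∈ UT n (ZMod 2) := by
  rw [mem_UT]
  constructor
  · intro i j hji
    rw [mkUT_val, Matrix.add_apply, Matrix.one_apply_ne (ne_of_gt hji), hA i j hji.le, add_zero]
  · intro i
    rw [mkUT_val, Matrix.add_apply, Matrix.one_apply_eq, hA i i le_rfl, add_zero]

/-- the column-clearing matrix -/
def colA (g : Matrix (Fin n) (Fin n) (ZMod 2)) (kk r : Fin n) : Matrix (Fin n) (Fin n) (ZMod 2) :=
  Matrix.of fun i j => if j = r ∧ i < r then g i kk else 0

/-- the row-clearing matrix -/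
def rowB (g : Matrix (Fin n) (Fin n) (ZMod 2)) (kk r : Fin n) : Matrix (Fin n) (Fin n) (ZMod 2) :=
  Matrix.of fun i j => if i = kk ∧ kk < j then g r j else 0

lemma colA_upper (g : Matrix (Fin n) (Fin n) (ZMod 2)) (kk r : Fin n) :
    ∀ i j, j ≤ i → colA g kk r i j = 0 := by
  intro i j hji
  unfold colA
  rw [Matrix.of_apply, if_neg]
  rintro ⟨rfl, h⟩
  exact absurd (lt_of_lt_of_le h hji) (lt_irrefl _)

lemma rowB_upper (g : Matrix (Fin n) (Fin n) (ZMod 2)) (kk r : Fin n) :
    ∀ i j, j ≤ i → rowB g kk r i j = 0 := by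
  intro i j hji
  unfold rowB
  rw [Matrix.of_apply, if_neg]
  rintro ⟨rfl, h⟩
  exact absurd (lt_of_lt_of_le h hji) (lt_irrefl _)

lemma colA_mul (g M : Matrix (Fin n) (Fin n) (ZMod 2)) (kk r i j : Fin n) :
    (colA g kk r * M) i j = (if i < r then g i kk else 0) * M r j := by
  rw [Matrix.mul_apply, Finset.sum_eq_single r]
  · unfold colA
    rw [Matrix.of_apply]
    simp
  · intro l _ hl
    unfold colA
    rw [Matrix.of_apply, if_neg (fun h => hl h.1), zero_mul]
  · intro h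
    exact absurd (Finset.mem_univ r) h

lemma mul_rowB (g M : Matrix (Fin n) (Fin n) (ZMod 2)) (kk r i j : Fin n) :
    (M * rowB g kk r) i j = M i kk * (if kk < j then g r j else 0) := by
  rw [Matrix.mul_apply, Finset.sum_eq_single kk]
  · unfold rowB
    rw [Matrix.of_apply]
    simp
  · intro l _ hl
    unfold rowB
    rw [Matrix.of_apply, if_neg (fun h => hl h.1), mul_zero]
  · intro h
    exact absurd (Finset.mem_univ kk) h


/-- the shape predicate: the first `k` columns and the last `k` rows are those of the antidiagonal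
permutation matrix -/
def Shape (k : ℕ) (M : Matrix (Fin n) (Fin n) (ZMod 2)) : Prop :=
  (∀ i j : Fin n, (j : ℕ) < k → M i j = if i = Fin.rev j then 1 else 0) ∧
  (∀ i j : Fin n, ((Fin.rev i : Fin n) : ℕ) < k → M i j = if i = Fin.rev j then 1 else 0)

/-- trivial intersection of `U` and `g U g⁻¹`, elementwise -/
def TI (g : SLn n) : Prop :=
  ∀ t ∈ UT n (ZMod 2), g⁻¹ * t * g ∈ UT n (ZMod 2) → t = 1

lemma TI_mul {g : SLn n} (hg : TI g) {u1 u2 : SLn n} (h1 : u1 ∈ UT n (ZMod 2))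
    (h2 : u2 ∈ UT n (ZMod 2)) : TI (u1 * g * u2) := by
  intro t ht hc
  have e : g⁻¹ * (u1⁻¹ * t * u1) * g = u2 * ((u1 * g * u2)⁻¹ * t * (u1 * g * u2)) * u2⁻¹ := by
    group
  have h3 : g⁻¹ * (u1⁻¹ * t * u1) * g ∈ UT n (ZMod 2) := by
    rw [e]
    exact Subgroup.mul_mem _ (Subgroup.mul_mem _ h2 hc) (Subgroup.inv_mem _ h2)
  have h4 := hg _ (Subgroup.mul_mem _ (Subgroup.mul_mem _ (Subgroup.inv_mem _ h1) ht) h1) h3
  calc t = u1 * (u1⁻¹ * t * u1) * u1⁻¹ := by group
    _ = 1 := by rw [h4]; group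

lemma zmod2_cases (x : ZMod 2) : x = 0 ∨ x = 1 := by
  revert x
  decide

lemma zmod2_add_self (x : ZMod 2) : x + x = 0 := by
  revert x
  decide

lemma step (g : SLn n) (hTI : TI g) (k : ℕ) (hk : k < n)
    (hP : Shape k (g : Matrix (Fin n) (Fin n) (ZMod 2))) :
    ∃ u1 ∈ UT n (ZMod 2), ∃ u2 ∈ UT n (ZMod 2),
      Shape (k + 1) ((u1 * g * u2 : SLn n) : Matrix (Fin n) (Fin n) (ZMod 2)) := by
  generalize hM : (g : Matrix (Fin n) (Fin n) (ZMod 2)) = M at hP
  set kk : Fin n := ⟨k, hk⟩ with hkk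
  set r : Fin n := Fin.rev kk with hr
  have hkkv : (kk : ℕ) = k := rfl
  -- basic facts
  have F1 : ∀ i, r < i → M i kk = 0 := by
    intro i hi
    have h1 : ((Fin.rev i : Fin n) : ℕ) < k := by
      have : Fin.rev i < Fin.rev r := Fin.rev_lt_rev.mpr hi
      rw [hr, Fin.rev_rev] at this
      exact this
    rw [hP.2 i kk h1, if_neg (ne_of_gt hi)]
  have F2 : ∀ j, j < kk → M r j = 0 := by
    intro j hj
    rw [hP.1 r j hj, if_neg]
    intro e
    rw [hr] at e
    exact (ne_of_lt hj) (Fin.rev_injective e).symm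
  set A := colA M kk r with hA
  set B := rowB M kk r with hB
  -- the pivot is one
  have hpiv : M r kk = 1 := by
    rcases zmod2_cases (M r kk) with h0 | h1
    · exfalso
      have hcomm : mkUT A (colA_upper M kk r) * g = g * mkUT B (rowB_upper M kk r) := by
        apply Subtype.ext
        rw [Matrix.SpecialLinearGroup.coe_mul, Matrix.SpecialLinearGroup.coe_mul, mkUT_val,
          mkUT_val, hM, Matrix.add_mul, Matrix.mul_add, Matrix.one_mul, Matrix.mul_one]
        congr 1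
        ext i j
        rw [hA, hB, colA_mul, mul_rowB]
        by_cases hi : i < r
        · rw [if_pos hi]
          by_cases hj : kk < j
          · rw [if_pos hj]
          · rw [if_neg hj]
            have : M r j = 0 := by
              rcases lt_or_eq_of_le (not_lt.mp hj) with h | h
              · exact F2 j h
              · rw [h]; exact h0
            rw [this]
        · rw [if_neg hi]
          have : M i kk = 0 := by
            rcases lt_or_eq_of_le (not_lt.mp hi) with h | h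
            · exact F1 i h
            · rw [← h]; exact h0
          rw [this, zero_mul, zero_mul]
      have hy : g⁻¹ * mkUT A (colA_upper M kk r) * g ∈ UT n (ZMod 2) := by
        rw [mul_assoc, hcomm, ← mul_assoc, inv_mul_cancel, one_mul]
        exact mkUT_mem _ _
      have ht := hTI _ (mkUT_mem _ _) hy
      have hA0 : A = 0 := by
        have := congrArg (fun x : SLn n => (x : Matrix (Fin n) (Fin n) (ZMod 2))) ht
        simp only [mkUT_val, Matrix.SpecialLinearGroup.coe_one] at this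
        exact add_eq_left.mp this
      have hcol : ∀ i, M i kk = 0 := by
        intro i
        rcases lt_trichotomy i r with h | h | h
        · have := congrFun (congrFun hA0 i) r
          rw [hA] at this
          unfold colA at this
          rw [Matrix.of_apply, if_pos ⟨rfl, h⟩] at this
          exact this
        · rw [h]; exact h0
        · exact F1 i h
      have hdet : M.det = 0 := Matrix.det_eq_zero_of_column_eq_zero kk hcol
      have : M.det = 1 := by rw [← hM]; exact g.2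
      rw [hdet] at this
      exact zero_ne_one this
    · exact h1
  refine ⟨mkUT A (colA_upper M kk r), mkUT_mem _ _, mkUT B (rowB_upper M kk r), mkUT_mem _ _, ?_⟩
  have hval : ∀ i j, ((mkUT A (colA_upper M kk r) * g * mkUT B (rowB_upper M kk r) : SLn n) :
      Matrix (Fin n) (Fin n) (ZMod 2)) i j =
      M i j + (if i < r then M i kk else 0) * M r j + M i kk * (if kk < j then M r j else 0) +
        (if i < r then M i kk else 0) * (M r kk * (if kk < j then M r j else 0)) := by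
    intro i j
    rw [Matrix.SpecialLinearGroup.coe_mul, Matrix.SpecialLinearGroup.coe_mul, mkUT_val, mkUT_val,
      hM, Matrix.add_mul, Matrix.mul_add, Matrix.one_mul, Matrix.mul_one, Matrix.add_mul,
      Matrix.add_apply, Matrix.add_apply, Matrix.add_apply, Matrix.mul_assoc, hA, hB, colA_mul,
      colA_mul, mul_rowB, mul_rowB]
    ring
  constructor
  · intro i j hj
    rw [hval]
    rcases lt_or_eq_of_le (Nat.lt_succ_iff.mp hj) with h | h
    · -- j < kk
      have hjk : j < kk := h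
      have hnot : ¬ kk < j := not_lt.mpr hjk.le
      rw [F2 j hjk, if_neg hnot, hP.1 i j h]
      ring
    · -- j = kk
      have hjk : j = kk := Fin.ext h
      subst hjk
      rw [if_neg (lt_irrefl _), hpiv]
      rcases lt_trichotomy i r with h' | h' | h'
      · rw [if_pos h', if_neg (ne_of_lt h')]
        have := zmod2_add_self (M i kk)
        linear_combination this
      · rw [h', if_neg (lt_irrefl _), if_pos rfl, hpiv]
        ring
      · rw [if_neg (not_lt.mpr h'.le), if_neg (ne_of_gt h'), F1 i h']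
        ring
  · intro i j hi
    rw [hval]
    rcases lt_or_eq_of_le (Nat.lt_succ_iff.mp hi) with h | h
    · -- rev i < k, so r < i
      have hri : r < i := by
        have : Fin.rev i < kk := h
        have h2 := Fin.rev_lt_rev.mpr this
        rw [Fin.rev_rev] at h2
        exact h2
      rw [F1 i hri, hP.2 i j h]
      simp
    · -- rev i = kk, i = r
      have hir : i = r := by
        have : Fin.rev i = kk := Fin.ext h
        rw [hr, ← this, Fin.rev_rev]
      subst hir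
      rw [if_neg (lt_irrefl _), hpiv]
      rcases lt_trichotomy j kk with h' | h' | h'
      · rw [if_neg (not_lt.mpr h'.le), F2 j h', if_neg]
        · ring
        · intro e
          exact (ne_of_lt h') (Fin.rev_injective e).symm
      · rw [h', if_neg (lt_irrefl _), hpiv, if_pos rfl]
        ring
      · rw [if_pos h', if_neg]
        · have := zmod2_add_self (M (Fin.rev kk) j)
          linear_combination this
        · intro e
          exact (ne_of_gt h') (Fin.rev_injective e).symm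


lemma reduce : ∀ (d k : ℕ) (g : SLn n), k + d = n → TI g →
    Shape k (g : Matrix (Fin n) (Fin n) (ZMod 2)) →
    ∃ u1 ∈ UT n (ZMod 2), ∃ u2 ∈ UT n (ZMod 2),
      Shape n ((u1 * g * u2 : SLn n) : Matrix (Fin n) (Fin n) (ZMod 2)) := by
  intro d
  induction d with
  | zero =>
    intro k g hk _ hP
    refine ⟨1, Subgroup.one_mem _, 1, Subgroup.one_mem _, ?_⟩
    rw [one_mul, mul_one]
    have : k = n := by omega
    exact ⟨fun i j h => hP.1 i j (by omega), fun i j h => hP.2 i j (by omega)⟩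
  | succ d ih =>
    intro k g hk hTI hP
    obtain ⟨u1, h1, u2, h2, hS⟩ := step g hTI k (by omega) hP
    obtain ⟨v1, hv1, v2, hv2, hS'⟩ := ih (k + 1) (u1 * g * u2) (by omega) (TI_mul hTI h1 h2) hS
    refine ⟨v1 * u1, Subgroup.mul_mem _ hv1 h1, u2 * v2, Subgroup.mul_mem _ h2 hv2, ?_⟩
    have e : v1 * u1 * g * (u2 * v2) = v1 * (u1 * g * u2) * v2 := by group
    rw [e]
    exact hS'

lemma shape_unique {M M' : Matrix (Fin n) (Fin n) (ZMod 2)} (h : Shape n M) (h' : Shape n M') :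
    M = M' := by
  ext i j
  rw [h.1 i j j.isLt, h'.1 i j j.isLt]

/-- uniqueness of the big cell: two elements `g, g'` of `SL_n(F_2)` with `U ∩ g U g⁻¹ = 1` and
`U ∩ g' U g'⁻¹ = 1` lie in the same `(U, U)`-double coset -/
theorem big_cell (g g' : SLn n) (hg : TI g) (hg' : TI g') :
    ∃ a ∈ UT n (ZMod 2), ∃ b ∈ UT n (ZMod 2), g' = a * g * b := by
  have h0 : ∀ x : SLn n, Shape 0 (x : Matrix (Fin n) (Fin n) (ZMod 2)) :=
    fun x => ⟨fun i j h => absurd h (Nat.not_lt_zero _), fun i j h => absurd h (Nat.not_lt_zero _)⟩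
  obtain ⟨u1, h1, u2, h2, hS⟩ := reduce n 0 g (by omega) hg (h0 g)
  obtain ⟨v1, hv1, v2, hv2, hS'⟩ := reduce n 0 g' (by omega) hg' (h0 g')
  have e : u1 * g * u2 = v1 * g' * v2 := Subtype.ext (shape_unique hS hS')
  refine ⟨v1⁻¹ * u1, Subgroup.mul_mem _ (Subgroup.inv_mem _ hv1) h1, u2 * v2⁻¹,
    Subgroup.mul_mem _ h2 (Subgroup.inv_mem _ hv2), ?_⟩
  calc g' = v1⁻¹ * (v1 * g' * v2) * v2⁻¹ := by group
    _ = v1⁻¹ * (u1 * g * u2) * v2⁻¹ := by rw [e]
    _ = v1⁻¹ * u1 * g * (u2 * v2⁻¹) := by group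

section abstractPart

variable {G : Type*} [Group G] [Finite G]

/-- key lemma for one Sylow 2-subgroup containing `U` -/
lemma key_sylow (N : Subgroup G) [N.Normal] (hidx : N.index = 2) (U : Subgroup G) (hUN : U ≤ N)
    (hT : ∀ g ∈ N, ∀ g' ∈ N, (∀ t ∈ U, g⁻¹ * t * g ∈ U → t = 1) →
      (∀ t ∈ U, g'⁻¹ * t * g' ∈ U → t = 1) → ∃ a ∈ U, ∃ b ∈ U, g' = a * g * b)
    (H0 : Sylow 2 G) (hUH : U ≤ H0) (y : G) :
    ∃ z ∈ H0, y⁻¹ * z * y ∈ H0 ∧ z ≠ 1 := by
  have : Fact (Nat.Prime 2) := ⟨Nat.prime_two⟩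
  have hnle : ¬ (H0 : Subgroup G) ≤ N := by
    intro hle
    have h1 := Subgroup.index_dvd_of_le hle
    rw [hidx] at h1
    exact H0.not_dvd_index h1
  obtain ⟨h0, hh0, hh0N⟩ := SetLike.not_le_iff_exists.mp hnle
  by_contra hcon
  push Not at hcon
  -- hcon : ∀ z ∈ H0, y⁻¹ * z * y ∈ H0 → z = 1
  obtain ⟨g, hgN, h, hh, hy⟩ : ∃ g ∈ N, ∃ h ∈ H0, y = g * h := by
    by_cases hyN : y ∈ N
    · exact ⟨y, hyN, 1, Subgroup.one_mem _, (mul_one y).symm⟩
    · refine ⟨y * h0⁻¹, ?_, h0, hh0, by group⟩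
      rw [Subgroup.mul_mem_iff_of_index_two hidx]
      constructor
      · intro h1
        exact absurd h1 hyN
      · intro h1
        exact absurd (N.inv_mem_iff.mp h1) hh0N
  have hg : ∀ z ∈ H0, g⁻¹ * z * g ∈ H0 → z = 1 := by
    intro z hz hc
    apply hcon z hz
    have e : y⁻¹ * z * y = h⁻¹ * (g⁻¹ * z * g) * h := by rw [hy]; group
    rw [e]
    exact Subgroup.mul_mem _ (Subgroup.mul_mem _ (Subgroup.inv_mem _ hh) hc) hh
  have hTIg : ∀ t ∈ U, g⁻¹ * t * g ∈ U → t = 1 := fun t ht hc => hg t (hUH ht) (hUH hc)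
  have hg'N : h0 * g * h0⁻¹ ∈ N := Subgroup.Normal.conj_mem inferInstance g hgN h0
  have hTIg' : ∀ t ∈ U, (h0 * g * h0⁻¹)⁻¹ * t * (h0 * g * h0⁻¹) ∈ U → t = 1 := by
    intro t ht hc
    have h1 : h0⁻¹ * t * h0 ∈ (H0 : Subgroup G) :=
      Subgroup.mul_mem _ (Subgroup.mul_mem _ (Subgroup.inv_mem _ hh0) (hUH ht)) hh0
    have h2 : g⁻¹ * (h0⁻¹ * t * h0) * g ∈ (H0 : Subgroup G) := by
      have e : g⁻¹ * (h0⁻¹ * t * h0) * g =
          h0⁻¹ * ((h0 * g * h0⁻¹)⁻¹ * t * (h0 * g * h0⁻¹)) * h0 := by group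
      rw [e]
      exact Subgroup.mul_mem _ (Subgroup.mul_mem _ (Subgroup.inv_mem _ hh0) (hUH hc)) hh0
    have h3 := hg _ h1 h2
    calc t = h0 * (h0⁻¹ * t * h0) * h0⁻¹ := by group
      _ = 1 := by rw [h3]; group
  obtain ⟨a, ha, b, hb, hab⟩ := hT g hgN _ hg'N hTIg hTIg'
  -- w = a⁻¹ h0 ∈ H0 with g⁻¹ w g = b h0 ∈ H0
  have hw : a⁻¹ * h0 ∈ (H0 : Subgroup G) :=
    Subgroup.mul_mem _ (Subgroup.inv_mem _ (hUH ha)) hh0
  have hwc : g⁻¹ * (a⁻¹ * h0) * g ∈ (H0 : Subgroup G) := by
    have e : g⁻¹ * (a⁻¹ * h0) * g = b * h0 := by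
      have : h0 * g = a * g * b * h0 := by
        calc h0 * g = (h0 * g * h0⁻¹) * h0 := by group
          _ = a * g * b * h0 := by rw [hab]
      calc g⁻¹ * (a⁻¹ * h0) * g = g⁻¹ * a⁻¹ * (h0 * g) := by group
        _ = g⁻¹ * a⁻¹ * (a * g * b * h0) := by rw [this]
        _ = b * h0 := by group
    rw [e]
    exact Subgroup.mul_mem _ (hUH hb) hh0
  have h1 := hg _ hw hwc
  apply hh0N
  have : h0 = a := by
    calc h0 = a * (a⁻¹ * h0) := by group
      _ = a := by rw [h1, mul_one]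
  rw [this]
  exact hUN ha

omit [Finite G] in
lemma mem_conj_smul (K : Subgroup G) (c z : G) :
    z ∈ MulAut.conj c • K ↔ c⁻¹ * z * c ∈ K := by
  rw [Subgroup.mem_pointwise_smul_iff_inv_smul_mem, MulAut.smul_def, MulAut.conj_inv_apply]

theorem inter_ne_bot_of_double_coset (N : Subgroup G) [N.Normal] (hidx : N.index = 2)
    (U : Subgroup G) (hUN : U ≤ N) (hU2 : IsPGroup 2 U)
    (hT : ∀ g ∈ N, ∀ g' ∈ N, (∀ t ∈ U, g⁻¹ * t * g ∈ U → t = 1) →
      (∀ t ∈ U, g'⁻¹ * t * g' ∈ U → t = 1) → ∃ a ∈ U, ∃ b ∈ U, g' = a * g * b)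
    (H : Sylow 2 G) (x : G) :
    (H : Subgroup G) ⊓ MulAut.conj x • (H : Subgroup G) ≠ ⊥ := by
  have : Fact (Nat.Prime 2) := ⟨Nat.prime_two⟩
  obtain ⟨H0, hUH0⟩ := hU2.exists_le_sylow
  obtain ⟨c, hc⟩ := MulAction.exists_smul_eq G H0 H
  have hmem : ∀ z : G, z ∈ (H : Subgroup G) ↔ c⁻¹ * z * c ∈ (H0 : Subgroup G) := by
    intro z
    rw [← hc, Sylow.coe_subgroup_smul, mem_conj_smul]
  obtain ⟨z0, hz0, hz0c, hz0ne⟩ := key_sylow N hidx U hUN hT H0 hUH0 (c⁻¹ * x * c)
  intro hbot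
  have hz : c * z0 * c⁻¹ ∈ (H : Subgroup G) ⊓ MulAut.conj x • (H : Subgroup G) := by
    refine ⟨?_, ?_⟩
    · show c * z0 * c⁻¹ ∈ (H : Subgroup G)
      rw [hmem]
      have e : c⁻¹ * (c * z0 * c⁻¹) * c = z0 := by group
      rw [e]
      exact hz0
    · show c * z0 * c⁻¹ ∈ MulAut.conj x • (H : Subgroup G)
      rw [mem_conj_smul, hmem]
      have e : c⁻¹ * (x⁻¹ * (c * z0 * c⁻¹) * x) * c = (c⁻¹ * x * c)⁻¹ * z0 * (c⁻¹ * x * c) := by
        group
      rw [e]
      exact hz0c
  rw [hbot, Subgroup.mem_bot] at hz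
  apply hz0ne
  calc z0 = c⁻¹ * (c * z0 * c⁻¹) * c := by group
    _ = 1 := by rw [hz]; group

end abstractPart

section transport

variable {G : Type*} [Group G] [Finite G] {n : ℕ}

/-- a group with a normal subgroup of index 2 isomorphic to `SL_n(F_2)`: any two Sylow
2-subgroups meet nontrivially -/
theorem sylow_two_inter_ne_bot (N : Subgroup G) [N.Normal]
    (e : N ≃* Matrix.SpecialLinearGroup (Fin n) (ZMod 2)) (hidx : N.index = 2)
    (H : Sylow 2 G) (x : G) :
    (H : Subgroup G) ⊓ MulAut.conj x • (H : Subgroup G) ≠ ⊥ := by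
  have : Fact (Nat.Prime 2) := ⟨Nat.prime_two⟩
  set U : Subgroup G := ((UT n (ZMod 2)).comap e.toMonoidHom).map N.subtype with hU
  have hUN : U ≤ N := Subgroup.map_subtype_le _
  have hmemU : ∀ z : N, (z : G) ∈ U ↔ e z ∈ UT n (ZMod 2) := by
    intro z
    constructor
    · rintro ⟨w, hw, hwz⟩
      have : w = z := Subtype.ext hwz
      rw [← this]
      exact hw
    · intro hz
      exact ⟨z, hz, rfl⟩
  have hU2 : IsPGroup 2 U := by
    have h1 : IsPGroup 2 (UT n (ZMod 2)) :=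
      isPGroup_UT 2 (f := 1) (by rw [ZMod.card, pow_one])
    exact (h1.comap_of_injective e.toMonoidHom e.injective).map _
  apply inter_ne_bot_of_double_coset N hidx U hUN hU2
  intro g hg g' hg' hTI hTI'
  have tr : ∀ (y : G) (hy : y ∈ N), (∀ t ∈ U, y⁻¹ * t * y ∈ U → t = 1) → TI (e ⟨y, hy⟩) := by
    intro y hy hyp τ hτ hc
    have h1 : ((e.symm τ : N) : G) ∈ U := by
      rw [hmemU, MulEquiv.apply_symm_apply]
      exact hτ
    have h2 : y⁻¹ * ((e.symm τ : N) : G) * y ∈ U := by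
      have : y⁻¹ * ((e.symm τ : N) : G) * y =
          (((⟨y, hy⟩ : N)⁻¹ * e.symm τ * ⟨y, hy⟩ : N) : G) := rfl
      rw [this, hmemU, map_mul, map_mul, map_inv, MulEquiv.apply_symm_apply]
      exact hc
    have h3 := hyp _ h1 h2
    have h4 : e.symm τ = 1 := Subtype.ext h3
    calc τ = e (e.symm τ) := (MulEquiv.apply_symm_apply e τ).symm
      _ = 1 := by rw [h4, map_one]
  obtain ⟨α, hα, β, hβ, hαβ⟩ := big_cell _ _ (tr g hg hTI) (tr g' hg' hTI')
  refine ⟨((e.symm α : N) : G), ?_, ((e.symm β : N) : G), ?_, ?_⟩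
  · rw [hmemU, MulEquiv.apply_symm_apply]
    exact hα
  · rw [hmemU, MulEquiv.apply_symm_apply]
    exact hβ
  · have h1 : (⟨g', hg'⟩ : N) = e.symm α * ⟨g, hg⟩ * e.symm β := by
      apply e.injective
      rw [map_mul, map_mul, MulEquiv.apply_symm_apply, MulEquiv.apply_symm_apply]
      exact hαβ
    exact congrArg (fun z : N => (z : G)) h1

end transport

end Cfsg.Agent.Lib.Helper44.BigCell
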