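import Mathlib
import Cfsg.Prelude.Def_Transfer
import Cfsg.Agent.Lib.Helper03.PGroupFrattini

set_option autoImplicit false
set_option linter.unusedSectionVars false

/-! Extraspecial 2-groups as central extensions of `F₂^κ` by `F₂` with a bilinear cocycle. -/

namespace Cfsg.Agent.Lib.Helper44

open Matrix
open scoped commutatorElement

variable {κ : Type} [Fintype κ] [DecidableEq κ]

/-- central extension of `F₂^κ` by `F₂` with cocycle `(x, y) ↦ x N yᵀ` -/
@[ext] structure CExt (N : Matrix κ κ (ZMod 2)) where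
  /-- vector part -/
  v : κ → ZMod 2
  /-- central part -/
  c : ZMod 2

namespace CExt

variable (N : Matrix κ κ (ZMod 2))

/-- the cocycle -/
def bf (x y : κ → ZMod 2) : ZMod 2 := x ⬝ᵥ N *ᵥ y

lemma bf_add_left (x y z : κ → ZMod 2) : bf N (x + y) z = bf N x z + bf N y z := by
  simp [bf, add_dotProduct]

lemma bf_add_right (x y z : κ → ZMod 2) : bf N x (y + z) = bf N x y + bf N x z := by
  simp [bf, Matrix.mulVec_add, dotProduct_add]

@[simp] lemma bf_zero_left (y : κ → ZMod 2) : bf N 0 y = 0 := by simp [bf]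

@[simp] lemma bf_zero_right (x : κ → ZMod 2) : bf N x 0 = 0 := by simp [bf]

lemma two_eq_zero' : (2 : ZMod 2) = 0 := rfl

lemma vadd_self (x : κ → ZMod 2) : x + x = 0 := by
  ext i
  exact CharTwo.add_self_eq_zero _

instance : Mul (CExt N) := ⟨fun a b => ⟨a.v + b.v, a.c + b.c + bf N a.v b.v⟩⟩
instance : One (CExt N) := ⟨⟨0, 0⟩⟩
instance : Inv (CExt N) := ⟨fun a => ⟨a.v, a.c + bf N a.v a.v⟩⟩

@[simp] lemma mul_v (a b : CExt N) : (a * b).v = a.v + b.v := rfl
@[simp] lemma mul_c (a b : CExt N) : (a * b).c = a.c + b.c + bf N a.v b.v := rfl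
@[simp] lemma one_v : (1 : CExt N).v = 0 := rfl
@[simp] lemma one_c : (1 : CExt N).c = 0 := rfl
@[simp] lemma inv_v (a : CExt N) : (a⁻¹).v = a.v := rfl
@[simp] lemma inv_c (a : CExt N) : (a⁻¹).c = a.c + bf N a.v a.v := rfl

instance : Group (CExt N) where
  mul_assoc a b c := by
    ext : 1
    · simp [add_assoc]
    · simp only [mul_c, mul_v, bf_add_left, bf_add_right]
      ring
  one_mul a := by
    ext : 1 <;> simp
  mul_one a := by
    ext : 1 <;> simp
  inv_mul_cancel a := by
    ext : 1
    · simp [vadd_self]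
    · simp only [mul_c, inv_c, inv_v, one_c]
      linear_combination (a.c + bf N a.v a.v) * two_eq_zero'

/-- the underlying set -/
def equivProd : CExt N ≃ (κ → ZMod 2) × ZMod 2 where
  toFun a := (a.v, a.c)
  invFun p := ⟨p.1, p.2⟩
  left_inv _ := rfl
  right_inv _ := rfl

instance : Finite (CExt N) := Finite.of_equiv _ (equivProd N).symm

lemma card_eq : Nat.card (CExt N) = 2 ^ (Fintype.card κ + 1) := by
  rw [Nat.card_congr (equivProd N), Nat.card_prod, Nat.card_fun]
  simp [pow_succ]

/-- projection to the vector part -/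
def proj : CExt N →* Multiplicative (κ → ZMod 2) where
  toFun a := Multiplicative.ofAdd a.v
  map_one' := rfl
  map_mul' _ _ := rfl

/-- the central subgroup `{(0, c)}` -/
def zsub : Subgroup (CExt N) := (proj N).ker

lemma mem_zsub (a : CExt N) : a ∈ zsub N ↔ a.v = 0 := by
  rw [zsub, MonoidHom.mem_ker]
  rfl

/-- the alternating form -/
def om (x y : κ → ZMod 2) : ZMod 2 := bf N x y + bf N y x

lemma om_eq (x y : κ → ZMod 2) : om N x y = x ⬝ᵥ (N + Nᵀ) *ᵥ y := by
  simp only [om, bf, Matrix.add_mulVec, dotProduct_add]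
  congr 1
  rw [Matrix.dotProduct_mulVec, ← Matrix.mulVec_transpose, dotProduct_comm]

lemma mul_comm_iff (a b : CExt N) : a * b = b * a ↔ om N a.v b.v = 0 := by
  constructor
  · intro h
    have := congrArg CExt.c h
    simp only [mul_c] at this
    simp only [om]
    linear_combination this + (bf N b.v a.v) * two_eq_zero'
  · intro h
    ext : 1
    · simp [add_comm]
    · simp only [mul_c]
      simp only [om] at h
      linear_combination h - (bf N b.v a.v) * two_eq_zero'

lemma om_nondeg (hdet : (N + Nᵀ).det ≠ 0) (x : κ → ZMod 2) (hx : ∀ y, om N x y = 0) : x = 0 := by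
  have h1 : x ᵥ* (N + Nᵀ) = 0 := by
    ext j
    have := hx (Pi.single j 1)
    rw [om_eq, Matrix.dotProduct_mulVec] at this
    simpa using this
  exact Matrix.eq_zero_of_vecMul_eq_zero hdet h1

lemma center_eq (hdet : (N + Nᵀ).det ≠ 0) : Subgroup.center (CExt N) = zsub N := by
  ext a
  rw [Subgroup.mem_center_iff, mem_zsub]
  constructor
  · intro h
    apply om_nondeg N hdet
    intro y
    have := h ⟨y, 0⟩
    rw [mul_comm_iff] at this
    simp only [om] at this ⊢
    linear_combination this
  · intro h b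
    rw [mul_comm_iff, h]
    simp [om]

lemma card_zsub : Nat.card (zsub N) = 2 := by
  have e : zsub N ≃ ZMod 2 :=
    { toFun := fun a => a.1.c
      invFun := fun c => ⟨⟨0, c⟩, (mem_zsub N _).mpr rfl⟩
      left_inv := fun a => by
        apply Subtype.ext
        ext : 1
        · exact ((mem_zsub N a.1).mp a.2).symm
        · rfl
      right_inv := fun c => rfl }
  rw [Nat.card_congr e]
  simp

lemma sq_eq (a : CExt N) : a * a = ⟨0, bf N a.v a.v⟩ := by
  ext : 1
  · simp [vadd_self]
  · simp only [mul_c]
    linear_combination a.c * two_eq_zero'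

lemma isPGroup : IsPGroup 2 (CExt N) := IsPGroup.of_card (card_eq N)

lemma commutator_le_zsub : commutator (CExt N) ≤ zsub N :=
  Abelianization.commutator_subset_ker (proj N)

lemma commutatorElement_eq (a b : CExt N) : ⁅a, b⁆ = ⟨0, om N a.v b.v⟩ := by
  rw [commutatorElement_def]
  ext : 1
  · simp only [mul_v, inv_v]
    rw [add_assoc, add_add_add_comm, vadd_self, vadd_self, add_zero]
  · simp only [mul_c, mul_v, inv_c, inv_v, bf_add_left, bf_add_right, om]
    linear_combination (a.c + b.c + bf N a.v a.v + bf N b.v b.v + bf N a.v b.v) * two_eq_zero'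

lemma zsub_le_commutator [Nonempty κ] (hdet : (N + Nᵀ).det ≠ 0) : zsub N ≤ commutator (CExt N) := by
  -- a pair with `om = 1`
  obtain ⟨i⟩ := ‹Nonempty κ›
  have hex : ∃ y, om N (Pi.single i 1) y ≠ 0 := by
    by_contra hcon
    push Not at hcon
    have := om_nondeg N hdet _ hcon
    have h1 := congrFun this i
    simp at h1
  obtain ⟨y, hy⟩ := hex
  have hy1 : om N (Pi.single i 1) y = 1 := by
    generalize om N (Pi.single i 1) y = t at hy
    revert hy
    revert t
    decide
  have hmem : (⟨0, 1⟩ : CExt N) ∈ commutator (CExt N) := by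
    have := commutatorElement_eq N ⟨Pi.single i 1, 0⟩ ⟨y, 0⟩
    simp only [hy1] at this
    rw [← this, commutator_def]
    exact Subgroup.commutator_mem_commutator (Subgroup.mem_top _) (Subgroup.mem_top _)
  intro a ha
  rw [mem_zsub] at ha
  have hc : a.c = 0 ∨ a.c = 1 := by
    generalize a.c = t
    revert t
    decide
  rcases hc with h | h
  · have : a = 1 := by
      ext : 1
      · exact ha
      · exact h
    rw [this]; exact Subgroup.one_mem _
  · have : a = ⟨0, 1⟩ := by
      ext : 1
      · exact ha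
      · exact h
    rw [this]; exact hmem

lemma commutator_eq [Nonempty κ] (hdet : (N + Nᵀ).det ≠ 0) : commutator (CExt N) = zsub N :=
  le_antisymm (commutator_le_zsub N) (zsub_le_commutator N hdet)

/-- coordinate characters -/
def coord (i : κ) : CExt N →* Multiplicative (ZMod 2) where
  toFun a := Multiplicative.ofAdd (a.v i)
  map_one' := rfl
  map_mul' _ _ := rfl

lemma coord_ker_isCoatom (i : κ) : IsCoatom (coord N i).ker := by
  have hsurj : Function.Surjective (coord N i) := by
    intro t
    refine ⟨⟨Pi.single i (Multiplicative.toAdd t), 0⟩, ?_⟩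
    simp [coord]
  have hidx : (coord N i).ker.index = 2 := by
    rw [Subgroup.index_ker, MonoidHom.range_eq_top.mpr hsurj, Subgroup.card_top]
    simp
  constructor
  · intro h
    rw [h, Subgroup.index_top] at hidx
    omega
  · intro H hH
    have hdvd := Subgroup.index_dvd_of_le hH.le
    rw [hidx] at hdvd
    rcases (Nat.dvd_prime Nat.prime_two).mp hdvd with h1 | h2
    · exact Subgroup.index_eq_one.mp h1
    · exfalso
      have hrel := Subgroup.relIndex_mul_index hH.le
      rw [hidx, h2] at hrel
      have h3 : (coord N i).ker.relIndex H = 1 := by omega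
      exact hH.not_ge (Subgroup.relIndex_eq_one.mp h3)

lemma frattini_eq [Nonempty κ] (hdet : (N + Nᵀ).det ≠ 0) : frattini (CExt N) = zsub N := by
  apply le_antisymm
  · intro a ha
    rw [mem_zsub]
    ext i
    have := frattini_le_coatom (coord_ker_isCoatom N i) ha
    rw [MonoidHom.mem_ker] at this
    exact this
  · rw [← commutator_eq N hdet]
    have : Fact (Nat.Prime 2) := ⟨Nat.prime_two⟩
    exact Cfsg.Agent.Lib.Helper03.commutator_le_frattini_of_isPGroup (isPGroup N)

theorem isExtraspecial [Nonempty κ] (hdet : (N + Nᵀ).det ≠ 0) : Cfsg.IsExtraspecial 2 (CExt N) := by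
  refine ⟨⟨isPGroup N, ?_, ?_⟩, ?_⟩
  · rw [frattini_eq N hdet, center_eq N hdet]
  · rw [commutator_eq N hdet, center_eq N hdet]
  · rw [center_eq N hdet, card_zsub]

end CExt

end Cfsg.Agent.Lib.Helper44
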