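import Mathlib
import Cfsg.Agent.Lib.Helper44.ExtraCocycle
import Cfsg.Agent.Lib.Helper50.TypeCriteria
import Cfsg.Agent.Lib.Helper50.StdForms

set_option autoImplicit false
set_option linter.unusedSectionVars false

/-! 2-ranks of the extraspecial groups `CExt N` through totally singular subspaces. -/

namespace Cfsg.Agent.Lib.Helper44

open Matrix Module

variable {κ : Type} [Fintype κ] [DecidableEq κ]

namespace CExt

variable (N : Matrix κ κ (ZMod 2))

/-- the subgroup lying over a submodule -/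
def above (X : Submodule (ZMod 2) (κ → ZMod 2)) : Subgroup (CExt N) where
  carrier := {a | a.v ∈ X}
  mul_mem' ha hb := X.add_mem ha hb
  one_mem' := X.zero_mem
  inv_mem' ha := ha

lemma mem_over (X : Submodule (ZMod 2) (κ → ZMod 2)) (a : CExt N) : a ∈ above N X ↔ a.v ∈ X :=
  Iff.rfl

lemma card_over (X : Submodule (ZMod 2) (κ → ZMod 2)) :
    Nat.card (above N X) = 2 ^ (finrank (ZMod 2) X + 1) := by
  have e : above N X ≃ X × ZMod 2 :=
    { toFun := fun a => (⟨a.1.v, a.2⟩, a.1.c)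
      invFun := fun p => ⟨⟨p.1.1, p.2⟩, p.1.2⟩
      left_inv := fun a => rfl
      right_inv := fun p => rfl }
  rw [Nat.card_congr e, Nat.card_prod, Module.natCard_eq_pow_finrank (K := ZMod 2) (V := X)]
  simp [pow_succ]

/-- the vector parts of a subgroup -/
def vpart (A : Subgroup (CExt N)) : Submodule (ZMod 2) (κ → ZMod 2) where
  carrier := {x | ∃ c, (⟨x, c⟩ : CExt N) ∈ A}
  add_mem' := by
    rintro x y ⟨c, hc⟩ ⟨d, hd⟩
    exact ⟨_, A.mul_mem hc hd⟩
  zero_mem' := ⟨0, A.one_mem⟩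
  smul_mem' := by
    rintro r x ⟨c, hc⟩
    have hr : r = 0 ∨ r = 1 := by
      revert r
      decide
    rcases hr with rfl | rfl
    · rw [zero_smul]; exact ⟨0, A.one_mem⟩
    · rw [one_smul]; exact ⟨c, hc⟩

lemma card_le_vpart (A : Subgroup (CExt N)) :
    Nat.card A ≤ 2 ^ (finrank (ZMod 2) (vpart N A) + 1) := by
  have hinj : Function.Injective (fun a : A => ((⟨a.1.v, ⟨a.1.c, a.2⟩⟩ : vpart N A), a.1.c)) := by
    intro a b h
    simp only [Prod.mk.injEq, Subtype.mk.injEq] at h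
    apply Subtype.ext
    ext : 1
    · exact congrArg Subtype.val h.1
    · exact h.2
  have := Nat.card_le_card_of_injective _ hinj
  rw [Nat.card_prod, Module.natCard_eq_pow_finrank (K := ZMod 2) (V := vpart N A)] at this
  simpa [pow_succ] using this

variable (Q : QuadraticForm (ZMod 2) (κ → ZMod 2)) (hQ : ∀ x, Q x = bf N x x)

include hQ in
lemma om_eq_polar (x y : κ → ZMod 2) : om N x y = Q (x + y) + Q x + Q y := by
  rw [hQ, hQ, hQ, bf_add_left, bf_add_right, bf_add_right]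
  simp only [om]
  linear_combination (-(bf N x x) - bf N y y) * two_eq_zero'

include hQ in
lemma over_elementary (X : Submodule (ZMod 2) (κ → ZMod 2)) (hX : ∀ x ∈ X, Q x = 0) :
    Cfsg.IsElementaryAbelian 2 (above N X) := by
  refine ⟨⟨⟨?_⟩⟩, ?_⟩
  · rintro ⟨a, ha⟩ ⟨b, hb⟩
    apply Subtype.ext
    change a * b = b * a
    rw [mul_comm_iff, om_eq_polar N Q hQ, hX _ (X.add_mem ha hb), hX _ ha, hX _ hb]
    simp
  · intro a ha
    rw [sq, sq_eq, ← hQ, hX _ ha]
    rfl

include hQ in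
lemma vpart_singular (A : Subgroup (CExt N)) (hA : Cfsg.IsElementaryAbelian 2 A) :
    ∀ x ∈ vpart N A, Q x = 0 := by
  rintro x ⟨c, hc⟩
  have h := hA.2 _ hc
  rw [sq, sq_eq] at h
  have := congrArg CExt.c h
  rw [hQ]
  exact this

include hQ in
/-- the 2-rank is one more than the Witt index -/
theorem rank_eq (w : ℕ)
    (hw1 : ∃ X : Submodule (ZMod 2) (κ → ZMod 2), finrank (ZMod 2) X = w ∧ ∀ x ∈ X, Q x = 0)
    (hw2 : ∀ X : Submodule (ZMod 2) (κ → ZMod 2), (∀ x ∈ X, Q x = 0) → finrank (ZMod 2) X ≤ w) :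
    sSup {k : ℕ | ∃ A : Subgroup (CExt N), Cfsg.IsElementaryAbelian 2 A ∧ Nat.card A = 2 ^ k} =
      w + 1 := by
  apply IsGreatest.csSup_eq
  constructor
  · obtain ⟨X, hXw, hX⟩ := hw1
    exact ⟨above N X, over_elementary N Q hQ X hX, by rw [card_over, hXw]⟩
  · rintro k ⟨A, hA, hcard⟩
    have h1 := card_le_vpart N A
    have h2 := hw2 _ (vpart_singular N Q hQ A hA)
    rw [hcard] at h1
    have h3 := (Nat.pow_le_pow_iff_right (by norm_num : 1 < 2)).mp h1
    omega

end CExt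

section forms

open Cfsg.Agent.Lib.Helper50 CExt

/-- totally singular subspaces have at most half the dimension -/
lemma finrank_singular_le {V : Type*} [AddCommGroup V] [Module (ZMod 2) V] [Module.Finite (ZMod 2) V]
    (Q : QuadraticForm (ZMod 2) V) (hQ : (QuadraticMap.polarBilin Q).Nondegenerate)
    (X : Submodule (ZMod 2) V) (hX : ∀ x ∈ X, Q x = 0) :
    2 * finrank (ZMod 2) X ≤ finrank (ZMod 2) V := by
  have hle : X ≤ LinearMap.BilinForm.orthogonal (QuadraticMap.polarBilin Q) X := by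
    intro x hx
    rw [LinearMap.BilinForm.mem_orthogonal_iff]
    intro y hy
    change QuadraticMap.polarBilin Q y x = 0
    rw [QuadraticMap.polarBilin_apply_apply, QuadraticMap.polar, hX _ (X.add_mem hy hx), hX _ hy,
      hX _ hx]
    simp
  have h1 := Submodule.finrank_mono hle
  rw [LinearMap.BilinForm.finrank_orthogonal hQ] at h1
  have h2 := Submodule.finrank_le X
  omega

/-- the cocycle matrix of plus type -/
def Nplus (n : ℕ) : Matrix (Fin n ⊕ Fin n) (Fin n ⊕ Fin n) (ZMod 2) :=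
  Matrix.fromBlocks 0 1 0 0

/-- the cocycle matrix of minus type -/
def Nminus (m : ℕ) : Matrix ((Fin m ⊕ Fin m) ⊕ Fin 2) ((Fin m ⊕ Fin m) ⊕ Fin 2) (ZMod 2) :=
  Matrix.fromBlocks (Matrix.fromBlocks 0 1 0 0) 0 0 !![1, 1; 0, 1]

lemma Nplus_form (n : ℕ) (x : Fin n ⊕ Fin n → ZMod 2) :
    QPlus n (ZMod 2) x = bf (Nplus n) x x := by
  change Cfsg.quadFormPlus n (ZMod 2) x = _
  simp [bf, Nplus, Matrix.fromBlocks_mulVec, dotProduct, Fintype.sum_sum_type, Cfsg.quadFormPlus,
    Matrix.mulVec, Matrix.one_apply]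

lemma Nminus_form (m : ℕ) (x : (Fin m ⊕ Fin m) ⊕ Fin 2 → ZMod 2) :
    QMinus m (ZMod 2) 1 1 x = bf (Nminus m) x x := by
  change Cfsg.quadFormMinus m (ZMod 2) 1 1 x = _
  simp [bf, Nminus, Matrix.fromBlocks_mulVec, dotProduct, Fintype.sum_sum_type,
    Cfsg.quadFormMinus, Matrix.mulVec, Matrix.one_apply, Fin.sum_univ_two]
  have hsq : ∀ t : ZMod 2, t * t = t := by decide
  rw [mul_add, hsq, hsq]

lemma Nplus_det (n : ℕ) : (Nplus n + (Nplus n)ᵀ).det ≠ 0 := by
  have : Nplus n + (Nplus n)ᵀ = Matrix.fromBlocks (0 : Matrix (Fin n) (Fin n) (ZMod 2)) 1 1 0 := by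
    simp [Nplus, Matrix.fromBlocks_transpose, Matrix.fromBlocks_add]
  rw [this, det_hyp]
  have h1 : (-1 : ZMod 2) = 1 := by decide
  rw [h1, one_pow]
  exact one_ne_zero

lemma Nminus_det (m : ℕ) : (Nminus m + (Nminus m)ᵀ).det ≠ 0 := by
  have h22 : (!![1, 1; 0, 1] + (!![1, 1; 0, 1] : Matrix (Fin 2) (Fin 2) (ZMod 2))ᵀ) =
      !![2, 1; 1, 2 * 1] := by decide
  have : Nminus m + (Nminus m)ᵀ = Matrix.fromBlocks
      (Matrix.fromBlocks (0 : Matrix (Fin m) (Fin m) (ZMod 2)) 1 1 0) 0 0 !![2, 1; 1, 2 * 1] := by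
    rw [← h22]
    simp [Nminus, Matrix.fromBlocks_transpose, Matrix.fromBlocks_add]
  rw [this, det_minus_gram]
  have h1 : (-1 : ZMod 2) = 1 := by decide
  rw [h1, one_pow]
  decide

end forms

end Cfsg.Agent.Lib.Helper44
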