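import Mathlib
import Cfsg.Agent.Lib.Helper44.WreathSylow
import Cfsg.Agent.Lib.Helper07.SL2QuatMain
import Cfsg.Agent.Lib.Helper07.SLCard

set_option autoImplicit false

/-! * `glToSL`: the embedding `GL_κ(F) → SL_{κ+1}(F)`, `A ↦ diag(A, (det A)⁻¹)`.
* a Sylow `2`-subgroup of `GL_2(q)`, `q ≡ 3 mod 4`, has all squares in its derived subgroup. -/

namespace Cfsg.Agent.Lib.Helper44

open Matrix

section emb

variable {κ ρ ι : Type*} [Fintype κ] [DecidableEq κ] [Fintype ρ] [DecidableEq ρ] [Unique ρ]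
  [Fintype ι] [DecidableEq ι] {F : Type*} [Field F]

/-- `A ↦ diag(A, (det A)⁻¹)` as a matrix-valued homomorphism -/
noncomputable def glToSLMat (ε : κ ⊕ ρ ≃ ι) : GL κ F →* Matrix ι ι F where
  toFun A := Matrix.reindex ε ε (Matrix.fromBlocks (A : Matrix κ κ F) 0 0
    (Matrix.diagonal fun _ => (((GeneralLinearGroup.det A)⁻¹ : Fˣ) : F)))
  map_one' := by
    simp [Matrix.fromBlocks_one]
  map_mul' A B := by
    simp only [Matrix.reindex_apply]
    rw [Matrix.submatrix_mul_equiv, Matrix.fromBlocks_multiply]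
    simp [Matrix.diagonal_mul_diagonal, mul_comm]

omit [Unique ρ] in
lemma glToSLMat_apply (ε : κ ⊕ ρ ≃ ι) (A : GL κ F) :
    glToSLMat ε A = Matrix.reindex ε ε (Matrix.fromBlocks (A : Matrix κ κ F) 0 0
      (Matrix.diagonal fun _ => (((GeneralLinearGroup.det A)⁻¹ : Fˣ) : F))) := rfl

lemma det_glToSLMat (ε : κ ⊕ ρ ≃ ι) (A : GL κ F) : (glToSLMat ε A).det = 1 := by
  rw [glToSLMat_apply, Matrix.det_reindex_self, Matrix.det_fromBlocks_zero₂₁, Matrix.det_diagonal,
    Fintype.prod_unique]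
  have : (A : Matrix κ κ F).det = ((GeneralLinearGroup.det A : Fˣ) : F) := rfl
  rw [this, ← Units.val_mul, mul_inv_cancel, Units.val_one]

/-- `A ↦ diag(A, (det A)⁻¹)`, `GL_κ → SL_{κ+1}` -/
noncomputable def glToSL (ε : κ ⊕ ρ ≃ ι) : GL κ F →* SpecialLinearGroup ι F where
  toFun A := ⟨glToSLMat ε A, det_glToSLMat ε A⟩
  map_one' := Subtype.ext (map_one _)
  map_mul' A B := Subtype.ext (map_mul _ A B)

lemma glToSL_injective (ε : κ ⊕ ρ ≃ ι) : Function.Injective (glToSL (F := F) ε) := by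
  intro A B h
  have h1 : glToSLMat ε A = glToSLMat ε B := congrArg Subtype.val h
  rw [glToSLMat_apply, glToSLMat_apply] at h1
  have h2 := (Matrix.reindex ε ε).injective h1
  exact Units.ext (Matrix.fromBlocks_inj.1 h2).1

end emb

section gl2

variable {F : Type*} [Field F]

/-- the reflection `diag(1, -1)` -/
noncomputable def reflGL : GL (Fin 2) F :=
  ⟨!![1, 0; 0, -1], !![1, 0; 0, -1],
    by ext i j; fin_cases i <;> fin_cases j <;> simp [Matrix.mul_apply, Fin.sum_univ_two],
    by ext i j; fin_cases i <;> fin_cases j <;> simp [Matrix.mul_apply, Fin.sum_univ_two]⟩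

lemma reflGL_sq : (reflGL : GL (Fin 2) F) ^ 2 = 1 := by
  apply Units.ext
  rw [sq, Units.val_mul, Units.val_one]
  exact (reflGL : GL (Fin 2) F).3

lemma det_reflGL : GeneralLinearGroup.det (reflGL : GL (Fin 2) F) = -1 := by
  apply Units.ext
  rw [GeneralLinearGroup.val_det_apply]
  simp [reflGL, Matrix.det_fin_two]

variable [Fintype F]

lemma det_sq_eq_one_of_two_pow (hq : 4 ∣ Fintype.card F + 1) (u : Fˣ) (k : ℕ)
    (hu : u ^ (2 ^ k) = 1) : u ^ 2 = 1 := by
  classical
  have h1 : orderOf u ∣ 2 ^ k := orderOf_dvd_of_pow_eq_one hu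
  have h2 : orderOf u ∣ Fintype.card F - 1 := by
    rw [← Fintype.card_units]
    exact orderOf_dvd_card
  obtain ⟨j, _, hj⟩ := (Nat.dvd_prime_pow Nat.prime_two).1 h1
  have hj1 : j ≤ 1 := by
    by_contra hcon
    have h4 : 4 ∣ orderOf u := by
      rw [hj]
      exact pow_dvd_pow 2 (by omega : 2 ≤ j)
    have h5 : 4 ∣ Fintype.card F - 1 := h4.trans h2
    have := Fintype.one_lt_card (α := F)
    omega
  rw [← orderOf_dvd_iff_pow_eq_one, hj]
  exact pow_dvd_pow 2 hj1

/-- some Sylow `2`-subgroup of `GL_2(q)`, `q ≡ 3 mod 4`, has all its squares in its derived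
subgroup -/
theorem exists_sylow_GL_two_sqComm (hF : Odd (Fintype.card F)) (hq : 4 ∣ Fintype.card F + 1) :
    ∃ D : Sylow 2 (GL (Fin 2) F), SqComm (D : Subgroup (GL (Fin 2) F)) := by
  classical
  obtain ⟨S0⟩ : Nonempty (Sylow 2 (SpecialLinearGroup (Fin 2) F)) := Sylow.nonempty
  have hS0 : SqComm (S0 : Subgroup (SpecialLinearGroup (Fin 2) F)) := by
    obtain ⟨k, hk, ⟨e⟩⟩ := Cfsg.Agent.Lib.Helper07.sylow_two_SL_two_quaternion hF S0
    apply sqComm_of_top
    have : NeZero (2 ^ k) := ⟨by positivity⟩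
    exact sqComm_top_of_equiv e.symm
      (quat_sqComm (2 ^ k) ((Nat.even_pow.mpr ⟨even_two, by omega⟩)))
  set ι := (SpecialLinearGroup.toGL : SpecialLinearGroup (Fin 2) F →* GL (Fin 2) F) with hι
  have hιinj : Function.Injective ι := SpecialLinearGroup.toGL_injective
  set Q := (S0 : Subgroup (SpecialLinearGroup (Fin 2) F)).map ι with hQ
  have hQsq : SqComm Q := hS0.map ι
  have hQp : IsPGroup 2 Q := S0.isPGroup'.map ι
  obtain ⟨D, hQD⟩ := hQp.exists_le_sylow
  refine ⟨D, ?_⟩
  have hDN : ∀ x ∈ (D : Subgroup (GL (Fin 2) F)), GeneralLinearGroup.det x = 1 → x ∈ Q := by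
    intro x hx hdet
    have hxr : x ∈ ι.range := by
      rw [hι, Cfsg.Agent.Lib.Helper07.range_toGL_eq_ker_det]
      exact hdet
    obtain ⟨y, rfl⟩ := hxr
    set S1 := (D : Subgroup (GL (Fin 2) F)).comap ι with hS1
    have hS1p : IsPGroup 2 S1 := D.isPGroup'.comap_of_injective ι hιinj
    have hle : (S0 : Subgroup (SpecialLinearGroup (Fin 2) F)) ≤ S1 :=
      fun z hz => hQD (Subgroup.mem_map_of_mem ι hz)
    have hmax := S0.is_maximal' hS1p hle
    have hy : y ∈ S1 := hx
    rw [hmax] at hy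
    exact Subgroup.mem_map_of_mem ι hy
  obtain ⟨t, htD, ht2, htdet⟩ : ∃ t ∈ (D : Subgroup (GL (Fin 2) F)), t ^ 2 = 1 ∧
      GeneralLinearGroup.det t = -1 := by
    have hτp : IsPGroup 2 (Subgroup.zpowers (reflGL : GL (Fin 2) F)) := by
      rintro ⟨g, hg⟩
      obtain ⟨k, rfl⟩ := Subgroup.mem_zpowers_iff.mp hg
      refine ⟨1, Subtype.ext ?_⟩
      simp only [pow_one, Subgroup.coe_pow, Subgroup.coe_one]
      rw [← zpow_natCast, ← _root_.zpow_mul, mul_comm, _root_.zpow_mul, zpow_natCast, reflGL_sq, _root_.one_zpow]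
    obtain ⟨D1, hD1⟩ := hτp.exists_le_sylow
    obtain ⟨g, hg⟩ := MulAction.exists_smul_eq (GL (Fin 2) F) D1 D
    have hD : (D : Subgroup (GL (Fin 2) F)) =
        (D1 : Subgroup (GL (Fin 2) F)).map (MulAut.conj g).toMonoidHom := by
      rw [← hg]
      rfl
    refine ⟨MulAut.conj g reflGL, ?_, ?_, ?_⟩
    · rw [hD]
      exact Subgroup.mem_map_of_mem _ (hD1 (Subgroup.mem_zpowers _))
    · rw [← map_pow, reflGL_sq, map_one]
    · rw [MulAut.conj_apply, map_mul, map_mul, map_inv, det_reflGL, mul_comm, ← mul_assoc,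
        inv_mul_cancel, one_mul]
  have hdet : ∀ x ∈ (D : Subgroup (GL (Fin 2) F)),
      GeneralLinearGroup.det x = 1 ∨ GeneralLinearGroup.det x = -1 := by
    intro x hx
    obtain ⟨k, hk⟩ := D.isPGroup' ⟨x, hx⟩
    have hk' : x ^ (2 ^ k) = 1 := by
      have := congrArg Subtype.val hk
      simpa using this
    have h2 : (GeneralLinearGroup.det x) ^ 2 = 1 := by
      apply det_sq_eq_one_of_two_pow hq _ k
      rw [← map_pow, hk', map_one]
    have h3 : ((GeneralLinearGroup.det x : Fˣ) : F) * ((GeneralLinearGroup.det x : Fˣ) : F) = 1 := by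
      rw [← Units.val_mul, ← sq, h2, Units.val_one]
    rcases mul_self_eq_one_iff.mp h3 with h | h
    · left
      exact Units.ext h
    · right
      exact Units.ext (by rw [h]; rfl)
  have hD : (D : Subgroup (GL (Fin 2) F)) = Subgroup.closure ((Q : Set (GL (Fin 2) F)) ∪ {t}) := by
    apply le_antisymm
    · intro x hx
      rcases hdet x hx with h | h
      · exact Subgroup.subset_closure (Or.inl (hDN x hx h))
      · have hxt : x * t ∈ Q := by
          apply hDN (x * t) (mul_mem hx htD)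
          rw [map_mul, h, htdet]
          simp
        have : x = (x * t) * t := by rw [mul_assoc, ← sq, ht2, mul_one]
        rw [this]
        exact Subgroup.mul_mem _ (Subgroup.subset_closure (Or.inl hxt))
          (Subgroup.subset_closure (Or.inr rfl))
    · rw [Subgroup.closure_le]
      rintro x (hx | hx)
      · exact hQD hx
      · rw [Set.mem_singleton_iff] at hx
        rw [hx]
        exact htD
  apply sqComm_of_closure _ _ hD
  rintro x (hx | hx)
  · exact Subgroup.commutator_mono hQD hQD (hQsq x hx)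
  · rw [Set.mem_singleton_iff] at hx
    rw [hx, ht2]
    exact Subgroup.one_mem _

end gl2

end Cfsg.Agent.Lib.Helper44
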