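import Mathlib
import Cfsg.Agent.Lib.Helper44.SpSylow
import Cfsg.Agent.Lib.Helper07.SLCard

set_option autoImplicit false

/-! The `2`-part of `|GL_n(q)|` and `|SL_n(q)|` for odd `q`. -/

namespace Cfsg.Agent.Lib.Helper44

open Finset

lemma geom_sum_mul_add_one (r k : ℕ) :
    (∑ i ∈ range k, (r + 1) ^ i) * r + 1 = (r + 1) ^ k := by
  induction k with
  | zero => simp
  | succ k ih =>
    rw [sum_range_succ, add_mul, add_right_comm, ih]
    ring

lemma geom_sum_odd_mod_two {q : ℕ} (hq : Odd q) (k : ℕ) :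
    (∑ i ∈ range k, q ^ i) % 2 = k % 2 := by
  induction k with
  | zero => simp
  | succ k ih =>
    rw [sum_range_succ, Nat.add_mod, ih]
    have : q ^ k % 2 = 1 := Nat.odd_iff.mp hq.pow
    rw [this]
    omega

lemma padicVal_odd_pow_sub_one {q : ℕ} (hq : Odd q) (hq1 : 1 < q) (k : ℕ) (hk : Odd k) :
    padicValNat 2 (q ^ k - 1) = padicValNat 2 (q - 1) := by
  obtain ⟨r, rfl⟩ : ∃ r, q = r + 1 := ⟨q - 1, by omega⟩
  have h := geom_sum_mul_add_one r k
  have h2 : (r + 1) ^ k - 1 = (∑ i ∈ range k, (r + 1) ^ i) * r := by omega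
  have hS : (∑ i ∈ range k, (r + 1) ^ i) % 2 = 1 := by
    rw [geom_sum_odd_mod_two hq, Nat.odd_iff.mp hk]
  have hS0 : (∑ i ∈ range k, (r + 1) ^ i) ≠ 0 := by
    intro h0
    rw [h0] at hS
    simp at hS
  rw [h2, Nat.add_sub_cancel, padicValNat.mul hS0 (by omega),
    padicValNat.eq_zero_of_not_dvd (by omega), zero_add]

lemma padicVal_two_prod_range {q : ℕ} (hq : Odd q) (hq1 : 1 < q) (n : ℕ) :
    padicValNat 2 (∏ j ∈ range n, (q ^ (j + 1) - 1)) =
      ((n + 1) / 2) * padicValNat 2 (q - 1) + (n / 2) * padicValNat 2 (q ^ 2 - 1) +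
        padicValNat 2 (n / 2).factorial := by
  have hne : ∀ j, q ^ (j + 1) - 1 ≠ 0 := by
    intro j
    have : 1 < q ^ (j + 1) := Nat.one_lt_pow (by omega) (by omega)
    omega
  induction n with
  | zero => simp
  | succ n ih =>
    rw [prod_range_succ, padicValNat.mul (prod_ne_zero_iff.2 fun j _ => hne j) (hne n), ih]
    rcases Nat.even_or_odd' n with ⟨s, rfl | rfl⟩
    · rw [padicVal_odd_pow_sub_one hq hq1 (2 * s + 1) ⟨s, rfl⟩]
      have e1 : (2 * s + 1 + 1) / 2 = s + 1 := by omega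
      have e2 : (2 * s + 1) / 2 = s := by omega
      have e3 : 2 * s / 2 = s := by omega
      rw [e1, e2, e3]
      ring
    · have e0 : q ^ (2 * s + 1 + 1) - 1 = q ^ (2 * (s + 1)) - 1 := by
        congr 2
      have e1 : (2 * s + 1 + 1 + 1) / 2 = s + 1 := by omega
      have e2 : (2 * s + 1 + 1) / 2 = s + 1 := by omega
      have e4 : (2 * s + 1) / 2 = s := by omega
      rw [e0, padicVal_pow_two_mul_sub_one hq hq1 (s + 1) (by omega), e1, e2, e4,
        Nat.factorial_succ, padicValNat.mul (by omega) (Nat.factorial_ne_zero s)]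
      ring

lemma padicVal_two_card_GL {F : Type*} [Field F] [Fintype F] {q : ℕ}
    (hF : Fintype.card F = q) (hq : Odd q) (n : ℕ) :
    padicValNat 2 (Nat.card (GL (Fin n) F)) =
      ((n + 1) / 2) * padicValNat 2 (q - 1) + (n / 2) * padicValNat 2 (q ^ 2 - 1) +
        padicValNat 2 (n / 2).factorial := by
  have hq2 : 2 ≤ q := by rw [← hF]; exact Fintype.one_lt_card
  have hpq : ¬ 2 ∣ q := by
    rw [← even_iff_two_dvd]
    exact Nat.not_even_iff_odd.mpr hq
  rw [Matrix.card_GL_field, hF, ← padicVal_two_prod_range hq (by omega) n]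
  have h1 : ∏ i : Fin n, (q ^ n - q ^ (i : ℕ)) = ∏ i ∈ range n, (q ^ n - q ^ i) :=
    (Finset.prod_range (fun i => q ^ n - q ^ i)).symm
  have h2 : ∏ i ∈ range n, (q ^ n - q ^ i)
      = (∏ i ∈ range n, q ^ i) * ∏ i ∈ range n, (q ^ (n - 1 - i + 1) - 1) := by
    rw [← prod_mul_distrib]
    apply prod_congr rfl
    intro i hi
    rw [mem_range] at hi
    have : n = i + (n - 1 - i + 1) := by omega
    conv_lhs => rw [this, pow_add]
    rw [Nat.mul_sub, mul_one]
  have h3 : ∏ i ∈ range n, (q ^ (n - 1 - i + 1) - 1) = ∏ j ∈ range n, (q ^ (j + 1) - 1) :=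
    Finset.prod_range_reflect (fun j => q ^ (j + 1) - 1) n
  have hq0 : ∏ i ∈ range n, q ^ i ≠ 0 := prod_ne_zero_iff.2 fun i _ => pow_ne_zero _ (by omega)
  have hne : ∀ j, q ^ (j + 1) - 1 ≠ 0 := by
    intro j
    have : 1 < q ^ (j + 1) := Nat.one_lt_pow (by omega) (by omega)
    omega
  have hrq' : ¬ 2 ∣ ∏ i ∈ range n, q ^ i := by
    intro h
    obtain ⟨i, _, hi⟩ := (Prime.dvd_finsetProd_iff (Nat.prime_iff.1 Nat.prime_two) _).1 h
    exact hpq (Nat.prime_two.dvd_of_dvd_pow hi)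
  rw [h1, h2, h3, padicValNat.mul hq0 (prod_ne_zero_iff.2 fun j _ => hne j),
    padicValNat.eq_zero_of_not_dvd hrq', zero_add]

lemma padicVal_two_card_SL {F : Type*} [Field F] [Fintype F] {q : ℕ}
    (hF : Fintype.card F = q) (_hq : Odd q) (n : ℕ) (hn : 1 ≤ n) :
    padicValNat 2 (Nat.card (Matrix.SpecialLinearGroup (Fin n) F)) + padicValNat 2 (q - 1) =
      padicValNat 2 (Nat.card (GL (Fin n) F)) := by
  have hq2 : 2 ≤ q := by rw [← hF]; exact Fintype.one_lt_card
  have h := Cfsg.Agent.Lib.Helper07.card_sl_mul (F := F) n hn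
  rw [← Matrix.card_GL_field, hF] at h
  rw [← h, padicValNat.mul (by omega) Nat.card_pos.ne', add_comm]

/-- the `2`-part of `|SL_{2m+1}(q)|` -/
lemma padicVal_two_card_SL_odd {F : Type*} [Field F] [Fintype F] {q : ℕ}
    (hF : Fintype.card F = q) (hq : Odd q) (m : ℕ) :
    padicValNat 2 (Nat.card (Matrix.SpecialLinearGroup (Fin (2 * m + 1)) F)) =
      m * (padicValNat 2 (q - 1) + padicValNat 2 (q ^ 2 - 1)) + padicValNat 2 m.factorial := by
  have h1 := padicVal_two_card_SL hF hq (2 * m + 1) (by omega)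
  have h2 := padicVal_two_card_GL hF hq (2 * m + 1)
  have e1 : (2 * m + 1 + 1) / 2 = m + 1 := by omega
  have e2 : (2 * m + 1) / 2 = m := by omega
  rw [e1, e2] at h2
  have : padicValNat 2 (Nat.card (Matrix.SpecialLinearGroup (Fin (2 * m + 1)) F)) +
      padicValNat 2 (q - 1) = m * (padicValNat 2 (q - 1) + padicValNat 2 (q ^ 2 - 1)) +
        padicValNat 2 m.factorial + padicValNat 2 (q - 1) := by
    rw [h1, h2]
    ring
  omega

/-- the `2`-part of `|GL_2(q)|` -/
lemma padicVal_two_card_GL_two {F : Type*} [Field F] [Fintype F] {q : ℕ}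
    (hF : Fintype.card F = q) (hq : Odd q) :
    padicValNat 2 (Nat.card (GL (Fin 2) F)) =
      padicValNat 2 (q - 1) + padicValNat 2 (q ^ 2 - 1) := by
  rw [padicVal_two_card_GL hF hq 2]
  simp

end Cfsg.Agent.Lib.Helper44
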