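import Mathlib
import Cfsg.Agent.Lib.Helper44.SpWreath
import Cfsg.Agent.Lib.Helper46.MatEmb

set_option autoImplicit false

/-! The subgroup `GL_e(F) ≀ S_m` of `GL_{em}(F)`. -/

namespace Cfsg.Agent.Lib.Helper44

open Matrix Equiv

section glwr

variable {F : Type*} [Field F] (m e : ℕ)

/-- block diagonal embedding -/
def glBase : (Fin m → GL (Fin e) F) →* GL (Fin e × Fin m) F :=
  (Units.map (Matrix.blockDiagonalRingHom (Fin e) (Fin m) F).toMonoidHom).comp
    (MulEquiv.piUnits (M := fun _ : Fin m => Matrix (Fin e) (Fin e) F)).symm.toMonoidHom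

lemma glBase_val (f : Fin m → GL (Fin e) F) :
    ((glBase m e f : GL (Fin e × Fin m) F) : Matrix (Fin e × Fin m) (Fin e × Fin m) F) =
      Matrix.blockDiagonal (fun k => (f k : Matrix (Fin e) (Fin e) F)) := rfl

/-- permuting the second coordinate -/
def permSnd : Perm (Fin m) →* Perm (Fin e × Fin m) where
  toFun σ := Equiv.prodCongrRight (fun _ => σ)
  map_one' := by
    apply Equiv.ext
    intro p
    simp [Equiv.prodCongrRight]
  map_mul' f g := by
    apply Equiv.ext
    intro p
    simp [Equiv.prodCongrRight]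

@[simp] lemma permSnd_apply (σ : Perm (Fin m)) (p : Fin e × Fin m) :
    permSnd m e σ p = (p.1, σ p.2) := rfl

/-- permutation of the blocks -/
def glTop : Perm (Fin m) →* GL (Fin e × Fin m) F :=
  (Cfsg.Agent.Lib.Helper46.permGL (ι := Fin e × Fin m) (F := F)).comp (permSnd m e)

lemma glTop_val (σ : Perm (Fin m)) :
    ((glTop m e σ : GL (Fin e × Fin m) F) : Matrix (Fin e × Fin m) (Fin e × Fin m) F) =
      ((permSnd m e σ)⁻¹).permMatrix F := rfl

lemma glTop_mul_glBase (σ : Perm (Fin m)) (f : Fin m → GL (Fin e) F) :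
    glTop (F := F) m e σ * glBase m e f = glBase m e (permAut m _ σ f) * glTop m e σ := by
  apply Units.ext
  rw [Units.val_mul, Units.val_mul, glTop_val, glBase_val, glBase_val]
  unfold Equiv.Perm.permMatrix
  rw [PEquiv.toMatrix_toPEquiv_mul, PEquiv.mul_toMatrix_toPEquiv]
  ext ⟨a, i⟩ ⟨b, j⟩
  simp only [Matrix.submatrix_apply, id_eq, Matrix.blockDiagonal_apply, permAut_apply]
  have h1 : ((permSnd m e σ)⁻¹ (a, i)) = (a, σ⁻¹ i) := by
    rw [← map_inv]; rfl
  have h2 : (Equiv.symm (permSnd m e σ)⁻¹ (b, j)) = (b, σ j) := by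
    rw [← map_inv]
    change (permSnd m e σ⁻¹)⁻¹ (b, j) = _
    rw [← map_inv, inv_inv]; rfl
  rw [h1, h2]
  simp only
  by_cases h : i = σ j
  · subst h
    simp
  · rw [if_neg, if_neg h]
    intro h'
    apply h
    rw [← h']
    simp

/-- the wreath product embedding `GL_e ≀ S_m → GL_{e m}` -/
def glWr : (Fin m → GL (Fin e) F) ⋊[permAut m _] Perm (Fin m) →* GL (Fin e × Fin m) F :=
  SemidirectProduct.lift (glBase m e) (glTop m e) (by
    intro σ
    ext1 f
    simp only [MonoidHom.comp_apply, MulEquiv.coe_toMonoidHom, MulAut.conj_apply]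
    rw [eq_mul_inv_iff_mul_eq]
    exact (glTop_mul_glBase m e σ f).symm)

lemma glWr_apply (x : (Fin m → GL (Fin e) F) ⋊[permAut m _] Perm (Fin m)) :
    glWr m e x = glBase m e x.left * glTop m e x.right := rfl

lemma glWr_injective [NeZero e] : Function.Injective (glWr (F := F) m e) := by
  rw [injective_iff_map_eq_one]
  intro x hx
  rw [glWr_apply] at hx
  have hm : Matrix.blockDiagonal (fun k => (x.left k : Matrix (Fin e) (Fin e) F)) *
      ((permSnd m e x.right)⁻¹).permMatrix F = 1 := by
    have := congrArg Units.val hx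
    rwa [Units.val_mul, glBase_val, glTop_val] at this
  unfold Equiv.Perm.permMatrix at hm
  rw [PEquiv.mul_toMatrix_toPEquiv] at hm
  have hent : ∀ (a b : Fin e) (i j : Fin m),
      (if i = x.right j then (x.left i : Matrix (Fin e) (Fin e) F) a b else 0) =
        (1 : Matrix (Fin e × Fin m) (Fin e × Fin m) F) (a, i) (b, j) := by
    intro a b i j
    have := congrFun (congrFun hm (a, i)) (b, j)
    have h2 : (Equiv.symm (permSnd m e x.right)⁻¹ (b, j)) = (b, x.right j) := by
      rw [← map_inv]
      change (permSnd m e x.right⁻¹)⁻¹ (b, j) = _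
      rw [← map_inv, inv_inv]; rfl
    rw [Matrix.submatrix_apply, id_eq, h2, Matrix.blockDiagonal_apply] at this
    exact this
  have hσ : x.right = 1 := by
    apply Equiv.ext
    intro j
    by_contra hne
    change x.right j ≠ j at hne
    -- the block `x.left (x.right j)` would vanish
    have hz : ∀ a b : Fin e, (x.left (x.right j) : Matrix (Fin e) (Fin e) F) a b = 0 := by
      intro a b
      have := hent a b (x.right j) j
      rw [if_pos rfl, Matrix.one_apply_ne] at this
      · exact this
      · intro h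
        exact hne (Prod.mk.inj h).2
    have h0 : (x.left (x.right j) : Matrix (Fin e) (Fin e) F) = 0 := by
      ext a b
      exact hz a b
    have hunit := (x.left (x.right j)).isUnit
    rw [h0] at hunit
    have h01 : (0 : Matrix (Fin e) (Fin e) F) ≠ 1 := by
      intro h
      have := congrFun (congrFun h 0) 0
      simp at this
    exact h01 (by
      have := hunit.mul_val_inv
      rw [zero_mul] at this
      exact this)
  have hf : x.left = 1 := by
    funext i
    apply Units.ext
    ext a b
    have := hent a b i i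
    rw [hσ, Perm.one_apply, if_pos rfl] at this
    rw [this]
    simp [Matrix.one_apply]
  ext1
  · exact hf
  · exact hσ

end glwr

end Cfsg.Agent.Lib.Helper44
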