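import Mathlib
import Cfsg.Agent.Lib.Helper44.SymPGen

set_option autoImplicit false

/-! The subgroup `(W ≀ T) ∩ ker (∏ δ)` of a wreath product `H ≀ Sₙ`, for a homomorphism `δ` from
`H` to a commutative group, and criteria for all its squares to lie in its derived subgroup. -/

namespace Cfsg.Agent.Lib.Helper44

open scoped commutatorElement
open Equiv

section sq

variable {G : Type*} [Group G]

lemma SqComm.of_map_injective {G' : Type*} [Group G'] (f : G →* G')
    (hf : Function.Injective f) {T : Subgroup G} (h : SqComm (T.map f)) : SqComm T := by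
  intro x hx
  have h1 := h (f x) (Subgroup.mem_map_of_mem f hx)
  rw [← map_pow, ← Subgroup.map_commutator] at h1
  obtain ⟨c, hc, hcx⟩ := h1
  rwa [hf hcx] at hc

end sq

section det

variable {H Z : Type*} [Group H] [CommGroup Z] (δ : H →* Z) (n : ℕ) (W : Subgroup H)

/-- `f ↦ ∏ i, δ (f i)` -/
def prodHom : (Fin n → H) →* Z where
  toFun f := ∏ i, δ (f i)
  map_one' := by simp
  map_mul' f g := by simp [Finset.prod_mul_distrib]

lemma prodHom_apply (f : Fin n → H) : prodHom δ n f = ∏ i, δ (f i) := rfl

lemma prodHom_mulSingle (i : Fin n) (w : H) : prodHom δ n (Pi.mulSingle i w) = δ w := by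
  rw [prodHom_apply, Finset.prod_eq_single i]
  · rw [Pi.mulSingle_eq_same]
  · intro j _ hji
    rw [Pi.mulSingle_eq_of_ne hji, map_one]
  · intro h
    exact absurd (Finset.mem_univ i) h

lemma prodHom_permAut (σ : Perm (Fin n)) (f : Fin n → H) :
    prodHom δ n (permAut n H σ f) = prodHom δ n f := by
  rw [prodHom_apply, prodHom_apply]
  exact Equiv.prod_comp σ⁻¹ (fun i => δ (f i))

/-- the elements of `Wⁿ` with trivial total `δ` -/
def detBase : Subgroup (Fin n → H) :=
  Subgroup.pi Set.univ (fun _ : Fin n => W) ⊓ (prodHom δ n).ker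

lemma mem_detBase {f : Fin n → H} :
    f ∈ detBase δ n W ↔ (∀ i, f i ∈ W) ∧ prodHom δ n f = 1 := by
  simp [detBase, Subgroup.mem_pi, MonoidHom.mem_ker]

lemma detBase_perm (σ : Perm (Fin n)) (f : Fin n → H) (hf : f ∈ detBase δ n W) :
    permAut n H σ f ∈ detBase δ n W := by
  rw [mem_detBase] at hf ⊢
  exact ⟨fun i => hf.1 _, by rw [prodHom_permAut]; exact hf.2⟩

/-- `(W ≀ T) ∩ ker (∏ δ)` -/
def wrDet (T : Subgroup (Perm (Fin n))) :
    Subgroup ((Fin n → H) ⋊[permAut n H] Perm (Fin n)) :=
  wrSubB n (detBase δ n W) (detBase_perm δ n W) T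

lemma mem_wrDet {T : Subgroup (Perm (Fin n))}
    {x : (Fin n → H) ⋊[permAut n H] Perm (Fin n)} :
    x ∈ wrDet δ n W T ↔ ((∀ i, x.left i ∈ W) ∧ prodHom δ n x.left = 1) ∧ x.right ∈ T := by
  change x.left ∈ detBase δ n W ∧ x.right ∈ T ↔ _
  rw [mem_detBase]

lemma mulSingle_mem_detBase (i : Fin n) (u : H) (hu : u ∈ W ⊓ δ.ker) :
    Pi.mulSingle i u ∈ detBase δ n W := by
  rw [mem_detBase]
  refine ⟨fun j => ?_, ?_⟩
  · by_cases h : j = i
    · subst h
      rw [Pi.mulSingle_eq_same]
      exact hu.1
    · rw [Pi.mulSingle_eq_of_ne h]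
      exact W.one_mem
  · rw [prodHom_mulSingle]
    exact hu.2

lemma mulSingle_pair_mem_detBase (i j : Fin n) (w w' : H) (hw : w ∈ W) (hw' : w' ∈ W)
    (hδ : δ w * δ w' = 1) : Pi.mulSingle i w * Pi.mulSingle j w' ∈ detBase δ n W := by
  rw [mem_detBase]
  refine ⟨fun k => ?_, ?_⟩
  · rw [Pi.mul_apply]
    apply W.mul_mem
    · by_cases h : k = i
      · subst h
        rw [Pi.mulSingle_eq_same]
        exact hw
      · rw [Pi.mulSingle_eq_of_ne h]
        exact W.one_mem
    · by_cases h : k = j
      · subst h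
        rw [Pi.mulSingle_eq_same]
        exact hw'
      · rw [Pi.mulSingle_eq_of_ne h]
        exact W.one_mem
  · rw [map_mul, prodHom_mulSingle, prodHom_mulSingle, hδ]

/-- generic criterion -/
lemma wrSubB_sqComm_of_gens (B : Subgroup (Fin n → H))
    (hB : ∀ σ f, f ∈ B → permAut n H σ f ∈ B) (I : Set (Perm (Fin n)))
    (hI : ∀ t ∈ I, t ^ 2 = 1) (X : Set (Fin n → H)) (hX : B = Subgroup.closure X)
    (hsq : ∀ x ∈ X, (SemidirectProduct.inl x : (Fin n → H) ⋊[permAut n H] Perm (Fin n)) ^ 2 ∈
      ⁅wrSubB n B hB (Subgroup.closure I), wrSubB n B hB (Subgroup.closure I)⁆) :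
    SqComm (wrSubB n B hB (Subgroup.closure I)) := by
  set Y : Set ((Fin n → H) ⋊[permAut n H] Perm (Fin n)) :=
    {y | ∃ x ∈ X, y = SemidirectProduct.inl x} ∪ {y | ∃ t ∈ I, y = SemidirectProduct.inr t}
    with hY
  have hP : wrSubB n B hB (Subgroup.closure I) = Subgroup.closure Y := by
    rw [wrSubB_eq_closure]
    apply le_antisymm
    · rw [Subgroup.closure_le]
      rintro y (⟨b, hb, rfl⟩ | ⟨t, ht, rfl⟩)
      · have h1 : (Subgroup.closure X).map
            (SemidirectProduct.inl : _ →* (Fin n → H) ⋊[permAut n H] Perm (Fin n)) ≤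
            Subgroup.closure Y := by
          rw [MonoidHom.map_closure]
          apply Subgroup.closure_mono
          rintro _ ⟨x, hx, rfl⟩
          left
          exact ⟨x, hx, rfl⟩
        rw [hX] at hb
        exact h1 (Subgroup.mem_map_of_mem _ hb)
      · exact Subgroup.subset_closure (Or.inr ⟨t, ht, rfl⟩)
    · apply Subgroup.closure_mono
      rintro y (⟨x, hx, rfl⟩ | ⟨t, ht, rfl⟩)
      · left
        exact ⟨x, by rw [hX]; exact Subgroup.subset_closure hx, rfl⟩
      · right
        exact ⟨t, ht, rfl⟩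
  apply sqComm_of_closure Y _ hP
  rintro y (⟨x, hx, rfl⟩ | ⟨t, ht, rfl⟩)
  · exact hsq x hx
  · rw [← map_pow, hI t ht, map_one]
    exact Subgroup.one_mem _

lemma inl_mulSingle_sq_mem (hU : SqComm (W ⊓ δ.ker)) (T : Subgroup (Perm (Fin n))) (i : Fin n)
    (u : H) (hu : u ∈ W ⊓ δ.ker) :
    (SemidirectProduct.inl (Pi.mulSingle i u) : (Fin n → H) ⋊[permAut n H] Perm (Fin n)) ^ 2 ∈
      ⁅wrDet δ n W T, wrDet δ n W T⁆ := by
  set f : H →* (Fin n → H) ⋊[permAut n H] Perm (Fin n) :=
    SemidirectProduct.inl.comp (MonoidHom.mulSingle (fun _ : Fin n => H) i) with hf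
  have e : (SemidirectProduct.inl (Pi.mulSingle i u) :
      (Fin n → H) ⋊[permAut n H] Perm (Fin n)) ^ 2 = f (u ^ 2) := by
    rw [map_pow]; rfl
  rw [e]
  have h1 : (W ⊓ δ.ker).map f ≤ wrDet δ n W T := by
    rintro _ ⟨v, hv, rfl⟩
    refine ⟨?_, ?_⟩
    · change Pi.mulSingle i v ∈ detBase δ n W
      exact mulSingle_mem_detBase δ n W i v hv
    · change (1 : Perm (Fin n)) ∈ T
      exact T.one_mem
  have h2 : f (u ^ 2) ∈ (⁅W ⊓ δ.ker, W ⊓ δ.ker⁆).map f := Subgroup.mem_map_of_mem f (hU u hu)
  rw [Subgroup.map_commutator] at h2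
  exact Subgroup.commutator_mono h1 h1 h2

/-! ### Case A: `W = U ∪ U t` with `t` an involution -/

/-- generators in case A -/
def gensA (t : H) : Set (Fin n → H) :=
  {f | ∃ i, ∃ u ∈ W ⊓ δ.ker, f = Pi.mulSingle i u} ∪
    {f | ∃ i j, i ≠ j ∧ f = Pi.mulSingle i t * Pi.mulSingle j t}

lemma indicator_mem (t : H) (K : Subgroup (Fin n → H))
    (hK : ∀ i j : Fin n, i ≠ j → Pi.mulSingle i t * Pi.mulSingle j t ∈ K) :
    ∀ k : ℕ, ∀ s : Finset (Fin n), s.card = 2 * k →
      (fun i => if i ∈ s then t else 1) ∈ K := by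
  intro k
  induction k with
  | zero =>
    intro s hs
    have : s = ∅ := Finset.card_eq_zero.mp (by omega)
    subst this
    have : (fun i : Fin n => if i ∈ (∅ : Finset (Fin n)) then t else 1) = 1 := by
      funext i
      simp
    rw [this]
    exact K.one_mem
  | succ k ih =>
    intro s hs
    obtain ⟨a, ha⟩ : s.Nonempty := Finset.card_pos.mp (by omega)
    have hc1 : (s.erase a).card = 2 * k + 1 := by
      rw [Finset.card_erase_of_mem ha]; omega
    obtain ⟨b, hb⟩ : (s.erase a).Nonempty := Finset.card_pos.mp (by omega)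
    have hc2 : ((s.erase a).erase b).card = 2 * k := by
      rw [Finset.card_erase_of_mem hb]; omega
    have hba : b ≠ a := Finset.ne_of_mem_erase hb
    have hbs : b ∈ s := Finset.mem_of_mem_erase hb
    have e : (fun i => if i ∈ s then t else 1) =
        (Pi.mulSingle a t * Pi.mulSingle b t) *
          (fun i => if i ∈ (s.erase a).erase b then t else 1) := by
      funext i
      simp only [Pi.mul_apply, Pi.mulSingle_apply, Finset.mem_erase]
      by_cases hia : i = a
      · subst hia
        simp [ha, hba.symm]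
      · by_cases hib : i = b
        · subst hib
          simp [hbs, hia]
        · simp [hia, hib]
    rw [e]
    exact K.mul_mem (hK a b hba.symm) (ih _ hc2)

lemma detBase_eq_closure_A (t : H) (htW : t ∈ W) (ht2 : t ^ 2 = 1) (hδt : δ t ≠ 1)
    (hW : ∀ w ∈ W, δ w = 1 ∨ δ w = δ t) :
    detBase δ n W = Subgroup.closure (gensA δ n W t) := by
  classical
  have hδt2 : δ t * δ t = 1 := by rw [← map_mul, ← sq, ht2, map_one]
  apply le_antisymm
  · intro f hf
    rw [mem_detBase] at hf
    set K := Subgroup.closure (gensA δ n W t) with hK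
    set s := Finset.univ.filter (fun i => δ (f i) ≠ 1) with hs
    set h : Fin n → H := fun i => if i ∈ s then t else 1 with hh
    have h1 : f * h⁻¹ ∈ K := by
      apply Subgroup.pi_mem_of_mulSingle_mem
      intro i
      apply Subgroup.subset_closure
      left
      refine ⟨i, _, ?_, rfl⟩
      rw [Pi.mul_apply, Pi.inv_apply]
      by_cases hi : i ∈ s
      · have hi' : δ (f i) ≠ 1 := (Finset.mem_filter.mp hi).2
        have hfi : δ (f i) = δ t := (hW _ (hf.1 i)).resolve_left hi'
        refine ⟨?_, ?_⟩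
        · rw [hh]
          simp only [if_pos hi]
          exact W.mul_mem (hf.1 i) (W.inv_mem htW)
        · change δ (f i * (h i)⁻¹) = 1
          rw [hh]
          simp only [if_pos hi]
          rw [map_mul, map_inv, hfi, mul_inv_cancel]
      · have hi' : δ (f i) = 1 := by
          by_contra hne
          exact hi (Finset.mem_filter.mpr ⟨Finset.mem_univ _, hne⟩)
        refine ⟨?_, ?_⟩
        · rw [hh]
          simp only [if_neg hi, inv_one, mul_one]
          exact hf.1 i
        · change δ (f i * (h i)⁻¹) = 1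
          rw [hh]
          simp only [if_neg hi, inv_one, mul_one]
          exact hi'
    have hprod : prodHom δ n f = δ t ^ s.card := by
      rw [prodHom_apply]
      have : ∀ i, δ (f i) = if i ∈ s then δ t else 1 := by
        intro i
        by_cases hi : i ∈ s
        · rw [if_pos hi]
          exact (hW _ (hf.1 i)).resolve_left (Finset.mem_filter.mp hi).2
        · rw [if_neg hi]
          by_contra hne
          exact hi (Finset.mem_filter.mpr ⟨Finset.mem_univ _, hne⟩)
      rw [Finset.prod_congr rfl (fun i _ => this i), Finset.prod_ite_mem, Finset.univ_inter,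
        Finset.prod_const]
    have hev : Even s.card := by
      rcases Nat.even_or_odd s.card with he | ho
      · exact he
      · exfalso
        obtain ⟨r, hr⟩ := ho
        rw [hf.2] at hprod
        rw [hr, pow_succ, pow_mul, sq, hδt2, one_pow, one_mul] at hprod
        exact hδt hprod.symm
    have h2 : h ∈ K := by
      obtain ⟨k, hk⟩ := hev
      apply indicator_mem n t K _ k s (by omega)
      intro i j hij
      apply Subgroup.subset_closure
      right
      exact ⟨i, j, hij, rfl⟩
    have : f = f * h⁻¹ * h := by group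
    rw [this]
    exact K.mul_mem h1 h2
  · rw [Subgroup.closure_le]
    rintro f (⟨i, u, hu, rfl⟩ | ⟨i, j, _, rfl⟩)
    · exact mulSingle_mem_detBase δ n W i u hu
    · exact mulSingle_pair_mem_detBase δ n W i j t t htW htW hδt2

theorem wrDet_sqComm_A (hU : SqComm (W ⊓ δ.ker)) (t : H) (htW : t ∈ W) (ht2 : t ^ 2 = 1)
    (hδt : δ t ≠ 1) (hW : ∀ w ∈ W, δ w = 1 ∨ δ w = δ t) (I : Set (Perm (Fin n)))
    (hI : ∀ t ∈ I, t ^ 2 = 1) : SqComm (wrDet δ n W (Subgroup.closure I)) := by
  classical
  apply wrSubB_sqComm_of_gens n (detBase δ n W) (detBase_perm δ n W) I hI (gensA δ n W t)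
    (detBase_eq_closure_A δ n W t htW ht2 hδt hW)
  rintro f (⟨i, u, hu, rfl⟩ | ⟨i, j, hij, rfl⟩)
  · exact inl_mulSingle_sq_mem δ n W hU _ i u hu
  · have : (Pi.mulSingle i t * Pi.mulSingle j t : Fin n → H) ^ 2 = 1 := by
      funext k
      rw [sq, Pi.mul_apply, Pi.mul_apply, Pi.one_apply]
      by_cases hki : k = i
      · subst hki
        rw [Pi.mulSingle_eq_same, Pi.mulSingle_eq_of_ne hij, mul_one, ← sq, ht2]
      · rw [Pi.mulSingle_eq_of_ne hki, one_mul]
        by_cases hkj : k = j
        · subst hkj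
          rw [Pi.mulSingle_eq_same, ← sq, ht2]
        · rw [Pi.mulSingle_eq_of_ne hkj, one_mul]
    rw [← map_pow, this, map_one]
    exact Subgroup.one_mem _

/-! ### Case B: `T` swaps any two points -/

/-- generators in case B -/
def gensB : Set (Fin n → H) :=
  {f | ∃ i, ∃ u ∈ W ⊓ δ.ker, f = Pi.mulSingle i u} ∪
    {f | ∃ i j, i ≠ j ∧ ∃ w ∈ W, f = Pi.mulSingle i w * Pi.mulSingle j w⁻¹}

lemma detBase_eq_closure_B : detBase δ n W = Subgroup.closure (gensB δ n W) := by
  classical
  apply le_antisymm
  · set K := Subgroup.closure (gensB δ n W) with hK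
    have key : ∀ s : Finset (Fin n), ∀ f ∈ detBase δ n W, (∀ i, i ∉ s → f i = 1) → f ∈ K := by
      intro s
      induction s using Finset.induction_on with
      | empty =>
        intro f _ hsupp
        have : f = 1 := by
          funext i
          exact hsupp i (Finset.notMem_empty i)
        rw [this]
        exact K.one_mem
      | insert a s' ha ih =>
        intro f hf hsupp
        rcases s'.eq_empty_or_nonempty with hem | ⟨b, hb⟩
        · subst hem
          have hfa : f = Pi.mulSingle a (f a) := by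
            funext i
            by_cases hia : i = a
            · subst hia
              rw [Pi.mulSingle_eq_same]
            · rw [Pi.mulSingle_eq_of_ne hia]
              apply hsupp
              simpa using hia
          have hf' := (mem_detBase δ n W).mp hf
          rw [hfa]
          apply Subgroup.subset_closure
          left
          refine ⟨a, f a, ⟨hf'.1 a, ?_⟩, rfl⟩
          change δ (f a) = 1
          rw [← prodHom_mulSingle δ n a (f a), ← hfa]
          exact hf'.2
        · have hba : b ≠ a := fun h => ha (h ▸ hb)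
          have hf' := (mem_detBase δ n W).mp hf
          set y : Fin n → H := Pi.mulSingle a (f a) * Pi.mulSingle b (f a)⁻¹ with hy
          have hyB : y ∈ detBase δ n W :=
            mulSingle_pair_mem_detBase δ n W a b _ _ (hf'.1 a) (W.inv_mem (hf'.1 a))
              (by rw [map_inv, mul_inv_cancel])
          have hyK : y ∈ K := by
            apply Subgroup.subset_closure
            right
            exact ⟨a, b, hba.symm, f a, hf'.1 a, rfl⟩
          have h2 : y⁻¹ * f ∈ K := by
            apply ih _ ((detBase δ n W).mul_mem ((detBase δ n W).inv_mem hyB) hf)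
            intro i hi
            rw [Pi.mul_apply, Pi.inv_apply, hy, Pi.mul_apply]
            by_cases hia : i = a
            · subst hia
              rw [Pi.mulSingle_eq_same, Pi.mulSingle_eq_of_ne hba.symm, mul_one, inv_mul_cancel]
            · have hib : i ≠ b := fun h => hi (h ▸ hb)
              rw [Pi.mulSingle_eq_of_ne hia, Pi.mulSingle_eq_of_ne hib, mul_one, inv_one, one_mul]
              apply hsupp
              simp [hia, hi]
          have : f = y * (y⁻¹ * f) := by group
          rw [this]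
          exact K.mul_mem hyK h2
    intro f hf
    exact key Finset.univ f hf (fun i hi => absurd (Finset.mem_univ i) hi)
  · rw [Subgroup.closure_le]
    rintro f (⟨i, u, hu, rfl⟩ | ⟨i, j, _, w, hw, rfl⟩)
    · exact mulSingle_mem_detBase δ n W i u hu
    · exact mulSingle_pair_mem_detBase δ n W i j w w⁻¹ hw (W.inv_mem hw)
        (by rw [map_inv, mul_inv_cancel])

theorem wrDet_sqComm_B (hU : SqComm (W ⊓ δ.ker)) (I : Set (Perm (Fin n)))
    (hI : ∀ t ∈ I, t ^ 2 = 1)
    (hsw : ∀ i j : Fin n, i ≠ j → ∃ σ ∈ Subgroup.closure I, σ i = j ∧ σ j = i) :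
    SqComm (wrDet δ n W (Subgroup.closure I)) := by
  classical
  apply wrSubB_sqComm_of_gens n (detBase δ n W) (detBase_perm δ n W) I hI (gensB δ n W)
    (detBase_eq_closure_B δ n W)
  rintro f (⟨i, u, hu, rfl⟩ | ⟨i, j, hij, w, hw, rfl⟩)
  · exact inl_mulSingle_sq_mem δ n W hU _ i u hu
  · obtain ⟨σ, hσ, hσi, hσj⟩ := hsw i j hij
    set x : Fin n → H := Pi.mulSingle i w * Pi.mulSingle j w⁻¹ with hx
    have hxB : x ∈ detBase δ n W :=
      mulSingle_pair_mem_detBase δ n W i j w w⁻¹ hw (W.inv_mem hw)
        (by rw [map_inv, mul_inv_cancel])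
    have h1 : (SemidirectProduct.inl x : (Fin n → H) ⋊[permAut n H] Perm (Fin n)) ∈
        wrDet δ n W (Subgroup.closure I) :=
      ⟨hxB, (Subgroup.closure I).one_mem⟩
    have h2 : (SemidirectProduct.inr σ : (Fin n → H) ⋊[permAut n H] Perm (Fin n)) ∈
        wrDet δ n W (Subgroup.closure I) :=
      ⟨(detBase δ n W).one_mem, hσ⟩
    have hperm : permAut n H σ x⁻¹ = x := by
      funext k
      rw [permAut_apply, Pi.inv_apply, hx, Pi.mul_apply, Pi.mul_apply]
      have hσi' : σ⁻¹ j = i := by rw [Perm.inv_eq_iff_eq]; exact hσi.symm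
      have hσj' : σ⁻¹ i = j := by rw [Perm.inv_eq_iff_eq]; exact hσj.symm
      by_cases hki : k = i
      · subst hki
        rw [hσj', Pi.mulSingle_eq_same, Pi.mulSingle_eq_of_ne hij.symm,
          Pi.mulSingle_eq_same, Pi.mulSingle_eq_of_ne hij]
        group
      · by_cases hkj : k = j
        · subst hkj
          rw [hσi', Pi.mulSingle_eq_same, Pi.mulSingle_eq_of_ne hij,
            Pi.mulSingle_eq_same, Pi.mulSingle_eq_of_ne hij.symm]
          group
        · have h3 : σ⁻¹ k ≠ i := by
            intro h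
            apply hkj
            have : k = σ (σ⁻¹ k) := by simp
            rw [this, h, hσi]
          have h4 : σ⁻¹ k ≠ j := by
            intro h
            apply hki
            have : k = σ (σ⁻¹ k) := by simp
            rw [this, h, hσj]
          rw [Pi.mulSingle_eq_of_ne h3, Pi.mulSingle_eq_of_ne h4, Pi.mulSingle_eq_of_ne hki,
            Pi.mulSingle_eq_of_ne hkj]
          group
    have e : (SemidirectProduct.inl x : (Fin n → H) ⋊[permAut n H] Perm (Fin n)) ^ 2 =
        ⁅(SemidirectProduct.inl x : (Fin n → H) ⋊[permAut n H] Perm (Fin n)),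
          SemidirectProduct.inr σ⁆ := by
      rw [commutatorElement_def, mul_assoc, mul_assoc, ← mul_assoc (SemidirectProduct.inr σ),
        ← map_inv, ← map_inv, ← SemidirectProduct.inl_aut, hperm, sq]
    rw [e]
    exact Subgroup.commutator_mem_commutator h1 h2

end det

end Cfsg.Agent.Lib.Helper44
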