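import Mathlib
import Cfsg.Agent.Lib.Helper44.WreathDet
import Cfsg.Agent.Lib.Helper44.GLWreath
import Cfsg.Agent.Lib.Helper44.GLTwoNum
import Cfsg.Agent.Lib.Helper44.GLToSL

set_option autoImplicit false

/-! Sylow `2`-subgroups of `GL_{2m}(q)` and `SL_{2m}(q)`, `q` odd, as `D ≀ T` and
`(D ≀ T) ∩ ker det`. -/

namespace Cfsg.Agent.Lib.Helper44

open Matrix Equiv

section general

variable {G K : Type*} [Group G] [Group K] [Finite G] {p : ℕ} [Fact p.Prime]

/-- if `W` is a Sylow `p`-subgroup of `G` such that `W ∩ N` has all squares in its derived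
subgroup, `N` the normal image of `K`, then so has every Sylow `p`-subgroup of `K` -/
lemma sqComm_sylow_of_normal (ι : K →* G) (hι : Function.Injective ι) (hN : ι.range.Normal)
    (W : Sylow p G) (hW : SqComm ((W : Subgroup G) ⊓ ι.range)) (P : Sylow p K) :
    SqComm (P : Subgroup K) := by
  have hPp : IsPGroup p ((P : Subgroup K).map ι) := P.isPGroup'.map ι
  obtain ⟨W1, hPW1⟩ := hPp.exists_le_sylow
  obtain ⟨g, hg⟩ := MulAction.exists_smul_eq G W W1
  have hW1 : (W1 : Subgroup G) = (W : Subgroup G).map (MulAut.conj g).toMonoidHom := by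
    rw [← hg]
    rfl
  have hW1N : (W1 : Subgroup G) ⊓ ι.range =
      ((W : Subgroup G) ⊓ ι.range).map (MulAut.conj g).toMonoidHom := by
    ext x
    constructor
    · rintro ⟨hx1, hx2⟩
      rw [hW1] at hx1
      obtain ⟨w, hw, rfl⟩ := hx1
      refine ⟨w, ⟨hw, ?_⟩, rfl⟩
      have := hN.conj_mem _ hx2 g⁻¹
      simpa [MulAut.conj_apply, mul_assoc] using this
    · rintro ⟨w, ⟨hw1, hw2⟩, rfl⟩
      refine ⟨?_, ?_⟩
      · rw [hW1]
        exact Subgroup.mem_map_of_mem _ hw1
      · exact hN.conj_mem _ hw2 g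
  have hsq1 : SqComm ((W1 : Subgroup G) ⊓ ι.range) := by
    rw [hW1N]
    exact hW.map _
  set S1 := ((W1 : Subgroup G) ⊓ ι.range).comap ι with hS1
  have hS1p : IsPGroup p S1 :=
    (W1.isPGroup'.to_le inf_le_left).comap_of_injective ι hι
  have hle : (P : Subgroup K) ≤ S1 := fun z hz =>
    ⟨hPW1 (Subgroup.mem_map_of_mem ι hz), ⟨z, rfl⟩⟩
  have hmax : S1 = (P : Subgroup K) := P.is_maximal' hS1p hle
  have hmap : (P : Subgroup K).map ι = (W1 : Subgroup G) ⊓ ι.range := by
    rw [← hmax, hS1, Subgroup.map_comap_eq_self inf_le_right]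
  apply SqComm.of_map_injective ι hι
  rw [hmap]
  exact hsq1

end general

section gl2

variable {F : Type*} [Field F] [Fintype F]

/-- some Sylow `2`-subgroup `D` of `GL_2(q)`, `q` odd, has `D ∩ SL_2(q)` with all squares in the
derived subgroup -/
theorem exists_sylow_GL_two_inf_sqComm (hF : Odd (Fintype.card F)) :
    ∃ D : Sylow 2 (GL (Fin 2) F),
      SqComm ((D : Subgroup (GL (Fin 2) F)) ⊓
        (GeneralLinearGroup.det : GL (Fin 2) F →* Fˣ).ker) := by
  classical
  obtain ⟨S0⟩ : Nonempty (Sylow 2 (SpecialLinearGroup (Fin 2) F)) := Sylow.nonempty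
  have hS0 : SqComm (S0 : Subgroup (SpecialLinearGroup (Fin 2) F)) := by
    obtain ⟨k, hk, ⟨e⟩⟩ := Cfsg.Agent.Lib.Helper07.sylow_two_SL_two_quaternion hF S0
    apply sqComm_of_top
    have : NeZero (2 ^ k) := ⟨by positivity⟩
    exact sqComm_top_of_equiv e.symm
      (quat_sqComm (2 ^ k) ((Nat.even_pow.mpr ⟨even_two, by omega⟩)))
  set ι := (SpecialLinearGroup.toGL : SpecialLinearGroup (Fin 2) F →* GL (Fin 2) F) with hι
  have hιinj : Function.Injective ι := SpecialLinearGroup.toGL_injective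
  set Q := (S0 : Subgroup (SpecialLinearGroup (Fin 2) F)).map ι with hQ
  have hQsq : SqComm Q := hS0.map ι
  have hQp : IsPGroup 2 Q := S0.isPGroup'.map ι
  obtain ⟨D, hQD⟩ := hQp.exists_le_sylow
  refine ⟨D, ?_⟩
  have hrange : ι.range = (GeneralLinearGroup.det : GL (Fin 2) F →* Fˣ).ker := by
    rw [hι, Cfsg.Agent.Lib.Helper07.range_toGL_eq_ker_det]
  have hDN : (D : Subgroup (GL (Fin 2) F)) ⊓
      (GeneralLinearGroup.det : GL (Fin 2) F →* Fˣ).ker = Q := by
    apply le_antisymm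
    · rintro x ⟨hx, hdet⟩
      have hxr : x ∈ ι.range := by
        rw [hrange]
        exact hdet
      obtain ⟨y, rfl⟩ := hxr
      set S1 := (D : Subgroup (GL (Fin 2) F)).comap ι with hS1
      have hS1p : IsPGroup 2 S1 := D.isPGroup'.comap_of_injective ι hιinj
      have hle : (S0 : Subgroup (SpecialLinearGroup (Fin 2) F)) ≤ S1 :=
        fun z hz => hQD (Subgroup.mem_map_of_mem ι hz)
      have hmax := S0.is_maximal' hS1p hle
      have hy : y ∈ S1 := hx
      rw [hmax] at hy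
      exact Subgroup.mem_map_of_mem ι hy
    · intro x hx
      refine ⟨hQD hx, ?_⟩
      rw [← hrange]
      obtain ⟨y, _, rfl⟩ := hx
      exact ⟨y, rfl⟩
  rw [hDN]
  exact hQsq

/-- for `q ≡ 3 mod 4`, a Sylow `2`-subgroup of `GL_2(q)` contains an involution of
determinant `-1`, and all its elements have determinant `±1` -/
theorem sylow_GL_two_refl (hq : 4 ∣ Fintype.card F + 1) (D : Sylow 2 (GL (Fin 2) F)) :
    ∃ t ∈ (D : Subgroup (GL (Fin 2) F)), t ^ 2 = 1 ∧ GeneralLinearGroup.det t = -1 ∧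
      ∀ x ∈ (D : Subgroup (GL (Fin 2) F)),
        GeneralLinearGroup.det x = 1 ∨ GeneralLinearGroup.det x = -1 := by
  classical
  obtain ⟨t, htD, ht2, htdet⟩ : ∃ t ∈ (D : Subgroup (GL (Fin 2) F)), t ^ 2 = 1 ∧
      GeneralLinearGroup.det t = -1 := by
    have hτp : IsPGroup 2 (Subgroup.zpowers (reflGL : GL (Fin 2) F)) := by
      rintro ⟨g, hg⟩
      obtain ⟨k, rfl⟩ := Subgroup.mem_zpowers_iff.mp hg
      refine ⟨1, Subtype.ext ?_⟩
      simp only [pow_one, Subgroup.coe_pow, Subgroup.coe_one]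
      rw [← zpow_natCast, ← _root_.zpow_mul, mul_comm, _root_.zpow_mul, zpow_natCast, reflGL_sq,
        _root_.one_zpow]
    obtain ⟨D1, hD1⟩ := hτp.exists_le_sylow
    obtain ⟨g, hg⟩ := MulAction.exists_smul_eq (GL (Fin 2) F) D1 D
    have hD : (D : Subgroup (GL (Fin 2) F)) =
        (D1 : Subgroup (GL (Fin 2) F)).map (MulAut.conj g).toMonoidHom := by
      rw [← hg]
      rfl
    refine ⟨MulAut.conj g reflGL, ?_, ?_, ?_⟩
    · rw [hD]
      exact Subgroup.mem_map_of_mem _ (hD1 (Subgroup.mem_zpowers _))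
    · rw [← map_pow, reflGL_sq, map_one]
    · rw [MulAut.conj_apply, map_mul, map_mul, map_inv, det_reflGL, mul_comm, ← mul_assoc,
        inv_mul_cancel, one_mul]
  refine ⟨t, htD, ht2, htdet, ?_⟩
  intro x hx
  obtain ⟨k, hk⟩ := D.isPGroup' ⟨x, hx⟩
  have hk' : x ^ (2 ^ k) = 1 := by
    have := congrArg Subtype.val hk
    simpa using this
  have h2 : (GeneralLinearGroup.det x) ^ 2 = 1 := by
    apply det_sq_eq_one_of_two_pow hq _ k
    rw [← map_pow, hk', map_one]
  have h3 : ((GeneralLinearGroup.det x : Fˣ) : F) * ((GeneralLinearGroup.det x : Fˣ) : F) = 1 := by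
    rw [← Units.val_mul, ← sq, h2, Units.val_one]
  rcases mul_self_eq_one_iff.mp h3 with h | h
  · left
    exact Units.ext h
  · right
    exact Units.ext (by rw [h]; rfl)

end gl2

section embed

variable {F : Type*} [Field F]

/-- the index equivalence `(Fin 2 × Fin m) ⊕ Fin 0 ≃ Fin (2 * m)` -/
def idxEven (m : ℕ) : (Fin 2 × Fin m) ⊕ Fin 0 ≃ Fin (2 * m) :=
  (Equiv.sumEmpty (Fin 2 × Fin m) (Fin 0)).trans finProdFinEquiv

/-- `GL_2 ≀ S_m → GL_{2m}` -/
noncomputable def glWrEven (m : ℕ) :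
    (Fin m → GL (Fin 2) F) ⋊[permAut m _] Perm (Fin m) →* GL (Fin (2 * m)) F :=
  (Cfsg.Agent.Lib.Helper46.blockGL (idxEven m)).comp (glWr m 2)

lemma glWrEven_injective (m : ℕ) : Function.Injective (glWrEven (F := F) m) :=
  (Cfsg.Agent.Lib.Helper46.blockGL_injective (idxEven m)).comp (glWr_injective m 2)

lemma sign_permSnd_two (m : ℕ) (σ : Perm (Fin m)) : Perm.sign (permSnd m 2 σ) = 1 := by
  have : permSnd m 2 σ = Equiv.prodCongrRight (fun _ : Fin 2 => σ) := rfl
  rw [this, Perm.sign_prodCongrRight, Finset.prod_const, Finset.card_univ, Fintype.card_fin]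
  exact Int.units_sq _

lemma det_glWrEven (m : ℕ) (x : (Fin m → GL (Fin 2) F) ⋊[permAut m _] Perm (Fin m)) :
    GeneralLinearGroup.det (glWrEven m x) = prodHom GeneralLinearGroup.det m x.left := by
  apply Units.ext
  rw [GeneralLinearGroup.val_det_apply, prodHom_apply, Units.coe_prod]
  change ((Cfsg.Agent.Lib.Helper46.blockGL (idxEven m) (glWr m 2 x) : GL (Fin (2 * m)) F) :
    Matrix (Fin (2 * m)) (Fin (2 * m)) F).det = _
  rw [Cfsg.Agent.Lib.Helper46.blockGL_val, Cfsg.Agent.Lib.Helper46.det_blockHom, glWr_apply,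
    Units.val_mul, Matrix.det_mul, glBase_val, Matrix.det_blockDiagonal]
  have h2 : ((glTop m 2 x.right : GL (Fin 2 × Fin m) F) :
      Matrix (Fin 2 × Fin m) (Fin 2 × Fin m) F).det = 1 := by
    change ((Cfsg.Agent.Lib.Helper46.permGL (permSnd m 2 x.right) : GL (Fin 2 × Fin m) F) :
      Matrix (Fin 2 × Fin m) (Fin 2 × Fin m) F).det = 1
    rw [Cfsg.Agent.Lib.Helper46.det_permGL, sign_permSnd_two]
    simp
  rw [h2, mul_one]
  rfl

variable [Fintype F]

/-- the main assembly: if `(D ≀ T) ∩ ker det` has all squares in its derived subgroup, so has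
every Sylow `2`-subgroup of `SL_{2m}(q)` -/
theorem sylow_SL_even_sqComm (hF : Odd (Fintype.card F)) (m : ℕ)
    (D : Sylow 2 (GL (Fin 2) F)) (I : Set (Perm (Fin m)))
    (hIc : Nat.card (Subgroup.closure I) = 2 ^ padicValNat 2 m.factorial)
    (hsq : SqComm (wrDet (GeneralLinearGroup.det : GL (Fin 2) F →* Fˣ) m
      (D : Subgroup (GL (Fin 2) F)) (Subgroup.closure I)))
    (P : Sylow 2 (SpecialLinearGroup (Fin (2 * m)) F)) :
    SqComm (P : Subgroup (SpecialLinearGroup (Fin (2 * m)) F)) := by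
  classical
  set Ψ := glWrEven (F := F) m with hΨ
  have hΨinj : Function.Injective Ψ := glWrEven_injective m
  set W0 := (wrSub m (D : Subgroup (GL (Fin 2) F)) (Subgroup.closure I)).map Ψ with hW0
  have hcard : Nat.card W0 = 2 ^ (Nat.card (GL (Fin (2 * m)) F)).factorization 2 := by
    rw [hW0, Subgroup.card_map_of_injective hΨinj, card_wrSub, hIc,
      Sylow.card_eq_multiplicity D, ← pow_mul, ← pow_add,
      Nat.factorization_def _ Nat.prime_two, Nat.factorization_def _ Nat.prime_two,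
      padicVal_two_card_GL rfl hF (2 * m), padicVal_two_card_GL_two rfl hF]
    congr 1
    have e1 : (2 * m + 1) / 2 = m := by omega
    have e2 : 2 * m / 2 = m := by omega
    rw [e1, e2]
    ring
  let W : Sylow 2 (GL (Fin (2 * m)) F) := Sylow.ofCard W0 hcard
  set ι := (SpecialLinearGroup.toGL :
    SpecialLinearGroup (Fin (2 * m)) F →* GL (Fin (2 * m)) F) with hι
  have hrange : ι.range = (GeneralLinearGroup.det : GL (Fin (2 * m)) F →* Fˣ).ker := by
    rw [hι, Cfsg.Agent.Lib.Helper07.range_toGL_eq_ker_det]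
  have hN : ι.range.Normal := by
    rw [hrange]
    infer_instance
  apply sqComm_sylow_of_normal ι SpecialLinearGroup.toGL_injective hN W
  have hWN : ((W : Subgroup (GL (Fin (2 * m)) F)) ⊓ ι.range) =
      (wrDet (GeneralLinearGroup.det : GL (Fin 2) F →* Fˣ) m
        (D : Subgroup (GL (Fin 2) F)) (Subgroup.closure I)).map Ψ := by
    rw [hrange]
    ext y
    constructor
    · rintro ⟨hy1, hy2⟩
      obtain ⟨x, hx, rfl⟩ := hy1
      refine ⟨x, ?_, rfl⟩
      rw [SetLike.mem_coe, mem_wrDet]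
      rw [SetLike.mem_coe, mem_wrSub] at hx
      refine ⟨⟨hx.1, ?_⟩, hx.2⟩
      rw [← det_glWrEven]
      exact hy2
    · rintro ⟨x, hx, rfl⟩
      rw [SetLike.mem_coe, mem_wrDet] at hx
      refine ⟨⟨x, ?_, rfl⟩, ?_⟩
      · rw [SetLike.mem_coe, mem_wrSub]
        exact ⟨hx.1.1, hx.2⟩
      · change GeneralLinearGroup.det (Ψ x) = 1
        rw [hΨ, det_glWrEven]
        exact hx.1.2
  rw [hWN]
  exact hsq.map Ψ

end embed

end Cfsg.Agent.Lib.Helper44
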