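import Mathlib
import Cfsg.Agent.Lib.Helper44.WreathSylow
import Cfsg.Prelude.Def_Transfer

set_option autoImplicit false

/-! Normal elementary abelian subgroups: an ambient formulation, its transport along injective
homomorphisms, and the case of `(D₀ ≀ T) × Z₀`. -/

namespace Cfsg.Agent.Lib.Helper44

section generic

variable {G : Type*} [Group G]

lemma le_normalizer_of_conj_mem (K H : Subgroup G)
    (h : ∀ k ∈ K, ∀ x ∈ H, k * x * k⁻¹ ∈ H) : K ≤ Subgroup.normalizer (H : Set G) := by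
  intro k hk
  rw [Subgroup.mem_normalizer_iff]
  intro x
  constructor
  · exact h k hk x
  · intro hx
    have := h k⁻¹ (K.inv_mem hk) _ hx
    have e : k⁻¹ * (k * x * k⁻¹) * k⁻¹⁻¹ = x := by group
    rwa [e] at this

/-- `S` has a subgroup normalised by `S`, commutative of exponent `p`, of order at least `a` -/
def HasNE (p : ℕ) (S : Subgroup G) (a : ℕ) : Prop :=
  ∃ E : Subgroup G, E ≤ S ∧ S ≤ Subgroup.normalizer (E : Set G) ∧
    (∀ x ∈ E, ∀ y ∈ E, x * y = y * x) ∧ (∀ x ∈ E, x ^ p = 1) ∧ a ≤ Nat.card E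

/-- every subgroup of `S` normalised by `S`, commutative of exponent `p`, has order at most `b` -/
def NEBound (p : ℕ) (S : Subgroup G) (b : ℕ) : Prop :=
  ∀ E : Subgroup G, E ≤ S → S ≤ Subgroup.normalizer (E : Set G) →
    (∀ x ∈ E, ∀ y ∈ E, x * y = y * x) → (∀ x ∈ E, x ^ p = 1) → Nat.card E ≤ b

lemma HasNE.map {G' : Type*} [Group G'] (φ : G →* G') (hφ : Function.Injective φ) {p : ℕ}
    {S : Subgroup G} {a : ℕ} (h : HasNE p S a) : HasNE p (S.map φ) a := by
  obtain ⟨E, hES, hN, hc, he, hcard⟩ := h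
  refine ⟨E.map φ, Subgroup.map_mono hES, ?_, ?_, ?_, ?_⟩
  · apply le_normalizer_of_conj_mem
    rintro _ ⟨s, hs, rfl⟩ _ ⟨x, hx, rfl⟩
    refine ⟨s * x * s⁻¹, ?_, by simp⟩
    exact (Subgroup.mem_normalizer_iff.mp (hN hs) x).mp hx
  · rintro _ ⟨x, hx, rfl⟩ _ ⟨y, hy, rfl⟩
    rw [← map_mul, ← map_mul, hc x hx y hy]
  · rintro _ ⟨x, hx, rfl⟩
    rw [← map_pow, he x hx, map_one]
  · rw [Subgroup.card_map_of_injective hφ]
    exact hcard

lemma NEBound.map {G' : Type*} [Group G'] (φ : G →* G') (hφ : Function.Injective φ) {p : ℕ}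
    {S : Subgroup G} {b : ℕ} (h : NEBound p S b) : NEBound p (S.map φ) b := by
  intro E hES hN hc he
  have hEr : E ≤ φ.range := fun x hx => by
    obtain ⟨s, _, rfl⟩ := hES hx
    exact ⟨s, rfl⟩
  have hmap : (E.comap φ).map φ = E := Subgroup.map_comap_eq_self hEr
  have key : Nat.card (E.comap φ) ≤ b := by
    apply h
    · intro x hx
      obtain ⟨s, hs, hsx⟩ := hES (Subgroup.mem_comap.mp hx)
      rwa [← hφ hsx]
    · apply le_normalizer_of_conj_mem
      intro s hs x hx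
      rw [Subgroup.mem_comap, map_mul, map_mul, map_inv]
      exact (Subgroup.mem_normalizer_iff.mp (hN (Subgroup.mem_map_of_mem φ hs)) (φ x)).mp hx
    · intro x hx y hy
      apply hφ
      rw [map_mul, map_mul]
      exact hc _ hx _ hy
    · intro x hx
      apply hφ
      rw [map_pow, map_one]
      exact he _ hx
  rwa [← hmap, Subgroup.card_map_of_injective hφ]

lemma HasNE.to_sub {p : ℕ} {S : Subgroup G} {a : ℕ} (h : HasNE p S a) :
    ∃ E : Subgroup ↥S, E.Normal ∧ Cfsg.IsElementaryAbelian p E ∧ a ≤ Nat.card ↥E := by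
  obtain ⟨E, hES, hN, hc, he, hcard⟩ := h
  refine ⟨E.subgroupOf S, Subgroup.normal_subgroupOf_of_le_normalizer hN, ⟨⟨⟨?_⟩⟩, ?_⟩, ?_⟩
  · intro x y
    apply Subtype.ext
    apply Subtype.ext
    exact hc _ (Subgroup.mem_subgroupOf.mp x.2) _ (Subgroup.mem_subgroupOf.mp y.2)
  · intro x hx
    apply Subtype.ext
    rw [Subgroup.coe_pow, Subgroup.coe_one]
    exact he _ (Subgroup.mem_subgroupOf.mp hx)
  · rw [Nat.card_congr (Subgroup.subgroupOfEquivOfLe hES).toEquiv]
    exact hcard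

lemma NEBound.to_sub {p : ℕ} {S : Subgroup G} {b : ℕ} (h : NEBound p S b)
    (E : Subgroup ↥S) (hE : E.Normal) (hel : Cfsg.IsElementaryAbelian p E) :
    Nat.card ↥E ≤ b := by
  have key : Nat.card (E.map S.subtype) ≤ b := by
    apply h
    · exact Subgroup.map_subtype_le E
    · apply le_normalizer_of_conj_mem
      rintro s hs _ ⟨x, hx, rfl⟩
      exact ⟨⟨s, hs⟩ * x * ⟨s, hs⟩⁻¹, hE.conj_mem x hx ⟨s, hs⟩, rfl⟩
    · rintro _ ⟨x, hx, rfl⟩ _ ⟨y, hy, rfl⟩
      have h1 := hel.1.is_comm.comm ⟨x, hx⟩ ⟨y, hy⟩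
      have h2 := congrArg (fun z : ↥E => ((z : ↥S) : G)) h1
      exact h2
    · rintro _ ⟨x, hx, rfl⟩
      rw [← map_pow, hel.2 x hx, map_one]
  rwa [Subgroup.card_map_of_injective S.subtype_injective] at key

end generic

section wreath

variable {D : Type*} [Group D] {Zt : Type*} [Group Zt] (m : ℕ)

lemma wr_pow_left (x : (Fin m → D) ⋊[permAut m D] Equiv.Perm (Fin m)) (hx : x.right = 1) (k : ℕ) :
    (x ^ k).right = 1 ∧ (x ^ k).left = x.left ^ k := by
  induction k with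
  | zero => simp
  | succ k ih =>
    rw [pow_succ, SemidirectProduct.mul_right, SemidirectProduct.mul_left, ih.1, ih.2, hx]
    simp [pow_succ]

/-- the `i`-th coordinate projection of a subgroup of the base group times `Zt` -/
def coordSub (E : Subgroup (((Fin m → D) ⋊[permAut m D] Equiv.Perm (Fin m)) × Zt))
    (h1 : ∀ e ∈ E, e.1.right = 1) (i : Fin m) : Subgroup D where
  carrier := {a | ∃ e ∈ E, e.1.left i = a}
  one_mem' := ⟨1, E.one_mem, by simp⟩
  mul_mem' := by
    rintro _ _ ⟨e, he, rfl⟩ ⟨e', he', rfl⟩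
    refine ⟨e * e', E.mul_mem he he', ?_⟩
    rw [Prod.fst_mul, SemidirectProduct.mul_left, h1 e he]
    simp
  inv_mem' := by
    rintro _ ⟨e, he, rfl⟩
    refine ⟨e⁻¹, E.inv_mem he, ?_⟩
    rw [Prod.fst_inv, SemidirectProduct.inv_left, h1 e he]
    simp

lemma mem_coordSub (E : Subgroup (((Fin m → D) ⋊[permAut m D] Equiv.Perm (Fin m)) × Zt))
    (h1 : ∀ e ∈ E, e.1.right = 1) (i : Fin m) (a : D) :
    a ∈ coordSub m E h1 i ↔ ∃ e ∈ E, e.1.left i = a := Iff.rfl

lemma base_mem_prod (D0 : Subgroup D) (T : Subgroup (Equiv.Perm (Fin m))) (Z0 : Subgroup Zt)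
    (i : Fin m) (u : D) (hu : u ∈ D0) :
    (((SemidirectProduct.inl (Pi.mulSingle i u) :
      (Fin m → D) ⋊[permAut m D] Equiv.Perm (Fin m)), (1 : Zt)) :
        ((Fin m → D) ⋊[permAut m D] Equiv.Perm (Fin m)) × Zt) ∈ (wrSub m D0 T).prod Z0 := by
  classical
  rw [Subgroup.mem_prod]
  refine ⟨⟨fun j => ?_, ?_⟩, Z0.one_mem⟩
  · change (SemidirectProduct.inl (Pi.mulSingle i u) :
      (Fin m → D) ⋊[permAut m D] Equiv.Perm (Fin m)).left j ∈ D0
    rw [SemidirectProduct.left_inl, Pi.mulSingle_apply]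
    split_ifs
    · exact hu
    · exact D0.one_mem
  · change (SemidirectProduct.inl (Pi.mulSingle i u) :
      (Fin m → D) ⋊[permAut m D] Equiv.Perm (Fin m)).right ∈ T
    rw [SemidirectProduct.right_inl]
    exact T.one_mem

/-- **Upper bound** for `(D₀ ≀ T) × Z₀`. -/
theorem wr_neBound [Finite D] [Finite Zt] (p c : ℕ) (D0 : Subgroup D)
    (T : Subgroup (Equiv.Perm (Fin m))) (Z0 : Subgroup Zt)
    (hd : ∃ d ∈ D0, d ^ p ≠ 1) (hA : NEBound p D0 c) :
    NEBound p ((wrSub m D0 T).prod Z0) (c ^ m * Nat.card Z0) := by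
  classical
  intro E hES hN hc he
  obtain ⟨d, hdD, hdp⟩ := hd
  have hconj : ∀ y ∈ (wrSub m D0 T).prod Z0, ∀ e ∈ E, y * e * y⁻¹ ∈ E := fun y hy e he' =>
    (Subgroup.mem_normalizer_iff.mp (hN hy) e).mp he'
  -- Step 1: `E` lies in the base group
  have h1 : ∀ e ∈ E, e.1.right = 1 := by
    intro e heE
    by_contra hne
    obtain ⟨i, hi⟩ : ∃ i, e.1.right i ≠ i := by
      by_contra hall
      push Not at hall
      exact hne (Equiv.ext hall)
    have hi' : e.1.right⁻¹ i ≠ i := by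
      intro h
      apply hi
      have := congrArg e.1.right h
      simp at this
      exact this.symm
    set y : ((Fin m → D) ⋊[permAut m D] Equiv.Perm (Fin m)) × Zt :=
      (SemidirectProduct.inl (Pi.mulSingle i d), 1) with hy
    have hcE : y * e * y⁻¹ * e⁻¹ ∈ E :=
      E.mul_mem (hconj y (base_mem_prod m D0 T Z0 i d hdD) e heE) (E.inv_mem heE)
    have hr : (y * e * y⁻¹ * e⁻¹).1.right = 1 := by
      simp [hy]
    have hi'' : (Equiv.symm e.1.right) i ≠ i := hi'
    have hl : (y * e * y⁻¹ * e⁻¹).1.left i = d := by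
      simp [hy, hi'']
    have hpow := he _ hcE
    have h2 := (wr_pow_left m (y * e * y⁻¹ * e⁻¹).1 hr p).2
    have h3 : ((y * e * y⁻¹ * e⁻¹) ^ p).1 = (y * e * y⁻¹ * e⁻¹).1 ^ p := rfl
    rw [hpow] at h3
    rw [← h3] at h2
    have h4 := congrFun h2 i
    rw [Pi.pow_apply, hl] at h4
    apply hdp
    rw [← h4]
    rfl
  -- Step 2: the coordinate projections are small
  have hAc : ∀ i, Nat.card (coordSub m E h1 i) ≤ c := by
    intro i
    apply hA
    · rintro _ ⟨e, heE, rfl⟩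
      exact (Subgroup.mem_prod.mp (hES heE)).1.1 i
    · apply le_normalizer_of_conj_mem
      rintro u hu _ ⟨e, heE, rfl⟩
      refine ⟨_, hconj _ (base_mem_prod m D0 T Z0 i u hu) e heE, ?_⟩
      simp [h1 e heE]
    · rintro _ ⟨e, heE, rfl⟩ _ ⟨e', heE', rfl⟩
      have h2 := hc e heE e' heE'
      have h3 := congrArg (fun z : ((Fin m → D) ⋊[permAut m D] Equiv.Perm (Fin m)) × Zt =>
        z.1.left i) h2
      simpa [h1 e heE, h1 e' heE'] using h3
    · rintro _ ⟨e, heE, rfl⟩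
      have h2 := (wr_pow_left m e.1 (h1 e heE) p).2
      have h3 : (e ^ p).1 = e.1 ^ p := rfl
      rw [he e heE] at h3
      rw [← h3] at h2
      have h4 := congrFun h2 i
      rw [Pi.pow_apply] at h4
      rw [← h4]
      rfl
  -- Step 3: count
  let Φ : ↥E → (∀ i, ↥(coordSub m E h1 i)) × ↥Z0 := fun e =>
    (fun i => ⟨e.1.1.left i, ⟨e.1, e.2, rfl⟩⟩, ⟨e.1.2, (Subgroup.mem_prod.mp (hES e.2)).2⟩)
  have hΦ : Function.Injective Φ := by
    intro e e' h
    apply Subtype.ext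
    apply Prod.ext
    · apply SemidirectProduct.ext
      · funext i
        have := congrArg (fun z : (∀ i, ↥(coordSub m E h1 i)) × ↥Z0 =>
          ((z.1 i : ↥(coordSub m E h1 i)) : D)) h
        exact this
      · rw [h1 e.1 e.2, h1 e'.1 e'.2]
    · exact congrArg (fun z : (∀ i, ↥(coordSub m E h1 i)) × ↥Z0 => ((z.2 : ↥Z0) : Zt)) h
  calc Nat.card E ≤ Nat.card ((∀ i, ↥(coordSub m E h1 i)) × ↥Z0) :=
        Nat.card_le_card_of_injective Φ hΦ
    _ = (∏ i, Nat.card (coordSub m E h1 i)) * Nat.card Z0 := by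
        rw [Nat.card_prod, Nat.card_pi]
    _ ≤ c ^ m * Nat.card Z0 := by
        apply Nat.mul_le_mul_right
        calc ∏ i, Nat.card (coordSub m E h1 i) ≤ ∏ _i : Fin m, c :=
              Finset.prod_le_prod' (fun i _ => hAc i)
          _ = c ^ m := by simp

lemma card_subgroup_prod {A B : Type*} [Group A] [Group B] (H : Subgroup A) (K : Subgroup B) :
    Nat.card ↥(H.prod K) = Nat.card H * Nat.card K := by
  rw [Nat.card_congr (Subgroup.prodEquiv H K).toEquiv, Nat.card_prod]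

/-- **Existence** for `(D₀ ≀ T) × Z₀`. -/
theorem wr_hasNE (p : ℕ) (D0 : Subgroup D) (T : Subgroup (Equiv.Perm (Fin m)))
    (Z0 : Subgroup Zt) (Zc : Subgroup D) (hZD : Zc ≤ D0)
    (hZN : D0 ≤ Subgroup.normalizer (Zc : Set D))
    (hZc : ∀ x ∈ Zc, ∀ y ∈ Zc, x * y = y * x) (hZe : ∀ x ∈ Zc, x ^ p = 1)
    (h0c : ∀ x ∈ Z0, ∀ y ∈ Z0, x * y = y * x) (h0e : ∀ x ∈ Z0, x ^ p = 1) :
    HasNE p ((wrSub m D0 T).prod Z0) (Nat.card Zc ^ m * Nat.card Z0) := by
  classical
  have hright : ∀ e ∈ (wrSub m Zc (⊥ : Subgroup (Equiv.Perm (Fin m)))).prod Z0,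
      e.1.right = 1 := by
    intro e he
    exact Subgroup.mem_bot.mp (Subgroup.mem_prod.mp he).1.2
  refine ⟨(wrSub m Zc ⊥).prod Z0, ?_, ?_, ?_, ?_, ?_⟩
  · intro e he
    rw [Subgroup.mem_prod] at he ⊢
    refine ⟨⟨fun i => hZD (he.1.1 i), ?_⟩, he.2⟩
    rw [Subgroup.mem_bot.mp he.1.2]
    exact T.one_mem
  · apply le_normalizer_of_conj_mem
    intro y hy e he
    have her := hright e he
    rw [Subgroup.mem_prod] at hy he ⊢
    refine ⟨⟨fun k => ?_, ?_⟩, ?_⟩
    · have hk : (y * e * y⁻¹).1.left k =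
          y.1.left k * e.1.left (y.1.right⁻¹ k) * (y.1.left k)⁻¹ := by
        simp [her]
      rw [hk]
      exact (Subgroup.mem_normalizer_iff.mp (hZN (hy.1.1 k)) _).mp (he.1.1 _)
    · rw [Subgroup.mem_bot]
      simp [her]
    · exact Z0.mul_mem (Z0.mul_mem hy.2 he.2) (Z0.inv_mem hy.2)
  · intro e he e' he'
    have her := hright e he
    have her' := hright e' he'
    rw [Subgroup.mem_prod] at he he'
    apply Prod.ext
    · apply SemidirectProduct.ext
      · funext k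
        simp only [Prod.fst_mul, SemidirectProduct.mul_left, her, her', map_one,
          MulAut.one_apply, Pi.mul_apply]
        exact hZc _ (he.1.1 k) _ (he'.1.1 k)
      · simp [her, her']
    · exact h0c _ he.2 _ he'.2
  · intro e he
    have her := hright e he
    rw [Subgroup.mem_prod] at he
    apply Prod.ext
    · have h2 := wr_pow_left m e.1 her p
      apply SemidirectProduct.ext
      · change (e.1 ^ p).left = 1
        rw [h2.2]
        funext k
        rw [Pi.pow_apply]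
        exact hZe _ (he.1.1 k)
      · exact h2.1
    · exact h0e _ he.2
  · rw [card_subgroup_prod, card_wrSub, Subgroup.card_bot, mul_one]

end wreath

end Cfsg.Agent.Lib.Helper44
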