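import Mathlib
import Cfsg.Agent.Lib.Helper44.GLWreath
import Cfsg.Agent.Lib.Helper44.GLTwoNum
import Cfsg.Agent.Lib.Helper44.NormalRank
import Cfsg.Agent.Lib.Helper44.SymInvGen

set_option autoImplicit false

/-! Every Sylow `2`-subgroup of `GL_n(q)` is the image of `(D₀ ≀ T) × Z₀` under an injective
homomorphism `(GL_e ≀ S_m) × GL_r → GL_n`, whenever the `2`-parts of the orders match. -/

namespace Cfsg.Agent.Lib.Helper44

open Matrix Equiv

section block2

variable {κ ρ ι : Type*} [Fintype κ] [DecidableEq κ] [Fintype ρ] [DecidableEq ρ]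
  [Fintype ι] [DecidableEq ι] {F : Type*} [CommRing F]

/-- `(A, B) ↦ diag(A, B)`, reindexed along `e` -/
def blockHom2 (e : κ ⊕ ρ ≃ ι) : Matrix κ κ F × Matrix ρ ρ F →* Matrix ι ι F where
  toFun p := Matrix.reindex e e (Matrix.fromBlocks p.1 0 0 p.2)
  map_one' := by
    simp [Matrix.fromBlocks_one]
  map_mul' p q := by
    simp only [Matrix.reindex_apply, Prod.fst_mul, Prod.snd_mul]
    rw [Matrix.submatrix_mul_equiv, Matrix.fromBlocks_multiply]
    simp

lemma blockHom2_injective (e : κ ⊕ ρ ≃ ι) : Function.Injective (blockHom2 (F := F) e) := by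
  intro p q h
  have h2 : Matrix.fromBlocks p.1 0 0 p.2 = Matrix.fromBlocks q.1 0 0 q.2 :=
    (Matrix.reindex e e).injective h
  have h3 := Matrix.fromBlocks_inj.1 h2
  exact Prod.ext h3.1 h3.2.2.2

/-- `GL_κ × GL_ρ → GL_ι` -/
def blockGL2 (e : κ ⊕ ρ ≃ ι) : GL κ F × GL ρ F →* GL ι F :=
  (Units.map (blockHom2 e)).comp
    (MulEquiv.prodUnits (M := Matrix κ κ F) (N := Matrix ρ ρ F)).symm.toMonoidHom

lemma blockGL2_injective (e : κ ⊕ ρ ≃ ι) : Function.Injective (blockGL2 (F := F) e) := by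
  intro x y h
  have h1 : blockHom2 e ((x.1 : Matrix κ κ F), (x.2 : Matrix ρ ρ F)) =
      blockHom2 e ((y.1 : Matrix κ κ F), (y.2 : Matrix ρ ρ F)) := congrArg Units.val h
  have h2 := blockHom2_injective e h1
  exact Prod.ext (Units.ext (congrArg Prod.fst h2)) (Units.ext (congrArg Prod.snd h2))

end block2

section sylow

variable {F : Type*} [Field F] [Fintype F]

/-- every Sylow `2`-subgroup of `GL_n(q)` is an injective image of `(D₀ ≀ T) × Z₀` -/
theorem sylow_eq_map_wr {e m r n : ℕ} [NeZero e] (hn : n = e * m + r)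
    (hval : padicValNat 2 (Nat.card (GL (Fin n) F)) =
      m * padicValNat 2 (Nat.card (GL (Fin e) F)) + padicValNat 2 m.factorial +
        padicValNat 2 (Nat.card (GL (Fin r) F)))
    (D0 : Sylow 2 (GL (Fin e) F)) (T : Sylow 2 (Perm (Fin m))) (Z0 : Sylow 2 (GL (Fin r) F))
    (S : Sylow 2 (GL (Fin n) F)) :
    ∃ φ : (((Fin m → GL (Fin e) F) ⋊[permAut m _] Perm (Fin m)) × GL (Fin r) F) →*
        GL (Fin n) F,
      Function.Injective φ ∧ (S : Subgroup (GL (Fin n) F)) =
        ((wrSub m (D0 : Subgroup (GL (Fin e) F)) (T : Subgroup (Perm (Fin m)))).prod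
          (Z0 : Subgroup (GL (Fin r) F))).map φ := by
  classical
  have idx : (Fin e × Fin m) ⊕ Fin r ≃ Fin n :=
    Fintype.equivOfCardEq (by simp [hn])
  set Ψ : (((Fin m → GL (Fin e) F) ⋊[permAut m _] Perm (Fin m)) × GL (Fin r) F) →*
      GL (Fin n) F :=
    (blockGL2 idx).comp (MonoidHom.prodMap (glWr m e) (MonoidHom.id _)) with hΨ
  have hΨinj : Function.Injective Ψ := by
    apply (blockGL2_injective idx).comp
    intro x y h
    have h1 : glWr m e x.1 = glWr m e y.1 := by
      have := congrArg Prod.fst h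
      exact this
    have h2 : x.2 = y.2 := by
      have := congrArg Prod.snd h
      exact this
    exact Prod.ext (glWr_injective m e h1) h2
  set S' := (wrSub m (D0 : Subgroup (GL (Fin e) F)) (T : Subgroup (Perm (Fin m)))).prod
    (Z0 : Subgroup (GL (Fin r) F)) with hS'
  have hcard : Nat.card (S'.map Ψ) = 2 ^ (Nat.card (GL (Fin n) F)).factorization 2 := by
    rw [Subgroup.card_map_of_injective hΨinj, hS', card_subgroup_prod, card_wrSub,
      Sylow.card_eq_multiplicity D0, Sylow.card_eq_multiplicity T, Sylow.card_eq_multiplicity Z0,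
      ← pow_mul, ← pow_add, ← pow_add, Nat.card_perm, Nat.card_fin,
      Nat.factorization_def _ Nat.prime_two, Nat.factorization_def _ Nat.prime_two,
      Nat.factorization_def _ Nat.prime_two, Nat.factorization_def _ Nat.prime_two, hval]
    congr 1
    ring
  let S0 : Sylow 2 (GL (Fin n) F) := Sylow.ofCard (S'.map Ψ) hcard
  obtain ⟨g, hg⟩ := MulAction.exists_smul_eq (GL (Fin n) F) S0 S
  refine ⟨(MulAut.conj g).toMonoidHom.comp Ψ, (MulAut.conj g).injective.comp hΨinj, ?_⟩
  rw [← Subgroup.map_map, ← hg]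
  rfl

end sylow

section numerics

lemma padicVal_two_factorial_half (n : ℕ) :
    padicValNat 2 n.factorial = n / 2 + padicValNat 2 (n / 2).factorial := by
  rcases Nat.even_or_odd' n with ⟨k, rfl | rfl⟩
  · have h := padicVal_factorial_mul_two k
    rw [mul_comm] at h
    have e1 : 2 * k / 2 = k := by omega
    rw [h, e1]
  · have h := padicVal_factorial_mul_two k
    rw [mul_comm] at h
    rw [Nat.factorial_succ, padicValNat.mul (by omega) (Nat.factorial_ne_zero _), h,
      padicValNat.eq_zero_of_not_dvd (by omega)]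
    have e1 : (2 * k + 1) / 2 = k := by omega
    rw [e1]
    ring

lemma padicVal_sq_sub_one_of_mod_four {q : ℕ} (hq : q % 4 = 1) (hq1 : 1 < q) :
    padicValNat 2 (q ^ 2 - 1) = padicValNat 2 (q - 1) + 1 := by
  have e : q ^ 2 - 1 = (q - 1) * (q + 1) := by
    obtain ⟨r, rfl⟩ : ∃ r, q = r + 1 := ⟨q - 1, by omega⟩
    have : (r + 1) ^ 2 = (r + 1 - 1) * (r + 1 + 1) + 1 := by
      simp only [Nat.add_sub_cancel]
      ring
    omega
  obtain ⟨c, hc⟩ : ∃ c, q + 1 = 2 * (2 * c + 1) := ⟨q / 4, by omega⟩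
  have h1 : padicValNat 2 (q + 1) = 1 := by
    rw [hc, padicValNat.mul (a := 2) (b := 2 * c + 1) (by norm_num) (by omega),
      padicValNat.eq_zero_of_not_dvd (n := 2 * c + 1) (by omega)]
    simp
  rw [e, padicValNat.mul (by omega) (by omega), h1]

lemma three_le_padicVal_sq_sub_one {q : ℕ} (hq : Odd q) (hq1 : 1 < q) :
    3 ≤ padicValNat 2 (q ^ 2 - 1) := by
  have h8 : 2 ^ 3 ∣ q ^ 2 - 1 := by
    obtain ⟨r, rfl⟩ := hq
    have e : (2 * r + 1) ^ 2 - 1 = 4 * (r * (r + 1)) := by
      have : (2 * r + 1) ^ 2 = 4 * (r * (r + 1)) + 1 := by ring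
      omega
    rw [e]
    have : 2 ∣ r * (r + 1) := (Nat.even_mul_succ_self r).two_dvd
    obtain ⟨c, hc⟩ := this
    exact ⟨c, by rw [hc]; ring⟩
  have hne : q ^ 2 - 1 ≠ 0 := by
    have : 1 < q ^ 2 := Nat.one_lt_pow (by norm_num) hq1
    omega
  exact (padicValNat_dvd_iff_le hne).mp h8

variable {F : Type*} [Field F] [Fintype F]

/-- `q ≡ 1 mod 4`: the monomial case -/
lemma hval_one {q : ℕ} (hF : Fintype.card F = q) (hq : q % 4 = 1) (n : ℕ) :
    padicValNat 2 (Nat.card (GL (Fin n) F)) =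
      n * padicValNat 2 (Nat.card (GL (Fin 1) F)) + padicValNat 2 n.factorial +
        padicValNat 2 (Nat.card (GL (Fin 0) F)) := by
  have hodd : Odd q := Nat.odd_iff.mpr (by omega)
  have hq1 : 1 < q := by
    rw [← hF]
    exact Fintype.one_lt_card
  rw [padicVal_two_card_GL hF hodd n, padicVal_two_card_GL hF hodd 1,
    padicVal_two_card_GL hF hodd 0, padicVal_sq_sub_one_of_mod_four hq hq1,
    padicVal_two_factorial_half n]
  simp only [Nat.zero_div, Nat.factorial_zero, padicValNat_one_right, zero_mul, add_zero,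
    Nat.reduceAdd, Nat.reduceDiv, one_mul]
  have : (n + 1) / 2 + n / 2 = n := by omega
  have h3 : n * padicValNat 2 (q - 1) =
      (n + 1) / 2 * padicValNat 2 (q - 1) + n / 2 * padicValNat 2 (q - 1) := by
    rw [← add_mul, this]
  rw [h3]
  ring

/-- any odd `q`: the case of blocks of size two -/
lemma hval_two {q : ℕ} (hF : Fintype.card F = q) (hodd : Odd q) (m r : ℕ) (hr : r ≤ 1) :
    padicValNat 2 (Nat.card (GL (Fin (2 * m + r)) F)) =
      m * padicValNat 2 (Nat.card (GL (Fin 2) F)) + padicValNat 2 m.factorial +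
        padicValNat 2 (Nat.card (GL (Fin r) F)) := by
  rw [padicVal_two_card_GL hF hodd (2 * m + r), padicVal_two_card_GL_two hF hodd,
    padicVal_two_card_GL hF hodd r]
  have e1 : (2 * m + r + 1) / 2 = m + r := by omega
  have e2 : (2 * m + r) / 2 = m := by omega
  have e3 : (r + 1) / 2 = r := by omega
  have e4 : r / 2 = 0 := by omega
  rw [e1, e2, e3, e4]
  simp only [Nat.factorial_zero, padicValNat_one_right, zero_mul, add_zero]
  ring

end numerics

end Cfsg.Agent.Lib.Helper44
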