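import Mathlib
import Cfsg.Agent.Lib.Helper44.NormalRank
import Cfsg.Agent.Lib.Helper44.GLToSL
import Cfsg.Agent.S2233

set_option autoImplicit false

/-! * elementary abelian `2`-subgroups of `GL_n(F)`, `char F ≠ 2`, have order at most `2 ^ n`;
* for `q ≡ 3 mod 4`, a `2`-subgroup of `GL_2(q)` of order at least `16` has no normal elementary
  abelian subgroup of order greater than `2`. -/

namespace Cfsg.Agent.Lib.Helper44

open Matrix

section rank

variable {F : Type*} [Field F] [Fintype F]

/-- elementary abelian `2`-subgroups of `GL_n(F)` have order at most `2 ^ n` -/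
lemma gl_elab_card_le (h2 : (2 : F) ≠ 0) (n : ℕ) (A : Subgroup (GL (Fin n) F))
    (hc : ∀ x ∈ A, ∀ y ∈ A, x * y = y * x) (he : ∀ x ∈ A, x ^ 2 = 1) :
    Nat.card A ≤ 2 ^ n := by
  set f := glToSL (F := F) (finSumFinEquiv : Fin n ⊕ Fin 1 ≃ Fin (n + 1)) with hf
  have hinj : Function.Injective f := glToSL_injective _
  have key := Cfsg.Agent.S2233.upper_bound h2 (n + 1) (by omega) (A.map f) ⟨⟨?_⟩⟩ ?_
  · rwa [Subgroup.card_map_of_injective hinj, Nat.add_sub_cancel] at key
  · rintro ⟨_, x, hx, rfl⟩ ⟨_, y, hy, rfl⟩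
    apply Subtype.ext
    change f x * f y = f y * f x
    rw [← map_mul, ← map_mul, hc x hx y hy]
  · rintro _ ⟨x, hx, rfl⟩
    rw [← map_pow, he x hx, map_one]

lemma card_le_of_subset_finset {G : Type*} [Group G] (H : Subgroup G) (s : Finset G)
    (h : (H : Set G) ⊆ (s : Set G)) : Nat.card H ≤ s.card := by
  calc Nat.card H = (H : Set G).ncard := (Nat.card_coe_set_eq _)
    _ ≤ (s : Set G).ncard := Set.ncard_le_ncard h (Finset.finite_toSet s)
    _ = s.card := Set.ncard_coe_finset s

/-- a subgroup of `GL_2(F)` of order at least `5` has an element whose square is not `1` -/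
theorem gl2_exists_sq_ne_one (h2 : (2 : F) ≠ 0) (D0 : Subgroup (GL (Fin 2) F))
    (h5 : 5 ≤ Nat.card D0) : ∃ d ∈ D0, d ^ 2 ≠ 1 := by
  by_contra hcon
  push Not at hcon
  have hinv : ∀ x ∈ D0, x⁻¹ = x := fun x hx =>
    inv_eq_of_mul_eq_one_right (by rw [← sq]; exact hcon x hx)
  have hcomm : ∀ x ∈ D0, ∀ y ∈ D0, x * y = y * x := by
    intro x hx y hy
    calc x * y = (x * y)⁻¹ := (hinv _ (D0.mul_mem hx hy)).symm
      _ = y⁻¹ * x⁻¹ := mul_inv_rev x y
      _ = y * x := by rw [hinv x hx, hinv y hy]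
  have := gl_elab_card_le h2 2 D0 hcomm hcon
  norm_num at this
  omega

end rank

section mat2

variable {F : Type*} [Field F]

lemma ch2 (M : Matrix (Fin 2) (Fin 2) F) :
    M * M = M.trace • M - M.det • (1 : Matrix (Fin 2) (Fin 2) F) := by
  ext i j
  fin_cases i <;> fin_cases j <;>
    simp [Matrix.mul_apply, Fin.sum_univ_two, Matrix.det_fin_two, Matrix.trace_fin_two] <;> ring

lemma smul_one_inj {x y : F}
    (h : x • (1 : Matrix (Fin 2) (Fin 2) F) = y • (1 : Matrix (Fin 2) (Fin 2) F)) : x = y := by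
  have := congrFun (congrFun h 0) 0
  simpa using this

lemma scalar_of_smul {s r : F} (hs : s ≠ 0) {N : Matrix (Fin 2) (Fin 2) F}
    (h : s • N = r • (1 : Matrix (Fin 2) (Fin 2) F)) : N = (s⁻¹ * r) • 1 := by
  rw [mul_smul, ← h, smul_smul, inv_mul_cancel₀ hs, one_smul]

lemma scalar_mul_self (c : F) :
    (c • (1 : Matrix (Fin 2) (Fin 2) F)) * (c • (1 : Matrix (Fin 2) (Fin 2) F)) =
      (c * c) • (1 : Matrix (Fin 2) (Fin 2) F) := by
  rw [Matrix.smul_mul, Matrix.mul_smul, Matrix.one_mul, smul_smul]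

/-- a non-scalar involution of `M_2(F)` has determinant `-1` -/
lemma invol_det (M : Matrix (Fin 2) (Fin 2) F) (hM : M * M = 1) (h1 : M ≠ 1)
    (hm1 : M ≠ -1) : M.det = -1 := by
  have hA := ch2 M
  rw [hM, eq_sub_iff_add_eq] at hA
  have hB : M.trace • M = (1 + M.det) • (1 : Matrix (Fin 2) (Fin 2) F) := by
    rw [add_smul, one_smul]
    exact hA.symm
  by_cases ht : M.trace = 0
  · rw [ht, zero_smul] at hB
    have h0 : (0 : F) • (1 : Matrix (Fin 2) (Fin 2) F) = (1 + M.det) • 1 := by
      rw [zero_smul]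
      exact hB
    have := smul_one_inj h0
    linear_combination -this
  · exfalso
    have hN := scalar_of_smul ht hB
    have hcc : (M.trace⁻¹ * (1 + M.det)) * (M.trace⁻¹ * (1 + M.det)) = 1 := by
      apply smul_one_inj (F := F)
      rw [← scalar_mul_self, ← hN, hM, one_smul]
    rcases mul_self_eq_one_iff.mp hcc with h | h
    · apply h1
      rw [hN, h, one_smul]
    · apply hm1
      rw [hN, h, neg_smul, one_smul]

lemma sq_neg_one_of (h2 : (2 : F) ≠ 0) (N : Matrix (Fin 2) (Fin 2) F) (hN : N * N = -1)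
    (hdet : N.det = -1) : ∃ c : F, c * c = -1 := by
  have hA := ch2 N
  rw [hN, hdet, eq_sub_iff_add_eq] at hA
  have hB : N.trace • N = (-2 : F) • (1 : Matrix (Fin 2) (Fin 2) F) := by
    rw [← hA, neg_smul, neg_smul, one_smul, two_smul]
    abel
  have ht : N.trace ≠ 0 := by
    intro ht
    rw [ht, zero_smul] at hB
    have h0 : (0 : F) • (1 : Matrix (Fin 2) (Fin 2) F) = (-2 : F) • 1 := by
      rw [zero_smul]
      exact hB
    have := smul_one_inj h0
    apply h2
    linear_combination this
  have hN' := scalar_of_smul ht hB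
  refine ⟨N.trace⁻¹ * (-2), ?_⟩
  apply smul_one_inj (F := F)
  rw [← scalar_mul_self, ← hN', hN, neg_smul, one_smul]

/-- commuting non-scalar involutions of `M_2(F)` agree up to sign -/
lemma invol_comm_eq (h2 : (2 : F) ≠ 0) (s t : Matrix (Fin 2) (Fin 2) F) (hs : s * s = 1)
    (ht : t * t = 1) (hst : s * t = t * s) (hs1 : s ≠ 1) (hsm : s ≠ -1) (ht1 : t ≠ 1)
    (htm : t ≠ -1) : s = t ∨ s = -t := by
  have hN : (s * t) * (s * t) = 1 := by
    calc s * t * (s * t) = s * (t * s) * t := by simp only [mul_assoc]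
      _ = s * (s * t) * t := by rw [hst]
      _ = (s * s) * (t * t) := by simp only [mul_assoc]
      _ = 1 := by rw [hs, ht, one_mul]
  have hdet : (s * t).det = 1 := by
    rw [Matrix.det_mul, invol_det s hs hs1 hsm, invol_det t ht ht1 htm]
    ring
  have hne : (s * t).det ≠ -1 := by
    rw [hdet]
    intro h
    apply h2
    linear_combination h
  have hcase : s * t = 1 ∨ s * t = -1 := by
    by_contra hcon
    push Not at hcon
    exact hne (invol_det _ hN hcon.1 hcon.2)
  have hs_eq : (s * t) * t = s := by rw [mul_assoc, ht, mul_one]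
  rcases hcase with h | h
  · left
    rw [← hs_eq, h, one_mul]
  · right
    rw [← hs_eq, h, neg_mul, one_mul]

/-- a `2`-element of determinant one commuting with a non-scalar involution is `±1`, when `-1` is
not a square -/
lemma two_elt_comm_invol (h2 : (2 : F) ≠ 0) (hns : ¬ ∃ c : F, c * c = -1)
    (t : Matrix (Fin 2) (Fin 2) F) (ht : t * t = 1) (ht1 : t ≠ 1) (htm : t ≠ -1) :
    ∀ (k : ℕ) (d : Matrix (Fin 2) (Fin 2) F), d.det = 1 → d ^ (2 ^ k) = 1 → d * t = t * d →
      d = 1 ∨ d = -1 := by
  have h11 : (1 : F) ≠ -1 := by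
    intro h
    apply h2
    linear_combination h
  intro k
  induction k with
  | zero =>
    intro d _ hd _
    left
    simpa using hd
  | succ k ih =>
    intro d hdet hd hdt
    have hdd : (d * d) ^ (2 ^ k) = 1 := by
      rw [← pow_two, ← pow_mul, ← pow_succ']
      exact hd
    have hcomm : d * d * t = t * (d * d) := by
      rw [mul_assoc, hdt, ← mul_assoc, hdt, mul_assoc]
    rcases ih (d * d) (by rw [Matrix.det_mul, hdet, one_mul]) hdd hcomm with h | h
    · by_contra hcon
      push Not at hcon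
      have := invol_det d h hcon.1 hcon.2
      rw [hdet] at this
      exact h11 this
    · exfalso
      apply hns
      apply sq_neg_one_of h2 (d * t)
      · calc d * t * (d * t) = d * (t * d) * t := by simp only [mul_assoc]
          _ = d * (d * t) * t := by rw [hdt]
          _ = (d * d) * (t * t) := by simp only [mul_assoc]
          _ = -1 := by rw [h, ht, mul_one]
      · rw [Matrix.det_mul, hdet, one_mul, invol_det t ht ht1 htm]

end mat2

section gl2

variable {F : Type*} [Field F] [Fintype F]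

lemma two_ne_zero_of_four_dvd (hq : 4 ∣ Fintype.card F + 1) : (2 : F) ≠ 0 := by
  have hchar : ringChar F ≠ 2 := by
    intro h
    have := FiniteField.even_card_of_char_two h
    obtain ⟨c, hc⟩ := hq
    omega
  exact Ring.two_ne_zero hchar

lemma neg_one_not_sq_of_four_dvd (hq : 4 ∣ Fintype.card F + 1) : ¬ ∃ c : F, c * c = -1 := by
  rintro ⟨c, hc⟩
  have : IsSquare (-1 : F) := ⟨c, hc.symm⟩
  rw [FiniteField.isSquare_neg_one_iff] at this
  omega

/-- for `q ≡ 3 mod 4`, a `2`-subgroup of `GL_2(q)` of order at least `16` has no normal elementary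
abelian subgroup of order greater than `2` -/
theorem gl2_neBound (hq : 4 ∣ Fintype.card F + 1) (D0 : Subgroup (GL (Fin 2) F))
    (hD0 : IsPGroup 2 D0) (h16 : 16 ≤ Nat.card D0) : NEBound 2 D0 2 := by
  classical
  intro A hAD hN hc he
  by_contra hcon
  push Not at hcon
  have h2 : (2 : F) ≠ 0 := two_ne_zero_of_four_dvd hq
  have hns := neg_one_not_sq_of_four_dvd hq
  -- a non-scalar element of `A`
  obtain ⟨t, htA, ht1, htm⟩ : ∃ t ∈ A, t ≠ 1 ∧ t ≠ -1 := by
    by_contra hall
    push Not at hall
    have hsub : (A : Set (GL (Fin 2) F)) ⊆ (({1, -1} : Finset (GL (Fin 2) F)) : Set _) := by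
      intro x hx
      rw [Finset.coe_insert, Finset.coe_singleton]
      by_cases h : x = 1
      · left
        exact h
      · right
        exact hall x hx h
    have := (card_le_of_subset_finset A _ hsub).trans Finset.card_le_two
    omega
  have htt : (t : Matrix (Fin 2) (Fin 2) F) * (t : Matrix (Fin 2) (Fin 2) F) = 1 := by
    have := he t htA
    rw [sq] at this
    rw [← Units.val_mul, this, Units.val_one]
  have ht1' : (t : Matrix (Fin 2) (Fin 2) F) ≠ 1 := fun h => ht1 (Units.ext h)
  have htm' : (t : Matrix (Fin 2) (Fin 2) F) ≠ -1 := fun h => htm (Units.ext h)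
  -- conjugates of `t` are `±t`
  have hconj : ∀ x ∈ D0, x * t = t * x ∨ x * t = -(t * x) := by
    intro x hx
    have hsA : x * t * x⁻¹ ∈ A := (Subgroup.mem_normalizer_iff.mp (hN hx) t).mp htA
    have hs2 := he _ hsA
    have hs1 : x * t * x⁻¹ ≠ 1 := by
      intro h
      apply ht1
      have : t = x⁻¹ * (x * t * x⁻¹) * x := by group
      rw [this, h]
      group
    have hsm : x * t * x⁻¹ ≠ -1 := by
      intro h
      apply htm
      have : t = x⁻¹ * (x * t * x⁻¹) * x := by group
      rw [this, h]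
      simp
    have hst := hc _ hsA t htA
    have key := invol_comm_eq h2 ((x * t * x⁻¹ : GL (Fin 2) F) : Matrix (Fin 2) (Fin 2) F)
      (t : Matrix (Fin 2) (Fin 2) F)
      (by rw [← Units.val_mul, ← sq, hs2, Units.val_one]) htt
      (by rw [← Units.val_mul, ← Units.val_mul, hst])
      (fun h => hs1 (Units.ext h)) (fun h => hsm (Units.ext h)) ht1' htm'
    rcases key with h | h
    · left
      have h' : x * t * x⁻¹ = t := Units.ext h
      rw [mul_inv_eq_iff_eq_mul] at h'
      exact h'
    · right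
      have h' : x * t * x⁻¹ = -t := Units.ext (by rw [h]; rfl)
      rw [mul_inv_eq_iff_eq_mul] at h'
      rw [h', neg_mul]
  -- the centraliser of `t` in `D0`
  set S1 : Finset (GL (Fin 2) F) := {1, -1, t, -t} with hS1
  have hcent : ∀ d ∈ D0, d * t = t * d → d ∈ S1 := by
    intro d hd hdt
    obtain ⟨k, hk⟩ := hD0 ⟨d, hd⟩
    have hk' : d ^ (2 ^ k) = 1 := by
      have := congrArg Subtype.val hk
      simpa using this
    have hdm : (d : Matrix (Fin 2) (Fin 2) F) ^ (2 ^ k) = 1 := by
      rw [← Units.val_pow_eq_pow_val, hk', Units.val_one]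
    have hdtm : (d : Matrix (Fin 2) (Fin 2) F) * (t : Matrix (Fin 2) (Fin 2) F) =
        (t : Matrix (Fin 2) (Fin 2) F) * (d : Matrix (Fin 2) (Fin 2) F) := by
      rw [← Units.val_mul, ← Units.val_mul, hdt]
    have hdet2 : (GeneralLinearGroup.det d) ^ 2 = 1 := by
      apply det_sq_eq_one_of_two_pow hq _ k
      rw [← map_pow, hk', map_one]
    have hdet3 : (d : Matrix (Fin 2) (Fin 2) F).det * (d : Matrix (Fin 2) (Fin 2) F).det = 1 := by
      have : ((GeneralLinearGroup.det d : Fˣ) : F) * ((GeneralLinearGroup.det d : Fˣ) : F) = 1 := by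
        rw [← Units.val_mul, ← sq, hdet2, Units.val_one]
      exact this
    rw [hS1]
    simp only [Finset.mem_insert, Finset.mem_singleton]
    rcases mul_self_eq_one_iff.mp hdet3 with h | h
    · rcases two_elt_comm_invol h2 hns _ htt ht1' htm' k _ h hdm hdtm with h' | h'
      · left
        exact Units.ext h'
      · right; left
        exact Units.ext (by rw [h']; rfl)
    · have hdt_det : ((d : Matrix (Fin 2) (Fin 2) F) * (t : Matrix (Fin 2) (Fin 2) F)).det = 1 := by
        rw [Matrix.det_mul, h, invol_det _ htt ht1' htm']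
        ring
      have hpow : ((d : Matrix (Fin 2) (Fin 2) F) * (t : Matrix (Fin 2) (Fin 2) F)) ^ (2 ^ (k + 1))
          = 1 := by
        have hcm : Commute (d : Matrix (Fin 2) (Fin 2) F) (t : Matrix (Fin 2) (Fin 2) F) := hdtm
        have hd1 : (d : Matrix (Fin 2) (Fin 2) F) ^ (2 ^ (k + 1)) = 1 := by
          rw [pow_succ, pow_mul, hdm, one_pow]
        have ht1 : (t : Matrix (Fin 2) (Fin 2) F) ^ (2 ^ (k + 1)) = 1 := by
          rw [pow_succ', pow_mul, pow_two, htt, one_pow]
        rw [hcm.mul_pow, hd1, ht1, one_mul]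
      have hcomm2 : (d : Matrix (Fin 2) (Fin 2) F) * (t : Matrix (Fin 2) (Fin 2) F) *
          (t : Matrix (Fin 2) (Fin 2) F) = (t : Matrix (Fin 2) (Fin 2) F) *
          ((d : Matrix (Fin 2) (Fin 2) F) * (t : Matrix (Fin 2) (Fin 2) F)) := by
        calc (d : Matrix (Fin 2) (Fin 2) F) * (t : Matrix (Fin 2) (Fin 2) F) *
            (t : Matrix (Fin 2) (Fin 2) F) = (t : Matrix (Fin 2) (Fin 2) F) *
              (d : Matrix (Fin 2) (Fin 2) F) * (t : Matrix (Fin 2) (Fin 2) F) := by rw [hdtm]
          _ = _ := mul_assoc _ _ _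
      have hd_eq : (d : Matrix (Fin 2) (Fin 2) F) * (t : Matrix (Fin 2) (Fin 2) F) *
          (t : Matrix (Fin 2) (Fin 2) F) = (d : Matrix (Fin 2) (Fin 2) F) := by
        rw [mul_assoc, htt, mul_one]
      rcases two_elt_comm_invol h2 hns _ htt ht1' htm' (k + 1) _ hdt_det hpow hcomm2 with h' | h'
      · right; right; left
        apply Units.ext
        rw [← hd_eq, h', one_mul]
      · right; right; right
        apply Units.ext
        rw [← hd_eq, h', neg_mul, one_mul]
        rfl
  -- count
  by_cases hall : ∀ x ∈ D0, x * t = t * x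
  · have hsub : (D0 : Set (GL (Fin 2) F)) ⊆ (S1 : Set _) := fun x hx => hcent x hx (hall x hx)
    have := (card_le_of_subset_finset D0 _ hsub).trans Finset.card_le_four
    omega
  · push Not at hall
    obtain ⟨x0, hx0D, hx0⟩ := hall
    have hx0' : x0 * t = -(t * x0) := (hconj x0 hx0D).resolve_left hx0
    have e1 : x0⁻¹ * t = -(t * x0⁻¹) := by
      have : t * x0⁻¹ = -(x0⁻¹ * t) := by
        calc t * x0⁻¹ = x0⁻¹ * (x0 * t) * x0⁻¹ := by group
          _ = x0⁻¹ * (-(t * x0)) * x0⁻¹ := by rw [hx0']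
          _ = -(x0⁻¹ * t) := by simp [mul_assoc]
      rw [this, neg_neg]
    have hsub : (D0 : Set (GL (Fin 2) F)) ⊆ ((S1 ∪ S1.image (fun c => x0 * c) :
        Finset (GL (Fin 2) F)) : Set _) := by
      intro y hy
      rw [Finset.coe_union, Finset.coe_image]
      rcases hconj y hy with h | h
      · left
        exact hcent y hy h
      · right
        refine ⟨x0⁻¹ * y, ?_, by group⟩
        apply hcent _ (D0.mul_mem (D0.inv_mem hx0D) hy)
        calc x0⁻¹ * y * t = x0⁻¹ * (y * t) := by rw [mul_assoc]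
          _ = x0⁻¹ * (-(t * y)) := by rw [h]
          _ = -(x0⁻¹ * t) * y := by simp [mul_assoc]
          _ = t * (x0⁻¹ * y) := by rw [e1, neg_neg, mul_assoc]
    have h8 : (S1 ∪ S1.image (fun c => x0 * c)).card ≤ 8 := by
      calc (S1 ∪ S1.image (fun c => x0 * c)).card ≤ S1.card + (S1.image (fun c => x0 * c)).card :=
            Finset.card_union_le _ _
        _ ≤ 4 + 4 := Nat.add_le_add Finset.card_le_four
            (Finset.card_image_le.trans Finset.card_le_four)
    have := (card_le_of_subset_finset D0 _ hsub).trans h8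
    omega

end gl2

end Cfsg.Agent.Lib.Helper44
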