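import Mathlib
import Cfsg.Agent.Lib.Helper44.GLSylowWr
import Cfsg.Agent.Lib.Helper44.GLTwoNormal

set_option autoImplicit false

/-! The normal `2`-rank of a Sylow `2`-subgroup of `GL_n(q)`, `q` odd. -/

namespace Cfsg.Agent.Lib.Helper44

open Matrix Equiv

section facts

variable {F : Type*} [Field F] [Fintype F]

lemma comm_of_sq_eq_one {G : Type*} [Group G] (H : Subgroup G) (h : ∀ x ∈ H, x ^ 2 = 1) :
    ∀ x ∈ H, ∀ y ∈ H, x * y = y * x := by
  have hinv : ∀ x ∈ H, x⁻¹ = x := fun x hx =>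
    inv_eq_of_mul_eq_one_right (by rw [← sq]; exact h x hx)
  intro x hx y hy
  calc x * y = (x * y)⁻¹ := (hinv _ (H.mul_mem hx hy)).symm
    _ = y⁻¹ * x⁻¹ := mul_inv_rev x y
    _ = y * x := by rw [hinv x hx, hinv y hy]

omit [Fintype F] in
/-- the central subgroup `{±1}` inside a Sylow `2`-subgroup of `GL_e(F)` -/
lemma negOne_facts {e : ℕ} [NeZero e] (h2 : (2 : F) ≠ 0) (D0 : Sylow 2 (GL (Fin e) F)) :
    ∃ Zc : Subgroup (GL (Fin e) F), Zc ≤ (D0 : Subgroup (GL (Fin e) F)) ∧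
      (D0 : Subgroup (GL (Fin e) F)) ≤ Subgroup.normalizer (Zc : Set (GL (Fin e) F)) ∧
      (∀ x ∈ Zc, ∀ y ∈ Zc, x * y = y * x) ∧ (∀ x ∈ Zc, x ^ 2 = 1) ∧ Nat.card Zc = 2 := by
  set N := Subgroup.zpowers (-1 : GL (Fin e) F) with hN
  have hsq : (-1 : GL (Fin e) F) ^ 2 = 1 := by simp
  have hcent : ∀ x ∈ N, ∀ k : GL (Fin e) F, k * x * k⁻¹ = x := by
    intro x hx k
    obtain ⟨j, rfl⟩ := Subgroup.mem_zpowers_iff.mp hx
    have hc : Commute k (-1 : GL (Fin e) F) := by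
      change k * -1 = -1 * k
      simp
    rw [(hc.zpow_right j).eq, mul_assoc, mul_inv_cancel, mul_one]
  have hexp : ∀ x ∈ N, x ^ 2 = 1 := by
    intro x hx
    obtain ⟨j, rfl⟩ := Subgroup.mem_zpowers_iff.mp hx
    rw [← zpow_natCast, ← _root_.zpow_mul, mul_comm, _root_.zpow_mul, zpow_natCast, hsq,
      _root_.one_zpow]
  have hNp : IsPGroup 2 N := by
    rintro ⟨x, hx⟩
    refine ⟨1, Subtype.ext ?_⟩
    simp only [pow_one, Subgroup.coe_pow, Subgroup.coe_one]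
    exact hexp x hx
  have hnorm : (D0 : Subgroup (GL (Fin e) F)) ≤ Subgroup.normalizer (N : Set (GL (Fin e) F)) := by
    apply le_normalizer_of_conj_mem
    intro k _ x hx
    rw [hcent x hx k]
    exact hx
  have hle : N ≤ (D0 : Subgroup (GL (Fin e) F)) := by
    have hsup : IsPGroup 2 (N ⊔ (D0 : Subgroup (GL (Fin e) F)) : Subgroup (GL (Fin e) F)) :=
      IsPGroup.to_sup_of_normal_left' hNp D0.isPGroup' hnorm
    have := D0.is_maximal' hsup le_sup_right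
    rw [← this]
    exact le_sup_left
  refine ⟨N, hle, hnorm, ?_, hexp, ?_⟩
  · intro x _ y hy
    have := hcent y hy x
    rw [mul_inv_eq_iff_eq_mul] at this
    exact this
  · rw [hN, Nat.card_zpowers]
    apply orderOf_eq_prime hsq
    intro h
    have h' := congrArg (fun u : GL (Fin e) F => (u : Matrix (Fin e) (Fin e) F) 0 0) h
    simp only [Units.val_neg, Units.val_one, Matrix.neg_apply, Matrix.one_apply_eq] at h'
    apply h2
    linear_combination -h'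

/-- Sylow `2`-subgroups of `GL_r(q)`, `r ≤ 1` -/
lemma sylow_gl_small {q : ℕ} (hF : Fintype.card F = q) (hodd : Odd q) {r : ℕ} (hr : r ≤ 1)
    (hv : r = 0 ∨ padicValNat 2 (q - 1) = 1) (Z0 : Sylow 2 (GL (Fin r) F)) :
    Nat.card (Z0 : Subgroup (GL (Fin r) F)) = 2 ^ r ∧
      (∀ x ∈ (Z0 : Subgroup (GL (Fin r) F)), ∀ y ∈ (Z0 : Subgroup (GL (Fin r) F)),
        x * y = y * x) ∧
      (∀ x ∈ (Z0 : Subgroup (GL (Fin r) F)), x ^ 2 = 1) := by
  have hcard : Nat.card (Z0 : Subgroup (GL (Fin r) F)) = 2 ^ r := by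
    rw [Sylow.card_eq_multiplicity Z0, Nat.factorization_def _ Nat.prime_two,
      padicVal_two_card_GL hF hodd r]
    congr 1
    rcases hv with rfl | hv
    · simp
    · rw [hv]
      interval_cases r <;> simp
  have hexp : ∀ x ∈ (Z0 : Subgroup (GL (Fin r) F)), x ^ 2 = 1 := by
    intro x hx
    have h1 : (⟨x, hx⟩ : ↥(Z0 : Subgroup (GL (Fin r) F))) ^
        Nat.card (Z0 : Subgroup (GL (Fin r) F)) = 1 := pow_card_eq_one'
    rw [hcard] at h1
    have h2 : x ^ (2 ^ r) = 1 := by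
      have := congrArg Subtype.val h1
      simpa using this
    interval_cases r
    · simp at h2
      rw [h2, one_pow]
    · simpa using h2
  exact ⟨hcard, comm_of_sq_eq_one _ hexp, hexp⟩

lemma sixteen_le_card_sylow_GL_two {q : ℕ} (hF : Fintype.card F = q) (hodd : Odd q)
    (D0 : Sylow 2 (GL (Fin 2) F)) : 16 ≤ Nat.card (D0 : Subgroup (GL (Fin 2) F)) := by
  have hq1 : 1 < q := by
    rw [← hF]
    exact Fintype.one_lt_card
  rw [Sylow.card_eq_multiplicity D0, Nat.factorization_def _ Nat.prime_two,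
    padicVal_two_card_GL_two hF hodd]
  have h3 := three_le_padicVal_sq_sub_one hodd hq1
  have h1 : 1 ≤ padicValNat 2 (q - 1) := by
    have hd : 2 ∣ q - 1 := by
      obtain ⟨c, hc⟩ := hodd
      exact ⟨c, by omega⟩
    exact one_le_padicValNat_of_dvd (by omega) hd
  calc 16 = 2 ^ 4 := by norm_num
    _ ≤ 2 ^ (padicValNat 2 (q - 1) + padicValNat 2 (q ^ 2 - 1)) :=
      Nat.pow_le_pow_right (by norm_num) (by omega)

lemma padicVal_sub_one_of_mod_four {q : ℕ} (hq : q % 4 = 3) : padicValNat 2 (q - 1) = 1 := by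
  obtain ⟨c, hc⟩ : ∃ c, q - 1 = 2 * (2 * c + 1) := ⟨q / 4, by omega⟩
  rw [hc, padicValNat.mul (a := 2) (b := 2 * c + 1) (by norm_num) (by omega),
    padicValNat.eq_zero_of_not_dvd (n := 2 * c + 1) (by omega)]
  simp

end facts

section main

variable {F : Type*} [Field F] [Fintype F]

/-- **Normal `2`-rank of the Sylow `2`-subgroups of `GL_n(q)`**, `q` odd: it is `n` for
`q ≡ 1 mod 4` and `⌊(n + 1) / 2⌋` for `q ≡ 3 mod 4`. -/
theorem normal_two_rank_GL {q : ℕ} (hF : Fintype.card F = q) (hodd : Odd q) (n : ℕ)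
    (S : Sylow 2 (GL (Fin n) F)) :
    (q % 4 = 1 → ((∃ E : Subgroup ↥(S : Subgroup (GL (Fin n) F)), E.Normal ∧
        Cfsg.IsElementaryAbelian 2 E ∧ 2 ^ n ≤ Nat.card ↥E) ∧
      ∀ E : Subgroup ↥(S : Subgroup (GL (Fin n) F)), E.Normal →
        Cfsg.IsElementaryAbelian 2 E → Nat.card ↥E ≤ 2 ^ n)) ∧
    (q % 4 = 3 → ((∃ E : Subgroup ↥(S : Subgroup (GL (Fin n) F)), E.Normal ∧
        Cfsg.IsElementaryAbelian 2 E ∧ 2 ^ ((n + 1) / 2) ≤ Nat.card ↥E) ∧
      ∀ E : Subgroup ↥(S : Subgroup (GL (Fin n) F)), E.Normal →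
        Cfsg.IsElementaryAbelian 2 E → Nat.card ↥E ≤ 2 ^ ((n + 1) / 2))) := by
  classical
  have h2 : (2 : F) ≠ 0 := by
    have hchar : ringChar F ≠ 2 := by
      intro h
      have := FiniteField.even_card_of_char_two h
      rcases hodd with ⟨c, hc⟩
      omega
    exact Ring.two_ne_zero hchar
  constructor
  · intro hq
    obtain ⟨D0⟩ : Nonempty (Sylow 2 (GL (Fin 1) F)) := Sylow.nonempty
    obtain ⟨T⟩ : Nonempty (Sylow 2 (Perm (Fin n))) := Sylow.nonempty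
    obtain ⟨Z0⟩ : Nonempty (Sylow 2 (GL (Fin 0) F)) := Sylow.nonempty
    obtain ⟨φ, hφ, hS⟩ := sylow_eq_map_wr (e := 1) (m := n) (r := 0) (by ring)
      (hval_one hF hq n) D0 T Z0 S
    obtain ⟨Zc, hZD, hZN, hZc, hZe, hZcard⟩ := negOne_facts h2 D0
    obtain ⟨hZ0card, hZ0c, hZ0e⟩ := sylow_gl_small hF hodd (r := 0) (by omega) (Or.inl rfl) Z0
    have hex := (wr_hasNE n 2 (D0 : Subgroup (GL (Fin 1) F)) (T : Subgroup (Perm (Fin n)))
      (Z0 : Subgroup (GL (Fin 0) F)) Zc hZD hZN hZc hZe hZ0c hZ0e).map φ hφ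
    rw [← hS, hZcard, hZ0card] at hex
    constructor
    · obtain ⟨E, h1, h2, h3⟩ := hex.to_sub
      exact ⟨E, h1, h2, by simpa using h3⟩
    · intro E hE hel
      have hb : NEBound 2 (S : Subgroup (GL (Fin n) F)) (2 ^ n) :=
        fun E' _ _ hc he => gl_elab_card_le h2 n E' hc he
      exact hb.to_sub E hE hel
  · intro hq
    obtain ⟨m, r, hr, rfl⟩ : ∃ m r, r ≤ 1 ∧ n = 2 * m + r :=
      ⟨n / 2, n % 2, by omega, by omega⟩
    have hq4 : 4 ∣ Fintype.card F + 1 := by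
      rw [hF]
      omega
    obtain ⟨D0⟩ : Nonempty (Sylow 2 (GL (Fin 2) F)) := Sylow.nonempty
    obtain ⟨T⟩ : Nonempty (Sylow 2 (Perm (Fin m))) := Sylow.nonempty
    obtain ⟨Z0⟩ : Nonempty (Sylow 2 (GL (Fin r) F)) := Sylow.nonempty
    obtain ⟨φ, hφ, hS⟩ := sylow_eq_map_wr (e := 2) (m := m) (r := r) rfl
      (hval_two hF hodd m r hr) D0 T Z0 S
    obtain ⟨Zc, hZD, hZN, hZc, hZe, hZcard⟩ := negOne_facts h2 D0
    have hv := padicVal_sub_one_of_mod_four hq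
    obtain ⟨hZ0card, hZ0c, hZ0e⟩ := sylow_gl_small hF hodd hr (Or.inr hv) Z0
    have h16 := sixteen_le_card_sylow_GL_two hF hodd D0
    have hd := gl2_exists_sq_ne_one h2 (D0 : Subgroup (GL (Fin 2) F)) (by omega)
    have hA := gl2_neBound hq4 (D0 : Subgroup (GL (Fin 2) F)) D0.isPGroup' h16
    have hbd := (wr_neBound m 2 2 (D0 : Subgroup (GL (Fin 2) F)) (T : Subgroup (Perm (Fin m)))
      (Z0 : Subgroup (GL (Fin r) F)) hd hA).map φ hφ
    have hex := (wr_hasNE m 2 (D0 : Subgroup (GL (Fin 2) F)) (T : Subgroup (Perm (Fin m)))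
      (Z0 : Subgroup (GL (Fin r) F)) Zc hZD hZN hZc hZe hZ0c hZ0e).map φ hφ
    rw [← hS, hZ0card] at hbd
    rw [← hS, hZcard, hZ0card] at hex
    have e : (2 * m + r + 1) / 2 = m + r := by omega
    rw [e, pow_add]
    exact ⟨hex.to_sub, fun E hE hel => hbd.to_sub E hE hel⟩

end main

end Cfsg.Agent.Lib.Helper44
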