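import Mathlib
import Cfsg.Agent.Lib.Helper46.SylowGLNum

set_option autoImplicit false

/-! The `p`-part of `|GL_n(q)|` for an odd prime `p ∤ q`, and an abelian Sylow subgroup of
`GL_e(q)`, `e` the order of `q` modulo `p`. -/

namespace Cfsg.Agent.Lib.Helper44

open Finset

section num

variable {p q : ℕ} [hp : Fact p.Prime]

lemma padicVal_pow_mul_sub_one (hp1 : Odd p) (hq2 : 2 ≤ q) (hpq : ¬ p ∣ q) (t : ℕ) (ht : t ≠ 0) :
    padicValNat p (q ^ (orderOf (q : ZMod p) * t) - 1) =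
      padicValNat p (q ^ orderOf (q : ZMod p) - 1) + padicValNat p t := by
  set e := orderOf (q : ZMod p) with he
  have he0 : 0 < e := Cfsg.Agent.Lib.Helper46.orderOf_zmod_pos hpq
  have h1 : 1 < q ^ e := Nat.one_lt_pow (by omega) (by omega)
  have h2 : p ∣ q ^ e - 1 :=
    (Cfsg.Agent.Lib.Helper46.dvd_pow_sub_one_iff (by omega) e).mpr dvd_rfl
  have h3 : ¬ p ∣ q ^ e := fun h => hpq (hp.out.dvd_of_dvd_pow h)
  have := padicValNat.pow_sub_pow hp1 h1 h2 h3 ht
  rwa [one_pow, ← pow_mul] at this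

lemma padicVal_prod_range (hp1 : Odd p) (hq2 : 2 ≤ q) (hpq : ¬ p ∣ q) (n : ℕ) :
    padicValNat p (∏ j ∈ range n, (q ^ (j + 1) - 1)) =
      (n / orderOf (q : ZMod p)) * padicValNat p (q ^ orderOf (q : ZMod p) - 1) +
        padicValNat p (n / orderOf (q : ZMod p)).factorial := by
  set e := orderOf (q : ZMod p) with he
  have he0 : 0 < e := Cfsg.Agent.Lib.Helper46.orderOf_zmod_pos hpq
  have hne : ∀ j, q ^ (j + 1) - 1 ≠ 0 := by
    intro j
    have : 1 < q ^ (j + 1) := Nat.one_lt_pow (by omega) (by omega)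
    omega
  induction n with
  | zero => simp
  | succ n ih =>
    rw [prod_range_succ, padicValNat.mul (prod_ne_zero_iff.2 fun j _ => hne j) (hne n), ih]
    by_cases hd : e ∣ n + 1
    · obtain ⟨t, ht⟩ := hd
      have ht0 : t ≠ 0 := by
        rintro rfl
        omega
      obtain ⟨s, rfl⟩ : ∃ s, t = s + 1 := ⟨t - 1, by omega⟩
      have h1 : (n + 1) / e = s + 1 := by rw [ht, Nat.mul_div_cancel_left _ he0]
      have h2 : n / e = s := by
        apply Nat.div_eq_of_lt_le
        · nlinarith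
        · nlinarith
      rw [h1, h2, ht, padicVal_pow_mul_sub_one hp1 hq2 hpq (s + 1) (by omega),
        Nat.factorial_succ, padicValNat.mul (by omega) (Nat.factorial_ne_zero s)]
      ring
    · have h1 : (n + 1) / e = n / e := Nat.succ_div_of_not_dvd hd
      have h2 : padicValNat p (q ^ (n + 1) - 1) = 0 :=
        padicValNat.eq_zero_of_not_dvd
          (mt (Cfsg.Agent.Lib.Helper46.dvd_pow_sub_one_iff (by omega) (n + 1)).mp hd)
      rw [h1, h2, add_zero]

lemma padicVal_card_GL {F : Type*} [Field F] [Fintype F] (hp1 : Odd p) (hF : Fintype.card F = q)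
    (hpq : ¬ p ∣ q) (n : ℕ) :
    padicValNat p (Nat.card (GL (Fin n) F)) =
      (n / orderOf (q : ZMod p)) * padicValNat p (q ^ orderOf (q : ZMod p) - 1) +
        padicValNat p (n / orderOf (q : ZMod p)).factorial := by
  have hq2 : 2 ≤ q := by rw [← hF]; exact Fintype.one_lt_card
  rw [Matrix.card_GL_field, hF, ← padicVal_prod_range hp1 hq2 hpq n]
  have h1 : ∏ i : Fin n, (q ^ n - q ^ (i : ℕ)) = ∏ i ∈ range n, (q ^ n - q ^ i) :=
    (Finset.prod_range (fun i => q ^ n - q ^ i)).symm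
  have h2 : ∏ i ∈ range n, (q ^ n - q ^ i)
      = (∏ i ∈ range n, q ^ i) * ∏ i ∈ range n, (q ^ (n - 1 - i + 1) - 1) := by
    rw [← prod_mul_distrib]
    apply prod_congr rfl
    intro i hi
    rw [mem_range] at hi
    have : n = i + (n - 1 - i + 1) := by omega
    conv_lhs => rw [this, pow_add]
    rw [Nat.mul_sub, mul_one]
  have h3 : ∏ i ∈ range n, (q ^ (n - 1 - i + 1) - 1) = ∏ j ∈ range n, (q ^ (j + 1) - 1) :=
    Finset.prod_range_reflect (fun j => q ^ (j + 1) - 1) n
  have hq0 : ∏ i ∈ range n, q ^ i ≠ 0 := prod_ne_zero_iff.2 fun i _ => pow_ne_zero _ (by omega)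
  have hne : ∀ j, q ^ (j + 1) - 1 ≠ 0 := by
    intro j
    have : 1 < q ^ (j + 1) := Nat.one_lt_pow (by omega) (by omega)
    omega
  have hrq' : ¬ p ∣ ∏ i ∈ range n, q ^ i := by
    intro h
    obtain ⟨i, _, hi⟩ := (Prime.dvd_finsetProd_iff (Nat.prime_iff.1 hp.out) _).1 h
    exact hpq (hp.out.dvd_of_dvd_pow hi)
  rw [h1, h2, h3, padicValNat.mul hq0 (prod_ne_zero_iff.2 fun j _ => hne j),
    padicValNat.eq_zero_of_not_dvd hrq', zero_add]

end num

section singer

variable {F : Type*} [Field F] [Fintype F]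

/-- a Singer cycle -/
lemma exists_singer_GL (d : ℕ) (hd : 1 ≤ d) :
    ∃ g : GL (Fin d) F, orderOf g = Fintype.card F ^ d - 1 := by
  classical
  obtain ⟨p, hp⟩ := CharP.exists F
  haveI : Fact p.Prime := ⟨CharP.char_is_prime F p⟩
  haveI : NeZero d := ⟨by omega⟩
  let K := FiniteField.Extension F p d
  have hfr : Module.finrank F K = d := FiniteField.finrank_extension F p d
  let b : Module.Basis (Fin d) F K := Module.finBasisOfFinrankEq F K hfr
  haveI : Fintype K := Fintype.ofFinite K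
  obtain ⟨ζ, hζ⟩ := IsCyclic.exists_generator (α := Kˣ)
  have hordζ : orderOf ζ = Fintype.card F ^ d - 1 := by
    rw [orderOf_eq_card_of_forall_mem_zpowers hζ, Nat.card_eq_fintype_card, Fintype.card_units,
      ← Nat.card_eq_fintype_card, FiniteField.natCard_extension, Nat.card_eq_fintype_card]
  let φ : Kˣ →* GL (Fin d) F :=
    Units.map ((Algebra.leftMulMatrix b : K →ₐ[F] Matrix (Fin d) (Fin d) F) :
      K →* Matrix (Fin d) (Fin d) F)
  have hφ : Function.Injective φ := Units.map_injective (Algebra.leftMulMatrix_injective b)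
  exact ⟨φ ζ, by rw [orderOf_injective φ hφ, hordζ]⟩

/-- an abelian subgroup of `GL_d(F)` of order the `p`-part of `q^d - 1` -/
lemma exists_abelian_pgroup_GL (p : ℕ) [hp : Fact p.Prime] (d : ℕ) (hd : 1 ≤ d) :
    ∃ S : Subgroup (GL (Fin d) F), (∀ a ∈ S, ∀ b ∈ S, a * b = b * a) ∧
      Nat.card S = p ^ padicValNat p (Fintype.card F ^ d - 1) := by
  obtain ⟨g, hg⟩ := exists_singer_GL (F := F) d hd
  have hpos : Fintype.card F ^ d - 1 ≠ 0 := by
    have : 1 < Fintype.card F ^ d := Nat.one_lt_pow (by omega) Fintype.one_lt_card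
    omega
  set a := padicValNat p (Fintype.card F ^ d - 1) with ha
  have hdvd : p ^ a ∣ Fintype.card F ^ d - 1 := pow_padicValNat_dvd
  obtain ⟨c, hc⟩ := hdvd
  have hc0 : c ≠ 0 := by
    rintro rfl
    rw [mul_zero] at hc
    exact hpos hc
  refine ⟨Subgroup.zpowers (g ^ c), ?_, ?_⟩
  · rintro x ⟨k, rfl⟩ y ⟨l, rfl⟩
    exact zpow_mul_comm _ k l
  · rw [Nat.card_zpowers, orderOf_pow_of_dvd hc0 (by rw [hg, hc]; exact dvd_mul_left c _), hg, hc,
      Nat.mul_div_cancel _ (Nat.pos_of_ne_zero hc0)]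

end singer

end Cfsg.Agent.Lib.Helper44
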