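import Mathlib

set_option autoImplicit false

namespace Cfsg.Agent.Lib.Helper44

/-- `x` is a `p`-element: some `p`-power of it is trivial -/
def IsPElem (p : ℕ) {G : Type*} [Monoid G] (x : G) : Prop := ∃ k : ℕ, x ^ (p ^ k) = 1

lemma IsPElem.map {p : ℕ} {G H : Type*} [Monoid G] [Monoid H] (f : G →* H) {x : G}
    (h : IsPElem p x) : IsPElem p (f x) := by
  obtain ⟨k, hk⟩ := h
  exact ⟨k, by rw [← map_pow, hk, map_one]⟩

lemma IsPElem.of_map_injective {p : ℕ} {G H : Type*} [Monoid G] [Monoid H] (f : G →* H)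
    (hf : Function.Injective f) {x : G} (h : IsPElem p (f x)) : IsPElem p x := by
  obtain ⟨k, hk⟩ := h
  exact ⟨k, hf (by rw [map_pow, hk, map_one])⟩

/-- a Sylow subgroup of the preimage of a `p`-subgroup maps onto it -/
lemma sylow_comap_map {p : ℕ} [Fact p.Prime] {A Q : Type*} [Group A] [Finite A] [Group Q]
    (f : A →* Q) (hf : Function.Surjective f) (U : Subgroup Q) (hU : IsPGroup p U)
    (P : Sylow p ↥(U.comap f)) :
    ((P : Subgroup ↥(U.comap f)).map (U.comap f).subtype).map f = U := by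
  classical
  have hf' : Function.Surjective (f.subgroupComap U) :=
    f.subgroupComap_surjective_of_surjective U hf
  have : Finite ↥U := Finite.of_surjective _ hf'
  have h1 : ((P : Subgroup ↥(U.comap f)).map (f.subgroupComap U)).index ∣
      (P : Subgroup ↥(U.comap f)).index := Subgroup.index_map_dvd _ hf'
  have h2 : ¬ p ∣ (P : Subgroup ↥(U.comap f)).index := P.not_dvd_index
  have h3 : ((P : Subgroup ↥(U.comap f)).map (f.subgroupComap U)).index ∣ Nat.card ↥U :=
    Subgroup.index_dvd_card _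
  obtain ⟨n, hn⟩ := IsPGroup.iff_card.1 hU
  rw [hn] at h3
  obtain ⟨j, _, hj⟩ := (Nat.dvd_prime_pow Fact.out).1 h3
  have hj0 : j = 0 := by
    by_contra hne
    apply h2
    refine dvd_trans ?_ h1
    rw [hj]
    exact dvd_pow_self p hne
  rw [hj0, pow_zero, Subgroup.index_eq_one] at hj
  ext x
  constructor
  · rintro ⟨a, ⟨y, _, rfl⟩, rfl⟩
    exact y.2
  · intro hx
    have : (⟨x, hx⟩ : ↥U) ∈ (P : Subgroup ↥(U.comap f)).map (f.subgroupComap U) := by
      rw [hj]; trivial
    obtain ⟨y, hy, hyx⟩ := this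
    refine ⟨y.1, ⟨y, hy, rfl⟩, ?_⟩
    exact congrArg Subtype.val hyx

/-- `p`-elements lift to `p`-elements along surjections from finite groups -/
lemma lift_pElem {p : ℕ} [Fact p.Prime] {A Q : Type*} [Group A] [Finite A] [Group Q]
    (f : A →* Q) (hf : Function.Surjective f) (x : Q) (hx : IsPElem p x) :
    ∃ a : A, IsPElem p a ∧ f a = x := by
  classical
  obtain ⟨k, hk⟩ := hx
  have hU : IsPGroup p ↥(Subgroup.zpowers x) := by
    rintro ⟨y, hy⟩
    obtain ⟨j, rfl⟩ := Subgroup.mem_zpowers_iff.1 hy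
    refine ⟨k, Subtype.ext ?_⟩
    show (x ^ j) ^ (p ^ k) = 1
    rw [← zpow_natCast, ← zpow_mul, mul_comm, zpow_mul, zpow_natCast, hk, one_zpow]
  obtain ⟨P⟩ : Nonempty (Sylow p ↥((Subgroup.zpowers x).comap f)) := inferInstance
  have hmap := sylow_comap_map f hf (Subgroup.zpowers x) hU P
  have hx' : x ∈ Subgroup.zpowers x := Subgroup.mem_zpowers x
  rw [← hmap] at hx'
  obtain ⟨a, ⟨y, hy, rfl⟩, hax⟩ := hx'
  refine ⟨_, ?_, hax⟩
  obtain ⟨m, hm⟩ := P.isPGroup' ⟨y, hy⟩
  refine ⟨m, ?_⟩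
  have := congrArg (fun z : ↥(P : Subgroup ↥((Subgroup.zpowers x).comap f)) => ((z : ↥((Subgroup.zpowers x).comap f)) : A)) hm
  simpa using this

/-- If normalizers of nontrivial `p`-subgroups of `G` have their `p`-elements closed under
products, then so does every section of `G` having a nontrivial normal `p`-subgroup. -/
lemma pclosed_of_TI {p : ℕ} [Fact p.Prime] {G X : Type*} [Group G] [Finite G] [Group X]
    (hH : ∀ S : Subgroup G, IsPGroup p S → S ≠ ⊥ →
      ∀ x ∈ Subgroup.normalizer (S : Set G), ∀ y ∈ Subgroup.normalizer (S : Set G),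
        IsPElem p x → IsPElem p y → IsPElem p (x * y))
    (A : Subgroup G) (ψ : ↥A →* X) (hψ : Function.Surjective ψ)
    (V : Subgroup X) [V.Normal] (hV : IsPGroup p V) (hV1 : V ≠ ⊥) :
    ∀ x y : X, IsPElem p x → IsPElem p y → IsPElem p (x * y) := by
  classical
  obtain ⟨P⟩ : Nonempty (Sylow p ↥(V.comap ψ)) := inferInstance
  have hmap := sylow_comap_map ψ hψ V hV P
  have frat := Sylow.normalizer_sup_eq_top P
  set S₀ : Subgroup ↥A := (P : Subgroup ↥(V.comap ψ)).map (V.comap ψ).subtype with hS₀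
  have hS₀p : IsPGroup p S₀ := P.isPGroup'.map _
  have hSp : IsPGroup p (S₀.map A.subtype) := hS₀p.map _
  have hS1 : S₀.map A.subtype ≠ ⊥ := by
    intro h
    rw [Subgroup.map_eq_bot_iff_of_injective _ A.subtype_injective] at h
    apply hV1
    rw [← hmap, h, Subgroup.map_bot]
  have hMN : ∀ m ∈ Subgroup.normalizer (S₀ : Set ↥A),
      (m : G) ∈ Subgroup.normalizer ((S₀.map A.subtype : Subgroup G) : Set G) := by
    intro m hm
    exact Subgroup.le_normalizer_map A.subtype (Subgroup.mem_map_of_mem _ hm)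
  -- ψ restricted to the normalizer is onto
  have hsurj : Function.Surjective (ψ.comp (Subgroup.normalizer (S₀ : Set ↥A)).subtype) := by
    intro x'
    obtain ⟨t, rfl⟩ := hψ x'
    have ht : t ∈ Subgroup.normalizer (S₀ : Set ↥A) ⊔ V.comap ψ := by rw [frat]; trivial
    obtain ⟨m, hm, n, hn, rfl⟩ := Subgroup.mem_sup_of_normal_right.1 ht
    have hn' : ψ n ∈ V := hn
    rw [← hmap] at hn'
    obtain ⟨s, hs, hsn⟩ := hn'
    have hsM : s ∈ Subgroup.normalizer (S₀ : Set ↥A) := Subgroup.le_normalizer hs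
    refine ⟨⟨m * s, mul_mem hm hsM⟩, ?_⟩
    simp only [MonoidHom.coe_comp, Function.comp_apply, Subgroup.coe_subtype, map_mul, hsn]
  intro x y hx hy
  obtain ⟨a, ha, rfl⟩ := lift_pElem _ hsurj x hx
  obtain ⟨b, hb, rfl⟩ := lift_pElem _ hsurj y hy
  rw [← map_mul]
  apply IsPElem.map
  have hinj : Function.Injective (A.subtype.comp (Subgroup.normalizer (S₀ : Set ↥A)).subtype) :=
    A.subtype_injective.comp (Subgroup.subtype_injective _)
  apply IsPElem.of_map_injective _ hinj
  rw [map_mul]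
  exact hH _ hSp hS1 _ (hMN a.1 a.2) _ (hMN b.1 b.2)
    (ha.map (A.subtype.comp (Subgroup.normalizer (S₀ : Set ↥A)).subtype))
    (hb.map (A.subtype.comp (Subgroup.normalizer (S₀ : Set ↥A)).subtype))

end Cfsg.Agent.Lib.Helper44
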