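import Mathlib
import Cfsg.Prelude.Def_LocalEven
import Cfsg.Prelude.Def_Classical
import Cfsg.Agent.Lib.Helper44.PElem

set_option autoImplicit false

namespace Cfsg.Agent.Lib.Helper44
open Matrix

/-- `x ↦ x ^ q` is an involutive field automorphism -/
structure IsFrob (K : Type*) [Field K] (q : ℕ) : Prop where
  add : ∀ x y : K, (x + y) ^ q = x ^ q + y ^ q
  invol : ∀ x : K, (x ^ q) ^ q = x
  ne_zero : q ≠ 0

section herm
variable {K : Type*} [Field K] {q : ℕ} {d : ℕ}

/-- the Frobenius-type map as a ring homomorphism -/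
def IsFrob.hom (F : IsFrob K q) : K →+* K where
  toFun x := x ^ q
  map_one' := one_pow q
  map_mul' x y := mul_pow x y q
  map_zero' := zero_pow F.ne_zero
  map_add' := F.add

lemma IsFrob.hom_apply (F : IsFrob K q) (x : K) : F.hom x = x ^ q := rfl

lemma IsFrob.sub (F : IsFrob K q) (x y : K) : (x - y) ^ q = x ^ q - y ^ q := by
  rw [← F.hom_apply, map_sub]; rfl

lemma IsFrob.sum (F : IsFrob K q) {ι : Type*} (s : Finset ι) (f : ι → K) :
    (∑ i ∈ s, f i) ^ q = ∑ i ∈ s, f i ^ q := by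
  rw [← F.hom_apply, map_sum]; rfl

lemma IsFrob.pow_eq_zero (F : IsFrob K q) {x : K} (h : x ^ q = 0) : x = 0 :=
  pow_eq_zero_iff F.ne_zero |>.1 h

lemma IsFrob.injective (F : IsFrob K q) {x y : K} (h : x ^ q = y ^ q) : x = y := by
  rw [← F.invol x, ← F.invol y, h]

lemma herm_add_left (u u' v : Fin d → K) :
    Cfsg.hermForm d K q (u + u') v = Cfsg.hermForm d K q u v + Cfsg.hermForm d K q u' v := by
  simp only [Cfsg.hermForm, Pi.add_apply, add_mul, Finset.sum_add_distrib]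

lemma herm_sub_left (u u' v : Fin d → K) :
    Cfsg.hermForm d K q (u - u') v = Cfsg.hermForm d K q u v - Cfsg.hermForm d K q u' v := by
  simp only [Cfsg.hermForm, Pi.sub_apply, sub_mul, Finset.sum_sub_distrib]

lemma herm_smul_left (c : K) (u v : Fin d → K) :
    Cfsg.hermForm d K q (c • u) v = c * Cfsg.hermForm d K q u v := by
  simp only [Cfsg.hermForm, Pi.smul_apply, smul_eq_mul, Finset.mul_sum, mul_assoc]

lemma herm_zero_left (v : Fin d → K) : Cfsg.hermForm d K q 0 v = 0 := by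
  simp [Cfsg.hermForm]

lemma herm_add_right (F : IsFrob K q) (u v v' : Fin d → K) :
    Cfsg.hermForm d K q u (v + v') = Cfsg.hermForm d K q u v + Cfsg.hermForm d K q u v' := by
  simp only [Cfsg.hermForm, Pi.add_apply, F.add, mul_add, Finset.sum_add_distrib]

lemma herm_smul_right (c : K) (u v : Fin d → K) :
    Cfsg.hermForm d K q u (c • v) = c ^ q * Cfsg.hermForm d K q u v := by
  simp only [Cfsg.hermForm, Pi.smul_apply, smul_eq_mul, Finset.mul_sum, mul_pow]
  apply Finset.sum_congr rfl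
  intro i _
  ring

lemma herm_zero_right (F : IsFrob K q) (u : Fin d → K) : Cfsg.hermForm d K q u 0 = 0 := by
  simp [Cfsg.hermForm, zero_pow F.ne_zero]

lemma herm_symm (F : IsFrob K q) (u v : Fin d → K) :
    Cfsg.hermForm d K q v u = (Cfsg.hermForm d K q u v) ^ q := by
  simp only [Cfsg.hermForm]
  rw [F.sum]
  apply Finset.sum_congr rfl
  intro i _
  rw [mul_pow, F.invol, mul_comm]

lemma herm_eq_zero_symm (F : IsFrob K q) {u v : Fin d → K} (h : Cfsg.hermForm d K q u v = 0) :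
    Cfsg.hermForm d K q v u = 0 := by
  rw [herm_symm F, h, zero_pow F.ne_zero]

lemma herm_single (F : IsFrob K q) (u : Fin d → K) (i : Fin d) :
    Cfsg.hermForm d K q u (Pi.single i 1) = u i := by
  classical
  simp only [Cfsg.hermForm]
  rw [Finset.sum_eq_single i]
  · simp
  · intro j _ hj
    rw [Pi.single_eq_of_ne hj, zero_pow F.ne_zero, mul_zero]
  · simp

lemma herm_nondeg (F : IsFrob K q) (u : Fin d → K) (h : ∀ v, Cfsg.hermForm d K q u v = 0) : u = 0 := by
  funext i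
  have := h (Pi.single i 1)
  rw [herm_single F] at this
  exact this

end herm

lemma isFrob_of_card {K : Type*} [Field K] [Fintype K] {p : ℕ} [Fact p.Prime] [CharP K p] {n : ℕ}
    (hK : Fintype.card K = (p ^ n) ^ 2) : IsFrob K (p ^ n) where
  add x y := add_pow_char_pow x y p n
  invol x := by rw [← pow_mul, ← sq, ← hK, FiniteField.pow_card]
  ne_zero := pow_ne_zero _ (Fact.out : p.Prime).ne_zero


section ti
variable {K : Type*} [Field K] {q : ℕ}

lemma herm_eq_dot (u v : Fin 3 → K) : Cfsg.hermForm 3 K q u v = u ⬝ᵥ (fun i => v i ^ q) := rfl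

lemma exists_smul_of_cross_eq_zero {c a : Fin 3 → K} (hc : c ≠ 0) (h : c ⨯₃ a = 0) :
    ∃ t : K, t • c = a := by
  by_contra hcon
  push Not at hcon
  have hLI : LinearIndependent K ![c, a] := (LinearIndependent.pair_iff' hc).2 hcon
  exact (crossProduct_ne_zero_iff_linearIndependent.2 hLI) h

lemma ti_dim (F : IsFrob K q) (u u' : Fin 3 → K) (hu : u ≠ 0)
    (h1 : Cfsg.hermForm 3 K q u u = 0) (h2 : Cfsg.hermForm 3 K q u' u = 0)
    (h3 : Cfsg.hermForm 3 K q u u' = 0) (h4 : Cfsg.hermForm 3 K q u' u' = 0) :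
    ∃ c : K, c • u = u' := by
  by_contra hcon
  push Not at hcon
  have hLI : LinearIndependent K ![u, u'] := (LinearIndependent.pair_iff' hu).2 hcon
  have hc : u ⨯₃ u' ≠ 0 := crossProduct_ne_zero_iff_linearIndependent.2 hLI
  rw [herm_eq_dot] at h1 h2 h3 h4
  have e1 : (u ⨯₃ u') ⨯₃ (fun i => u i ^ q) = 0 := by
    rw [← cross_anticomm, cross_cross_eq_smul_sub_smul', dotProduct_comm, h2, h1]
    simp
  have e2 : (u ⨯₃ u') ⨯₃ (fun i => u' i ^ q) = 0 := by
    rw [← cross_anticomm, cross_cross_eq_smul_sub_smul', dotProduct_comm, h4, h3]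
    simp
  obtain ⟨t, ht⟩ := exists_smul_of_cross_eq_zero hc e1
  obtain ⟨t', ht'⟩ := exists_smul_of_cross_eq_zero hc e2
  have e3 : (fun i => u i ^ q) ⨯₃ (fun i => u' i ^ q) = 0 := by
    rw [← ht, ← ht', LinearMap.map_smul₂, map_smul, cross_self, smul_zero, smul_zero]
  have e4 : (fun i => u i ^ q) ⨯₃ (fun i => u' i ^ q) = fun i => (u ⨯₃ u') i ^ q := by
    rw [cross_apply, cross_apply]
    funext i
    fin_cases i <;> simp [F.sub, mul_pow]
  rw [e4] at e3
  apply hc
  funext i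
  exact F.pow_eq_zero (congrFun e3 i)

end ti


section borel
variable {K : Type*} [Field K] {q : ℕ}

/-- the matrix preserves the hermitian form -/
def Pres (q : ℕ) (g : Matrix (Fin 3) (Fin 3) K) : Prop :=
  ∀ u v, Cfsg.hermForm 3 K q (g *ᵥ u) (g *ᵥ v) = Cfsg.hermForm 3 K q u v

/-- flag-unipotent with respect to the isotropic vector `u` -/
def FU (q : ℕ) (u : Fin 3 → K) (g : Matrix (Fin 3) (Fin 3) K) : Prop :=
  g *ᵥ u = u ∧ (∀ v, Cfsg.hermForm 3 K q (g *ᵥ v - v) u = 0) ∧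
    (∀ v, Cfsg.hermForm 3 K q v u = 0 → ∃ c : K, g *ᵥ v - v = c • u)

lemma FU.mul {u : Fin 3 → K} (hu : Cfsg.hermForm 3 K q u u = 0) {g g' : Matrix (Fin 3) (Fin 3) K}
    (hg : FU q u g) (hg' : FU q u g') : FU q u (g * g') := by
  obtain ⟨a1, a2, a3⟩ := hg
  obtain ⟨b1, b2, b3⟩ := hg'
  refine ⟨?_, ?_, ?_⟩
  · rw [← Matrix.mulVec_mulVec, b1, a1]
  · intro v
    have : (g * g') *ᵥ v - v = (g *ᵥ (g' *ᵥ v) - g' *ᵥ v) + (g' *ᵥ v - v) := by
      rw [← Matrix.mulVec_mulVec]; abel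
    rw [this, herm_add_left, a2, b2, add_zero]
  · intro v hv
    obtain ⟨c, hc⟩ := b3 v hv
    have hv' : Cfsg.hermForm 3 K q (g' *ᵥ v) u = 0 := by
      have : g' *ᵥ v = v + c • u := by rw [← hc]; abel
      rw [this, herm_add_left, herm_smul_left, hv, hu, mul_zero, add_zero]
    obtain ⟨c', hc'⟩ := a3 _ hv'
    refine ⟨c' + c, ?_⟩
    have : (g * g') *ᵥ v - v = (g *ᵥ (g' *ᵥ v) - g' *ᵥ v) + (g' *ᵥ v - v) := by
      rw [← Matrix.mulVec_mulVec]; abel
    rw [this, hc, hc', add_smul]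

lemma FU.sub_one_pow {u : Fin 3 → K} {g : Matrix (Fin 3) (Fin 3) K} (hg : FU q u g) :
    (g - 1) ^ 3 = 0 := by
  obtain ⟨a1, a2, a3⟩ := hg
  have key : ∀ v, ((g - 1) ^ 3) *ᵥ v = 0 := by
    intro v
    have e : ∀ w, (g - 1) *ᵥ w = g *ᵥ w - w := fun w => by rw [Matrix.sub_mulVec, Matrix.one_mulVec]
    rw [pow_succ, pow_succ, pow_one, ← Matrix.mulVec_mulVec, ← Matrix.mulVec_mulVec, e v]
    obtain ⟨c, hc⟩ := a3 _ (a2 v)
    rw [e (g *ᵥ v - v), hc, e, Matrix.mulVec_smul, a1, sub_self]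
  ext i j
  have := congrFun (key (Pi.single j 1)) i
  simpa using this

lemma FU.pow_p {p : ℕ} [Fact p.Prime] [CharP K p] (hp : p ≠ 2) {u : Fin 3 → K}
    {g : Matrix (Fin 3) (Fin 3) K} (hg : FU q u g) : g ^ p = 1 := by
  have hp3 : 3 ≤ p := by
    have := (Fact.out : p.Prime).two_le
    omega
  have hNp : (g - 1) ^ p = 0 := pow_eq_zero_of_le hp3 hg.sub_one_pow
  have hc : Commute g 1 := Commute.one_right _
  have := sub_pow_char_of_commute (p := p) hc
  rw [hNp, one_pow] at this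
  exact sub_eq_zero.1 this.symm

/-- the linear functional `h(·, u)` -/
def hl (q : ℕ) (u : Fin 3 → K) : (Fin 3 → K) →ₗ[K] K where
  toFun v := Cfsg.hermForm 3 K q v u
  map_add' := fun v v' => herm_add_left v v' u
  map_smul' := fun c v => by simp [herm_smul_left]

lemma pow_mulVec_eigen (x : Matrix (Fin 3) (Fin 3) K) (u : Fin 3 → K) (lam : K)
    (h : x *ᵥ u = lam • u) (j : ℕ) : (x ^ j) *ᵥ u = lam ^ j • u := by
  induction j with
  | zero => simp
  | succ j ih => rw [pow_succ, ← Matrix.mulVec_mulVec, h, Matrix.mulVec_smul, ih, smul_smul, pow_succ, mul_comm]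

lemma eq_one_of_pow_char_pow {p : ℕ} [Fact p.Prime] [CharP K p] (k : ℕ) (m : K)
    (h : m ^ (p ^ k) = 1) : m = 1 := by
  have : (m - 1) ^ (p ^ k) = 0 := by rw [sub_pow_char_pow, h, one_pow, sub_self]
  exact sub_eq_zero.1 (pow_eq_zero_iff (pow_ne_zero _ (Fact.out : p.Prime).ne_zero) |>.1 this)

lemma FU_of_pElem {p : ℕ} [Fact p.Prime] [CharP K p] (F : IsFrob K q) (u : Fin 3 → K)
    (hu0 : u ≠ 0) (hu : Cfsg.hermForm 3 K q u u = 0) (x : Matrix (Fin 3) (Fin 3) K)
    (hx : Pres q x) (k : ℕ) (hxk : x ^ (p ^ k) = 1) (lam : K) (hxu : x *ᵥ u = lam • u) :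
    FU q u x := by
  -- step 1: lam = 1
  have hlam : lam = 1 := by
    have h1 := pow_mulVec_eigen x u lam hxu (p ^ k)
    rw [hxk, Matrix.one_mulVec] at h1
    have h2 : (lam ^ (p ^ k) - 1) • u = 0 := by rw [sub_smul, ← h1, one_smul, sub_self]
    rcases smul_eq_zero.1 h2 with h3 | h3
    · exact eq_one_of_pow_char_pow k lam (sub_eq_zero.1 h3)
    · exact absurd h3 hu0
  rw [hlam, one_smul] at hxu
  have hpres : ∀ v, Cfsg.hermForm 3 K q (x *ᵥ v) u = Cfsg.hermForm 3 K q v u := by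
    intro v
    have := hx v u
    rwa [hxu] at this
  refine ⟨hxu, ?_, ?_⟩
  · intro v
    rw [herm_sub_left, hpres, sub_self]
  -- step 3
  have hl0 : hl q u ≠ 0 := by
    intro h
    apply hu0
    apply herm_nondeg F
    intro v
    apply herm_eq_zero_symm F
    exact LinearMap.congr_fun h v
  have hfin : Module.finrank K (LinearMap.ker (hl q u)) = 2 := by
    have := Module.Dual.finrank_ker_add_one_of_ne_zero hl0
    rw [Module.finrank_fin_fun] at this
    omega
  have huker : u ∈ LinearMap.ker (hl q u) := hu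
  obtain ⟨e, heker, hespan⟩ : ∃ e ∈ LinearMap.ker (hl q u), e ∉ Submodule.span K {u} := by
    by_contra hcon
    push Not at hcon
    have hle : LinearMap.ker (hl q u) ≤ Submodule.span K {u} := hcon
    have h1 := Submodule.finrank_mono hle
    have h2 : Module.finrank K (Submodule.span K {u}) ≤ 1 := by
      rw [finrank_span_singleton hu0]
    omega
  have hLI : LinearIndependent K ![u, e] := by
    rw [LinearIndependent.pair_iff' hu0]
    intro a ha
    exact hespan (ha ▸ Submodule.smul_mem _ a (Submodule.mem_span_singleton_self u))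
  have hspan : Submodule.span K {u, e} = LinearMap.ker (hl q u) := by
    apply Submodule.eq_of_le_of_finrank_eq
    · rw [Submodule.span_le]
      intro z hz
      rcases hz with rfl | rfl
      · exact huker
      · exact heker
    · rw [hfin]
      have h5 := finrank_span_eq_card hLI
      have h6 : Set.range ![u, e] = {u, e} := by
        simp [Matrix.range_cons, Set.pair_comm]
      rw [h6] at h5
      rw [h5]
      rfl
  have hxker : ∀ v ∈ LinearMap.ker (hl q u), x *ᵥ v ∈ LinearMap.ker (hl q u) := by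
    intro v hv
    show Cfsg.hermForm 3 K q (x *ᵥ v) u = 0
    rw [hpres]
    exact hv
  have hxe := hxker e heker
  rw [← hspan, Submodule.mem_span_pair] at hxe
  obtain ⟨α, μ, hαμ⟩ := hxe
  have hpow : ∀ j : ℕ, ∃ αj : K, (x ^ j) *ᵥ e = αj • u + μ ^ j • e := by
    intro j
    induction j with
    | zero => exact ⟨0, by simp⟩
    | succ j ih =>
      obtain ⟨αj, hαj⟩ := ih
      refine ⟨αj + μ ^ j * α, ?_⟩
      rw [pow_succ', ← Matrix.mulVec_mulVec, hαj, Matrix.mulVec_add, Matrix.mulVec_smul,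
        Matrix.mulVec_smul, hxu, ← hαμ, smul_add, smul_smul, smul_smul, pow_succ, add_smul]
      abel
  have hμ : μ = 1 := by
    obtain ⟨α', hα'⟩ := hpow (p ^ k)
    rw [hxk, Matrix.one_mulVec] at hα'
    by_contra hne
    have hne' : 1 - μ ^ (p ^ k) ≠ 0 := by
      intro h
      apply hne
      exact eq_one_of_pow_char_pow k μ (sub_eq_zero.1 h).symm
    apply hespan
    have h3 : (1 - μ ^ (p ^ k)) • e = α' • u := by
      rw [sub_smul, one_smul]
      nth_rewrite 1 [hα']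
      abel
    have h4 : e = ((1 - μ ^ (p ^ k))⁻¹ * α') • u := by
      rw [← smul_smul, ← h3, smul_smul, inv_mul_cancel₀ hne', one_smul]
    rw [h4]
    exact Submodule.smul_mem _ _ (Submodule.mem_span_singleton_self u)
  rw [hμ, one_smul] at hαμ
  intro v hv
  have hv' : v ∈ LinearMap.ker (hl q u) := hv
  rw [← hspan, Submodule.mem_span_pair] at hv'
  obtain ⟨a, b, rfl⟩ := hv'
  refine ⟨b * α, ?_⟩
  rw [Matrix.mulVec_add, Matrix.mulVec_smul, Matrix.mulVec_smul, hxu, ← hαμ, smul_add, smul_smul]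
  abel

end borel


section su
variable {K : Type*} [Field K] {q : ℕ}

/-- the matrix of an element of `SU₃` -/
def mat (K : Type*) [Field K] (q : ℕ) : ↥(Cfsg.SU 3 K q) →* Matrix (Fin 3) (Fin 3) K :=
  (Cfsg.slToMat 3 K).comp (Cfsg.SU 3 K q).subtype

lemma mat_apply (g : ↥(Cfsg.SU 3 K q)) : mat K q g = g.1.1 := rfl

lemma mat_injective : Function.Injective (mat K q) := by
  intro g g' h
  exact Subtype.ext (Subtype.ext h)

lemma mat_pres (g : ↥(Cfsg.SU 3 K q)) (u v : Fin 3 → K) :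
    Cfsg.hermForm 3 K q (mat K q g *ᵥ u) (mat K q g *ᵥ v) = Cfsg.hermForm 3 K q u v :=
  g.2 u v

lemma mat_inv_mulVec (g : ↥(Cfsg.SU 3 K q)) (v : Fin 3 → K) :
    mat K q g⁻¹ *ᵥ (mat K q g *ᵥ v) = v := by
  rw [Matrix.mulVec_mulVec, ← map_mul, inv_mul_cancel, map_one, Matrix.one_mulVec]

lemma mat_adjoint (g : ↥(Cfsg.SU 3 K q)) (w z : Fin 3 → K) :
    Cfsg.hermForm 3 K q w (mat K q g *ᵥ z) = Cfsg.hermForm 3 K q (mat K q g⁻¹ *ᵥ w) z := by
  rw [← mat_pres g⁻¹ w (mat K q g *ᵥ z), mat_inv_mulVec]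

lemma exists_isotropic_of_pSubgroup [Fintype K] {p : ℕ} [Fact p.Prime] [CharP K p] (F : IsFrob K q)
    (S : Subgroup ↥(Cfsg.SU 3 K q)) (hS : IsPGroup p S) (hne : S ≠ ⊥) :
    ∃ u : Fin 3 → K, u ≠ 0 ∧ Cfsg.hermForm 3 K q u u = 0 ∧
      ∀ g ∈ Subgroup.normalizer (S : Set ↥(Cfsg.SU 3 K q)), ∃ lam : K, mat K q g *ᵥ u = lam • u := by
  classical
  -- the fixed space
  let W : Submodule K (Fin 3 → K) :=
    { carrier := {v | ∀ s ∈ S, mat K q s *ᵥ v = v}
      add_mem' := by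
        intro a b ha hb s hs
        rw [Matrix.mulVec_add, ha s hs, hb s hs]
      zero_mem' := by
        intro s _
        exact Matrix.mulVec_zero _
      smul_mem' := by
        intro c a ha s hs
        rw [Matrix.mulVec_smul, ha s hs] }
  let Wp : Submodule K (Fin 3 → K) :=
    { carrier := {z | ∀ w ∈ W, Cfsg.hermForm 3 K q w z = 0}
      add_mem' := by
        intro a b ha hb w hw
        rw [herm_add_right F, ha w hw, hb w hw, add_zero]
      zero_mem' := by
        intro w _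
        exact herm_zero_right F w
      smul_mem' := by
        intro c a ha w hw
        rw [herm_smul_right, ha w hw, mul_zero] }
  have hW : ∀ v, v ∈ W ↔ ∀ s ∈ S, mat K q s *ᵥ v = v := fun v => Iff.rfl
  have hWp : ∀ z, z ∈ Wp ↔ ∀ w ∈ W, Cfsg.hermForm 3 K q w z = 0 := fun z => Iff.rfl
  -- invariance under the normalizer
  have hNW : ∀ g ∈ Subgroup.normalizer (S : Set ↥(Cfsg.SU 3 K q)), ∀ w ∈ W, mat K q g *ᵥ w ∈ W := by
    intro g hg w hw s hs
    have h1 : g⁻¹ * s * g ∈ S := (Subgroup.mem_normalizer_iff''.1 hg s).1 hs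
    have h2 : s * g = g * (g⁻¹ * s * g) := by group
    rw [Matrix.mulVec_mulVec, ← map_mul, h2, map_mul, ← Matrix.mulVec_mulVec, hw _ h1]
  have hNWp : ∀ g ∈ Subgroup.normalizer (S : Set ↥(Cfsg.SU 3 K q)), ∀ z ∈ Wp, mat K q g *ᵥ z ∈ Wp := by
    intro g hg z hz w hw
    rw [mat_adjoint]
    exact hz _ (hNW g⁻¹ (inv_mem hg) w hw)
  have hSN : S ≤ Subgroup.normalizer (S : Set ↥(Cfsg.SU 3 K q)) := Subgroup.le_normalizer
  -- W ≠ ⊤
  have hWtop : W < ⊤ := by
    rw [lt_top_iff_ne_top]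
    intro h
    apply hne
    rw [Subgroup.eq_bot_iff_forall]
    intro s hs
    apply mat_injective
    rw [map_one]
    ext i j
    have h1 : (Pi.single j 1 : Fin 3 → K) ∈ W := by rw [h]; trivial
    have h2 := congrFun (h1 s hs) i
    rw [Matrix.mulVec_single_one] at h2
    rw [Matrix.one_apply]
    simpa [Pi.single_apply, eq_comm] using h2
  -- Wp ≠ ⊥
  have hWpbot : Wp ≠ ⊥ := by
    obtain ⟨f, hf0, hfW⟩ := Submodule.exists_le_ker_of_lt_top W hWtop
    let z : Fin 3 → K := fun i => (f fun j => if i = j then 1 else 0) ^ q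
    have hz : ∀ v, Cfsg.hermForm 3 K q v z = f v := by
      intro v
      rw [LinearMap.pi_apply_eq_sum_univ f v]
      simp only [Cfsg.hermForm, z, F.invol, smul_eq_mul]
    have hzWp : z ∈ Wp := by
      intro w hw
      rw [hz]
      exact hfW hw
    intro hbot
    rw [hbot, Submodule.mem_bot] at hzWp
    apply hf0
    apply LinearMap.ext
    intro v
    rw [← hz, hzWp, herm_zero_right F]
    rfl
  -- the action of S on Wp
  let act : MulAction ↥S ↥Wp :=
    { smul := fun s z => ⟨mat K q s.1 *ᵥ z.1, hNWp s.1 (hSN s.2) z.1 z.2⟩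
      one_smul := by
        intro z
        apply Subtype.ext
        show mat K q (1 : ↥S).1 *ᵥ z.1 = z.1
        rw [Subgroup.coe_one, map_one, Matrix.one_mulVec]
      mul_smul := by
        intro s t z
        apply Subtype.ext
        show mat K q (s * t).1 *ᵥ z.1 = mat K q s.1 *ᵥ (mat K q t.1 *ᵥ z.1)
        rw [Subgroup.coe_mul, map_mul, Matrix.mulVec_mulVec] }
  have hsmul : ∀ (s : ↥S) (z : ↥Wp), ((s • z : ↥Wp) : Fin 3 → K) = mat K q s.1 *ᵥ z.1 := fun _ _ => rfl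
  have hpK : p ∣ Nat.card K := by
    rw [Nat.card_eq_fintype_card]
    exact (CharP.cast_eq_zero_iff K p (Fintype.card K)).1 (by simp)
  have hcard : p ∣ Nat.card ↥Wp := by
    rw [Module.natCard_eq_pow_finrank (K := K)]
    have : 1 ≤ Module.finrank K ↥Wp := Submodule.one_le_finrank_iff.2 hWpbot
    exact dvd_pow hpK (by omega)
  have h0 : (0 : ↥Wp) ∈ MulAction.fixedPoints ↥S ↥Wp := by
    intro s
    apply Subtype.ext
    rw [hsmul]
    exact Matrix.mulVec_zero _
  obtain ⟨z, hzfix, hz0⟩ := hS.exists_fixed_point_of_prime_dvd_card_of_fixed_point ↥Wp hcard h0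
  have huW : z.1 ∈ W := by
    intro s hs
    have := hzfix ⟨s, hs⟩
    rw [← hsmul ⟨s, hs⟩ z, this]
  have hu0 : z.1 ≠ 0 := by
    intro h
    apply hz0
    apply Subtype.ext
    rw [h]
    rfl
  refine ⟨z.1, hu0, z.2 z.1 huW, ?_⟩
  intro g hg
  have h1 : mat K q g *ᵥ z.1 ∈ W := hNW g hg z.1 huW
  have h2 : mat K q g *ᵥ z.1 ∈ Wp := hNWp g hg z.1 z.2
  obtain ⟨c, hc⟩ := ti_dim F z.1 (mat K q g *ᵥ z.1) hu0 (z.2 z.1 huW) (z.2 _ h1) (h2 _ huW) (h2 _ h1)
  exact ⟨c, hc.symm⟩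


/-- In `SU₃`, `p`-elements of the normalizer of a nontrivial `p`-subgroup are closed under products. -/
lemma su3_TI [Fintype K] {p : ℕ} [Fact p.Prime] [CharP K p] (hp : p ≠ 2) (F : IsFrob K q)
    (S : Subgroup ↥(Cfsg.SU 3 K q)) (hS : IsPGroup p S) (hne : S ≠ ⊥)
    (x : ↥(Cfsg.SU 3 K q)) (hx : x ∈ Subgroup.normalizer (S : Set ↥(Cfsg.SU 3 K q)))
    (y : ↥(Cfsg.SU 3 K q)) (hy : y ∈ Subgroup.normalizer (S : Set ↥(Cfsg.SU 3 K q)))
    (hxp : IsPElem p x) (hyp : IsPElem p y) : IsPElem p (x * y) := by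
  obtain ⟨u, hu0, hu, hN⟩ := exists_isotropic_of_pSubgroup F S hS hne
  obtain ⟨k, hk⟩ := hxp
  obtain ⟨k', hk'⟩ := hyp
  obtain ⟨lam, hlam⟩ := hN x hx
  obtain ⟨lam', hlam'⟩ := hN y hy
  have hx1 : (mat K q x) ^ (p ^ k) = 1 := by rw [← map_pow, hk, map_one]
  have hy1 : (mat K q y) ^ (p ^ k') = 1 := by rw [← map_pow, hk', map_one]
  have fx := FU_of_pElem F u hu0 hu (mat K q x) (mat_pres x) k hx1 lam hlam
  have fy := FU_of_pElem F u hu0 hu (mat K q y) (mat_pres y) k' hy1 lam' hlam'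
  have fxy := (FU.mul hu fx fy).pow_p hp
  refine ⟨1, mat_injective ?_⟩
  rw [pow_one, map_pow, map_mul, map_one]
  exact fxy

end su

end Cfsg.Agent.Lib.Helper44
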