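import Mathlib
import Cfsg.Agent.Lib.Helper41.InvBDefs

/-!
# K-IB leaf 17a (keystone 392827): conjugating the moving element does not change the number of moved conjugates
-/

set_option autoImplicit false

namespace Cfsg.Agent.Lib.Helper44.InvB

open Cfsg.Agent.Lib.Helper41.InvB

variable {Γ : Type*} [Group Γ] [Finite Γ]

omit [Finite Γ] in
theorem conjS_inv_conjS (h : Γ) (R : Subgroup Γ) : conjS h⁻¹ (conjS h R) = R := by
  rw [← conjS_mul, inv_mul_cancel, conjS_one]

omit [Finite Γ] in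
theorem conjS_conjS_inv (h : Γ) (R : Subgroup Γ) : conjS h (conjS h⁻¹ R) = R := by
  rw [← conjS_mul, mul_inv_cancel, conjS_one]

omit [Finite Γ] in
theorem conjS_injective (h : Γ) : Function.Injective (conjS h : Subgroup Γ → Subgroup Γ) := by
  intro R R' hRR'
  have := congrArg (conjS h⁻¹) hRR'
  rwa [conjS_inv_conjS, conjS_inv_conjS] at this

theorem moved_conj_ncard (a h : Γ) (S : Subgroup Γ) :
    Set.ncard {R : Subgroup Γ | (∃ γ : Γ, R = conjS γ S) ∧ conjS (h * a * h⁻¹) R ≠ R} =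
      Set.ncard {R : Subgroup Γ | (∃ γ : Γ, R = conjS γ S) ∧ conjS a R ≠ R} := by
  have himg : {R : Subgroup Γ | (∃ γ : Γ, R = conjS γ S) ∧ conjS (h * a * h⁻¹) R ≠ R} =
      conjS h '' {R : Subgroup Γ | (∃ γ : Γ, R = conjS γ S) ∧ conjS a R ≠ R} := by
    ext R
    simp only [Set.mem_setOf_eq, Set.mem_image]
    constructor
    · rintro ⟨⟨γ, rfl⟩, hne⟩
      refine ⟨conjS h⁻¹ (conjS γ S), ⟨⟨h⁻¹ * γ, by rw [conjS_mul]⟩, ?_⟩, conjS_conjS_inv _ _⟩
      intro heq
      apply hne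
      have : conjS (h * a * h⁻¹) (conjS γ S) = conjS h (conjS a (conjS h⁻¹ (conjS γ S))) := by
        rw [conjS_mul, conjS_mul]
      rw [this, heq, conjS_conjS_inv]
    · rintro ⟨R', ⟨⟨γ, rfl⟩, hne⟩, rfl⟩
      refine ⟨⟨h * γ, by rw [conjS_mul]⟩, ?_⟩
      intro heq
      apply hne
      have : conjS (h * a * h⁻¹) (conjS h (conjS γ S)) = conjS h (conjS a (conjS γ S)) := by
        rw [conjS_mul, conjS_mul, conjS_inv_conjS]
      rw [this] at heq
      exact conjS_injective h heq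
  rw [himg, Set.ncard_image_of_injective _ (conjS_injective h)]

end Cfsg.Agent.Lib.Helper44.InvB
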