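import Mathlib
import Cfsg.Agent.Lib.Helper41.InvBDefs
import Cfsg.Agent.Lib.Helper44.InvB17a

/-!
# K-IB leaf 17 (keystone 392828): the orbit bound

`D₀ := {t * a | t ∈ TG a}` consists of conjugates `h * a * h⁻¹` of `a`; the family
`U := {S} ∪ ⋃_{t ∈ TG a} moved (t * a)` is stable under every `conjS (t * a)`, hence under all of `Γ`.
-/

set_option autoImplicit false

namespace Cfsg.Agent.Lib.Helper44.InvB

open Cfsg.Agent.Lib.Helper41.InvB

variable {Γ : Type*} [Group Γ] [Finite Γ]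

omit [Finite Γ] in
/-- for `t ∈ TG a` (with `a * a = 1`), `t * a` is the conjugate of `a` by `h := t ^ ((orderOf t + 1) / 2)`. -/
theorem mul_eq_conj_of_mem_TG (a : Γ) (ha : a * a = 1) (t : Γ) (ht : t ∈ TG a) :
    ∃ h : Γ, t * a = h * a * h⁻¹ := by
  have hinv : a⁻¹ = a := inv_eq_of_mul_eq_one_right ha
  refine ⟨t ^ ((orderOf t + 1) / 2), ?_⟩
  set h := t ^ ((orderOf t + 1) / 2) with hh
  have hT : h ∈ TG a := pow_mem_TG ht _
  have h2 : h * h = t := by
    rw [hh, ← pow_add]
    obtain ⟨k, hk⟩ := ht.1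
    have : (orderOf t + 1) / 2 + (orderOf t + 1) / 2 = orderOf t + 1 := by omega
    rw [this, pow_succ, pow_orderOf_eq_one, one_mul]
  have h3 : a * h * a⁻¹ = h⁻¹ := hT.2
  -- a * h⁻¹ = h * a
  have h4 : a * h⁻¹ = h * a := by
    have : a * h⁻¹ * a⁻¹ = h := by
      have : a * h⁻¹ * a⁻¹ = (a * h * a⁻¹)⁻¹ := by group
      rw [this, h3, inv_inv]
    calc a * h⁻¹ = (a * h⁻¹ * a⁻¹) * a := by group
      _ = h * a := by rw [this]
  calc t * a = h * h * a := by rw [h2]
    _ = h * (h * a) := by group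
    _ = h * (a * h⁻¹) := by rw [h4]
    _ = h * a * h⁻¹ := by group

omit [Finite Γ] in
theorem mul_mul_self_of_mem_TG (a : Γ) (ha : a * a = 1) (t : Γ) (ht : t ∈ TG a) :
    (t * a) * (t * a) = 1 := by
  have hinv : a⁻¹ = a := inv_eq_of_mul_eq_one_right ha
  have h3 : a * t * a = t⁻¹ := by
    have := ht.2
    rwa [hinv] at this
  calc (t * a) * (t * a) = t * (a * t * a) := by group
    _ = 1 := by rw [h3, mul_inv_cancel]

theorem orbit_ncard_le (a : Γ) (hg : Gen a) (S : Subgroup Γ) (m : ℕ) (hm : Nat.card (TG a) ≤ m) :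
    Set.ncard {R : Subgroup Γ | ∃ γ : Γ, R = conjS γ S} ≤
      1 + m * Set.ncard {R : Subgroup Γ | (∃ γ : Γ, R = conjS γ S) ∧ conjS a R ≠ R} := by
  classical
  obtain ⟨ha, hgen⟩ := hg
  set Orb : Set (Subgroup Γ) := {R : Subgroup Γ | ∃ γ : Γ, R = conjS γ S} with hOrb
  set Mv : Γ → Set (Subgroup Γ) :=
    fun d => {R : Subgroup Γ | (∃ γ : Γ, R = conjS γ S) ∧ conjS d R ≠ R} with hMv
  set k := Set.ncard (Mv a) with hk
  have hTfin : Finite ↥(TG a) := Subtype.finite
  let _ : Fintype ↥(TG a) := Fintype.ofFinite _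
  set U : Set (Subgroup Γ) := {S} ∪ ⋃ t : ↥(TG a), Mv ((t : Γ) * a) with hU
  have hUOrb : ∀ R ∈ U, R ∈ Orb := by
    intro R hR
    rcases hR with hR | hR
    · rw [Set.mem_singleton_iff] at hR
      exact ⟨1, by rw [hR, conjS_one]⟩
    · obtain ⟨_, ⟨t, rfl⟩, hR⟩ := hR
      exact hR.1
  -- each `Mv (t * a)` has `k` members
  have hcard : ∀ t : ↥(TG a), Set.ncard (Mv ((t : Γ) * a)) = k := by
    intro t
    obtain ⟨h, hh⟩ := mul_eq_conj_of_mem_TG a ha t t.2
    rw [hh]
    exact moved_conj_ncard a h S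
  -- `U` is stable under `conjS (t * a)`
  have hstab : ∀ t ∈ TG a, ∀ R ∈ U, conjS (t * a) R ∈ U := by
    intro t ht R hR
    by_cases hfix : conjS (t * a) R = R
    · rw [hfix]; exact hR
    · right
      refine Set.mem_iUnion.mpr ⟨⟨t, ht⟩, ?_⟩
      obtain ⟨γ, hγ⟩ := hUOrb R hR
      refine ⟨⟨t * a * γ, by rw [hγ]; exact (conjS_mul (t * a) γ S).symm⟩, ?_⟩
      show conjS (t * a) (conjS (t * a) R) ≠ conjS (t * a) R
      rw [← conjS_mul, mul_mul_self_of_mem_TG a ha t ht, conjS_one]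
      exact fun h => hfix h.symm
  -- the stabilising property
  have hP : ∀ g : Γ, ∀ R ∈ U, conjS g R ∈ U := by
    intro g
    have hgmem : g ∈ Subgroup.closure (TG a ∪ {a}) := by rw [hgen]; exact Subgroup.mem_top g
    have hPa : ∀ R ∈ U, conjS a R ∈ U := by
      intro R hR
      have := hstab 1 (one_mem_TG a) R hR
      rwa [one_mul] at this
    have hpow : ∀ (x : Γ), (∀ R ∈ U, conjS x R ∈ U) → ∀ n : ℕ, ∀ R ∈ U, conjS (x ^ n) R ∈ U := by
      intro x hx n
      induction n with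
      | zero => intro R hR; rw [pow_zero, conjS_one]; exact hR
      | succ n ih =>
        intro R hR
        rw [pow_succ, conjS_mul]
        exact ih _ (hx R hR)
    induction hgmem using Subgroup.closure_induction with
    | mem x hx =>
      rcases hx with hx | hx
      · intro R hR
        have h1 : x = (x * a) * a := by rw [mul_assoc, ha, mul_one]
        rw [h1, conjS_mul]
        exact hstab x hx _ (hPa R hR)
      · rw [Set.mem_singleton_iff] at hx
        rw [hx]; exact hPa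
    | one => intro R hR; rw [conjS_one]; exact hR
    | mul x y _ _ hx hy =>
      intro R hR
      rw [conjS_mul]
      exact hx _ (hy R hR)
    | inv x _ hx =>
      have hxinv : x⁻¹ = x ^ (orderOf x - 1) := by
        apply inv_eq_of_mul_eq_one_right
        rw [← pow_succ', Nat.sub_add_cancel (orderOf_pos x), pow_orderOf_eq_one]
      rw [hxinv]
      exact hpow x hx _
  have hOrbU : Orb ⊆ U := by
    rintro R ⟨γ, rfl⟩
    exact hP γ S (Or.inl rfl)
  have hUfin : U.Finite := Set.toFinite U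
  calc Set.ncard Orb ≤ Set.ncard U := Set.ncard_le_ncard hOrbU hUfin
    _ ≤ Set.ncard ({S} : Set (Subgroup Γ)) + Set.ncard (⋃ t : ↥(TG a), Mv ((t : Γ) * a)) :=
        Set.ncard_union_le _ _
    _ ≤ 1 + ∑ t : ↥(TG a), Set.ncard (Mv ((t : Γ) * a)) := by
        rw [Set.ncard_singleton]
        exact Nat.add_le_add_left (Set.ncard_iUnion_le_of_fintype _) 1
    _ = 1 + Nat.card ↥(TG a) * k := by
        rw [Finset.sum_congr rfl (fun t _ => hcard t), Finset.sum_const, Finset.card_univ,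
          smul_eq_mul, Nat.card_eq_fintype_card]
    _ ≤ 1 + m * k := Nat.add_le_add_left (Nat.mul_le_mul_right k hm) 1

end Cfsg.Agent.Lib.Helper44.InvB
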