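import Mathlib
import Cfsg.Agent.Lib.Helper76.J1Tools

set_option autoImplicit false

/-! Keystone K-S4274-87780b: no nonabelian simple group of order `87780` with `210` Sylow
`19`-subgroups under the minimality hypothesis `HMin`. -/

namespace Cfsg.Agent.Lib.Helper44.J1

open Cfsg.Agent.Lib.Helper76.J1 Subgroup

theorem validList_87780_5 : validList 87780 5 = [21, 66, 231, 266, 2926] := by decide +kernel

theorem validList_87780_7 : validList 87780 7 = [22, 57, 190, 330, 1254, 4180] := by
  decide +kernel

theorem validList_87780_11 : validList 87780 11 = [133, 210, 1596] := by decide +kernel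

theorem no_simple_87780_b {G : Type*} [Group G] [Finite G] [IsSimpleGroup G]
    (hcard : Nat.card G = 87780) (h19 : Nat.card (Sylow 19 G) = 210) (hmin : HMin G) : False := by
  have f19 : Fact (Nat.Prime 19) := ⟨by norm_num⟩
  have f11 : Fact (Nat.Prime 11) := ⟨by norm_num⟩
  have f7 : Fact (Nat.Prime 7) := ⟨by norm_num⟩
  have f5 : Fact (Nat.Prime 5) := ⟨by norm_num⟩
  -- Sylow subgroups have prime order
  have hS19 : ∀ S : Sylow 19 G, Nat.card ↥(S : Subgroup G) = 19 :=
    fun S => card_sylow_eq_prime hcard (by norm_num) (by norm_num) S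
  have hS11 : ∀ S : Sylow 11 G, Nat.card ↥(S : Subgroup G) = 11 :=
    fun S => card_sylow_eq_prime hcard (by norm_num) (by norm_num) S
  have hS7 : ∀ S : Sylow 7 G, Nat.card ↥(S : Subgroup G) = 7 :=
    fun S => card_sylow_eq_prime hcard (by norm_num) (by norm_num) S
  have hS5 : ∀ S : Sylow 5 G, Nat.card ↥(S : Subgroup G) = 5 :=
    fun S => card_sylow_eq_prime hcard (by norm_num) (by norm_num) S
  obtain ⟨P⟩ : Nonempty (Sylow 19 G) := inferInstance
  obtain ⟨T11⟩ : Nonempty (Sylow 11 G) := inferInstance
  obtain ⟨T7⟩ : Nonempty (Sylow 7 G) := inferInstance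
  obtain ⟨T5⟩ : Nonempty (Sylow 5 G) := inferInstance
  -- the prime 19
  have hN19 : Nat.card ↥(normalizer ((P : Subgroup G) : Set G)) = 418 := by
    rw [card_normalizer_eq_div hcard P, h19]
  have hC19 : Nat.card ↥(centralizer ((P : Subgroup G) : Set G)) = 19 * 11 := by
    obtain ⟨e, c, he1, he2, hc, hce⟩ :=
      exists_relIndex hcard (by norm_num) (by norm_num) (by norm_num) P
    rw [h19] at hce
    have he18 : e ∣ 18 := he1
    have hele : e ≤ 18 := Nat.le_of_dvd (by norm_num) he18
    have hc11 : c = 11 := by
      interval_cases e <;> omega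
    rw [hc, hc11]
  have hC19' : ∀ S : Sylow 19 G, Nat.card ↥(centralizer ((S : Subgroup G) : Set G)) = 19 * 11 :=
    fun S => (card_centralizer_sylow_eq S P).trans hC19
  -- the prime 11
  have h19C11 : 19 ∣ Nat.card ↥(centralizer ((T11 : Subgroup G) : Set G)) :=
    cross hS19 hS11 P (by rw [hC19]; norm_num) T11
  have hCN : ∀ {p : ℕ} [Fact p.Prime] (S : Sylow p G),
      Nat.card ↥(centralizer ((S : Subgroup G) : Set G)) ∣ 87780 / Nat.card (Sylow p G) := by
    intro p _ S
    rw [← card_normalizer_eq_div hcard S]
    exact Subgroup.card_dvd_of_le (centralizer_le_normalizer _)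
  have hn11 : Nat.card (Sylow 11 G) = 210 := by
    have hmem := card_sylow_mem_validList (G := G) (p := 11) hcard (by norm_num) (by norm_num)
      (by norm_num) (by norm_num)
    rw [validList_87780_11] at hmem
    have hd := h19C11.trans (hCN T11)
    simp only [List.mem_cons, List.not_mem_nil, or_false] at hmem
    rcases hmem with h | h | h
    · rw [h] at hd; norm_num at hd
    · exact h
    · rw [h] at hd; norm_num at hd
  have hC11 : Nat.card ↥(centralizer ((T11 : Subgroup G) : Set G)) = 11 * 19 := by
    obtain ⟨e, c, he1, he2, hc, hce⟩ :=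
      exists_relIndex hcard (by norm_num) (by norm_num) (by norm_num) T11
    rw [hn11] at hce
    have he10 : e ∣ 10 := he1
    have hele : e ≤ 10 := Nat.le_of_dvd (by norm_num) he10
    have hc19 : c = 19 := by
      interval_cases e <;> omega
    rw [hc, hc19]
  -- H1 for 5 and 7
  have h19n5 : 19 ∣ Nat.card (Sylow 5 G) :=
    dvd_card_sylow_of_hmin hmin P (by rw [hcard]; norm_num) (by rw [hN19]; norm_num)
  have h19n7 : 19 ∣ Nat.card (Sylow 7 G) :=
    dvd_card_sylow_of_hmin hmin P (by rw [hcard]; norm_num) (by rw [hN19]; norm_num)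
  have hn5 : Nat.card (Sylow 5 G) = 266 ∨ Nat.card (Sylow 5 G) = 2926 := by
    have hmem := card_sylow_mem_validList (G := G) (p := 5) hcard (by norm_num) (by norm_num)
      (by norm_num) (by norm_num)
    rw [validList_87780_5] at hmem
    simp only [List.mem_cons, List.not_mem_nil, or_false] at hmem
    rcases hmem with h | h | h | h | h
    · rw [h] at h19n5; norm_num at h19n5
    · rw [h] at h19n5; norm_num at h19n5
    · rw [h] at h19n5; norm_num at h19n5
    · exact Or.inl h
    · exact Or.inr h
  have hN5 : ¬ 7 ∣ Nat.card ↥(centralizer ((T5 : Subgroup G) : Set G)) := by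
    intro h7
    have hd := h7.trans (hCN T5)
    rcases hn5 with h | h <;> rw [h] at hd <;> norm_num at hd
  -- the prime 7
  have hn7 : Nat.card (Sylow 7 G) = 4180 := by
    have hmem := card_sylow_mem_validList (G := G) (p := 7) hcard (by norm_num) (by norm_num)
      (by norm_num) (by norm_num)
    rw [validList_87780_7] at hmem
    simp only [List.mem_cons, List.not_mem_nil, or_false] at hmem
    have hN7 := card_normalizer_eq_div hcard T7
    have h11 : 11 ∣ Nat.card ↥(normalizer ((T7 : Subgroup G) : Set G)) → False := by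
      intro hd
      have h1 := dvd_card_centralizer_of_dvd_card_normalizer (q := 11) (by norm_num) T7 (hS7 T7)
        hd (by norm_num)
      have h2 := cross hS7 hS11 T7 h1 T11
      rw [hC11] at h2
      norm_num at h2
    rcases hmem with h | h | h | h | h | h
    · rw [h] at h19n7; norm_num at h19n7
    · exfalso
      apply h11
      rw [hN7, h]
      norm_num
    · exfalso
      apply h11
      rw [hN7, h]
      norm_num
    · rw [h] at h19n7; norm_num at h19n7
    · exfalso
      have hd : 5 ∣ Nat.card ↥(normalizer ((T7 : Subgroup G) : Set G)) := by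
        rw [hN7, h]
        norm_num
      have h1 := dvd_card_centralizer_of_dvd_card_normalizer (q := 5) (by norm_num) T7 (hS7 T7)
        hd (by norm_num)
      exact hN5 (cross hS7 hS5 T7 h1 T5)
    · exact h
  have hC7 : Nat.card ↥(centralizer ((T7 : Subgroup G) : Set G)) = 7 * 1 := by
    obtain ⟨e, c, he1, he2, hc, hce⟩ :=
      exists_relIndex hcard (by norm_num) (by norm_num) (by norm_num) T7
    rw [hn7] at hce
    have he6 : e ∣ 6 := he1
    have hele : e ≤ 6 := Nat.le_of_dvd (by norm_num) he6
    have hc1 : c = 1 := by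
      interval_cases e <;> omega
    rw [hc, hc1]
  have hC7' : ∀ S : Sylow 7 G, Nat.card ↥(centralizer ((S : Subgroup G) : Set G)) = 7 * 1 :=
    fun S => (card_centralizer_sylow_eq S T7).trans hC7
  -- the prime 5
  have hn5' : Nat.card (Sylow 5 G) = 2926 := by
    rcases hn5 with h | h
    · exfalso
      have hN5' := card_normalizer_eq_div hcard T5
      have hd : 11 ∣ Nat.card ↥(normalizer ((T5 : Subgroup G) : Set G)) := by
        rw [hN5', h]
        norm_num
      have h1 := dvd_card_centralizer_of_dvd_card_normalizer (q := 11) (by norm_num) T5 (hS5 T5)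
        hd (by norm_num)
      have h2 := cross hS5 hS11 T5 h1 T11
      rw [hC11] at h2
      norm_num at h2
    · exact h
  have hC5 : Nat.card ↥(centralizer ((T5 : Subgroup G) : Set G)) = 5 * 3 := by
    obtain ⟨e, c, he1, he2, hc, hce⟩ :=
      exists_relIndex hcard (by norm_num) (by norm_num) (by norm_num) T5
    rw [hn5'] at hce
    have he4 : e ∣ 4 := he1
    have hele : e ≤ 4 := Nat.le_of_dvd (by norm_num) he4
    have hc3 : c = 3 := by
      interval_cases e <;> omega
    rw [hc, hc3]
  have hC5' : ∀ S : Sylow 5 G, Nat.card ↥(centralizer ((S : Subgroup G) : Set G)) = 5 * 3 :=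
    fun S => (card_centralizer_sylow_eq S T5).trans hC5
  -- the count
  have hA19 := card_dvd_orderOf_ge hS19 hC19'
  have hA7 := card_dvd_orderOf_ge hS7 hC7'
  have hA5 := card_dvd_orderOf_ge hS5 hC5'
  rw [h19] at hA19
  rw [hn7] at hA7
  rw [hn5'] at hA5
  have hsum := card_add3_le_of_disjoint (G := G) (fun x => 19 ∣ orderOf x)
    (fun x => 7 ∣ orderOf x) (fun x => 5 ∣ orderOf x)
    (fun x hx => not_dvd_orderOf_of_not_dvd_card_centralizer (p := 19) (q := 7) (by norm_num)
      hS19 P (by rw [hC19]; norm_num) x hx)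
    (fun x hx => not_dvd_orderOf_of_not_dvd_card_centralizer (p := 19) (q := 5) (by norm_num)
      hS19 P (by rw [hC19]; norm_num) x hx)
    (fun x hx => not_dvd_orderOf_of_not_dvd_card_centralizer (p := 7) (q := 5) (by norm_num)
      hS7 T7 (by rw [hC7]; norm_num) x hx)
  rw [hcard] at hsum
  omega

end Cfsg.Agent.Lib.Helper44.J1
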