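import Mathlib
import Cfsg.Agent.Lib.Helper05.N3Defs

set_option autoImplicit false

namespace Cfsg.Agent.Lib.Helper44.N3

open Cfsg.Agent.Lib.Helper22.Nse
open Cfsg.Agent.Lib.Helper05.N3

/-- a product of distinct primes is squarefree -/
theorem n3a4_sqf_prod (s : Finset ℕ) (hs : ∀ p ∈ s, p.Prime) : Squarefree (∏ p ∈ s, p) := by
  induction s using Finset.induction_on with
  | empty => simp
  | insert a s ha ih =>
    rw [Finset.prod_insert ha, Nat.squarefree_mul_iff]
    refine ⟨?_, (Nat.prime_iff.mp (hs a (Finset.mem_insert_self a s))).squarefree,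
      ih (fun p hp => hs p (Finset.mem_insert_of_mem hp))⟩
    apply Nat.Coprime.prod_right
    intro p hp
    exact (Nat.coprime_primes (hs a (Finset.mem_insert_self a s))
      (hs p (Finset.mem_insert_of_mem hp))).mpr (by rintro rfl; exact ha hp)

theorem one_class_false {N : ℕ} {S : ℕ → ℕ} {m n : ℕ} (C : Ctx N S m n) {p q : ℕ} (hp : p.Prime) (hq : q.Prime)
    (hpq : p ≠ q) (hpN : p ∣ N) (hqN : q ∣ N) (hall : ∀ t : ℕ, t.Prime → t ∣ N → S t = m)
    (hsq : ∀ k, S k ≠ 0 → Squarefree k)
    (hval : ∀ D, D ∣ N → Squarefree D → D ≠ 1 → S D = if Even D.primeFactors.card then n else m) : False := by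
  have hN0 : N ≠ 0 := C.H.pos.ne'
  have hpP : p ∈ N.primeFactors := Nat.mem_primeFactors.mpr ⟨hp, hpN, hN0⟩
  have hqP : q ∈ N.primeFactors := Nat.mem_primeFactors.mpr ⟨hq, hqN, hN0⟩
  have hPprime : ∀ u ∈ N.primeFactors, u.Prime := fun u hu => Nat.prime_of_mem_primeFactors hu
  have hm0 : m ≠ 0 := by
    have := C.H.cauchy p hp hpN
    rwa [hall p hp hpN] at this
  have key : ∀ t, t.Prime → t ∣ N → t ^ N.factorization t ∣ m + n := by
    intro t ht htN
    have htP : t ∈ N.primeFactors := Nat.mem_primeFactors.mpr ⟨ht, htN, hN0⟩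
    have hdprime : ∀ u ∈ N.primeFactors.erase t, u.Prime :=
      fun u hu => hPprime u (Finset.mem_of_mem_erase hu)
    obtain ⟨d, hd⟩ : ∃ d, d = ∏ u ∈ N.primeFactors.erase t, u := ⟨_, rfl⟩
    have hdpf : d.primeFactors = N.primeFactors.erase t := by
      rw [hd]; exact Nat.primeFactors_prod hdprime
    have hdsq : Squarefree d := by rw [hd]; exact n3a4_sqf_prod _ hdprime
    have hd0 : d ≠ 0 := hdsq.ne_zero
    have hR : t * d = ∏ u ∈ N.primeFactors, u := by
      rw [hd]; exact Finset.mul_prod_erase N.primeFactors (fun u => u) htP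
    have hRpf : (t * d).primeFactors = N.primeFactors := by
      rw [hR]; exact Nat.primeFactors_prod hPprime
    have hRsq : Squarefree (t * d) := by rw [hR]; exact n3a4_sqf_prod _ hPprime
    have hRN : t * d ∣ N := by rw [hR]; exact Nat.prod_primeFactors_dvd N
    have hdR : d ∣ t * d := Dvd.intro_left t rfl
    have hdN : d ∣ N := hdR.trans hRN
    have hne_erase : (N.primeFactors.erase t).Nonempty := by
      by_cases hpt : p = t
      · refine ⟨q, Finset.mem_erase.mpr ⟨?_, hqP⟩⟩
        rintro rfl
        exact hpq hpt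
      · exact ⟨p, Finset.mem_erase.mpr ⟨hpt, hpP⟩⟩
    have hd1 : d ≠ 1 := by
      intro h1
      have h2 : d.primeFactors = ∅ := by rw [h1]; simp
      rw [hdpf] at h2
      exact hne_erase.ne_empty h2
    have hcop : Nat.Coprime (t ^ N.factorization t) d := by
      apply Nat.Coprime.pow_left
      rw [Nat.Prime.coprime_iff_not_dvd ht]
      intro htd
      have h3 : t ∈ d.primeFactors := Nat.mem_primeFactors.mpr ⟨ht, htd, hd0⟩
      rw [hdpf] at h3
      exact (Finset.notMem_erase t N.primeFactors) h3
    have hW := C.W d (t ^ N.factorization t) (Nat.pos_of_ne_zero hd0) (Nat.ordProj_dvd N t) hcop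
    have htd_ne : d ≠ t * d := by
      intro h
      have h4 : 1 * d = t * d := by rw [one_mul]; exact h
      have h5 := Nat.eq_of_mul_eq_mul_right (Nat.pos_of_ne_zero hd0) h4
      exact ht.one_lt.ne h5
    have hsum : ∑ k ∈ N.divisors.filter (fun k => d ∣ k), S k = S d + S (t * d) := by
      apply Finset.sum_eq_add d (t * d) htd_ne
      · intro k hk hne
        by_contra hSk
        rw [Finset.mem_filter, Nat.mem_divisors] at hk
        obtain ⟨⟨hkN, _⟩, hdk⟩ := hk
        have hksq := hsq k hSk
        have hkpf_sub : k.primeFactors ⊆ N.primeFactors := Nat.primeFactors_mono hkN hN0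
        have hkpf_sup : N.primeFactors.erase t ⊆ k.primeFactors := by
          rw [← hdpf]; exact Nat.primeFactors_mono hdk hksq.ne_zero
        have hk_eq : k = ∏ u ∈ k.primeFactors, u :=
          (Nat.prod_primeFactors_of_squarefree hksq).symm
        by_cases htk : t ∈ k.primeFactors
        · have h6 : k.primeFactors = N.primeFactors := by
            apply Finset.Subset.antisymm hkpf_sub
            intro u hu
            by_cases hut : u = t
            · rw [hut]; exact htk
            · exact hkpf_sup (Finset.mem_erase.mpr ⟨hut, hu⟩)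
          apply hne.2
          rw [hk_eq, h6, ← hR]
        · have h6 : k.primeFactors = N.primeFactors.erase t := by
            apply Finset.Subset.antisymm _ hkpf_sup
            intro u hu
            exact Finset.mem_erase.mpr ⟨by rintro rfl; exact htk hu, hkpf_sub hu⟩
          apply hne.1
          rw [hk_eq, h6, ← hd]
      · intro hnot
        exfalso
        apply hnot
        rw [Finset.mem_filter, Nat.mem_divisors]
        exact ⟨⟨hdN, hN0⟩, dvd_rfl⟩
      · intro hnot
        exfalso
        apply hnot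
        rw [Finset.mem_filter, Nat.mem_divisors]
        exact ⟨⟨hRN, hN0⟩, hdR⟩
    have hSd := hval d hdN hdsq hd1
    have hR1 : t * d ≠ 1 := by
      intro h
      have := Nat.eq_one_of_mul_eq_one_right h
      exact ht.one_lt.ne' this
    have hSR := hval (t * d) hRN hRsq hR1
    rw [hdpf] at hSd
    rw [hRpf] at hSR
    have hcard : N.primeFactors.card = (N.primeFactors.erase t).card + 1 :=
      (Finset.card_erase_add_one htP).symm
    rw [hsum] at hW
    by_cases he : Even (N.primeFactors.erase t).card
    · have hodd : ¬ Even N.primeFactors.card := by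
        rw [hcard, Nat.even_add_one]; exact not_not.mpr he
      rw [if_pos he] at hSd
      rw [if_neg hodd] at hSR
      rw [hSd, hSR, add_comm] at hW
      exact hW
    · have hev : Even N.primeFactors.card := by
        rw [hcard, Nat.even_add_one]; exact he
      rw [if_neg he] at hSd
      rw [if_pos hev] at hSR
      rw [hSd, hSR] at hW
      exact hW
  have hmn0 : m + n ≠ 0 := by omega
  have hdvd : N ∣ m + n := by
    rw [← Nat.factorization_prime_le_iff_dvd hN0 hmn0]
    intro t ht
    by_cases htN : t ∣ N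
    · exact (ht.pow_dvd_iff_le_factorization hmn0).mp (key t ht htN)
    · rw [Nat.factorization_eq_zero_of_not_dvd htN]; exact Nat.zero_le _
  have hle : N ≤ m + n := Nat.le_of_dvd (by omega) hdvd
  have hcopq : Nat.Coprime p q := (Nat.coprime_primes hp hq).mpr hpq
  have hpqN : p * q ∣ N := Nat.Coprime.mul_dvd_of_dvd_of_dvd hcopq hpN hqN
  have hsub : ({1, p, q, p * q} : Finset ℕ) ⊆ N.divisors := by
    intro x hx
    simp only [Finset.mem_insert, Finset.mem_singleton] at hx
    rw [Nat.mem_divisors]
    rcases hx with rfl | rfl | rfl | rfl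
    · exact ⟨one_dvd N, hN0⟩
    · exact ⟨hpN, hN0⟩
    · exact ⟨hqN, hN0⟩
    · exact ⟨hpqN, hN0⟩
  have htot := C.H.total
  have hge : ∑ d ∈ ({1, p, q, p * q} : Finset ℕ), S d ≤ ∑ d ∈ N.divisors, S d :=
    Finset.sum_le_sum_of_subset hsub
  have hpq1 : p * q ≠ 1 := by
    intro h
    exact hp.one_lt.ne' (Nat.eq_one_of_mul_eq_one_right h)
  have hSpq : S (p * q) = n := by
    have h7 := hval (p * q) hpqN
      (by
        rw [Nat.squarefree_mul_iff]
        exact ⟨hcopq, (Nat.prime_iff.mp hp).squarefree, (Nat.prime_iff.mp hq).squarefree⟩) hpq1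
    have h8 : (p * q).primeFactors = {p, q} := by
      rw [Nat.primeFactors_mul hp.ne_zero hq.ne_zero, hp.primeFactors, hq.primeFactors]
      rfl
    rw [h8, Finset.card_pair hpq, if_pos (by decide)] at h7
    exact h7
  have h1p : (1 : ℕ) ≠ p := hp.one_lt.ne
  have h1q : (1 : ℕ) ≠ q := hq.one_lt.ne
  have hppq : p ≠ p * q := by
    intro h
    have h9 : p * 1 = p * q := by rw [mul_one]; exact h
    exact hq.one_lt.ne (Nat.eq_of_mul_eq_mul_left hp.pos h9)
  have hqpq : q ≠ p * q := by
    intro h
    have h9 : 1 * q = p * q := by rw [one_mul]; exact h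
    exact hp.one_lt.ne (Nat.eq_of_mul_eq_mul_right hq.pos h9)
  have hexp : ∑ d ∈ ({1, p, q, p * q} : Finset ℕ), S d = S 1 + (S p + (S q + S (p * q))) := by
    rw [Finset.sum_insert, Finset.sum_insert, Finset.sum_insert, Finset.sum_singleton]
    · simp only [Finset.mem_singleton]; exact hqpq
    · simp only [Finset.mem_insert, Finset.mem_singleton]
      rintro (h | h)
      · exact hpq h
      · exact hppq h
    · simp only [Finset.mem_insert, Finset.mem_singleton]
      rintro (h | h | h)
      · exact h1p h
      · exact h1q h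
      · exact hpq1 h.symm
  rw [hexp, C.H.one, hall p hp hpN, hall q hq hqN, hSpq, ← htot] at hge
  omega

end Cfsg.Agent.Lib.Helper44.N3
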