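import Mathlib
import Cfsg.Agent.Lib.Helper56.NSE3Defs

set_option autoImplicit false

namespace Cfsg.Agent.Lib.Helper44.NSE3

/-- A nonzero natural number is the product of its prime powers. -/
theorem nse3_prod_rep (N : ℕ) (hN : N ≠ 0) :
    N = ∏ p ∈ N.primeFactors, p ^ N.factorization p := by
  conv_lhs => rw [← Nat.prod_factorization_pow_eq_self hN]
  rfl

/-- at most two prime factors (by cardinality). -/
theorem nse3_two_of_card (N : ℕ) (hN : N ≠ 0) (hc : N.primeFactors.card ≤ 2) :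
    ∃ p q a b : ℕ, p.Prime ∧ q.Prime ∧ N = p ^ a * q ^ b := by
  have hrep := nse3_prod_rep N hN
  rcases Nat.lt_or_ge N.primeFactors.card 2 with h2 | h2
  · rcases Nat.lt_or_ge N.primeFactors.card 1 with h1 | h1
    · have h0 : N.primeFactors = ∅ := Finset.card_eq_zero.mp (by omega)
      rw [h0, Finset.prod_empty] at hrep
      exact ⟨2, 2, 0, 0, Nat.prime_two, Nat.prime_two, by simpa using hrep⟩
    · obtain ⟨p, hp⟩ := Finset.card_eq_one.mp (by omega : N.primeFactors.card = 1)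
      have hpp : p.Prime := Nat.prime_of_mem_primeFactors (by rw [hp]; exact Finset.mem_singleton_self p)
      rw [hp, Finset.prod_singleton] at hrep
      exact ⟨p, 2, N.factorization p, 0, hpp, Nat.prime_two, by simpa using hrep⟩
  · obtain ⟨p, q, hpq, hP⟩ := Finset.card_eq_two.mp (by omega : N.primeFactors.card = 2)
    have hpp : p.Prime := Nat.prime_of_mem_primeFactors (by rw [hP]; simp)
    have hqp : q.Prime := Nat.prime_of_mem_primeFactors (by rw [hP]; simp)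
    rw [hP, Finset.prod_pair hpq] at hrep
    exact ⟨p, q, N.factorization p, N.factorization q, hpp, hqp, hrep⟩

/-- L11 arithmetic: at most two primes. -/
theorem ar_two (N : ℕ) (hN : N ≠ 0)
    (h : ∀ p q r : ℕ, p.Prime → q.Prime → r.Prime → p ∣ N → q ∣ N → r ∣ N →
      p ≠ q → p ≠ r → q ≠ r → False) :
    ∃ p q a b : ℕ, p.Prime ∧ q.Prime ∧ N = p ^ a * q ^ b := by
  apply nse3_two_of_card N hN
  by_contra hc
  push Not at hc
  obtain ⟨a, b, c, ha, hb, hc', hab, hac, hbc⟩ := Finset.two_lt_card_iff.mp hc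
  exact h a b c (Nat.prime_of_mem_primeFactors ha) (Nat.prime_of_mem_primeFactors hb)
    (Nat.prime_of_mem_primeFactors hc') (Nat.dvd_of_mem_primeFactors ha)
    (Nat.dvd_of_mem_primeFactors hb) (Nat.dvd_of_mem_primeFactors hc') hab hac hbc

/-- L12 arithmetic: at most one odd prime. -/
theorem ar_one_odd (N : ℕ) (hN : N ≠ 0)
    (h : ∀ p q : ℕ, p.Prime → q.Prime → p ≠ 2 → q ≠ 2 → p ∣ N → q ∣ N → p ≠ q → False) :
    ∃ q a b : ℕ, q.Prime ∧ N = 2 ^ a * q ^ b := by
  obtain ⟨k, m, hm, hNm⟩ := Nat.exists_eq_two_pow_mul_odd hN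
  have hm0 : m ≠ 0 := by rintro rfl; simp at hm
  have hmN : m ∣ N := ⟨2 ^ k, by rw [hNm]; ring⟩
  have hodd : ∀ p, p.Prime → p ∣ m → p ≠ 2 := by
    rintro p hp hpm rfl
    exact (Nat.not_even_iff_odd.mpr hm) (even_iff_two_dvd.mpr hpm)
  have hcard : m.primeFactors.card ≤ 1 := by
    by_contra hc
    push Not at hc
    obtain ⟨a, ha, b, hb, hab⟩ := Finset.one_lt_card.mp hc
    have hap := Nat.prime_of_mem_primeFactors ha
    have hbp := Nat.prime_of_mem_primeFactors hb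
    have had := Nat.dvd_of_mem_primeFactors ha
    have hbd := Nat.dvd_of_mem_primeFactors hb
    exact h a b hap hbp (hodd a hap had) (hodd b hbp hbd) (had.trans hmN) (hbd.trans hmN) hab
  have hrep := nse3_prod_rep m hm0
  rcases Nat.lt_or_ge m.primeFactors.card 1 with h1 | h1
  · have h0 : m.primeFactors = ∅ := Finset.card_eq_zero.mp (by omega)
    rw [h0, Finset.prod_empty] at hrep
    exact ⟨2, k, 0, Nat.prime_two, by rw [hNm, hrep]; simp⟩
  · obtain ⟨p, hp⟩ := Finset.card_eq_one.mp (by omega : m.primeFactors.card = 1)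
    have hpp : p.Prime := Nat.prime_of_mem_primeFactors (by rw [hp]; exact Finset.mem_singleton_self p)
    rw [hp, Finset.prod_singleton] at hrep
    exact ⟨p, k, m.factorization p, hpp, by rw [hNm]; congr 1⟩

/-- L13 arithmetic: `N = 2 * odd`, at most two odd primes. -/
theorem ar_two_odd (N : ℕ) (hN : N ≠ 0) (h2 : 2 ∣ N) (h4 : ¬ 4 ∣ N)
    (h : ∀ p q r : ℕ, p.Prime → q.Prime → r.Prime → p ≠ 2 → q ≠ 2 → r ≠ 2 →
      p ∣ N → q ∣ N → r ∣ N → p ≠ q → p ≠ r → q ≠ r → False) :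
    ∃ p q a b : ℕ, p.Prime ∧ q.Prime ∧ N = 2 * (p ^ a * q ^ b) ∧ ¬ 2 ∣ p ^ a * q ^ b := by
  obtain ⟨m, rfl⟩ := h2
  have hm0 : m ≠ 0 := by rintro rfl; simp at hN
  have hm2 : ¬ 2 ∣ m := by
    rintro ⟨j, rfl⟩
    exact h4 ⟨j, by ring⟩
  have hmN : m ∣ 2 * m := ⟨2, by ring⟩
  have hodd : ∀ p, p.Prime → p ∣ m → p ≠ 2 := by
    rintro p _ hpm rfl
    exact hm2 hpm
  obtain ⟨p, q, a, b, hp, hq, hmpq⟩ := ar_two m hm0 (by
    intro p q r hp hq hr hpm hqm hrm hpq hpr hqr
    exact h p q r hp hq hr (hodd p hp hpm) (hodd q hq hqm) (hodd r hr hrm)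
      (hpm.trans hmN) (hqm.trans hmN) (hrm.trans hmN) hpq hpr hqr)
  exact ⟨p, q, a, b, hp, hq, by rw [← hmpq], by rw [← hmpq]; exact hm2⟩

end Cfsg.Agent.Lib.Helper44.NSE3
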