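import Mathlib
import Cfsg.Agent.Lib.Helper44.NilpSymExt
import Cfsg.Agent.Lib.Helper44.NilpAlt

set_option autoImplicit false

/-! Extremal nilpotent subgroups of `Aₙ`, `n ≡ 3 mod 4`: structure, conjugacy, existence. -/

namespace Cfsg.Agent.Lib.Helper44

open Equiv

/-- **Structure** of a nilpotent subgroup of `Sₙ` of order `3·2^u`, `u > v₂((n-4)!)`. -/
theorem extremal_structure_gen {n u : ℕ} (hu : padicValNat 2 (n - 4).factorial < u)
    (N : Subgroup (Perm (Fin n))) (hN : Group.IsNilpotent N) (hcard : Nat.card N = 3 * 2 ^ u) :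
    ∃ (h : Perm (Fin n)) (T : Subgroup (Perm (Fin n))), h.IsThreeCycle ∧
      T ≤ Subgroup.centralizer ({h} : Set (Perm (Fin n))) ∧ T ≤ N ∧ Nat.card T = 2 ^ u ∧
      N = T ⊔ Subgroup.zpowers h := by
  classical
  have : Fact (Nat.Prime 3) := ⟨Nat.prime_three⟩
  have hNinst : Group.IsNilpotent ↥N := hN
  have h3 : 3 ∣ Nat.card N := ⟨2 ^ u, hcard⟩
  obtain ⟨z, hz, hzc⟩ := exists_central_of_prime_dvd (G := ↥N) 3 h3
  set h : Perm (Fin n) := (z : Perm (Fin n)) with hh
  have hord : orderOf h = 3 := by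
    rw [← hz]
    exact Subgroup.orderOf_coe z
  have hcomm : ∀ g ∈ N, g * h = h * g := fun g hg => congrArg Subtype.val (hzc ⟨g, hg⟩)
  obtain ⟨T'⟩ : Nonempty (Sylow 2 ↥N) := Sylow.nonempty
  set T : Subgroup (Perm (Fin n)) := (T' : Subgroup ↥N).map N.subtype with hT
  have hTN : T ≤ N := Subgroup.map_subtype_le _
  have hTcard : Nat.card T = 2 ^ u := by
    rw [hT, Subgroup.card_map_of_injective N.subtype_injective, Sylow.card_eq_multiplicity T',
      Nat.factorization_def _ Nat.prime_two, hcard,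
      padicValNat.mul (by norm_num) (by positivity), padicValNat.prime_pow,
      padicValNat.eq_zero_of_not_dvd (by norm_num), zero_add]
  have hTC : T ≤ Subgroup.centralizer ({h} : Set (Perm (Fin n))) := by
    intro t ht
    rw [Subgroup.mem_centralizer_iff]
    intro x hx
    rw [Set.mem_singleton_iff] at hx
    rw [hx]
    exact (hcomm t (hTN ht)).symm
  obtain ⟨k', hk'⟩ := Equiv.Perm.cycleType_prime_order (σ := h) (by rw [hord]; exact Nat.prime_three)
  rw [hord] at hk'
  have hCcard := centralizer_card_of_replicate h (k' + 1) (by omega) hk'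
  have hdvd : 2 ^ u ∣ (n - 3 * (k' + 1)).factorial * 3 ^ (k' + 1) * (k' + 1).factorial := by
    rw [← hTcard, ← hCcard]
    exact Subgroup.card_dvd_of_le hTC
  have hsum : 3 * (k' + 1) ≤ n := by
    have h1 := Equiv.Perm.sum_cycleType h
    rw [hk', Multiset.sum_replicate, smul_eq_mul] at h1
    have h2 : h.support.card ≤ n := by
      have := Finset.card_le_univ h.support
      simpa using this
    omega
  have hk0 : k' = 0 := by
    by_contra hne
    have hcop : Nat.Coprime (2 ^ u) (3 ^ (k' + 1)) := by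
      apply Nat.Coprime.pow
      norm_num
    have hd2 : 2 ^ u ∣ (n - 3 * (k' + 1)).factorial * (k' + 1).factorial := by
      have : (n - 3 * (k' + 1)).factorial * 3 ^ (k' + 1) * (k' + 1).factorial =
          3 ^ (k' + 1) * ((n - 3 * (k' + 1)).factorial * (k' + 1).factorial) := by ring
      rw [this] at hdvd
      exact hcop.dvd_of_dvd_mul_left hdvd
    have hd3 : (n - 3 * (k' + 1)).factorial * (k' + 1).factorial ∣ (n - 4).factorial := by
      apply (Nat.factorial_mul_factorial_dvd_factorial_add _ _).trans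
      apply Nat.factorial_dvd_factorial
      omega
    have hd4 := hd2.trans hd3
    have hle := (padicValNat_dvd_iff_le (Nat.factorial_ne_zero _)).mp hd4
    omega
  have h3c : h.IsThreeCycle := by
    unfold Equiv.Perm.IsThreeCycle
    rw [hk', hk0]
    rfl
  refine ⟨h, T, h3c, hTC, hTN, hTcard, ?_⟩
  have hle : T ⊔ Subgroup.zpowers h ≤ N := by
    apply sup_le hTN
    rw [Subgroup.zpowers_le]
    exact z.2
  symm
  apply Subgroup.eq_of_le_of_card_ge hle
  have hd1 : 2 ^ u ∣ Nat.card ↥(T ⊔ Subgroup.zpowers h) := by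
    rw [← hTcard]
    exact Subgroup.card_dvd_of_le le_sup_left
  have hd2 : 3 ∣ Nat.card ↥(T ⊔ Subgroup.zpowers h) := by
    have : Nat.card (Subgroup.zpowers h) = 3 := by rw [Nat.card_zpowers, hord]
    rw [← this]
    exact Subgroup.card_dvd_of_le le_sup_right
  have hcop : Nat.Coprime 3 (2 ^ u) := by
    apply Nat.Coprime.pow_right
    norm_num
  have hd3 : 3 * 2 ^ u ∣ Nat.card ↥(T ⊔ Subgroup.zpowers h) := hcop.mul_dvd_of_dvd_of_dvd hd2 hd1
  rw [hcard]
  exact Nat.le_of_dvd Nat.card_pos hd3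

/-- the even part of the centraliser of a `3`-cycle -/
lemma card_centralizer_inf_alt {n : ℕ} (h5 : 5 ≤ n) (h : Perm (Fin n)) (h3 : h.IsThreeCycle) :
    2 * Nat.card ↥(Subgroup.centralizer ({h} : Set (Perm (Fin n))) ⊓ alternatingGroup (Fin n)) =
      (n - 3).factorial * 3 := by
  classical
  set C := Subgroup.centralizer ({h} : Set (Perm (Fin n))) with hC
  have hCcard : Nat.card C = (n - 3).factorial * 3 := by
    have := centralizer_card_of_replicate h 1 le_rfl (by rw [h3.cycleType]; rfl)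
    simpa using this
  -- an odd element of `C`
  have hcompl : 1 < (h.supportᶜ).card := by
    rw [Finset.card_compl, h3.card_support, Fintype.card_fin]
    omega
  obtain ⟨a, ha, b, hb, hab⟩ := Finset.one_lt_card.mp hcompl
  have ha' : h a = a := by
    rw [Finset.mem_compl, Perm.mem_support, not_not] at ha
    exact ha
  have hb' : h b = b := by
    rw [Finset.mem_compl, Perm.mem_support, not_not] at hb
    exact hb
  have hdisj : Perm.Disjoint (swap a b) h := by
    intro x
    by_cases hxa : x = a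
    · right
      rw [hxa, ha']
    by_cases hxb : x = b
    · right
      rw [hxb, hb']
    left
    exact swap_apply_of_ne_of_ne hxa hxb
  have hsC : swap a b ∈ C := by
    rw [hC, Subgroup.mem_centralizer_iff]
    intro x hx
    rw [Set.mem_singleton_iff] at hx
    rw [hx]
    exact hdisj.commute.eq.symm
  set φ : ↥C →* ℤˣ := Perm.sign.comp C.subtype with hφ
  have hsurj : Function.Surjective φ := by
    intro ε
    rcases Int.units_eq_one_or ε with rfl | rfl
    · exact ⟨1, map_one _⟩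
    · exact ⟨⟨swap a b, hsC⟩, Perm.sign_swap hab⟩
  have hker : φ.ker.map C.subtype = C ⊓ alternatingGroup (Fin n) := by
    ext x
    constructor
    · rintro ⟨y, hy, rfl⟩
      exact ⟨y.2, Perm.mem_alternatingGroup.mpr hy⟩
    · rintro ⟨hx1, hx2⟩
      exact ⟨⟨x, hx1⟩, Perm.mem_alternatingGroup.mp hx2, rfl⟩
  have hidx : φ.ker.index = 2 := by
    rw [Subgroup.index_ker, MonoidHom.range_eq_top.mpr hsurj, Subgroup.card_top]
    simp
  have hmul := Subgroup.card_mul_index φ.ker
  rw [hidx, hCcard] at hmul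
  rw [← hker, Subgroup.card_map_of_injective C.subtype_injective, ← hmul]
  ring

/-- **Conjugacy** in `Aₙ` of the nilpotent subgroups of `Aₙ`, `n ≡ 3 mod 4`, `n ≥ 7`, of order
`3·|Syl₂(A_{n-3})|`. -/
theorem extremal_conj_alt {n : ℕ} (hn : n % 4 = 3) (h7 : 7 ≤ n)
    (N₁ N₂ : Subgroup (Perm (Fin n)))
    (hN₁ : Group.IsNilpotent N₁) (hN₂ : Group.IsNilpotent N₂)
    (he₁ : N₁ ≤ alternatingGroup (Fin n)) (he₂ : N₂ ≤ alternatingGroup (Fin n))
    (hc₁ : 2 * Nat.card N₁ = 3 * F2 (n - 3)) (hc₂ : 2 * Nat.card N₂ = 3 * F2 (n - 3)) :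
    ∃ g : Perm (Fin n), Perm.sign g = 1 ∧ N₂ = N₁.map (MulAut.conj g).toMonoidHom := by
  classical
  set v := padicValNat 2 (n - 3).factorial with hv
  have hF2 : F2 (n - 3) = 2 ^ v := rfl
  have hpred := F2_pred_lt hn h7
  obtain ⟨u, hu⟩ : ∃ u, v = u + 1 := ⟨v - 1, by omega⟩
  have hcard : ∀ N : Subgroup (Perm (Fin n)), 2 * Nat.card N = 3 * F2 (n - 3) →
      Nat.card N = 3 * 2 ^ u := by
    intro N hc
    rw [hF2, hu, pow_succ] at hc
    omega
  have hult : padicValNat 2 (n - 4).factorial < u := by omega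
  obtain ⟨h₁, T₁, h3₁, hTC₁, hTN₁, hT₁, hN₁eq⟩ :=
    extremal_structure_gen hult N₁ hN₁ (hcard N₁ hc₁)
  obtain ⟨h₂, T₂, h3₂, hTC₂, hTN₂, hT₂, hN₂eq⟩ :=
    extremal_structure_gen hult N₂ hN₂ (hcard N₂ hc₂)
  -- conjugating the 3-cycles inside `Aₙ`
  have h5 : 5 ≤ Nat.card (Fin n) := by
    rw [Nat.card_fin]
    omega
  have hconj : IsConj (⟨h₁, h3₁.mem_alternatingGroup⟩ : alternatingGroup (Fin n))
      ⟨h₂, h3₂.mem_alternatingGroup⟩ := alternatingGroup.isThreeCycle_isConj h5 h3₁ h3₂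
  obtain ⟨π, hπ⟩ := isConj_iff.mp hconj
  set g₀ : Perm (Fin n) := (π : Perm (Fin n)) with hg₀def
  have hg₀s : Perm.sign g₀ = 1 := Perm.mem_alternatingGroup.mp π.2
  have hg₀ : g₀ * h₁ * g₀⁻¹ = h₂ := by
    have := congrArg Subtype.val hπ
    simpa using this
  set CA := Subgroup.centralizer ({h₂} : Set (Perm (Fin n))) ⊓ alternatingGroup (Fin n) with hCA
  have hCAcard := card_centralizer_inf_alt (by omega) h₂ h3₂
  rw [← hCA] at hCAcard
  set T₁' := T₁.map (MulAut.conj g₀).toMonoidHom with hT₁'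
  have hT₁'C : T₁' ≤ CA := by
    rintro _ ⟨t, ht, rfl⟩
    rw [hCA, Subgroup.mem_inf]
    refine ⟨?_, ?_⟩
    · rw [Subgroup.mem_centralizer_iff]
      intro x hx
      rw [Set.mem_singleton_iff] at hx
      rw [hx]
      have h1 := (Subgroup.mem_centralizer_iff.mp (hTC₁ ht)) h₁ rfl
      simp only [MulEquiv.coe_toMonoidHom, MulAut.conj_apply]
      rw [← hg₀]
      calc g₀ * h₁ * g₀⁻¹ * (g₀ * t * g₀⁻¹) = g₀ * (h₁ * t) * g₀⁻¹ := by group
        _ = g₀ * (t * h₁) * g₀⁻¹ := by rw [h1]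
        _ = g₀ * t * g₀⁻¹ * (g₀ * h₁ * g₀⁻¹) := by group
    · rw [Perm.mem_alternatingGroup]
      simp only [MulEquiv.coe_toMonoidHom, MulAut.conj_apply, map_mul, map_inv, hg₀s]
      have := Perm.mem_alternatingGroup.mp (he₁ (hTN₁ ht))
      rw [this]
      simp
  have hT₂C : T₂ ≤ CA := fun t ht => ⟨hTC₂ ht, he₂ (hTN₂ ht)⟩
  have hT₁'card : Nat.card T₁' = 2 ^ u := by
    rw [hT₁', Subgroup.card_map_of_injective (MulAut.conj g₀).injective, hT₁]
  have hfac : (Nat.card CA).factorization 2 = u := by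
    have h1 : padicValNat 2 (2 * Nat.card CA) = 1 + padicValNat 2 (Nat.card CA) := by
      rw [padicValNat.mul (by norm_num) Nat.card_pos.ne']
      simp
    rw [hCAcard, padicValNat.mul (Nat.factorial_ne_zero _) (by norm_num),
      padicValNat.eq_zero_of_not_dvd (by norm_num : ¬ 2 ∣ 3), add_zero] at h1
    rw [Nat.factorization_def _ Nat.prime_two]
    omega
  have hQ₁ : Nat.card (T₁'.subgroupOf CA) = 2 ^ (Nat.card CA).factorization 2 := by
    rw [hfac, Nat.card_congr (Subgroup.subgroupOfEquivOfLe hT₁'C).toEquiv, hT₁'card]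
  have hQ₂ : Nat.card (T₂.subgroupOf CA) = 2 ^ (Nat.card CA).factorization 2 := by
    rw [hfac, Nat.card_congr (Subgroup.subgroupOfEquivOfLe hT₂C).toEquiv, hT₂]
  let S₁ : Sylow 2 ↥CA := Sylow.ofCard _ hQ₁
  let S₂ : Sylow 2 ↥CA := Sylow.ofCard _ hQ₂
  obtain ⟨c, hc⟩ := MulAction.exists_smul_eq ↥CA S₁ S₂
  have hc' : T₂.subgroupOf CA = (T₁'.subgroupOf CA).map (MulAut.conj c).toMonoidHom := by
    have : (S₂ : Subgroup ↥CA) = (S₁ : Subgroup ↥CA).map (MulAut.conj c).toMonoidHom := by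
      rw [← hc]
      rfl
    exact this
  have hT₂eq : T₂ = T₁'.map (MulAut.conj (c : Perm (Fin n))).toMonoidHom := by
    have h1 := congrArg (Subgroup.map CA.subtype) hc'
    rw [Subgroup.map_subgroupOf_eq_of_le hT₂C, Subgroup.map_map] at h1
    have h2 : (CA.subtype).comp (MulAut.conj c).toMonoidHom =
        (MulAut.conj (c : Perm (Fin n))).toMonoidHom.comp CA.subtype := by
      ext x
      simp
    rw [h2, ← Subgroup.map_map, Subgroup.map_subgroupOf_eq_of_le hT₁'C] at h1
    exact h1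
  have hcs : Perm.sign (c : Perm (Fin n)) = 1 := Perm.mem_alternatingGroup.mp c.2.2
  refine ⟨(c : Perm (Fin n)) * g₀, by rw [map_mul, hcs, hg₀s, one_mul], ?_⟩
  have hconjmul : (MulAut.conj ((c : Perm (Fin n)) * g₀)).toMonoidHom =
      (MulAut.conj (c : Perm (Fin n))).toMonoidHom.comp (MulAut.conj g₀).toMonoidHom := by
    ext x
    simp [mul_assoc]
  have hh : (MulAut.conj ((c : Perm (Fin n)) * g₀)).toMonoidHom h₁ = h₂ := by
    simp only [MulEquiv.coe_toMonoidHom, MulAut.conj_apply]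
    have h1 := Subgroup.mem_centralizer_iff.mp c.2.1 h₂ rfl
    calc (c : Perm (Fin n)) * g₀ * h₁ * ((c : Perm (Fin n)) * g₀)⁻¹
        = (c : Perm (Fin n)) * (g₀ * h₁ * g₀⁻¹) * (c : Perm (Fin n))⁻¹ := by group
      _ = (c : Perm (Fin n)) * h₂ * (c : Perm (Fin n))⁻¹ := by rw [hg₀]
      _ = h₂ * (c : Perm (Fin n)) * (c : Perm (Fin n))⁻¹ := by rw [h1]
      _ = h₂ := by group
  rw [hN₁eq, hN₂eq, Subgroup.map_sup, MonoidHom.map_zpowers, hh, hconjmul, ← Subgroup.map_map,
    ← hT₁', ← hT₂eq]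

section existence

lemma sign_zmodPerm (a : Multiplicative (ZMod 3)) : Perm.sign (zmodPerm a) = 1 := by
  have h1 : a ^ 3 = 1 := by
    have : (3 : ℕ) • (Multiplicative.toAdd a) = 0 := by
      rw [nsmul_eq_mul]
      have : ((3 : ℕ) : ZMod 3) = 0 := ZMod.natCast_self 3
      rw [this, zero_mul]
    exact congrArg Multiplicative.ofAdd this
  have h2 : Perm.sign (zmodPerm a) ^ 3 = 1 := by
    rw [← map_pow, ← map_pow, h1, map_one, map_one]
  rcases Int.units_eq_one_or (Perm.sign (zmodPerm a)) with h | h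
  · exact h
  · rw [h] at h2
    exact absurd h2 (by decide)

/-- **Existence** of a nilpotent subgroup `P × C₃` of `Aₙ`, `n ≥ 3`. -/
theorem exists_extremal_alt {n : ℕ} (hn : 3 ≤ n) (P : Sylow 2 (alternatingGroup (Fin (n - 3)))) :
    ∃ M : Subgroup (alternatingGroup (Fin n)), Group.IsNilpotent M ∧
      Nat.card M = 3 * Nat.card P ∧
      Nonempty (M ≃* (↥(P : Subgroup (alternatingGroup (Fin (n - 3)))) ×
        Multiplicative (ZMod 3))) := by
  classical
  have e : Fin (n - 3) ⊕ ZMod 3 ≃ Fin n :=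
    Fintype.equivOfCardEq (by simp [ZMod.card]; omega)
  set ι' := (alternatingGroup (Fin (n - 3))).subtype with hι'
  set Φ₀ : ↥(P : Subgroup (alternatingGroup (Fin (n - 3)))) × Multiplicative (ZMod 3) →*
      Perm (Fin n) :=
    (e.permCongrHom).toMonoidHom.comp ((Perm.sumCongrHom (Fin (n - 3)) (ZMod 3)).comp
      (MonoidHom.prodMap
        (ι'.comp (P : Subgroup (alternatingGroup (Fin (n - 3)))).subtype) zmodPerm)) with hΦ₀
  have hΦ₀inj : Function.Injective Φ₀ := by
    apply (e.permCongrHom).injective.comp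
    apply Perm.sumCongrHom_injective.comp
    intro x y h
    have h1 : ((x.1 : alternatingGroup (Fin (n - 3))) : Perm (Fin (n - 3))) = y.1 := by
      have := congrArg Prod.fst h
      exact this
    have h2 : zmodPerm x.2 = zmodPerm y.2 := by
      have := congrArg Prod.snd h
      exact this
    exact Prod.ext (Subtype.ext (Subtype.ext h1)) (zmodPerm_injective h2)
  have heven : ∀ x, Φ₀ x ∈ alternatingGroup (Fin n) := by
    intro x
    rw [Perm.mem_alternatingGroup]
    have h1 : Φ₀ x = e.permCongr (Equiv.sumCongr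
        ((x.1 : alternatingGroup (Fin (n - 3))) : Perm (Fin (n - 3))) (zmodPerm x.2)) := rfl
    rw [h1, Perm.sign_permCongr, Perm.sign_sumCongr, sign_zmodPerm,
      Perm.mem_alternatingGroup.mp (x.1 : alternatingGroup (Fin (n - 3))).2, one_mul]
  set Φ : ↥(P : Subgroup (alternatingGroup (Fin (n - 3)))) × Multiplicative (ZMod 3) →*
      alternatingGroup (Fin n) := Φ₀.codRestrict (alternatingGroup (Fin n)) heven with hΦ
  have hΦinj : Function.Injective Φ := by
    intro x y h
    exact hΦ₀inj (congrArg Subtype.val h)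
  have hPnil : Group.IsNilpotent ↥(P : Subgroup (alternatingGroup (Fin (n - 3)))) :=
    P.isPGroup'.isNilpotent
  have hnil : Group.IsNilpotent
      (↥(P : Subgroup (alternatingGroup (Fin (n - 3)))) × Multiplicative (ZMod 3)) :=
    inferInstance
  let ι := MonoidHom.ofInjective hΦinj
  refine ⟨Φ.range, Group.nilpotent_of_mulEquiv ι, ?_, ⟨ι.symm⟩⟩
  rw [← Nat.card_congr ι.toEquiv, Nat.card_prod, mul_comm]
  congr 1
  rw [Nat.card_eq_fintype_card]
  exact ZMod.card 3

end existence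

/-- transfer of conjugacy from `Sₙ` to the subtype `Aₙ` -/
theorem extremal_conj_alt' {n : ℕ} (hn : n % 4 = 3) (h7 : 7 ≤ n)
    (N₁ N₂ : Subgroup (alternatingGroup (Fin n)))
    (hN₁ : Group.IsNilpotent N₁) (hN₂ : Group.IsNilpotent N₂)
    (hc₁ : 2 * Nat.card N₁ = 3 * F2 (n - 3)) (hc₂ : 2 * Nat.card N₂ = 3 * F2 (n - 3)) :
    ∃ g : alternatingGroup (Fin n), N₂ = N₁.map (MulAut.conj g).toMonoidHom := by
  set ι := (alternatingGroup (Fin n)).subtype with hι
  have hinj : Function.Injective ι := Subgroup.subtype_injective _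
  have hnil : ∀ N : Subgroup (alternatingGroup (Fin n)), Group.IsNilpotent N →
      Group.IsNilpotent ↥(N.map ι) := by
    intro N hN
    have hNinst : Group.IsNilpotent ↥N := hN
    exact Group.nilpotent_of_mulEquiv (N.equivMapOfInjective ι hinj)
  have heven : ∀ N : Subgroup (alternatingGroup (Fin n)), N.map ι ≤ alternatingGroup (Fin n) := by
    rintro N _ ⟨x, _, rfl⟩
    exact x.2
  obtain ⟨g, hgs, hg⟩ := extremal_conj_alt hn h7 (N₁.map ι) (N₂.map ι) (hnil N₁ hN₁)
    (hnil N₂ hN₂) (heven N₁) (heven N₂)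
    (by rw [Subgroup.card_map_of_injective hinj]; exact hc₁)
    (by rw [Subgroup.card_map_of_injective hinj]; exact hc₂)
  refine ⟨⟨g, Perm.mem_alternatingGroup.mpr hgs⟩, ?_⟩
  apply Subgroup.map_injective hinj
  rw [hg, Subgroup.map_map, Subgroup.map_map]
  congr 1

end Cfsg.Agent.Lib.Helper44
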