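import Mathlib

/-!
# Order types via the counting function `F A d = #{x : x ^ d = 1}`

`F` is multiplicative over direct products and powers, and determines the number of
elements of each order.  Graded counts `cnt φ q d` handle fibre products.
-/

set_option autoImplicit false

namespace Cfsg.Agent.Lib.Helper44.OT

/-- number of solutions of `x ^ d = 1`. -/
noncomputable def F (A : Type*) [Monoid A] (d : ℕ) : ℕ := Nat.card {x : A // x ^ d = 1}

/-- number of solutions of `x ^ d = 1` in the fibre of `φ` over `q`. -/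
noncomputable def cnt {X Q : Type*} [Monoid X] [Monoid Q] (φ : X →* Q) (q : Q) (d : ℕ) : ℕ :=
  Nat.card {x : X // φ x = q ∧ x ^ d = 1}

theorem F_prod (A B : Type*) [Monoid A] [Monoid B] (d : ℕ) :
    F (A × B) d = F A d * F B d := by
  unfold F
  rw [← Nat.card_prod]
  refine Nat.card_congr
    { toFun := fun p => (⟨p.1.1, by simpa using congrArg Prod.fst p.2⟩,
                          ⟨p.1.2, by simpa using congrArg Prod.snd p.2⟩)
      invFun := fun p => ⟨(p.1.1, p.2.1), by
        ext
        · simpa using p.1.2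
        · simpa using p.2.2⟩
      left_inv := fun p => rfl
      right_inv := fun p => rfl }

theorem F_pi (ι : Type*) [Fintype ι] (A : Type*) [Monoid A] (d : ℕ) :
    F (ι → A) d = F A d ^ Fintype.card ι := by
  unfold F
  rw [← Nat.card_eq_fintype_card (α := ι), ← Nat.card_fun]
  refine Nat.card_congr
    { toFun := fun p i => ⟨p.1 i, by simpa using congrFun p.2 i⟩
      invFun := fun p => ⟨fun i => (p i).1, by
        funext i
        simpa using (p i).2⟩
      left_inv := fun p => rfl
      right_inv := fun p => rfl }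

theorem F_congr {A B : Type*} [Monoid A] [Monoid B] (e : A ≃* B) (d : ℕ) : F A d = F B d := by
  unfold F
  refine Nat.card_congr
    { toFun := fun p => ⟨e p.1, by rw [← map_pow, p.2, map_one]⟩
      invFun := fun p => ⟨e.symm p.1, by rw [← map_pow, p.2, map_one]⟩
      left_inv := fun p => by simp
      right_inv := fun p => by simp }

theorem F_eq_sum_cnt {X Q : Type*} [Monoid X] [Finite X] [Monoid Q] [Fintype Q]
    (φ : X →* Q) (d : ℕ) : F X d = ∑ q, cnt φ q d := by
  classical
  unfold F cnt
  have : Fintype X := Fintype.ofFinite X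
  simp only [Nat.card_eq_fintype_card, Fintype.card_subtype]
  rw [← Finset.card_biUnion]
  · congr 1
    ext x
    simp
  · intro a _ b _ hab
    rw [Function.onFun, Finset.disjoint_left]
    intro x hx hx'
    simp only [Finset.mem_filter, Finset.mem_univ, true_and] at hx hx'
    exact hab (hx.1.symm.trans hx'.1)

theorem F_of_pow_eq_one {A : Type*} [Monoid A] (e : ℕ) (h : ∀ x : A, x ^ e = 1) (d : ℕ) :
    F A d = F A (Nat.gcd d e) := by
  unfold F
  refine Nat.card_congr (Equiv.subtypeEquivRight fun x => ?_)
  constructor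
  · intro hx
    exact pow_gcd_eq_one.2 ⟨hx, h x⟩
  · intro hx
    obtain ⟨k, hk⟩ := Nat.gcd_dvd_left d e
    rw [hk, pow_mul, hx, one_pow]

theorem cnt_of_pow_eq_one {X Q : Type*} [Monoid X] [Monoid Q] (φ : X →* Q) (e : ℕ)
    (h : ∀ x : X, x ^ e = 1) (q : Q) (d : ℕ) :
    cnt φ q d = cnt φ q (Nat.gcd d e) := by
  unfold cnt
  refine Nat.card_congr (Equiv.subtypeEquivRight fun x => and_congr_right fun _ => ?_)
  constructor
  · intro hx
    exact pow_gcd_eq_one.2 ⟨hx, h x⟩
  · intro hx
    obtain ⟨k, hk⟩ := Nat.gcd_dvd_left d e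
    rw [hk, pow_mul, hx, one_pow]

section FP

variable {X Y Q : Type*} [Group X] [Group Y] [Group Q]

/-- fibre product (equalizer) of two homomorphisms into `Q`. -/
def FP (φ : X →* Q) (ψ : Y →* Q) : Subgroup (X × Y) :=
  (φ.comp (MonoidHom.fst X Y)).eqLocus (ψ.comp (MonoidHom.snd X Y))

theorem mem_FP {φ : X →* Q} {ψ : Y →* Q} {p : X × Y} : p ∈ FP φ ψ ↔ φ p.1 = ψ p.2 := Iff.rfl

/-- the grading of the fibre product. -/
def FPhom (φ : X →* Q) (ψ : Y →* Q) : FP φ ψ →* Q :=
  (φ.comp (MonoidHom.fst X Y)).comp (FP φ ψ).subtype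

theorem FPhom_apply (φ : X →* Q) (ψ : Y →* Q) (p : FP φ ψ) : FPhom φ ψ p = φ p.1.1 := rfl

theorem cnt_FP (φ : X →* Q) (ψ : Y →* Q) (q : Q) (d : ℕ) :
    cnt (FPhom φ ψ) q d = cnt φ q d * cnt ψ q d := by
  unfold cnt
  rw [← Nat.card_prod]
  refine Nat.card_congr
    { toFun := fun p => (⟨p.1.1.1, by
          refine ⟨p.2.1, ?_⟩
          have := congrArg (fun z : FP φ ψ => z.1.1) p.2.2
          simpa using this⟩,
        ⟨p.1.1.2, by
          refine ⟨?_, ?_⟩
          · exact ((mem_FP.1 p.1.2).symm.trans (FPhom_apply φ ψ p.1).symm).trans p.2.1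
          · have := congrArg (fun z : FP φ ψ => z.1.2) p.2.2
            simpa using this⟩)
      invFun := fun p => ⟨⟨(p.1.1, p.2.1), by
          rw [mem_FP]; exact p.1.2.1.trans p.2.2.1.symm⟩, by
          refine ⟨p.1.2.1, ?_⟩
          apply Subtype.ext
          ext
          · simpa using p.1.2.2
          · simpa using p.2.2.2⟩
      left_inv := fun p => rfl
      right_inv := fun p => rfl }

end FP


section OrderType

variable {G : Type*} [Group G] [Finite G]

/-- number of elements of order `n`. -/
noncomputable def ordCount (G : Type*) [Monoid G] (n : ℕ) : ℕ := Nat.card {g : G // orderOf g = n}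

theorem F_eq_sum_ordCount (d : ℕ) (hd : d ≠ 0) :
    F G d = ∑ n ∈ Nat.divisors d, ordCount G n := by
  classical
  have : Fintype G := Fintype.ofFinite G
  unfold F ordCount
  simp only [Nat.card_eq_fintype_card, Fintype.card_subtype]
  rw [Finset.card_eq_sum_card_fiberwise (f := fun x : G => orderOf x) (t := Nat.divisors d)]
  · refine Finset.sum_congr rfl fun n hn => ?_
    congr 1
    ext x
    simp only [Finset.mem_filter, Finset.mem_univ, true_and]
    constructor
    · exact fun h => h.2
    · intro h
      refine ⟨?_, h⟩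
      rw [← orderOf_dvd_iff_pow_eq_one, h]
      exact Nat.dvd_of_mem_divisors hn
  · intro x hx
    have hx' : x ^ d = 1 := (Finset.mem_filter.1 hx).2
    exact Nat.mem_divisors.2 ⟨orderOf_dvd_iff_pow_eq_one.2 hx', hd⟩

theorem ordCount_zero : ordCount G 0 = 0 := by
  unfold ordCount
  rw [Nat.card_eq_zero]
  left
  exact ⟨fun g => (orderOf_pos g.1).ne' g.2⟩

end OrderType

theorem ordCount_eq_of_F_eq {G H : Type*} [Group G] [Finite G] [Group H] [Finite H]
    (h : ∀ d, F G d = F H d) (n : ℕ) : ordCount G n = ordCount H n := by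
  induction n using Nat.strong_induction_on with
  | _ n ih =>
    rcases Nat.eq_zero_or_pos n with rfl | hn
    · rw [ordCount_zero, ordCount_zero]
    · have h1 := F_eq_sum_ordCount (G := G) n hn.ne'
      have h2 := F_eq_sum_ordCount (G := H) n hn.ne'
      rw [← Nat.insert_self_properDivisors hn.ne',
        Finset.sum_insert Nat.self_notMem_properDivisors] at h1 h2
      have h3 : ∑ i ∈ n.properDivisors, ordCount G i = ∑ i ∈ n.properDivisors, ordCount H i :=
        Finset.sum_congr rfl fun m hm => ih m (Nat.mem_properDivisors.1 hm).2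
      have := h n
      omega

theorem isSolvable_pi (ι : Type*) (A : Type*) [Group A] [Group.IsSolvable A] :
    Group.IsSolvable (ι → A) := by
  obtain ⟨n, hn⟩ := (Group.isSolvable_def A).1 inferInstance
  refine (Group.isSolvable_def _).2 ⟨n, ?_⟩
  rw [eq_bot_iff]
  intro x hx
  rw [Subgroup.mem_bot]
  funext i
  have h1 : (Pi.evalMonoidHom (fun _ : ι => A) i) x ∈
      (derivedSeries (ι → A) n).map (Pi.evalMonoidHom (fun _ : ι => A) i) :=
    Subgroup.mem_map_of_mem _ hx
  have h2 := map_derivedSeries_le_derivedSeries (Pi.evalMonoidHom (fun _ : ι => A) i) n h1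
  rw [hn, Subgroup.mem_bot] at h2
  exact h2

section SD

/-- an action of a group on an additive commutative group by automorphisms, as explicit data. -/
structure Act (L V : Type*) [Group L] [AddCommGroup V] where
  /-- the action -/
  act : L → V → V
  act_one : ∀ v, act 1 v = v
  act_mul : ∀ a b v, act (a * b) v = act a (act b v)
  act_add : ∀ a v w, act a (v + w) = act a v + act a w

variable {L V : Type*} [Group L] [AddCommGroup V]

theorem Act.act_zero (A : Act L V) (a : L) : A.act a 0 = 0 := by
  have h := A.act_add a 0 0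
  rw [add_zero] at h
  exact left_eq_add.mp h

/-- the semidirect product `V ⋊ L` for an explicit action. -/
@[ext] structure SD (A : Act L V) where
  /-- normal part -/
  v : V
  /-- complement part -/
  l : L

namespace SD

variable (A : Act L V)

instance [DecidableEq V] [DecidableEq L] : DecidableEq (SD A) := fun a b =>
  decidable_of_iff (a.v = b.v ∧ a.l = b.l) (by rw [SD.ext_iff])

/-- `SD A` is `V × L` as a type. -/
def equivProd : SD A ≃ V × L where
  toFun a := (a.v, a.l)
  invFun p := ⟨p.1, p.2⟩
  left_inv _ := rfl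
  right_inv _ := rfl

instance [Fintype V] [Fintype L] : Fintype (SD A) := Fintype.ofEquiv _ (equivProd A).symm

instance [Finite V] [Finite L] : Finite (SD A) := Finite.of_equiv _ (equivProd A).symm

instance : Mul (SD A) := ⟨fun a b => ⟨a.v + A.act a.l b.v, a.l * b.l⟩⟩
instance : One (SD A) := ⟨⟨0, 1⟩⟩
instance : Inv (SD A) := ⟨fun a => ⟨-A.act a.l⁻¹ a.v, a.l⁻¹⟩⟩

@[simp] theorem mul_v (a b : SD A) : (a * b).v = a.v + A.act a.l b.v := rfl
@[simp] theorem mul_l (a b : SD A) : (a * b).l = a.l * b.l := rfl
@[simp] theorem one_v : (1 : SD A).v = 0 := rfl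
@[simp] theorem one_l : (1 : SD A).l = 1 := rfl
@[simp] theorem inv_v (a : SD A) : (a⁻¹).v = -A.act a.l⁻¹ a.v := rfl
@[simp] theorem inv_l (a : SD A) : (a⁻¹).l = a.l⁻¹ := rfl

instance : Group (SD A) where
  mul_assoc a b c := by
    ext
    · simp [A.act_add, A.act_mul, add_assoc]
    · simp [mul_assoc]
  one_mul a := by
    ext
    · simp [A.act_one]
    · simp
  mul_one a := by
    ext
    · simp [A.act_zero]
    · simp
  inv_mul_cancel a := by
    ext
    · simp
    · simp

/-- projection to the complement. -/
def snd : SD A →* L where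
  toFun a := a.l
  map_one' := rfl
  map_mul' _ _ := rfl

@[simp] theorem snd_apply (a : SD A) : snd A a = a.l := rfl

/-- inclusion of the normal part. -/
def inl : Multiplicative V →* SD A where
  toFun v := ⟨Multiplicative.toAdd v, 1⟩
  map_one' := rfl
  map_mul' a b := by
    ext
    · simp [A.act_one]
    · simp

instance [Group.IsSolvable L] : Group.IsSolvable (SD A) := by
  refine Group.isSolvable_of_ker_le_range (inl A) (snd A) ?_
  intro a ha
  rw [MonoidHom.mem_ker, snd_apply] at ha
  refine ⟨Multiplicative.ofAdd a.v, ?_⟩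
  ext
  · rfl
  · exact ha.symm

end SD

end SD

section Computable

variable {X Q : Type*} [Monoid X] [Monoid Q] [Fintype X] [DecidableEq X] [DecidableEq Q]

theorem cnt_eq_card_filter (φ : X →* Q) (q : Q) (d : ℕ) :
    cnt φ q d = (Finset.univ.filter fun x : X => φ x = q ∧ x ^ d = 1).card := by
  unfold cnt
  rw [Nat.card_eq_fintype_card, Fintype.card_subtype]

theorem F_eq_card_filter (d : ℕ) :
    F X d = (Finset.univ.filter fun x : X => x ^ d = 1).card := by
  unfold F
  rw [Nat.card_eq_fintype_card, Fintype.card_subtype]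

end Computable

end Cfsg.Agent.Lib.Helper44.OT
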