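import Cfsg.Agent.Lib.Helper44.OT

/-!
# The simple group of order 168 as the automorphism group of the Fano plane

Points are the nonzero vectors of `F_2^3` (index `i` is the vector with binary label `i+1`);
`x3 a b` is the third point on the line through `a ≠ b`.
-/

set_option autoImplicit false
set_option maxRecDepth 100000

namespace Cfsg.Agent.Lib.Helper44.OT

open Equiv
open scoped commutatorElement

/-- third point on the line through two distinct points of the Fano plane. -/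
def x3 (a b : Fin 7) : Fin 7 :=
  ![![0, 2, 1, 4, 3, 6, 5],
    ![2, 1, 0, 5, 6, 3, 4],
    ![1, 0, 2, 6, 5, 4, 3],
    ![4, 5, 6, 3, 0, 1, 2],
    ![3, 6, 5, 0, 4, 2, 1],
    ![6, 3, 4, 1, 2, 5, 0],
    ![5, 4, 3, 2, 1, 0, 6]] a b

/-- the collineation group of the Fano plane, of order 168. -/
def L27 : Subgroup (Perm (Fin 7)) where
  carrier := {σ | ∀ a b : Fin 7, a ≠ b → σ (x3 a b) = x3 (σ a) (σ b)}
  mul_mem' := by
    intro σ τ hσ hτ a b hab
    have h1 := hτ a b hab
    have h2 := hσ (τ a) (τ b) (fun h => hab (τ.injective h))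
    simp only [Perm.coe_mul, Function.comp_apply]
    rw [h1, h2]
  one_mem' := by intro a b _; rfl
  inv_mem' := by
    intro σ hσ a b hab
    have h := hσ (σ⁻¹ a) (σ⁻¹ b) (fun h => hab (σ⁻¹.injective h))
    have e1 : σ (σ⁻¹ a) = a := by simp
    have e2 : σ (σ⁻¹ b) = b := by simp
    rw [e1, e2] at h
    rw [← h]
    simp

theorem mem_L27 {σ : Perm (Fin 7)} :
    σ ∈ L27 ↔ ∀ a b : Fin 7, a ≠ b → σ (x3 a b) = x3 (σ a) (σ b) := Iff.rfl

/-- the linear extension of the images of the basis points `0, 1, 3`. -/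
def lin (a b c : Fin 7) : Fin 7 → Fin 7 :=
  ![a, b, x3 a b, c, x3 a c, x3 b c, x3 (x3 a b) c]

/-- independence of a triple of points. -/
def Indep (t : Fin 7 × Fin 7 × Fin 7) : Prop :=
  t.1 ≠ t.2.1 ∧ t.2.2 ≠ t.1 ∧ t.2.2 ≠ t.2.1 ∧ t.2.2 ≠ x3 t.1 t.2.1

instance : DecidablePred Indep := fun t => by unfold Indep; infer_instance

theorem lin_bij : ∀ t : Fin 7 × Fin 7 × Fin 7, Indep t →
    Function.Bijective (lin t.1 t.2.1 t.2.2) := by decide +kernel

theorem lin_compat : ∀ t : Fin 7 × Fin 7 × Fin 7, Indep t → ∀ p q : Fin 7, p ≠ q →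
    lin t.1 t.2.1 t.2.2 (x3 p q) = x3 (lin t.1 t.2.1 t.2.2 p) (lin t.1 t.2.1 t.2.2 q) := by
  decide +kernel

/-- the element of `L27` with prescribed images of the basis points. -/
noncomputable def toL27 (t : {t : Fin 7 × Fin 7 × Fin 7 // Indep t}) : L27 :=
  ⟨Equiv.ofBijective _ (lin_bij t.1 t.2), fun p q hpq => lin_compat t.1 t.2 p q hpq⟩

theorem toL27_apply (t : {t : Fin 7 × Fin 7 × Fin 7 // Indep t}) (p : Fin 7) :
    (toL27 t).1 p = lin t.1.1 t.1.2.1 t.1.2.2 p := rfl

theorem eq_lin {σ : Perm (Fin 7)} (hσ : σ ∈ L27) (p : Fin 7) :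
    σ p = lin (σ 0) (σ 1) (σ 3) p := by
  have h01 : σ 2 = x3 (σ 0) (σ 1) := hσ 0 1 (by decide)
  have h03 : σ 4 = x3 (σ 0) (σ 3) := hσ 0 3 (by decide)
  have h13 : σ 5 = x3 (σ 1) (σ 3) := hσ 1 3 (by decide)
  have h23 : σ 6 = x3 (σ 2) (σ 3) := hσ 2 3 (by decide)
  fin_cases p
  · rfl
  · rfl
  · exact h01
  · rfl
  · exact h03
  · exact h13
  · rw [h01] at h23; exact h23

theorem toL27_bijective : Function.Bijective toL27 := by
  constructor
  · intro s t h
    have h0 := congrArg (fun g : L27 => g.1 0) h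
    have h1 := congrArg (fun g : L27 => g.1 1) h
    have h3 := congrArg (fun g : L27 => g.1 3) h
    simp only [toL27_apply] at h0 h1 h3
    apply Subtype.ext
    exact Prod.ext h0 (Prod.ext h1 h3)
  · intro g
    have hg := g.2
    have hI : Indep (g.1 0, g.1 1, g.1 3) := by
      refine ⟨?_, ?_, ?_, ?_⟩
      · exact fun h => absurd (g.1.injective h) (by decide)
      · exact fun h => absurd (g.1.injective h) (by decide)
      · exact fun h => absurd (g.1.injective h) (by decide)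
      · intro h
        have h01 : g.1 2 = x3 (g.1 0) (g.1 1) := hg 0 1 (by decide)
        rw [← h01] at h
        exact absurd (g.1.injective h) (by decide)
    refine ⟨⟨_, hI⟩, ?_⟩
    apply Subtype.ext
    apply Equiv.ext
    intro p
    rw [toL27_apply]
    exact (eq_lin hg p).symm

noncomputable instance instFintypeL27 : Fintype L27 := Fintype.ofBijective toL27 toL27_bijective

/-- table of `F L27`. -/
def T_L27 (k : ℕ) : ℕ :=
  match k with
  | 1 => 1
  | 2 => 22
  | 3 => 57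
  | 4 => 64
  | 6 => 78
  | 7 => 49
  | 12 => 120
  | 14 => 70
  | 21 => 105
  | 28 => 112
  | 42 => 126
  | 84 => 168
  | _ => 0

theorem exp_L27 : ∀ x : L27, x ^ 84 = 1 := by decide +kernel

theorem tabaux_L27 : ∀ k ∈ Nat.divisors 84,
    (Finset.univ.filter fun x : L27 => x ^ k = 1).card = T_L27 k := by
  decide +kernel

theorem F_L27 (d : ℕ) : F L27 d = T_L27 (Nat.gcd d 84) := by
  rw [F_of_pow_eq_one 84 exp_L27, F_eq_card_filter]
  exact tabaux_L27 _ (Nat.mem_divisors.2 ⟨Nat.gcd_dvd_right d 84, by norm_num⟩)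

theorem not_isSolvable_L27 : ¬ Group.IsSolvable L27 := by
  let x : L27 := ⟨⟨![0, 1, 2, 4, 3, 6, 5], ![0, 1, 2, 4, 3, 6, 5], by decide, by decide⟩, by
    rw [mem_L27]; decide⟩
  let y : L27 := ⟨⟨![1, 3, 5, 0, 2, 4, 6], ![3, 0, 4, 1, 5, 2, 6], by decide, by decide⟩, by
    rw [mem_L27]; decide⟩
  let z : L27 := ⟨⟨![1, 0, 2, 3, 5, 4, 6], ![1, 0, 2, 3, 5, 4, 6], by decide, by decide⟩, by
    rw [mem_L27]; decide⟩
  have key : x = z * ⁅x, y * x * y⁻¹⁆ * z⁻¹ := by unfold x y z; decide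
  refine not_isSolvable_of_mem_derivedSeries (show x ≠ 1 by unfold x; decide) fun n => ?_
  induction n with
  | zero => exact Subgroup.mem_top x
  | succ n ih =>
    rw [key, (derivedSeries_normal _ _).mem_comm_iff, inv_mul_cancel_left]
    exact Subgroup.commutator_mem_commutator ih ((derivedSeries_normal _ _).conj_mem _ ih _)

end Cfsg.Agent.Lib.Helper44.OT
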