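import Cfsg.Agent.Lib.Helper44.OTTables
import Cfsg.Agent.Lib.Helper44.OTL27

/-!
# A solvable and a non-solvable group with the same order type

`Gt` (solvable) and `Ht` (containing the simple group of order 168) are direct products of
powers of fibre products of small explicit groups; `F Gt d = F Ht d` for all `d`.
-/

set_option autoImplicit false
set_option maxRecDepth 100000

namespace Cfsg.Agent.Lib.Helper44.OT

open Multiplicative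

instance instIsSolvablePi (ι : Type*) (A : Type*) [Group A] [Group.IsSolvable A] :
    Group.IsSolvable (ι → A) := isSolvable_pi ι A

section Generic

variable {X Y Z : Type*} [Group X] [Group Y] [Group Z]
  {φ : X →* Q6} {ψ : Y →* Q6} {χ : Z →* Q6} {Tφ Tψ Tχ : ℕ → ℕ → ℕ}

theorem gcd84_mem (d : ℕ) : Nat.gcd d 84 ∈ Nat.divisors 84 :=
  Nat.mem_divisors.2 ⟨Nat.gcd_dvd_right d 84, by norm_num⟩

theorem Piece.cnt_eq (h : Piece φ Tφ) (j : ZMod 6) (d : ℕ) :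
    cnt φ (ofAdd j) d = Tφ (Nat.gcd d 84) j.val := by
  rw [cnt_of_pow_eq_one φ 84 h.exp]
  exact h.tab _ (gcd84_mem d) j

variable [Finite X] [Finite Y] [Finite Z]

theorem sum_Q6 (f : Q6 → ℕ) : ∑ q : Q6, f q = ∑ j : ZMod 6, f (ofAdd j) :=
  (Equiv.sum_comp (Multiplicative.ofAdd (α := ZMod 6)) f).symm

theorem F_P1 (h : Piece φ Tφ) (d : ℕ) :
    F X d = ∑ j : ZMod 6, Tφ (Nat.gcd d 84) j.val := by
  rw [F_eq_sum_cnt φ, sum_Q6]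
  exact Finset.sum_congr rfl fun j _ => h.cnt_eq j d

theorem F_P2 (h1 : Piece φ Tφ) (h2 : Piece ψ Tψ) (d : ℕ) :
    F (FP φ ψ) d = ∑ j : ZMod 6, Tφ (Nat.gcd d 84) j.val * Tψ (Nat.gcd d 84) j.val := by
  rw [F_eq_sum_cnt (FPhom φ ψ), sum_Q6]
  refine Finset.sum_congr rfl fun j _ => ?_
  rw [cnt_FP, h1.cnt_eq, h2.cnt_eq]

theorem F_P3 (h1 : Piece φ Tφ) (h2 : Piece ψ Tψ) (h3 : Piece χ Tχ) (d : ℕ) :
    F (FP (FPhom φ ψ) χ) d = ∑ j : ZMod 6,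
      Tφ (Nat.gcd d 84) j.val * Tψ (Nat.gcd d 84) j.val * Tχ (Nat.gcd d 84) j.val := by
  rw [F_eq_sum_cnt (FPhom (FPhom φ ψ) χ), sum_Q6]
  refine Finset.sum_congr rfl fun j _ => ?_
  rw [cnt_FP, cnt_FP, h1.cnt_eq, h2.cnt_eq, h3.cnt_eq]

end Generic

/-- the solvable group. -/
abbrev Gt : Type :=
  (Fin 4 → ↥(FP gD4s gD28r)) ×
  ((Fin 11 → ↥(FP gC4 gF2)) ×
  ((Fin 12 → AG8) ×
  ((Fin 17 → C4) ×
  ((Fin 16 → ↥(FP gD4r gF1)) ×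
  ((Fin 18 → F42) ×
  ((Fin 6 → ↥(FP gD28s gS4)) ×
  ((Fin 4 → ↥(FP gD28s gF2)) ×
  ((Fin 8 → ↥(FP (FPhom gC4 gF1) gF3)) ×
  ((Fin 6 → ↥(FP gC4 gS4)) ×
  ((Fin 2 → D28) ×
  ((Fin 12 → ↥(FP (FPhom gD28r gS4) gS4)) ×
  ((Fin 12 → ↥(FP (FPhom gD4r gF1) gF1)) ×
  ((Fin 12 → ↥(FP gD4s gF3)) ×
  ((Fin 6 → ↥(FP (FPhom gD4r gD4r) gF3)) ×
  ((Fin 12 → S4))))))))))))))))

/-- the value of `F Gt` at a divisor `k` of 84. -/
def EG (k : ℕ) : ℕ :=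
  (∑ j : ZMod 6, T_gD4s k j.val * T_gD28r k j.val) ^ 4 *
  ((∑ j : ZMod 6, T_gC4 k j.val * T_gF2 k j.val) ^ 11 *
  (T_AG8 k ^ 12 *
  ((∑ j : ZMod 6, T_gC4 k j.val) ^ 17 *
  ((∑ j : ZMod 6, T_gD4r k j.val * T_gF1 k j.val) ^ 16 *
  ((∑ j : ZMod 6, T_gF1 k j.val) ^ 18 *
  ((∑ j : ZMod 6, T_gD28s k j.val * T_gS4 k j.val) ^ 6 *
  ((∑ j : ZMod 6, T_gD28s k j.val * T_gF2 k j.val) ^ 4 *
  ((∑ j : ZMod 6, T_gC4 k j.val * T_gF1 k j.val * T_gF3 k j.val) ^ 8 *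
  ((∑ j : ZMod 6, T_gC4 k j.val * T_gS4 k j.val) ^ 6 *
  ((∑ j : ZMod 6, T_gD28s k j.val) ^ 2 *
  ((∑ j : ZMod 6, T_gD28r k j.val * T_gS4 k j.val * T_gS4 k j.val) ^ 12 *
  ((∑ j : ZMod 6, T_gD4r k j.val * T_gF1 k j.val * T_gF1 k j.val) ^ 12 *
  ((∑ j : ZMod 6, T_gD4s k j.val * T_gF3 k j.val) ^ 12 *
  ((∑ j : ZMod 6, T_gD4r k j.val * T_gD4r k j.val * T_gF3 k j.val) ^ 6 *
  ((∑ j : ZMod 6, T_gS4 k j.val) ^ 12)))))))))))))))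

theorem F_Gt (d : ℕ) : F Gt d = EG (Nat.gcd d 84) := by
  unfold EG
  simp only [F_prod, F_pi, Fintype.card_fin]
  rw [F_P2 piece_gD4s piece_gD28r, F_P2 piece_gC4 piece_gF2, F_AG8, F_P1 piece_gC4, F_P2 piece_gD4r piece_gF1, F_P1 piece_gF1, F_P2 piece_gD28s piece_gS4, F_P2 piece_gD28s piece_gF2, F_P3 piece_gC4 piece_gF1 piece_gF3, F_P2 piece_gC4 piece_gS4, F_P1 piece_gD28s, F_P3 piece_gD28r piece_gS4 piece_gS4, F_P3 piece_gD4r piece_gF1 piece_gF1, F_P2 piece_gD4s piece_gF3, F_P3 piece_gD4r piece_gD4r piece_gF3, F_P1 piece_gS4]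

/-- the non-solvable group. -/
abbrev Ht : Type :=
  (Fin 12 → ↥L27) ×
  ((Fin 24 → ↥(FP gC4 gC4)) ×
  ((Fin 9 → ↥(FP gC4 gF1)) ×
  ((Fin 14 → D4) ×
  ((Fin 6 → ↥(FP (FPhom gC4 gS4) gF1)) ×
  ((Fin 6 → ↥(FP gD4s gS4)) ×
  ((Fin 12 → ↥(FP gS4 gF2)) ×
  ((Fin 16 → ↥(FP gF2 gF3)) ×
  ((Fin 4 → ↥(FP gD28s gF1)) ×
  ((Fin 12 → ↥(FP gD4r gF3)) ×
  ((Fin 12 → ↥(FP gD28r gF1)) ×
  ((Fin 16 → ↥(FP gF1 gF3)) ×
  ((Fin 12 → ↥(FP (FPhom gD4r gS4) gS4)) ×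
  ((Fin 6 → ↥(FP gD4s gD4s)))))))))))))))

/-- the value of `F Ht` at a divisor `k` of 84. -/
def EH (k : ℕ) : ℕ :=
  T_L27 k ^ 12 *
  ((∑ j : ZMod 6, T_gC4 k j.val * T_gC4 k j.val) ^ 24 *
  ((∑ j : ZMod 6, T_gC4 k j.val * T_gF1 k j.val) ^ 9 *
  ((∑ j : ZMod 6, T_gD4s k j.val) ^ 14 *
  ((∑ j : ZMod 6, T_gC4 k j.val * T_gS4 k j.val * T_gF1 k j.val) ^ 6 *
  ((∑ j : ZMod 6, T_gD4s k j.val * T_gS4 k j.val) ^ 6 *
  ((∑ j : ZMod 6, T_gS4 k j.val * T_gF2 k j.val) ^ 12 *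
  ((∑ j : ZMod 6, T_gF2 k j.val * T_gF3 k j.val) ^ 16 *
  ((∑ j : ZMod 6, T_gD28s k j.val * T_gF1 k j.val) ^ 4 *
  ((∑ j : ZMod 6, T_gD4r k j.val * T_gF3 k j.val) ^ 12 *
  ((∑ j : ZMod 6, T_gD28r k j.val * T_gF1 k j.val) ^ 12 *
  ((∑ j : ZMod 6, T_gF1 k j.val * T_gF3 k j.val) ^ 16 *
  ((∑ j : ZMod 6, T_gD4r k j.val * T_gS4 k j.val * T_gS4 k j.val) ^ 12 *
  ((∑ j : ZMod 6, T_gD4s k j.val * T_gD4s k j.val) ^ 6)))))))))))))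

theorem F_Ht (d : ℕ) : F Ht d = EH (Nat.gcd d 84) := by
  unfold EH
  simp only [F_prod, F_pi, Fintype.card_fin]
  rw [F_L27, F_P2 piece_gC4 piece_gC4, F_P2 piece_gC4 piece_gF1, F_P1 piece_gD4s, F_P3 piece_gC4 piece_gS4 piece_gF1, F_P2 piece_gD4s piece_gS4, F_P2 piece_gS4 piece_gF2, F_P2 piece_gF2 piece_gF3, F_P2 piece_gD28s piece_gF1, F_P2 piece_gD4r piece_gF3, F_P2 piece_gD28r piece_gF1, F_P2 piece_gF1 piece_gF3, F_P3 piece_gD4r piece_gS4 piece_gS4, F_P2 piece_gD4s piece_gD4s]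

theorem EG_eq_EH : ∀ k ∈ Nat.divisors 84, EG k = EH k := by decide +kernel

theorem F_Gt_eq_F_Ht (d : ℕ) : F Gt d = F Ht d := by
  rw [F_Gt, F_Ht]
  exact EG_eq_EH _ (gcd84_mem d)

set_option synthInstance.maxSize 1000 in
set_option synthInstance.maxHeartbeats 200000 in
theorem finite_Gt : Finite Gt := inferInstance

set_option synthInstance.maxSize 1000 in
set_option synthInstance.maxHeartbeats 200000 in
theorem finite_Ht : Finite Ht := inferInstance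

set_option synthInstance.maxSize 1000 in
set_option synthInstance.maxHeartbeats 200000 in
theorem isSolvable_Gt : Group.IsSolvable Gt := inferInstance

theorem ordCount_Gt_eq_Ht (n : ℕ) :
    Nat.card {g : Gt // orderOf g = n} = Nat.card {h : Ht // orderOf h = n} :=
  haveI := finite_Gt
  haveI := finite_Ht
  ordCount_eq_of_F_eq F_Gt_eq_F_Ht n

/-- projection of `Ht` onto the simple group of order 168. -/
def projL27 : Ht →* L27 where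
  toFun x := x.1 0
  map_one' := rfl
  map_mul' _ _ := rfl

theorem not_isSolvable_Ht : ¬ Group.IsSolvable Ht := by
  intro h
  refine not_isSolvable_L27 (Group.isSolvable_of_surjective (f := projL27) ?_)
  intro g
  exact ⟨(fun _ => g, 1), rfl⟩

end Cfsg.Agent.Lib.Helper44.OT
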