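import Cfsg.Agent.Lib.Helper44.OT

/-!
# Concrete graded pieces for the order-type example

All groups are towers of explicit semidirect products `SD`, graded over `Q6 = Z/6`.
-/

set_option autoImplicit false

namespace Cfsg.Agent.Lib.Helper44.OT

open Multiplicative

/-- the grading group `Z/6`. -/
abbrev Q6 := Multiplicative (ZMod 6)
/-- cyclic group of order 2. -/
abbrev C2 := Multiplicative (ZMod 2)
/-- cyclic group of order 3. -/
abbrev C3 := Multiplicative (ZMod 3)
/-- cyclic group of order 4. -/
abbrev C4 := Multiplicative (ZMod 4)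

/-- `Z/2 → Z/6`. -/
def i26 : C2 →* Q6 :=
  MonoidHom.mk' (fun x => ofAdd ((3 : ZMod 6) * ((toAdd x).val : ZMod 6))) (by decide)

/-- grading of `C4` (onto `{0,3}`). -/
def gC4 : C4 →* Q6 :=
  MonoidHom.mk' (fun x => ofAdd ((3 : ZMod 6) * ((toAdd x).val : ZMod 6))) (by decide)

/-- inversion action on `Z/4`. -/
def dihAct4 : Act C2 (ZMod 4) where
  act l v := if toAdd l = 0 then v else -v
  act_one := by decide
  act_mul := by decide
  act_add := by decide

/-- inversion action on `Z/28`. -/
def dihAct28 : Act C2 (ZMod 28) where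
  act l v := if toAdd l = 0 then v else -v
  act_one := by decide
  act_mul := by decide
  act_add := by decide +kernel

/-- inversion action on `Z/3`. -/
def dihAct3 : Act C2 (ZMod 3) where
  act l v := if toAdd l = 0 then v else -v
  act_one := by decide
  act_mul := by decide
  act_add := by decide

/-- dihedral group of order 8. -/
abbrev D4 := SD dihAct4
/-- dihedral group of order 56. -/
abbrev D28 := SD dihAct28
/-- dihedral group of order 6. -/
abbrev D3 := SD dihAct3

/-- grading of `D4` by the reflection part. -/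
def gD4s : D4 →* Q6 := i26.comp (SD.snd dihAct4)
/-- grading of `D4` by the parity of the rotation part. -/
def gD4r : D4 →* Q6 :=
  MonoidHom.mk' (fun a => ofAdd ((3 : ZMod 6) * ((a.v.val % 2 : ℕ) : ZMod 6))) (by decide)
/-- grading of `D28` by the reflection part. -/
def gD28s : D28 →* Q6 := i26.comp (SD.snd dihAct28)
/-- grading of `D28` by the parity of the rotation part. -/
def gD28r : D28 →* Q6 :=
  MonoidHom.mk' (fun a => ofAdd ((3 : ZMod 6) * ((a.v.val % 2 : ℕ) : ZMod 6))) (by decide +kernel)

/-- rotation of order 3 on `(Z/2)^2`. -/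
def rho (u : ZMod 2 × ZMod 2) : ZMod 2 × ZMod 2 := (u.2, u.1 + u.2)
/-- swap on `(Z/2)^2`. -/
def sig (u : ZMod 2 × ZMod 2) : ZMod 2 × ZMod 2 := (u.2, u.1)

/-- action of `D3 = GL(2,2)` on `(Z/2)^2`. -/
def actS4 : Act D3 (ZMod 2 × ZMod 2) where
  act a u := rho^[a.v.val] (sig^[(toAdd a.l).val] u)
  act_one := by decide
  act_mul := by decide
  act_add := by decide

/-- the symmetric group of degree 4 as `(Z/2)^2 ⋊ D3`. -/
abbrev S4 := SD actS4
/-- sign grading of `S4`. -/
def gS4 : S4 →* Q6 := (i26.comp (SD.snd dihAct3)).comp (SD.snd actS4)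

/-- action of `Z/6` on `Z/7` by powers of `3`. -/
def act42 : Act Q6 (ZMod 7) where
  act l v := (3 : ZMod 7) ^ (toAdd l).val * v
  act_one := by decide
  act_mul := by decide
  act_add := by decide

/-- the Frobenius group `7:6`. -/
abbrev F42 := SD act42
/-- canonical grading of `7:6`. -/
def gF1 : F42 →* Q6 := SD.snd act42
/-- twice the canonical grading. -/
def gF2 : F42 →* Q6 := (powMonoidHom 2).comp gF1
/-- three times the canonical grading. -/
def gF3 : F42 →* Q6 := (powMonoidHom 3).comp gF1

/-- action of `Z/3` on `Z/7` by powers of `2`. -/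
def act21 : Act C3 (ZMod 7) where
  act l v := (2 : ZMod 7) ^ (toAdd l).val * v
  act_one := by decide
  act_mul := by decide
  act_add := by decide

/-- the Frobenius group `7:3`. -/
abbrev F21 := SD act21

/-- `F_8` as `(Z/2)^3`. -/
abbrev V8 := ZMod 2 × ZMod 2 × ZMod 2
/-- multiplication by a generator of `F_8^*`. -/
def tT (u : V8) : V8 := (u.2.2, u.1 + u.2.2, u.2.1)
/-- the Frobenius map of `F_8`. -/
def tPhi (u : V8) : V8 := (u.1, u.2.2, u.2.1 + u.2.2)

/-- action of `7:3 = ΓL(1,8)` on `F_8`. -/
def actAG : Act F21 V8 where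
  act a u := tT^[a.v.val] (tPhi^[(toAdd a.l).val] u)
  act_one := by decide
  act_mul := by decide +kernel
  act_add := by decide +kernel

/-- `AΓL(1,8) = 2^3:7:3`. -/
abbrev AG8 := SD actAG

example : Group.IsSolvable AG8 := inferInstance
example : Group.IsSolvable S4 := inferInstance
example : Group.IsSolvable D28 := inferInstance
example : Fintype AG8 := inferInstance

end Cfsg.Agent.Lib.Helper44.OT
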