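import Cfsg.Agent.Lib.Helper44.OTPieces

/-!
# Tables of graded counts for the pieces (checked by kernel evaluation)
-/

set_option autoImplicit false
set_option maxRecDepth 100000

namespace Cfsg.Agent.Lib.Helper44.OT

open Multiplicative

/-- certified graded counts of a piece. -/
structure Piece {X : Type*} [Group X] (φ : X →* Q6) (T : ℕ → ℕ → ℕ) : Prop where
  exp : ∀ x : X, x ^ 84 = 1
  tab : ∀ k ∈ Nat.divisors 84, ∀ j : ZMod 6, cnt φ (ofAdd j) k = T k j.val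

/-- table of graded counts for `gC4`. -/
def T_gC4 (k j : ℕ) : ℕ :=
  match k, j with
  | 1, 0 => 1
  | 2, 0 => 2
  | 3, 0 => 1
  | 4, 0 => 2
  | 4, 3 => 2
  | 6, 0 => 2
  | 7, 0 => 1
  | 12, 0 => 2
  | 12, 3 => 2
  | 14, 0 => 2
  | 21, 0 => 1
  | 28, 0 => 2
  | 28, 3 => 2
  | 42, 0 => 2
  | 84, 0 => 2
  | 84, 3 => 2
  | _, _ => 0

theorem exp_C4 : ∀ x : C4, x ^ 84 = 1 := by decide +kernel

theorem tabaux_gC4 : ∀ k ∈ Nat.divisors 84, ∀ j : ZMod 6,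
    (Finset.univ.filter fun x : C4 => gC4 x = ofAdd j ∧ x ^ k = 1).card = T_gC4 k j.val := by
  decide +kernel

theorem piece_gC4 : Piece gC4 T_gC4 :=
  ⟨exp_C4, fun k hk j => by rw [cnt_eq_card_filter]; exact tabaux_gC4 k hk j⟩

/-- table of graded counts for `gD4s`. -/
def T_gD4s (k j : ℕ) : ℕ :=
  match k, j with
  | 1, 0 => 1
  | 2, 0 => 2
  | 2, 3 => 4
  | 3, 0 => 1
  | 4, 0 => 4
  | 4, 3 => 4
  | 6, 0 => 2
  | 6, 3 => 4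
  | 7, 0 => 1
  | 12, 0 => 4
  | 12, 3 => 4
  | 14, 0 => 2
  | 14, 3 => 4
  | 21, 0 => 1
  | 28, 0 => 4
  | 28, 3 => 4
  | 42, 0 => 2
  | 42, 3 => 4
  | 84, 0 => 4
  | 84, 3 => 4
  | _, _ => 0

theorem exp_D4 : ∀ x : D4, x ^ 84 = 1 := by decide +kernel

theorem tabaux_gD4s : ∀ k ∈ Nat.divisors 84, ∀ j : ZMod 6,
    (Finset.univ.filter fun x : D4 => gD4s x = ofAdd j ∧ x ^ k = 1).card = T_gD4s k j.val := by
  decide +kernel

theorem piece_gD4s : Piece gD4s T_gD4s :=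
  ⟨exp_D4, fun k hk j => by rw [cnt_eq_card_filter]; exact tabaux_gD4s k hk j⟩

/-- table of graded counts for `gD4r`. -/
def T_gD4r (k j : ℕ) : ℕ :=
  match k, j with
  | 1, 0 => 1
  | 2, 0 => 4
  | 2, 3 => 2
  | 3, 0 => 1
  | 4, 0 => 4
  | 4, 3 => 4
  | 6, 0 => 4
  | 6, 3 => 2
  | 7, 0 => 1
  | 12, 0 => 4
  | 12, 3 => 4
  | 14, 0 => 4
  | 14, 3 => 2
  | 21, 0 => 1
  | 28, 0 => 4
  | 28, 3 => 4
  | 42, 0 => 4
  | 42, 3 => 2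
  | 84, 0 => 4
  | 84, 3 => 4
  | _, _ => 0

theorem tabaux_gD4r : ∀ k ∈ Nat.divisors 84, ∀ j : ZMod 6,
    (Finset.univ.filter fun x : D4 => gD4r x = ofAdd j ∧ x ^ k = 1).card = T_gD4r k j.val := by
  decide +kernel

theorem piece_gD4r : Piece gD4r T_gD4r :=
  ⟨exp_D4, fun k hk j => by rw [cnt_eq_card_filter]; exact tabaux_gD4r k hk j⟩

/-- table of graded counts for `gD28s`. -/
def T_gD28s (k j : ℕ) : ℕ :=
  match k, j with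
  | 1, 0 => 1
  | 2, 0 => 2
  | 2, 3 => 28
  | 3, 0 => 1
  | 4, 0 => 4
  | 4, 3 => 28
  | 6, 0 => 2
  | 6, 3 => 28
  | 7, 0 => 7
  | 12, 0 => 4
  | 12, 3 => 28
  | 14, 0 => 14
  | 14, 3 => 28
  | 21, 0 => 7
  | 28, 0 => 28
  | 28, 3 => 28
  | 42, 0 => 14
  | 42, 3 => 28
  | 84, 0 => 28
  | 84, 3 => 28
  | _, _ => 0

theorem exp_D28 : ∀ x : D28, x ^ 84 = 1 := by decide +kernel

theorem tabaux_gD28s : ∀ k ∈ Nat.divisors 84, ∀ j : ZMod 6,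
    (Finset.univ.filter fun x : D28 => gD28s x = ofAdd j ∧ x ^ k = 1).card = T_gD28s k j.val := by
  decide +kernel

theorem piece_gD28s : Piece gD28s T_gD28s :=
  ⟨exp_D28, fun k hk j => by rw [cnt_eq_card_filter]; exact tabaux_gD28s k hk j⟩

/-- table of graded counts for `gD28r`. -/
def T_gD28r (k j : ℕ) : ℕ :=
  match k, j with
  | 1, 0 => 1
  | 2, 0 => 16
  | 2, 3 => 14
  | 3, 0 => 1
  | 4, 0 => 16
  | 4, 3 => 16
  | 6, 0 => 16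
  | 6, 3 => 14
  | 7, 0 => 7
  | 12, 0 => 16
  | 12, 3 => 16
  | 14, 0 => 28
  | 14, 3 => 14
  | 21, 0 => 7
  | 28, 0 => 28
  | 28, 3 => 28
  | 42, 0 => 28
  | 42, 3 => 14
  | 84, 0 => 28
  | 84, 3 => 28
  | _, _ => 0

theorem tabaux_gD28r : ∀ k ∈ Nat.divisors 84, ∀ j : ZMod 6,
    (Finset.univ.filter fun x : D28 => gD28r x = ofAdd j ∧ x ^ k = 1).card = T_gD28r k j.val := by
  decide +kernel

theorem piece_gD28r : Piece gD28r T_gD28r :=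
  ⟨exp_D28, fun k hk j => by rw [cnt_eq_card_filter]; exact tabaux_gD28r k hk j⟩

/-- table of graded counts for `gS4`. -/
def T_gS4 (k j : ℕ) : ℕ :=
  match k, j with
  | 1, 0 => 1
  | 2, 0 => 4
  | 2, 3 => 6
  | 3, 0 => 9
  | 4, 0 => 4
  | 4, 3 => 12
  | 6, 0 => 12
  | 6, 3 => 6
  | 7, 0 => 1
  | 12, 0 => 12
  | 12, 3 => 12
  | 14, 0 => 4
  | 14, 3 => 6
  | 21, 0 => 9
  | 28, 0 => 4
  | 28, 3 => 12
  | 42, 0 => 12
  | 42, 3 => 6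
  | 84, 0 => 12
  | 84, 3 => 12
  | _, _ => 0

theorem exp_S4 : ∀ x : S4, x ^ 84 = 1 := by decide +kernel

theorem tabaux_gS4 : ∀ k ∈ Nat.divisors 84, ∀ j : ZMod 6,
    (Finset.univ.filter fun x : S4 => gS4 x = ofAdd j ∧ x ^ k = 1).card = T_gS4 k j.val := by
  decide +kernel

theorem piece_gS4 : Piece gS4 T_gS4 :=
  ⟨exp_S4, fun k hk j => by rw [cnt_eq_card_filter]; exact tabaux_gS4 k hk j⟩

/-- table of graded counts for `gF1`. -/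
def T_gF1 (k j : ℕ) : ℕ :=
  match k, j with
  | 1, 0 => 1
  | 2, 0 => 1
  | 2, 3 => 7
  | 3, 0 => 1
  | 3, 2 => 7
  | 3, 4 => 7
  | 4, 0 => 1
  | 4, 3 => 7
  | 6, 0 => 1
  | 6, 1 => 7
  | 6, 2 => 7
  | 6, 3 => 7
  | 6, 4 => 7
  | 6, 5 => 7
  | 7, 0 => 7
  | 12, 0 => 1
  | 12, 1 => 7
  | 12, 2 => 7
  | 12, 3 => 7
  | 12, 4 => 7
  | 12, 5 => 7
  | 14, 0 => 7
  | 14, 3 => 7
  | 21, 0 => 7
  | 21, 2 => 7
  | 21, 4 => 7
  | 28, 0 => 7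
  | 28, 3 => 7
  | 42, 0 => 7
  | 42, 1 => 7
  | 42, 2 => 7
  | 42, 3 => 7
  | 42, 4 => 7
  | 42, 5 => 7
  | 84, 0 => 7
  | 84, 1 => 7
  | 84, 2 => 7
  | 84, 3 => 7
  | 84, 4 => 7
  | 84, 5 => 7
  | _, _ => 0

theorem exp_F42 : ∀ x : F42, x ^ 84 = 1 := by decide +kernel

theorem tabaux_gF1 : ∀ k ∈ Nat.divisors 84, ∀ j : ZMod 6,
    (Finset.univ.filter fun x : F42 => gF1 x = ofAdd j ∧ x ^ k = 1).card = T_gF1 k j.val := by
  decide +kernel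

theorem piece_gF1 : Piece gF1 T_gF1 :=
  ⟨exp_F42, fun k hk j => by rw [cnt_eq_card_filter]; exact tabaux_gF1 k hk j⟩

/-- table of graded counts for `gF2`. -/
def T_gF2 (k j : ℕ) : ℕ :=
  match k, j with
  | 1, 0 => 1
  | 2, 0 => 8
  | 3, 0 => 1
  | 3, 2 => 7
  | 3, 4 => 7
  | 4, 0 => 8
  | 6, 0 => 8
  | 6, 2 => 14
  | 6, 4 => 14
  | 7, 0 => 7
  | 12, 0 => 8
  | 12, 2 => 14
  | 12, 4 => 14
  | 14, 0 => 14
  | 21, 0 => 7
  | 21, 2 => 7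
  | 21, 4 => 7
  | 28, 0 => 14
  | 42, 0 => 14
  | 42, 2 => 14
  | 42, 4 => 14
  | 84, 0 => 14
  | 84, 2 => 14
  | 84, 4 => 14
  | _, _ => 0

theorem tabaux_gF2 : ∀ k ∈ Nat.divisors 84, ∀ j : ZMod 6,
    (Finset.univ.filter fun x : F42 => gF2 x = ofAdd j ∧ x ^ k = 1).card = T_gF2 k j.val := by
  decide +kernel

theorem piece_gF2 : Piece gF2 T_gF2 :=
  ⟨exp_F42, fun k hk j => by rw [cnt_eq_card_filter]; exact tabaux_gF2 k hk j⟩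

/-- table of graded counts for `gF3`. -/
def T_gF3 (k j : ℕ) : ℕ :=
  match k, j with
  | 1, 0 => 1
  | 2, 0 => 1
  | 2, 3 => 7
  | 3, 0 => 15
  | 4, 0 => 1
  | 4, 3 => 7
  | 6, 0 => 15
  | 6, 3 => 21
  | 7, 0 => 7
  | 12, 0 => 15
  | 12, 3 => 21
  | 14, 0 => 7
  | 14, 3 => 7
  | 21, 0 => 21
  | 28, 0 => 7
  | 28, 3 => 7
  | 42, 0 => 21
  | 42, 3 => 21
  | 84, 0 => 21
  | 84, 3 => 21
  | _, _ => 0

theorem tabaux_gF3 : ∀ k ∈ Nat.divisors 84, ∀ j : ZMod 6,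
    (Finset.univ.filter fun x : F42 => gF3 x = ofAdd j ∧ x ^ k = 1).card = T_gF3 k j.val := by
  decide +kernel

theorem piece_gF3 : Piece gF3 T_gF3 :=
  ⟨exp_F42, fun k hk j => by rw [cnt_eq_card_filter]; exact tabaux_gF3 k hk j⟩

/-- table of `F AG8`. -/
def T_AG8 (k : ℕ) : ℕ :=
  match k with
  | 1 => 1
  | 2 => 8
  | 3 => 57
  | 4 => 8
  | 6 => 120
  | 7 => 49
  | 12 => 120
  | 14 => 56
  | 21 => 105
  | 28 => 56
  | 42 => 168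
  | 84 => 168
  | _ => 0

theorem exp_AG8 : ∀ x : AG8, x ^ 84 = 1 := by decide +kernel

theorem tabaux_AG8 : ∀ k ∈ Nat.divisors 84,
    (Finset.univ.filter fun x : AG8 => x ^ k = 1).card = T_AG8 k := by
  decide +kernel

theorem F_AG8 (d : ℕ) : F AG8 d = T_AG8 (Nat.gcd d 84) := by
  rw [F_of_pow_eq_one 84 exp_AG8, F_eq_card_filter]
  exact tabaux_AG8 _ (Nat.mem_divisors.2 ⟨Nat.gcd_dvd_right d 84, by norm_num⟩)

end Cfsg.Agent.Lib.Helper44.OT
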