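import Cfsg.Agent.Lib.Helper44.PrnAP

set_option autoImplicit false
set_option linter.unusedVariables false
set_option linter.unusedSectionVars false
set_option maxHeartbeats 400000

/-! S2222 pack K-PrnA, keystone 222211 (parallel hand by the architect): Sylow 2-subgroups of `A_n`, `n ≥ 6`, are
self-normalising. -/

namespace Cfsg.Agent.Lib.Helper44.PrnA

open Equiv Equiv.Perm

section
variable {n : ℕ}

local notation "A" => alternatingGroup (Fin n)
local notation "S" => Perm (Fin n)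

/-- the image of `T` in the symmetric group -/
def altImage (T : Sylow 2 A) : Subgroup S := (T : Subgroup A).map (A).subtype

theorem mem_altImage (T : Sylow 2 A) (x : S) :
    x ∈ altImage T ↔ ∃ h : x ∈ A, (⟨x, h⟩ : A) ∈ (T : Subgroup A) := by
  unfold altImage
  constructor
  · rintro ⟨t, ht, rfl⟩
    exact ⟨t.2, ht⟩
  · rintro ⟨h, ht⟩
    exact ⟨⟨x, h⟩, ht, rfl⟩

theorem altImage_le_alt (T : Sylow 2 A) : altImage T ≤ A := by
  intro x hx
  obtain ⟨h, _⟩ := (mem_altImage T x).mp hx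
  exact h

/-- `P ∩ A_n = T` for a Sylow 2-subgroup `P` of `S_n` containing `T` -/
theorem mem_altImage_of_sign (T : Sylow 2 A) (P : Sylow 2 S) (hTP : altImage T ≤ P) (x : S)
    (hx : x ∈ (P : Subgroup S)) (hs : sign x = 1) : x ∈ altImage T := by
  have hQ : IsPGroup 2 ((P : Subgroup S).subgroupOf A) := P.isPGroup'.comap_subtype
  have hle : (T : Subgroup A) ≤ (P : Subgroup S).subgroupOf A := by
    intro t ht
    rw [Subgroup.mem_subgroupOf]
    exact hTP ((mem_altImage T t.1).mpr ⟨t.2, ht⟩)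
  have heq := T.is_maximal' hQ hle
  have hxA : x ∈ A := mem_alternatingGroup.mpr hs
  refine (mem_altImage T x).mpr ⟨hxA, ?_⟩
  rw [← heq, Subgroup.mem_subgroupOf]
  exact hx

/-- elements of `P` normalise `T` -/
theorem conj_mem_altImage (T : Sylow 2 A) (P : Sylow 2 S) (hTP : altImage T ≤ P) (x : S)
    (hx : x ∈ (P : Subgroup S)) (t : S) (ht : t ∈ altImage T) : x * t * x⁻¹ ∈ altImage T := by
  apply mem_altImage_of_sign T P hTP
  · exact (P : Subgroup S).mul_mem ((P : Subgroup S).mul_mem hx (hTP ht)) ((P : Subgroup S).inv_mem hx)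
  · have h1 : sign t = 1 := mem_alternatingGroup.mp (altImage_le_alt T ht)
    simp [h1]

theorem mem_normalizer_altImage (T : Sylow 2 A) (P : Sylow 2 S) (hTP : altImage T ≤ P) (x : S)
    (hx : x ∈ (P : Subgroup S)) : x ∈ Subgroup.normalizer ((altImage T : Subgroup S) : Set S) := by
  rw [Subgroup.mem_normalizer_iff]
  intro t
  constructor
  · exact conj_mem_altImage T P hTP x hx t
  · intro h
    have := conj_mem_altImage T P hTP x⁻¹ ((P : Subgroup S).inv_mem hx) _ h
    simpa [mul_assoc] using this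

theorem altImage_isPGroup (T : Sylow 2 A) : IsPGroup 2 (altImage T) := T.isPGroup'.map _

/-- a 2-element of `A_n` normalising `T` lies in `T` -/
theorem mem_altImage_of_sq (T : Sylow 2 A) (ρ : S) (hs : sign ρ = 1) (hsq : ρ * ρ = 1)
    (hN : ρ ∈ Subgroup.normalizer ((altImage T : Subgroup S) : Set S)) : ρ ∈ altImage T := by
  have hρA : ρ ∈ A := mem_alternatingGroup.mpr hs
  set r : A := ⟨ρ, hρA⟩ with hr
  have hrN : r ∈ Subgroup.normalizer ((T : Subgroup A) : Set A) := by
    rw [Subgroup.mem_normalizer_iff]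
    intro h
    have h1 := (Subgroup.mem_normalizer_iff.mp hN) h.1
    have e1 : (h ∈ (T : Subgroup A)) ↔ (h.1 ∈ altImage T) := by
      rw [mem_altImage]
      exact ⟨fun hh => ⟨h.2, hh⟩, fun ⟨_, hh⟩ => hh⟩
    have e2 : (r * h * r⁻¹ ∈ (T : Subgroup A)) ↔ (ρ * h.1 * ρ⁻¹ ∈ altImage T) := by
      rw [mem_altImage]
      exact ⟨fun hh => ⟨(r * h * r⁻¹).2, hh⟩, fun ⟨_, hh⟩ => hh⟩
    rw [e1, e2]
    exact h1
  have hz : IsPGroup 2 (Subgroup.zpowers r) := by
    rw [IsPGroup.iff_orderOf]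
    intro x
    obtain ⟨k, hk⟩ := Subgroup.mem_zpowers_iff.mp x.2
    have hr2 : r ^ 2 = 1 := by
      apply Subtype.ext
      simp only [hr, pow_two, Subgroup.coe_mul, Subgroup.coe_one]
      exact hsq
    have hx2 : x ^ 2 = 1 := by
      apply Subtype.ext
      simp only [Subgroup.coe_pow, Subgroup.coe_one, ← hk]
      rw [← zpow_natCast, ← zpow_mul, mul_comm, zpow_mul, zpow_natCast, hr2, one_zpow]
    have hdvd : orderOf x ∣ 2 := orderOf_dvd_of_pow_eq_one hx2
    rcases (Nat.dvd_prime Nat.prime_two).mp hdvd with h | h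
    · exact ⟨0, by rw [h]; norm_num⟩
    · exact ⟨1, by rw [h]; norm_num⟩
  have h3 := hz.inf_normalizer_sylow T
  have h4 : r ∈ Subgroup.zpowers r ⊓ Subgroup.normalizer ((T : Subgroup A) : Set A) :=
    ⟨Subgroup.mem_zpowers r, hrN⟩
  have h5 : r ∈ Subgroup.zpowers r ⊓ (T : Subgroup A) := by
    rw [← h3]; exact h4
  exact (mem_altImage T ρ).mpr ⟨hρA, h5.2⟩

/-- overlapping transpositions in two Sylow 2-subgroups above `T`: impossible for `n ≥ 6` -/
theorem overlap_false (hn : 6 ≤ n)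
    (hSW1 : ∀ Q : Subgroup S, IsPGroup 2 Q → ∀ a b c d : Fin n, a ≠ b → c ≠ d →
      swap a b ∈ Q → swap c d ∈ Q → swap a b = swap c d ∨ (a ≠ c ∧ a ≠ d ∧ b ≠ c ∧ b ≠ d))
    (hSW2 : ∀ P : Sylow 2 S,
      ∃ f : Fin (Fintype.card (Fin n) / 2) → Fin n × Fin n, (∀ i, (f i).1 ≠ (f i).2) ∧
      (∀ i, swap (f i).1 (f i).2 ∈ (P : Subgroup S)) ∧
      ∀ i j, i ≠ j → (f i).1 ≠ (f j).1 ∧ (f i).1 ≠ (f j).2 ∧ (f i).2 ≠ (f j).1 ∧ (f i).2 ≠ (f j).2)
    (T : Sylow 2 A) (P₁ P₂ : Sylow 2 S) (h1 : altImage T ≤ P₁) (h2 : altImage T ≤ P₂)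
    (a b c : Fin n) (hab : a ≠ b) (hac : a ≠ c) (hbc : b ≠ c)
    (hτ : swap a b ∈ (P₁ : Subgroup S)) (hσ : swap a c ∈ (P₂ : Subgroup S)) : False := by
  obtain ⟨f, hf1, hf2, hf3⟩ := hSW2 P₁
  have h3 : 2 < Fintype.card (Fin n) / 2 := by rw [Fintype.card_fin]; omega
  -- a pair avoiding a, b, c
  have uniq : ∀ z : Fin n, ∀ i j, (z = (f i).1 ∨ z = (f i).2) → (z = (f j).1 ∨ z = (f j).2) → i = j := by
    intro z i j hi hj
    by_contra hij
    obtain ⟨k1, k2, k3, k4⟩ := hf3 i j hij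
    rcases hi with hi | hi <;> rcases hj with hj | hj
    · exact k1 (hi ▸ hj)
    · exact k2 (hi ▸ hj)
    · exact k3 (hi ▸ hj)
    · exact k4 (hi ▸ hj)
  have key : ∃ i, ¬ (a = (f i).1 ∨ a = (f i).2) ∧ ¬ (c = (f i).1 ∨ c = (f i).2) := by
    by_contra hcon0
    have hcon : ∀ i, ¬ (a = (f i).1 ∨ a = (f i).2) → (c = (f i).1 ∨ c = (f i).2) := by
      intro i hi
      by_contra hc
      exact hcon0 ⟨i, hi, hc⟩
    have n01 : (⟨0, by omega⟩ : Fin (Fintype.card (Fin n) / 2)) ≠ ⟨1, by omega⟩ := by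
      intro h; exact absurd (Fin.mk.inj h) (by norm_num)
    have n02 : (⟨0, by omega⟩ : Fin (Fintype.card (Fin n) / 2)) ≠ ⟨2, by omega⟩ := by
      intro h; exact absurd (Fin.mk.inj h) (by norm_num)
    have n12 : (⟨1, by omega⟩ : Fin (Fintype.card (Fin n) / 2)) ≠ ⟨2, by omega⟩ := by
      intro h; exact absurd (Fin.mk.inj h) (by norm_num)
    by_cases h0 : (a = (f ⟨0, by omega⟩).1 ∨ a = (f ⟨0, by omega⟩).2)
    · have k1 : ¬ (a = (f ⟨1, by omega⟩).1 ∨ a = (f ⟨1, by omega⟩).2) := fun h => n01 (uniq a _ _ h0 h)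
      have k2 : ¬ (a = (f ⟨2, by omega⟩).1 ∨ a = (f ⟨2, by omega⟩).2) := fun h => n02 (uniq a _ _ h0 h)
      exact n12 (uniq c _ _ (hcon _ k1) (hcon _ k2))
    · have hc0 := hcon _ h0
      by_cases h1' : (a = (f ⟨1, by omega⟩).1 ∨ a = (f ⟨1, by omega⟩).2)
      · have k2 : ¬ (a = (f ⟨2, by omega⟩).1 ∨ a = (f ⟨2, by omega⟩).2) := fun h => n12 (uniq a _ _ h1' h)
        exact n02 (uniq c _ _ hc0 (hcon _ k2))
      · exact n01 (uniq c _ _ hc0 (hcon _ h1'))
  obtain ⟨i, hia, hic⟩ := key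
  push Not at hia hic
  set x := (f i).1 with hx
  set y := (f i).2 with hy
  have hxy : x ≠ y := hf1 i
  have hτ' : swap x y ∈ (P₁ : Subgroup S) := hf2 i
  have hb : b ≠ x ∧ b ≠ y := by
    rcases hSW1 _ P₁.isPGroup' a b x y hab hxy hτ hτ' with h | h
    · exfalso
      have h4 := congrArg (fun g : S => g a) h
      simp only [swap_apply_left] at h4
      by_cases hax : a = x
      · exact hia.1 hax
      · by_cases hay : a = y
        · exact hia.2 hay
        · rw [swap_apply_of_ne_of_ne hax hay] at h4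
          exact hab h4.symm
    · exact ⟨h.2.2.1, h.2.2.2⟩
  -- u = (a b)(x y) ∈ T
  have hu : swap a b * swap x y ∈ altImage T := by
    apply mem_altImage_of_sign T P₁ h1
    · exact (P₁ : Subgroup S).mul_mem hτ hτ'
    · rw [map_mul, sign_swap hab, sign_swap hxy]; rfl
  -- ρ normalises T
  have hρ : swap a b * swap a c ∈ Subgroup.normalizer ((altImage T : Subgroup S) : Set S) :=
    Subgroup.mul_mem _ (mem_normalizer_altImage T P₁ h1 _ hτ) (mem_normalizer_altImage T P₂ h2 _ hσ)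
  have hv := (Subgroup.mem_normalizer_iff.mp hρ _).mp hu
  have e1 : (swap a b * swap a c) * (swap a b * swap x y) * (swap a b * swap a c)⁻¹ =
      swap c a * swap x y := by
    have e2 : (swap a b * swap a c) * (swap a b * swap x y) * (swap a b * swap a c)⁻¹ =
        ((swap a b * swap a c) * swap a b * (swap a b * swap a c)⁻¹) *
        ((swap a b * swap a c) * swap x y * (swap a b * swap a c)⁻¹) := by group
    rw [e2, ← swap_apply_apply, ← swap_apply_apply]
    have r1 : (swap a b * swap a c) a = c := by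
      rw [Perm.mul_apply, swap_apply_left, swap_apply_of_ne_of_ne hac.symm hbc.symm]
    have r2 : (swap a b * swap a c) b = a := by
      rw [Perm.mul_apply, swap_apply_of_ne_of_ne hab.symm hbc, swap_apply_right]
    have r3 : (swap a b * swap a c) x = x := by
      rw [Perm.mul_apply, swap_apply_of_ne_of_ne (Ne.symm hia.1) (Ne.symm hic.1),
        swap_apply_of_ne_of_ne (Ne.symm hia.1) (Ne.symm hb.1)]
    have r4 : (swap a b * swap a c) y = y := by
      rw [Perm.mul_apply, swap_apply_of_ne_of_ne (Ne.symm hia.2) (Ne.symm hic.2),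
        swap_apply_of_ne_of_ne (Ne.symm hia.2) (Ne.symm hb.2)]
    rw [r1, r2, r3, r4]
  rw [e1] at hv
  have hw : swap a c * swap a b ∈ altImage T := by
    have h5 := (altImage T).mul_mem hv ((altImage T).inv_mem hu)
    have e3 : swap c a * swap x y * (swap a b * swap x y)⁻¹ = swap a c * swap a b := by
      rw [mul_inv_rev, swap_inv, swap_inv, swap_comm c a, mul_assoc (swap a c), ← mul_assoc (swap x y),
        swap_mul_self, one_mul]
    rw [e3] at h5
    exact h5
  have h3c : (swap a c * swap a b).IsThreeCycle := isThreeCycle_swap_mul_swap_same hac hab hbc.symm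
  have ho : orderOf (swap a c * swap a b) = 3 := h3c.orderOf
  obtain ⟨k, hk⟩ := (altImage_isPGroup T) ⟨_, hw⟩
  have hk' : (swap a c * swap a b) ^ (2 ^ k) = 1 := by
    have := congrArg Subtype.val hk
    simpa using this
  have hdvd : 3 ∣ 2 ^ k := by
    rw [← ho]; exact orderOf_dvd_of_pow_eq_one hk'
  have := (Nat.Prime.dvd_of_dvd_pow Nat.prime_three hdvd)
  omega

/-- two Sylow 2-subgroups of `S_n` (`n ≥ 6`) above the same Sylow 2-subgroup of `A_n`: one is inside the other -/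
theorem le_of_both (hn : 6 ≤ n)
    (hSW1 : ∀ Q : Subgroup S, IsPGroup 2 Q → ∀ a b c d : Fin n, a ≠ b → c ≠ d →
      swap a b ∈ Q → swap c d ∈ Q → swap a b = swap c d ∨ (a ≠ c ∧ a ≠ d ∧ b ≠ c ∧ b ≠ d))
    (hSW2 : ∀ P : Sylow 2 S,
      ∃ f : Fin (Fintype.card (Fin n) / 2) → Fin n × Fin n, (∀ i, (f i).1 ≠ (f i).2) ∧
      (∀ i, swap (f i).1 (f i).2 ∈ (P : Subgroup S)) ∧
      ∀ i j, i ≠ j → (f i).1 ≠ (f j).1 ∧ (f i).1 ≠ (f j).2 ∧ (f i).2 ≠ (f j).1 ∧ (f i).2 ≠ (f j).2)
    (T : Sylow 2 A) (P₁ P₂ : Sylow 2 S) (h1 : altImage T ≤ P₁) (h2 : altImage T ≤ P₂) :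
    (P₁ : Subgroup S) ≤ P₂ := by
  have h3 : 0 < Fintype.card (Fin n) / 2 := by rw [Fintype.card_fin]; omega
  obtain ⟨f₁, hf1, hf2, -⟩ := hSW2 P₁
  obtain ⟨f₂, hg1, hg2, -⟩ := hSW2 P₂
  set a := (f₁ ⟨0, h3⟩).1 with ha
  set b := (f₁ ⟨0, h3⟩).2 with hb
  set c := (f₂ ⟨0, h3⟩).1 with hc
  set d := (f₂ ⟨0, h3⟩).2 with hd
  have hab : a ≠ b := hf1 _
  have hcd : c ≠ d := hg1 _
  have hτ : swap a b ∈ (P₁ : Subgroup S) := hf2 _
  have hσ : swap c d ∈ (P₂ : Subgroup S) := hg2 _
  -- τ ∈ P₂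
  have hτ2 : swap a b ∈ (P₂ : Subgroup S) := by
    by_cases hac : a = c
    · by_cases hbd : b = d
      · rw [hac, hbd]; exact hσ
      · exfalso
        have had : a ≠ d := by rw [hac]; exact hcd
        rw [← hac] at hσ
        exact overlap_false hn hSW1 hSW2 T P₁ P₂ h1 h2 a b d hab had hbd hτ hσ
    · by_cases had : a = d
      · by_cases hbc : b = c
        · rw [had, hbc, swap_comm]; exact hσ
        · exfalso
          rw [← had, swap_comm] at hσ
          exact overlap_false hn hSW1 hSW2 T P₁ P₂ h1 h2 a b c hab hac hbc hτ hσ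
      · by_cases hbc : b = c
        · exfalso
          have hbd : b ≠ d := by rw [hbc]; exact hcd
          rw [swap_comm] at hτ
          rw [← hbc] at hσ
          exact overlap_false hn hSW1 hSW2 T P₁ P₂ h1 h2 b a d hab.symm hbd had hτ hσ
        · by_cases hbd : b = d
          · exfalso
            rw [swap_comm] at hτ
            rw [← hbd, swap_comm] at hσ
            exact overlap_false hn hSW1 hSW2 T P₁ P₂ h1 h2 b a c hab.symm hbc hac hτ hσ
          · -- disjoint
            have hdis : (swap a b).Disjoint (swap c d) := by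
              apply disjoint_swap_swap
              simp only [List.nodup_cons, List.mem_cons, List.not_mem_nil, or_false, not_or,
                List.nodup_nil, and_true, not_false_eq_true]
              exact ⟨⟨hab, hac, had⟩, ⟨hbc, hbd⟩, hcd⟩
            have hcomm : swap a b * swap c d = swap c d * swap a b := hdis.commute.eq
            have hsq : (swap a b * swap c d) * (swap a b * swap c d) = 1 := by
              calc (swap a b * swap c d) * (swap a b * swap c d)
                  = swap a b * (swap c d * swap a b) * swap c d := by group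
                _ = swap a b * (swap a b * swap c d) * swap c d := by rw [hcomm]
                _ = (swap a b * swap a b) * (swap c d * swap c d) := by group
                _ = 1 := by rw [swap_mul_self, swap_mul_self, one_mul]
            have hsign : sign (swap a b * swap c d) = 1 := by
              rw [map_mul, sign_swap hab, sign_swap hcd]; rfl
            have hN : swap a b * swap c d ∈ Subgroup.normalizer ((altImage T : Subgroup S) : Set S) :=
              Subgroup.mul_mem _ (mem_normalizer_altImage T P₁ h1 _ hτ)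
                (mem_normalizer_altImage T P₂ h2 _ hσ)
            have hρ := mem_altImage_of_sq T _ hsign hsq hN
            have h5 := (P₂ : Subgroup S).mul_mem (h2 hρ) hσ
            rwa [mul_assoc, swap_mul_self, mul_one] at h5
  intro x hx
  rcases Int.units_eq_one_or (sign x) with hs | hs
  · exact h2 (mem_altImage_of_sign T P₁ h1 x hx hs)
  · have h6 : x * swap a b ∈ altImage T := by
      apply mem_altImage_of_sign T P₁ h1
      · exact (P₁ : Subgroup S).mul_mem hx hτ
      · rw [map_mul, hs, sign_swap hab]; rfl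
    have h7 := (P₂ : Subgroup S).mul_mem (h2 h6) hτ2
    rwa [mul_assoc, swap_mul_self, mul_one] at h7

theorem alt_sylow_normalizer (n : ℕ) (hn : 6 ≤ n)
    (hNS : ∀ P : Sylow 2 (Perm (Fin n)),
      Subgroup.normalizer ((P : Subgroup (Perm (Fin n))) : Set (Perm (Fin n))) = P)
    (hSW1 : ∀ Q : Subgroup (Perm (Fin n)), IsPGroup 2 Q → ∀ a b c d : Fin n, a ≠ b → c ≠ d →
      swap a b ∈ Q → swap c d ∈ Q → swap a b = swap c d ∨ (a ≠ c ∧ a ≠ d ∧ b ≠ c ∧ b ≠ d))
    (hSW2 : ∀ P : Sylow 2 (Perm (Fin n)),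
      ∃ f : Fin (Fintype.card (Fin n) / 2) → Fin n × Fin n, (∀ i, (f i).1 ≠ (f i).2) ∧
      (∀ i, swap (f i).1 (f i).2 ∈ (P : Subgroup (Perm (Fin n)))) ∧
      ∀ i j, i ≠ j → (f i).1 ≠ (f j).1 ∧ (f i).1 ≠ (f j).2 ∧ (f i).2 ≠ (f j).1 ∧ (f i).2 ≠ (f j).2)
    (T : Sylow 2 (alternatingGroup (Fin n))) :
    Subgroup.normalizer ((T : Subgroup (alternatingGroup (Fin n))) : Set (alternatingGroup (Fin n))) = T := by
  refine le_antisymm ?_ Subgroup.le_normalizer
  intro g hg
  obtain ⟨P, hTP⟩ := (altImage_isPGroup T).exists_le_sylow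
  -- g • P contains T
  have hTP2 : altImage T ≤ ((g : Perm (Fin n)) • P : Sylow 2 (Perm (Fin n))) := by
    intro t ht
    rw [sylow_smul_coe]
    obtain ⟨htA, htT⟩ := (mem_altImage T t).mp ht
    have h1 := (Subgroup.mem_normalizer_iff.mp (Subgroup.inv_mem _ hg) ⟨t, htA⟩).mp htT
    refine ⟨(g : Perm (Fin n))⁻¹ * t * g, hTP ((mem_altImage T _).mpr ⟨?_, ?_⟩), ?_⟩
    · exact (g⁻¹ * ⟨t, htA⟩ * g⁻¹⁻¹).2
    · have e : (⟨(g : Perm (Fin n))⁻¹ * t * g, (g⁻¹ * ⟨t, htA⟩ * g⁻¹⁻¹).2⟩ : alternatingGroup (Fin n)) =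
          g⁻¹ * ⟨t, htA⟩ * g⁻¹⁻¹ := by
        apply Subtype.ext
        simp
      rw [e]; exact h1
    · simp only [MulEquiv.coe_toMonoidHom, MulAut.conj_apply]
      group
  have hle := le_of_both hn hSW1 hSW2 T _ P hTP2 hTP
  have heq : ((g : Perm (Fin n)) • P : Sylow 2 (Perm (Fin n))) = P := by
    apply Sylow.ext
    apply Subgroup.eq_of_le_of_card_ge hle
    rw [Sylow.card_eq_multiplicity, Sylow.card_eq_multiplicity]
  have hgN : (g : Perm (Fin n)) ∈ Subgroup.normalizer ((P : Subgroup (Perm (Fin n))) : Set (Perm (Fin n))) :=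
    Sylow.smul_eq_iff_mem_normalizer.mp heq
  rw [hNS P] at hgN
  have := mem_altImage_of_sign T P hTP g hgN (mem_alternatingGroup.mp g.2)
  obtain ⟨_, h⟩ := (mem_altImage T _).mp this
  exact h

end

end Cfsg.Agent.Lib.Helper44.PrnA
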