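import Mathlib
import Cfsg.Prelude.Def_HallClasses

set_option autoImplicit false
set_option linter.unusedVariables false
set_option linter.unusedSectionVars false

/-! S2222 pack K-PrnA, keystone 222201: abstract pronormality lemmas. -/

namespace Cfsg.Agent.Lib.Helper44.PrnA

open Subgroup

variable {G : Type*} [Group G]

theorem map_conj_mul (H : Subgroup G) (a b : G) :
    H.map (MulAut.conj (a * b)).toMonoidHom =
      (H.map (MulAut.conj b).toMonoidHom).map (MulAut.conj a).toMonoidHom := by
  rw [Subgroup.map_map]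
  congr 1
  ext x
  simp [mul_assoc]

theorem map_conj_of_mem (H : Subgroup G) (y : G) (hy : y ∈ H) :
    H.map (MulAut.conj y).toMonoidHom = H := by
  ext x
  simp only [Subgroup.mem_map, MulEquiv.coe_toMonoidHom, MulAut.conj_apply]
  constructor
  · rintro ⟨z, hz, rfl⟩
    exact H.mul_mem (H.mul_mem hy hz) (H.inv_mem hy)
  · intro hx
    refine ⟨y⁻¹ * x * y, H.mul_mem (H.mul_mem (H.inv_mem hy) hx) hy, ?_⟩
    group

theorem sylow_smul_coe {p : ℕ} [Fact p.Prime] (T : Sylow p G) (g : G) :
    ((g • T : Sylow p G) : Subgroup G) = (T : Subgroup G).map (MulAut.conj g).toMonoidHom := by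
  ext x
  rw [Sylow.smul_def, Sylow.pointwise_smul_def]
  simp only [Subgroup.mem_map, MulEquiv.coe_toMonoidHom]
  rw [Subgroup.mem_pointwise_smul_iff_inv_smul_mem]
  constructor
  · intro hx
    refine ⟨(MulAut.conj g)⁻¹ • x, hx, ?_⟩
    simp only [MulAut.smul_def, MulAut.conj_inv_apply, MulAut.conj_apply]
    group
  · rintro ⟨z, hz, rfl⟩
    have e : (MulAut.conj g)⁻¹ • (MulAut.conj g) z = z := by
      simp only [MulAut.smul_def, MulAut.conj_inv_apply, MulAut.conj_apply]
      group
    rw [e]; exact hz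

theorem pronormal_of_sylow_normalizer_le [Finite G] {p : ℕ} [Fact p.Prime]
    (T : Sylow p G) (H : Subgroup G) (hTH : (T : Subgroup G) ≤ H)
    (hN : Subgroup.normalizer ((T : Subgroup G) : Set G) ≤ H) : Cfsg.IsPronormal H := by
  intro g
  set K : Subgroup G := H ⊔ H.map (MulAut.conj g).toMonoidHom with hK
  have h1 : (T : Subgroup G) ≤ K := hTH.trans le_sup_left
  have h2 : ((g • T : Sylow p G) : Subgroup G) ≤ K := by
    rw [sylow_smul_coe]
    exact (Subgroup.map_mono hTH).trans le_sup_right
  obtain ⟨h, hh⟩ := MulAction.exists_smul_eq K ((g • T).subtype h2) (T.subtype h1)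
  simp_rw [Sylow.smul_subtype, Subgroup.smul_def, smul_smul] at hh
  have hy : (h : G) * g ∈ Subgroup.normalizer ((T : Subgroup G) : Set G) :=
    Sylow.smul_eq_iff_mem_normalizer.mp (Sylow.subtype_injective hh)
  have hyH : (h : G) * g ∈ H := hN hy
  refine ⟨(h : G)⁻¹, K.inv_mem h.2, ?_⟩
  have e : g = (h : G)⁻¹ * ((h : G) * g) := by group
  conv_lhs => rw [e]
  rw [map_conj_mul, map_conj_of_mem H _ hyH]

theorem pronormal_of_sylow [Finite G] {p : ℕ} [Fact p.Prime] (T : Sylow p G) :
    Cfsg.IsPronormal (T : Subgroup G) := by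
  intro g
  set K : Subgroup G := (T : Subgroup G) ⊔ (T : Subgroup G).map (MulAut.conj g).toMonoidHom with hK
  have h1 : (T : Subgroup G) ≤ K := le_sup_left
  have h2 : ((g • T : Sylow p G) : Subgroup G) ≤ K := by
    rw [sylow_smul_coe]
    exact le_sup_right
  obtain ⟨h, hh⟩ := MulAction.exists_smul_eq K (T.subtype h1) ((g • T).subtype h2)
  simp_rw [Sylow.smul_subtype, Subgroup.smul_def] at hh
  have h3 : ((h : G) • T : Sylow p G) = g • T := Sylow.subtype_injective hh
  refine ⟨(h : G), h.2, ?_⟩
  rw [← sylow_smul_coe, ← sylow_smul_coe, h3]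

theorem pronormal_top : Cfsg.IsPronormal (⊤ : Subgroup G) := by
  intro g
  refine ⟨1, Subgroup.one_mem _, ?_⟩
  rw [map_conj_of_mem _ 1 (Subgroup.mem_top _), map_conj_of_mem _ g (Subgroup.mem_top _)]

theorem pronormal_of_prime_index [Finite G] (H : Subgroup G)
    (hp : H.index.Prime) : Cfsg.IsPronormal H := by
  intro g
  set K : Subgroup G := H ⊔ H.map (MulAut.conj g).toMonoidHom with hK
  have hHK : H ≤ K := le_sup_left
  have hdvd : K.index ∣ H.index := Subgroup.index_dvd_of_le hHK
  rcases (Nat.dvd_prime hp).mp hdvd with h1 | h1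
  · -- K = ⊤
    have hKtop : K = ⊤ := Subgroup.index_eq_one.mp h1
    exact ⟨g, by rw [hKtop]; exact Subgroup.mem_top _, rfl⟩
  · -- K = H
    have hrel : H.relIndex K = 1 := by
      have h2 := Subgroup.relIndex_mul_index hHK
      rw [h1] at h2
      have hpos : 0 < H.index := hp.pos
      exact Nat.eq_of_mul_eq_mul_right hpos (by rw [h2, one_mul])
    have hKH : K ≤ H := Subgroup.relIndex_eq_one.mp hrel
    have hle : H.map (MulAut.conj g).toMonoidHom ≤ H := le_sup_right.trans hKH
    have hcard : Nat.card (H.map (MulAut.conj g).toMonoidHom) = Nat.card H :=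
      Subgroup.card_map_of_injective (MulAut.conj g).injective
    have heq : H.map (MulAut.conj g).toMonoidHom = H :=
      Subgroup.eq_of_le_of_card_ge hle (by rw [hcard])
    refine ⟨1, Subgroup.one_mem _, ?_⟩
    rw [heq, map_conj_of_mem H 1 (Subgroup.one_mem _)]

/-- a subgroup of index prime to `p` contains a Sylow `p`-subgroup of `G` -/
theorem exists_sylow_le_of_not_dvd_index [Finite G] {p : ℕ} [Fact p.Prime]
    (H : Subgroup G) (h : ¬ p ∣ H.index) : ∃ T : Sylow p G, (T : Subgroup G) ≤ H := by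
  have hp : p.Prime := Fact.out
  obtain ⟨Q⟩ : Nonempty (Sylow p H) := inferInstance
  set T₀ : Subgroup G := (Q : Subgroup H).map H.subtype with hT₀
  have hcard : Nat.card T₀ = p ^ (Nat.card G).factorization p := by
    rw [hT₀, Subgroup.card_map_of_injective H.subtype_injective, Q.card_eq_multiplicity]
    congr 1
    have h1 : Nat.card G = Nat.card H * H.index := (Subgroup.card_mul_index H).symm
    rw [h1, Nat.factorization_mul Nat.card_pos.ne' (Subgroup.index_ne_zero_of_finite),
      Finsupp.add_apply, Nat.factorization_eq_zero_of_not_dvd h, add_zero]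
  refine ⟨Sylow.ofCard T₀ hcard, ?_⟩
  rw [Sylow.coe_ofCard]
  exact Subgroup.map_subtype_le _

end Cfsg.Agent.Lib.Helper44.PrnA
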