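import Cfsg.Agent.Lib.Helper44.PrnADefs
import Cfsg.Agent.Lib.Helper44.PrnAP
import Cfsg.Agent.Lib.Helper14.PrnAA5
import Cfsg.Agent.Lib.Helper56.PrnASW1
import Cfsg.Agent.Lib.Helper96.PrnASW2
import Cfsg.Agent.Lib.Helper18.PrnASW3
import Cfsg.Agent.Lib.Helper28.PrnAKER
import Cfsg.Agent.Lib.Helper64.PrnAAR
import Cfsg.Agent.Lib.Helper96.PrnAMAIN
import Cfsg.Agent.Lib.Helper05.PrnANS
import Cfsg.Agent.Lib.Helper82.PrnAALT

set_option autoImplicit false
set_option linter.unusedVariables false
set_option linter.unusedSectionVars false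

/-! S2222: every subgroup of odd index in `A_n` (`n ≥ 5`) is pronormal.  Glue of the K-PrnA keystone pack (architect
helper44; leaves by helper14, helper56, helper96, helper18, helper28, helper64, helper5, helper82).  Paper proof in
`notes/S2222_keystones.lean.txt`: Sylow 2-subgroups of `S_n` are self-normalising (induction via the matching of
transpositions), hence so are those of `A_n` for `n ≥ 6`, and every overgroup of a self-normalising Sylow subgroup is pronormal. -/

namespace Cfsg.Agent.Lib.Helper44.PrnA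

open Equiv Equiv.Perm

universe u

/-- Sylow 2-subgroups of symmetric groups are self-normalising -/
theorem normalizer_sylow_two_perm {α : Type u} [Fintype α] [DecidableEq α] (P : Sylow 2 (Perm α)) :
    Subgroup.normalizer ((P : Subgroup (Perm α)) : Set (Perm α)) = P := by
  apply Cfsg.Agent.Lib.Helper05.PrnA.normalizer_sylow_two_of_odd
  intro g hg hodd
  refine Cfsg.Agent.Lib.Helper96.PrnA.eq_one_of_mem_normalizer_of_odd.{u} ?_ ?_ ?_
    Cfsg.Agent.Lib.Helper64.PrnA.factorization_factorial_half P g hg hodd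
  · intro β _ _ P h hh
    exact Cfsg.Agent.Lib.Helper28.PrnA.sq_eq_one_of_fix_swaps (swapsIn (P : Subgroup (Perm β)))
      (fun τ hτ => ((mem_swapsIn _ τ).mp hτ).2)
      (fun x y hx hy => Cfsg.Agent.Lib.Helper18.PrnA.unmatched_unique P
        (Cfsg.Agent.Lib.Helper96.PrnA.exists_disjoint_swaps P) x y hx hy) h hh
  · intro β _ _ P K hK
    have h1 := Cfsg.Agent.Lib.Helper28.PrnA.card_fix_swaps_le (swapsIn (P : Subgroup (Perm β)))
      (fun τ hτ => ((mem_swapsIn _ τ).mp hτ).2)
      (fun x y hx hy => Cfsg.Agent.Lib.Helper18.PrnA.unmatched_unique P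
        (Cfsg.Agent.Lib.Helper96.PrnA.exists_disjoint_swaps P) x y hx hy) K hK
    rwa [Cfsg.Agent.Lib.Helper18.PrnA.card_swapsIn P
      (fun a b c d => Cfsg.Agent.Lib.Helper56.PrnA.swap_eq_or_disjoint _ P.isPGroup' a b c d)
      (Cfsg.Agent.Lib.Helper96.PrnA.exists_disjoint_swaps P)] at h1
  · intro β _ _ P
    exact Cfsg.Agent.Lib.Helper18.PrnA.card_swapsIn P
      (fun a b c d => Cfsg.Agent.Lib.Helper56.PrnA.swap_eq_or_disjoint _ P.isPGroup' a b c d)
      (Cfsg.Agent.Lib.Helper96.PrnA.exists_disjoint_swaps P)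

/-- Sylow 2-subgroups of `A_n`, `n ≥ 6`, are self-normalising -/
theorem normalizer_sylow_two_alt (n : ℕ) (hn : 6 ≤ n) (T : Sylow 2 (alternatingGroup (Fin n))) :
    Subgroup.normalizer ((T : Subgroup (alternatingGroup (Fin n))) : Set (alternatingGroup (Fin n))) = T :=
  Cfsg.Agent.Lib.Helper82.PrnA.alt_sylow_normalizer n hn (fun P => normalizer_sylow_two_perm P)
    (fun Q hQ a b c d => Cfsg.Agent.Lib.Helper56.PrnA.swap_eq_or_disjoint Q hQ a b c d)
    (fun P => Cfsg.Agent.Lib.Helper96.PrnA.exists_disjoint_swaps P) T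

theorem pronormal_alt (n : ℕ) (hn : 5 ≤ n) (H : Subgroup (alternatingGroup (Fin n)))
    (hH : Odd H.index) : Cfsg.IsPronormal H := by
  obtain rfl | h6 := eq_or_lt_of_le hn
  · exact Cfsg.Agent.Lib.Helper14.PrnA.pronormal_alt_five (fun T => pronormal_of_sylow T)
      (fun H hp => pronormal_of_prime_index H hp) pronormal_top H hH
  · have h2 : ¬ 2 ∣ H.index := fun h => (Nat.not_even_iff_odd.mpr hH) (even_iff_two_dvd.mpr h)
    obtain ⟨T, hTH⟩ := exists_sylow_le_of_not_dvd_index (p := 2) H h2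
    refine pronormal_of_sylow_normalizer_le T H hTH ?_
    rw [normalizer_sylow_two_alt n h6 T]
    exact hTH

end Cfsg.Agent.Lib.Helper44.PrnA
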