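import Cfsg.Agent.Lib.Helper44.PrnAP

set_option autoImplicit false
set_option linter.unusedVariables false
set_option linter.unusedSectionVars false

/-! S2222 pack K-PrnA, keystone 222205 (parallel hand by the architect): every Sylow 2-subgroup of `Perm α` contains
`|α| / 2` pairwise disjoint transpositions. -/

namespace Cfsg.Agent.Lib.Helper44.PrnA

open Equiv Equiv.Perm

universe u

theorem exists_disjoint_swaps {α : Type u} [Fintype α] [DecidableEq α] (P : Sylow 2 (Perm α)) :
    ∃ f : Fin (Fintype.card α / 2) → α × α, (∀ i, (f i).1 ≠ (f i).2) ∧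
      (∀ i, swap (f i).1 (f i).2 ∈ (P : Subgroup (Perm α))) ∧
      ∀ i j, i ≠ j → (f i).1 ≠ (f j).1 ∧ (f i).1 ≠ (f j).2 ∧ (f i).2 ≠ (f j).1 ∧ (f i).2 ≠ (f j).2 := by
  classical
  set n := Fintype.card α with hn
  let e : α ≃ Fin n := Fintype.equivFin α
  let x : Fin (n / 2) → α := fun i => e.symm ⟨2 * i.1, by have := i.2; omega⟩
  let y : Fin (n / 2) → α := fun i => e.symm ⟨2 * i.1 + 1, by have := i.2; omega⟩
  have hxy : ∀ i, x i ≠ y i := by
    intro i h
    have := congrArg Fin.val (e.symm.injective h)
    simp at this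
  have hxx : ∀ i j, i ≠ j → x i ≠ x j ∧ x i ≠ y j ∧ y i ≠ x j ∧ y i ≠ y j := by
    intro i j hij
    have hv : i.1 ≠ j.1 := fun h => hij (Fin.ext h)
    refine ⟨?_, ?_, ?_, ?_⟩ <;>
    · intro h
      have := congrArg Fin.val (e.symm.injective h)
      simp at this
      omega
  set s : Fin (n / 2) → Perm α := fun i => swap (x i) (y i) with hs
  set E : Subgroup (Perm α) := Subgroup.closure (Set.range s) with hE
  have hgen : ∀ i j, Commute (s i) (s j) := by
    intro i j
    by_cases hij : i = j
    · rw [hij]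
    · obtain ⟨k1, k2, k3, k4⟩ := hxx i j hij
      apply Disjoint.commute
      apply disjoint_swap_swap
      simp only [List.nodup_cons, List.mem_cons, List.not_mem_nil, or_false, not_or,
        List.nodup_nil, and_true, not_false_eq_true]
      exact ⟨⟨hxy i, k1, k2⟩, ⟨k3, k4⟩, hxy j⟩
  have hcomm : ∀ a b, a ∈ E → b ∈ E → Commute a b := by
    intro a b ha hb
    induction ha, hb using Subgroup.closure_induction₂ with
    | mem a b ha hb =>
      obtain ⟨i, rfl⟩ := ha
      obtain ⟨j, rfl⟩ := hb
      exact hgen i j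
    | one_left => exact Commute.one_left _
    | one_right => exact Commute.one_right _
    | mul_left _ _ _ _ _ _ h1 h2 => exact h1.mul_left h2
    | mul_right _ _ _ _ _ _ h1 h2 => exact h1.mul_right h2
    | inv_left _ _ _ _ h => exact h.inv_left
    | inv_right _ _ _ _ h => exact h.inv_right
  have hsq : ∀ a, a ∈ E → a * a = 1 := by
    intro a ha
    induction ha using Subgroup.closure_induction with
    | mem a ha =>
      obtain ⟨i, rfl⟩ := ha
      exact swap_mul_self _ _
    | one => simp
    | mul a b ha hb h1 h2 =>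
      have hc := (hcomm a b ha hb).eq
      calc a * b * (a * b) = a * (b * a) * b := by group
        _ = a * (a * b) * b := by rw [hc]
        _ = (a * a) * (b * b) := by group
        _ = 1 := by rw [h1, h2, one_mul]
    | inv a ha h =>
      have : a⁻¹ * a⁻¹ = (a * a)⁻¹ := by group
      rw [this, h, inv_one]
  have hE2 : IsPGroup 2 E := by
    intro a
    refine ⟨1, ?_⟩
    apply Subtype.ext
    have := hsq a.1 a.2
    simp only [pow_one, pow_two, Subgroup.coe_mul, Subgroup.coe_one]
    exact this
  obtain ⟨P₀, hEP⟩ := hE2.exists_le_sylow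
  obtain ⟨g, hg⟩ := MulAction.exists_smul_eq (Perm α) P₀ P
  refine ⟨fun i => (g (x i), g (y i)), ?_, ?_, ?_⟩
  · intro i h
    exact hxy i (g.injective h)
  · intro i
    rw [← hg, sylow_smul_coe]
    refine ⟨s i, hEP (Subgroup.subset_closure ⟨i, rfl⟩), ?_⟩
    simp only [MulEquiv.coe_toMonoidHom, MulAut.conj_apply, hs]
    rw [← swap_apply_apply]
  · intro i j hij
    obtain ⟨k1, k2, k3, k4⟩ := hxx i j hij
    exact ⟨fun h => k1 (g.injective h), fun h => k2 (g.injective h), fun h => k3 (g.injective h),
      fun h => k4 (g.injective h)⟩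

end Cfsg.Agent.Lib.Helper44.PrnA
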