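import Mathlib
import Cfsg.Prelude.Def_GeometricClasses

/-!
K-SLMax-F1: arithmetic of `IsMinimalFieldFor r p e F` for a prime `r ≠ p`.
-/

set_option autoImplicit false

namespace Cfsg.Agent.Lib.Helper44.SLMax

open Cfsg Cfsg.Geo

lemma dvd_sub_one_iff_mod_aux {r m : ℕ} (hr : 2 ≤ r) (hm : 1 ≤ m) : r ∣ m - 1 ↔ m % r = 1 := by
  constructor
  · intro h
    have h1 : 1 ≡ m [MOD r] := (Nat.modEq_iff_dvd' hm).mpr h
    have h2 : m % r = 1 % r := h1.symm
    rw [h2]; exact Nat.mod_eq_of_lt hr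
  · intro h
    have h2 : 1 % r = 1 := Nat.mod_eq_of_lt hr
    have h1 : 1 ≡ m [MOD r] := by
      show 1 % r = m % r
      rw [h, h2]
    exact (Nat.modEq_iff_dvd' hm).mp h1

theorem minimalField_arith {F : Type*} [Field F] [Fintype F] {r p e : ℕ} (hr : r.Prime) (hrp : r ≠ p)
    (h : IsMinimalFieldFor r p e F) :
    p.Prime ∧ CharP F p ∧ Fintype.card F = p ^ e ∧ 0 < e ∧ e ∣ r - 1 ∧ p ^ e % r = 1 ∧
      ∀ d : ℕ, 0 < d → d < e → p ^ d % r ≠ 1 := by
  obtain ⟨hp, hchar, hcard, hdvd, hmin⟩ := h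
  have hr2 : 2 ≤ r := hr.two_le
  have hpow : ∀ k : ℕ, 1 ≤ p ^ k := fun k => Nat.one_le_pow _ _ hp.pos
  have he : 0 < e := by
    rcases Nat.eq_zero_or_pos e with h0 | h0
    · exfalso
      rw [h0, pow_zero] at hcard
      have := Fintype.one_lt_card (α := F)
      omega
    · exact h0
  have hpe : p ^ e % r = 1 := (dvd_sub_one_iff_mod_aux hr2 (hpow e)).mp hdvd
  have hmin' : ∀ d : ℕ, 0 < d → d < e → p ^ d % r ≠ 1 := by
    intro d hd hde hcontra
    exact hmin d hd hde ((dvd_sub_one_iff_mod_aux hr2 (hpow d)).mpr hcontra)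
  refine ⟨hp, hchar, hcard, he, ?_, hpe, hmin'⟩
  -- e ∣ r - 1
  have hcop : Nat.Coprime p r := by
    rw [Nat.coprime_primes hp hr]; exact fun h => hrp h.symm
  have hfermat : p ^ (r - 1) % r = 1 := by
    have := Nat.ModEq.pow_totient hcop
    rw [Nat.totient_prime hr] at this
    have h2 : 1 % r = 1 := Nat.mod_eq_of_lt hr2
    have h3 : p ^ (r - 1) % r = 1 % r := this
    rw [h3, h2]
  by_contra hnd
  have hd_pos : 0 < (r - 1) % e := by
    rcases Nat.eq_zero_or_pos ((r - 1) % e) with h0 | h0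
    · exact absurd (Nat.dvd_of_mod_eq_zero h0) hnd
    · exact h0
  have hd_lt : (r - 1) % e < e := Nat.mod_lt _ he
  apply hmin' _ hd_pos hd_lt
  have hsplit : p ^ (r - 1) = (p ^ e) ^ ((r - 1) / e) * p ^ ((r - 1) % e) := by
    rw [← pow_mul, ← pow_add, Nat.div_add_mod]
  have h1 : (p ^ e) ^ ((r - 1) / e) % r = 1 := by
    rw [Nat.pow_mod, hpe, one_pow]; exact Nat.mod_eq_of_lt hr2
  have h4 : p ^ (r - 1) % r = p ^ ((r - 1) % e) % r := by
    rw [hsplit, Nat.mul_mod, h1, one_mul, Nat.mod_mod]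
  rw [← h4]; exact hfermat

end Cfsg.Agent.Lib.Helper44.SLMax
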