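import Mathlib
import Cfsg.Prelude.Def_GeometricClasses

/-!
K-SLMax-X1: over the field with two elements, the stabiliser of a decomposition into lines fixes the sum of the
non-zero vectors of the lines, hence stabilises a proper non-zero subspace.
-/

set_option autoImplicit false

namespace Cfsg.Agent.Lib.Helper44.SLMax

open Cfsg Cfsg.Geo
open scoped Matrix MatrixGroups

section
variable {F : Type*} [Field F] {M : Type*} [AddCommGroup M] [Module F M]

/-- In an independent family, a sum of members (one per index) that vanishes has all its terms zero. -/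
lemma eq_zero_of_sum_eq_zero_of_iSupIndep {κ : Type*} [Fintype κ] [DecidableEq κ] (D : κ → Submodule F M)
    (hD : iSupIndep D) (x : κ → M) (hx : ∀ i, x i ∈ D i) (s : Finset κ) (hs : ∑ i ∈ s, x i = 0) :
    ∀ i ∈ s, x i = 0 := by
  intro i hi
  have hdis := hD i
  rw [Submodule.disjoint_def] at hdis
  apply hdis (x i) (hx i)
  have h1 : x i = - ∑ j ∈ s.erase i, x j := by
    rw [← Finset.add_sum_erase s x hi] at hs
    exact eq_neg_of_add_eq_zero_left hs
  rw [h1]
  apply Submodule.neg_mem
  apply Submodule.sum_mem
  intro j hj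
  have hji : j ≠ i := Finset.ne_of_mem_erase hj
  exact Submodule.mem_iSup_of_mem j (Submodule.mem_iSup_of_mem hji (hx j))

end

theorem lines_le_subspaceStabilizer_of_card_two {F : Type*} [Field F] [Fintype F] {n : ℕ}
    (hq : Fintype.card F = 2) {t : ℕ} (D : Fin t → Submodule F (Fin n → F))
    (hD : IsMDecomposition 1 D) :
    ∃ W : Submodule F (Fin n → F), W ≠ ⊥ ∧ W ≠ ⊤ ∧ decompositionStabilizer D ≤ subspaceStabilizer W := by
  classical
  -- scalars are 0 or 1
  have hF : ∀ c : F, c = 0 ∨ c = 1 := by
    intro c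
    by_contra hc
    push Not at hc
    have h3 : ({0, 1, c} : Finset F).card = 3 := by
      rw [Finset.card_insert_of_notMem, Finset.card_insert_of_notMem, Finset.card_singleton]
      · simpa using hc.2.symm
      · simp only [Finset.mem_insert, Finset.mem_singleton, not_or]
        exact ⟨zero_ne_one, hc.1.symm⟩
    have := Finset.card_le_univ ({0, 1, c} : Finset F)
    omega
  -- generators of the lines
  have hgen : ∀ i, ∃ d : Fin n → F, d ≠ 0 ∧ D i = Submodule.span F {d} := by
    intro i
    have h1 := hD.finrank_eq i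
    obtain ⟨v, hv0, hv⟩ := finrank_eq_one_iff'.mp h1
    refine ⟨v, ?_, ?_⟩
    · intro h
      apply hv0
      exact Subtype.ext h
    · apply le_antisymm
      · intro w hw
        obtain ⟨c, hc⟩ := hv ⟨w, hw⟩
        rw [Submodule.mem_span_singleton]
        refine ⟨c, ?_⟩
        have := congrArg Subtype.val hc
        simpa using this
      · rw [Submodule.span_singleton_le_iff_mem]
        exact v.2
  choose d hd0 hdD using hgen
  have hdmem : ∀ i, d i ∈ D i := fun i => by
    rw [hdD i]; exact Submodule.mem_span_singleton_self _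
  -- the only non-zero vector of `D i` is `d i`
  have huniq : ∀ i (w : Fin n → F), w ∈ D i → w ≠ 0 → w = d i := by
    intro i w hw hw0
    rw [hdD i, Submodule.mem_span_singleton] at hw
    obtain ⟨c, rfl⟩ := hw
    rcases hF c with rfl | rfl
    · simp at hw0
    · simp
  have ht : 2 ≤ t := hD.two_le
  set s : Fin n → F := ∑ i, d i with hs
  refine ⟨Submodule.span F {s}, ?_, ?_, ?_⟩
  · -- s ≠ 0
    intro h
    rw [Submodule.span_singleton_eq_bot] at h
    have := eq_zero_of_sum_eq_zero_of_iSupIndep D hD.indep d hdmem Finset.univ h ⟨0, by omega⟩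
      (Finset.mem_univ _)
    exact hd0 _ this
  · -- span {s} ≠ ⊤
    intro h
    have h0 : d ⟨0, by omega⟩ ∈ Submodule.span F {s} := by rw [h]; trivial
    rw [Submodule.mem_span_singleton] at h0
    obtain ⟨c, hc⟩ := h0
    rcases hF c with rfl | rfl
    · rw [zero_smul] at hc
      exact hd0 _ hc.symm
    · rw [one_smul, hs, ← Finset.add_sum_erase Finset.univ d (Finset.mem_univ (⟨0, by omega⟩ : Fin t))] at hc
      have h1 : ∑ j ∈ Finset.univ.erase (⟨0, by omega⟩ : Fin t), d j = 0 := by
        have := add_eq_left.mp hc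
        exact this
      have := eq_zero_of_sum_eq_zero_of_iSupIndep D hD.indep d hdmem _ h1 ⟨1, by omega⟩
        (by
          rw [Finset.mem_erase]
          refine ⟨?_, Finset.mem_univ _⟩
          intro h
          have := congrArg Fin.val h
          simp at this)
      exact hd0 _ this
  · -- the stabiliser fixes s
    intro g hg
    obtain ⟨σ, hσ⟩ := hg
    have hginj : ∀ v : Fin n → F, (g : Matrix (Fin n) (Fin n) F) *ᵥ v = 0 → v = 0 := by
      intro v hv
      have := congrArg (fun w => ((g⁻¹ : GL (Fin n) F) : Matrix (Fin n) (Fin n) F) *ᵥ w) hv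
      simpa [Matrix.mulVec_mulVec, ← Units.val_mul] using this
    have hgd : ∀ i, (g : Matrix (Fin n) (Fin n) F) *ᵥ d i = d (σ i) := by
      intro i
      apply huniq
      · rw [← hσ i]
        exact ⟨d i, hdmem i, by simp [Matrix.toLin'_apply]⟩
      · intro h
        exact hd0 i (hginj _ h)
    have hgs : (g : Matrix (Fin n) (Fin n) F) *ᵥ s = s := by
      rw [hs, Matrix.mulVec_sum]
      simp_rw [hgd]
      exact Equiv.sum_comp σ d
    show ∀ v, v ∈ (Submodule.span F {s} : Set (Fin n → F)) ↔
      (glToMat (Fin n) F g) *ᵥ v ∈ (Submodule.span F {s} : Set (Fin n → F))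
    intro v
    simp only [SetLike.mem_coe, Submodule.mem_span_singleton]
    have hcoe : glToMat (Fin n) F g = (g : Matrix (Fin n) (Fin n) F) := rfl
    rw [hcoe]
    constructor
    · rintro ⟨c, rfl⟩
      exact ⟨c, by rw [Matrix.mulVec_smul, hgs]⟩
    · rintro ⟨c, hc⟩
      refine ⟨c, ?_⟩
      have h2 : (g : Matrix (Fin n) (Fin n) F) *ᵥ (c • s - v) = 0 := by
        rw [Matrix.mulVec_sub, Matrix.mulVec_smul, hgs, hc, sub_self]
      have := hginj _ h2
      exact sub_eq_zero.mp this

end Cfsg.Agent.Lib.Helper44.SLMax
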