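import Mathlib
import Cfsg.Agent.Lib.Helper42.SNLemma1
import Cfsg.Agent.Lib.Helper42.SNTransfer

/-!
# K-SN (S4073), Lemma A: under (SN) with abelian Sylow subgroups, a non-abelian simple group is CA
-/

set_option autoImplicit false

namespace Cfsg.Agent.Lib.Helper44.SN

open Cfsg.Agent.Lib.Helper42.SN

theorem sna_eq_or_eq_of_relIndex_prime {G : Type*} [Group G] (H K L : Subgroup G)
    (hHK : H ≤ K) (hKL : K ≤ L) (hp : (H.relIndex L).Prime) : K = H ∨ K = L := by
  have h := Subgroup.relIndex_mul_relIndex H K L hHK hKL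
  rw [← h] at hp
  rcases Nat.prime_mul_iff.mp hp with ⟨_, h1⟩ | ⟨_, h1⟩
  · right
    exact le_antisymm hKL (Subgroup.relIndex_eq_one.mp h1)
  · left
    exact le_antisymm (Subgroup.relIndex_eq_one.mp h1) hHK

theorem sna_mem_zpowers_of_isCyclic {A : Type*} [Group A] [Finite A] [IsCyclic A] {p : ℕ}
    (hp : 0 < p) (x y : A) (hx : orderOf x = p) (hy : y ^ p = 1) : y ∈ Subgroup.zpowers x := by
  classical
  haveI := Fintype.ofFinite A
  have h1 : (Finset.univ.filter (fun a : A => a ^ p = 1)).card ≤ p :=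
    IsCyclic.card_pow_eq_one_le hp
  have h2 : ((Subgroup.zpowers x : Set A).toFinset) ⊆
      Finset.univ.filter (fun a : A => a ^ p = 1) := by
    intro a ha
    simp only [Set.mem_toFinset, SetLike.mem_coe] at ha
    obtain ⟨k, rfl⟩ := ha
    simp only [Finset.mem_filter, Finset.mem_univ, true_and]
    rw [← zpow_natCast, ← zpow_mul, mul_comm, zpow_mul, zpow_natCast, ← hx, pow_orderOf_eq_one,
      one_zpow]
  have h3 : ((Subgroup.zpowers x : Set A).toFinset).card = p := by
    rw [Set.toFinset_card, ← Nat.card_eq_fintype_card]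
    exact (Nat.card_zpowers x).trans hx
  have := Finset.eq_of_subset_of_card_le h2 (by rw [h3]; exact h1)
  have hy' : y ∈ Finset.univ.filter (fun a : A => a ^ p = 1) := by simp [hy]
  rw [← this] at hy'
  simpa using hy'

/-- Lemma A, prime-order case. -/
theorem sna_centralizer_comm_of_prime {G : Type*} [Group G] [Finite G] [IsSimpleGroup G]
    (hna : ¬ IsMulCommutative G) (hSN : SNProp G)
    (hSyl : ∀ (p : ℕ) [Fact p.Prime] (S : Sylow p G), IsMulCommutative (S : Subgroup G))
    (p : ℕ) [Fact p.Prime] (x : G) (hx : orderOf x = p) :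
    IsMulCommutative (Subgroup.centralizer ({x} : Set G)) := by
  classical
  have hp : p.Prime := Fact.out
  by_contra hC
  set C := Subgroup.centralizer ({x} : Set G) with hCdef
  have hNC : Subgroup.normalizer (C : Set G) = C := hSN C hC
  have hmemC : ∀ c : G, c ∈ C ↔ c * x = x * c := by
    intro c
    rw [hCdef, Subgroup.mem_centralizer_singleton_iff]
  have hx1 : x ≠ 1 := by
    intro h1
    rw [h1, orderOf_one] at hx
    exact hp.one_lt.ne hx
  -- perfect
  have hperf : commutator G = ⊤ := by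
    rcases (inferInstance : (commutator G).Normal).eq_bot_or_eq_top with h | h
    · exfalso
      apply hna
      refine ⟨⟨fun a b => ?_⟩⟩
      have h1 : a * b * a⁻¹ * b⁻¹ ∈ commutator G := by
        rw [commutator_def]
        exact Subgroup.commutator_mem_commutator (Subgroup.mem_top a) (Subgroup.mem_top b)
      rw [h, Subgroup.mem_bot] at h1
      calc a * b = (a * b * a⁻¹ * b⁻¹) * (b * a) := by group
        _ = b * a := by rw [h1, one_mul]
    · exact h
  -- Sylow containing x
  obtain ⟨S, hzS⟩ := (IsPGroup.of_card (p := p) (n := 1)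
    (by rw [Nat.card_zpowers, hx, pow_one]) : IsPGroup p (Subgroup.zpowers x)).exists_le_sylow
  have hxS : x ∈ (S : Subgroup G) := hzS (Subgroup.mem_zpowers x)
  haveI hSc : IsMulCommutative (S : Subgroup G) := hSyl p S
  have hScomm : ∀ a ∈ (S : Subgroup G), ∀ b ∈ (S : Subgroup G), a * b = b * a := by
    intro a ha b hb
    have := hSc.is_comm.comm (⟨a, ha⟩ : (S : Subgroup G)) ⟨b, hb⟩
    exact congrArg Subtype.val this
  have hSC : (S : Subgroup G) ≤ C := by
    intro s hs
    rw [hmemC]
    exact hScomm s hs x hxS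
  have hxN : ¬ (∀ n ∈ Subgroup.normalizer ((S : Subgroup G) : Set G), n * x = x * n) :=
    fun h => hx1 (eq_one_of_central_in_normalizer hperf S x hxS h)
  set NS := Subgroup.normalizer ((S : Subgroup G) : Set G) with hNSdef
  set CS := Subgroup.centralizer ((S : Subgroup G) : Set G) with hCSdef
  -- N(<x>) ≤ C
  have hNx : ∀ n : G, n * x * n⁻¹ ∈ Subgroup.zpowers x → n ∈ C := by
    intro n hn
    have h1 : n⁻¹ ∈ Subgroup.normalizer (C : Set G) := by
      apply Subgroup.mem_normalizer_fintype
      intro c hc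
      rw [SetLike.mem_coe] at hc ⊢
      rw [hmemC] at hc ⊢
      obtain ⟨k, hk⟩ := hn
      have hck : c * (n * x * n⁻¹) = (n * x * n⁻¹) * c := by
        rw [← hk]
        exact ((show Commute c x from hc).zpow_right k).eq
      calc n⁻¹ * c * n⁻¹⁻¹ * x = n⁻¹ * (c * (n * x * n⁻¹)) * n := by group
        _ = n⁻¹ * ((n * x * n⁻¹) * c) * n := by rw [hck]
        _ = x * (n⁻¹ * c * n⁻¹⁻¹) := by group
    rw [hNC] at h1
    exact inv_mem_iff.mp h1
  rcases lemma1 hSN (S : Subgroup G) hSc with h1 | ⟨hCSc, hprime⟩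
  · apply hxN
    intro n hn
    have := h1 hn
    rw [Subgroup.mem_centralizer_iff] at this
    exact (this x hxS).symm
  have hCS_NS : CS ≤ NS := Subgroup.centralizer_le_normalizer _
  have hCS_C : CS ≤ C := Subgroup.centralizer_le (by
    intro y hy
    rw [Set.mem_singleton_iff] at hy
    rw [hy]; exact hxS)
  have hmid : NS ⊓ C = CS := by
    rcases sna_eq_or_eq_of_relIndex_prime CS (NS ⊓ C) NS (le_inf hCS_NS hCS_C) inf_le_left hprime
      with h | h
    · exact h
    · exfalso
      apply hxN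
      intro n hn
      have : n ∈ NS ⊓ C := by rw [h]; exact hn
      exact (hmemC n).mp this.2
  -- Burnside inside C
  let S' : Sylow p C := S.subtype hSC
  have hS'mem : ∀ c : C, c ∈ (S' : Subgroup C) ↔ (c : G) ∈ (S : Subgroup G) := by
    intro c
    exact Subgroup.mem_subgroupOf
  have hNC' : Subgroup.normalizer ((S' : Subgroup C) : Set C) ≤
      Subgroup.centralizer ((S' : Subgroup C) : Set C) := by
    intro c hc
    have h1 : (c : G) ∈ NS := by
      rw [hNSdef]
      apply Subgroup.mem_normalizer_fintype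
      intro g hg
      have := (Subgroup.mem_normalizer_iff.mp hc ⟨g, hSC hg⟩).mp ((hS'mem _).mpr hg)
      exact (hS'mem _).mp this
    have h2 : (c : G) ∈ CS := by rw [← hmid]; exact ⟨h1, c.2⟩
    rw [Subgroup.mem_centralizer_iff]
    intro s hs
    apply Subtype.ext
    have := (Subgroup.mem_centralizer_iff.mp h2) (s : G) ((hS'mem s).mp hs)
    simpa using this
  have hcompl := MonoidHom.ker_transferSylow_isComplement' S' hNC'
  set V := MonoidHom.transferSylow S' hNC' with hVdef
  set K := V.ker with hKdef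
  have hS'comm : ∀ a b : (S' : Subgroup C), a * b = b * a := by
    intro a b
    apply Subtype.ext
    apply Subtype.ext
    exact hScomm _ ((hS'mem a.1).mp a.2) _ ((hS'mem b.1).mp b.2)
  -- proper overgroups of K are commutative
  have hLab : ∀ L : Subgroup C, K ≤ L → L ≠ ⊤ → ∀ a ∈ L, ∀ b ∈ L, a * b = b * a := by
    intro L hKL hLtop
    have hLn : ∀ c : C, ∀ l ∈ L, c * l * c⁻¹ ∈ L := by
      intro c l hl
      have hk : c * l * c⁻¹ * l⁻¹ ∈ K := by
        rw [hKdef, MonoidHom.mem_ker]
        simp only [map_mul, map_inv]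
        rw [hS'comm (V c) (V l)]
        group
      have := L.mul_mem (hKL hk) hl
      simpa [mul_assoc] using this
    by_contra hne
    push Not at hne
    obtain ⟨a, ha, b, hb, hab⟩ := hne
    set LG := L.map C.subtype with hLG
    have hLGnc : ¬ IsMulCommutative LG := by
      intro hcomm
      apply hab
      have ha' : (a : G) ∈ LG := ⟨a, ha, rfl⟩
      have hb' : (b : G) ∈ LG := ⟨b, hb, rfl⟩
      have := hcomm.is_comm.comm (⟨a, ha'⟩ : LG) ⟨b, hb'⟩
      have h' : (a : G) * (b : G) = (b : G) * (a : G) := congrArg (Subtype.val : LG → G) this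
      apply Subtype.ext
      exact h'
    have hLGN := hSN LG hLGnc
    have hCle : C ≤ LG := by
      rw [← hLGN]
      intro c hc
      apply Subgroup.mem_normalizer_fintype
      rintro g ⟨l, hl, rfl⟩
      exact ⟨⟨c, hc⟩ * l * ⟨c, hc⟩⁻¹, hLn ⟨c, hc⟩ l hl, by simp⟩
    apply hLtop
    rw [eq_top_iff]
    intro c _
    obtain ⟨l, hl, hlc⟩ := hCle c.2
    have : l = c := Subtype.ext hlc
    rw [← this]; exact hl
  by_cases hcyc : ∃ s : C, s ∈ (S' : Subgroup C) ∧ K ⊔ Subgroup.zpowers s = ⊤
  · obtain ⟨s, hs, hst⟩ := hcyc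
    have hf : Function.Bijective (V.domRestrict (S' : Subgroup C)) :=
      (MonoidHom.transferSylow_domRestrict_eq_pow S' hNC').symm ▸
        (S'.2.powEquiv' S'.not_dvd_index).bijective
    have hVsurj : Function.Surjective V := fun t => by
      obtain ⟨u, hu⟩ := hf.2 t
      exact ⟨u, hu⟩
    have hz : Subgroup.zpowers (V s) = ⊤ := by
      have h1 : (K ⊔ Subgroup.zpowers s).map V = ⊤ := by
        rw [hst, ← MonoidHom.range_eq_map, MonoidHom.range_eq_top]
        exact hVsurj
      rw [Subgroup.map_sup, (Subgroup.map_eq_bot_iff _).mpr (le_refl K), bot_sup_eq,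
        MonoidHom.map_zpowers] at h1
      exact h1
    haveI hcycS' : IsCyclic (S' : Subgroup C) :=
      ⟨⟨V s, fun t => by
        have : t ∈ Subgroup.zpowers (V s) := by rw [hz]; exact Subgroup.mem_top t
        exact this⟩⟩
    haveI hcycS'' : IsCyclic ((S : Subgroup G).subgroupOf C) := hcycS'
    haveI hcycS : IsCyclic (S : Subgroup G) :=
      isCyclic_of_surjective (Subgroup.subgroupOfEquivOfLe hSC)
        (Subgroup.subgroupOfEquivOfLe hSC).surjective
    apply hxN
    intro n hn
    have hyS : n * x * n⁻¹ ∈ (S : Subgroup G) :=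
      (Subgroup.mem_normalizer_iff.mp hn x).mp hxS
    have hXord : orderOf (⟨x, hxS⟩ : (S : Subgroup G)) = p := by
      rw [Subgroup.orderOf_mk]; exact hx
    have hYp : (⟨n * x * n⁻¹, hyS⟩ : (S : Subgroup G)) ^ p = 1 := by
      apply Subtype.ext
      simp only [Subgroup.coe_pow, Subgroup.coe_one]
      rw [conj_pow, ← hx, pow_orderOf_eq_one, mul_one, mul_inv_cancel]
    obtain ⟨k, hk⟩ := sna_mem_zpowers_of_isCyclic hp.pos _ _ hXord hYp
    have hk' : x ^ k = n * x * n⁻¹ := by
      have hk2 : (⟨x, hxS⟩ : (S : Subgroup G)) ^ k = ⟨n * x * n⁻¹, hyS⟩ := hk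
      have := Subtype.ext_iff.mp hk2
      simpa using this
    exact (hmemC n).mp (hNx n ⟨k, hk'⟩)
  · push Not at hcyc
    apply hC
    have hKcomm : ∀ a ∈ K, ∀ b ∈ K, a * b = b * a := by
      have := hLab (K ⊔ Subgroup.zpowers 1) le_sup_left (hcyc 1 (one_mem _))
      intro a ha b hb
      exact this a (le_sup_left (a := K) ha) b (le_sup_left (a := K) hb)
    have hKS : ∀ k ∈ K, ∀ s ∈ (S' : Subgroup C), k * s = s * k := by
      intro k hk s hs
      exact hLab (K ⊔ Subgroup.zpowers s) le_sup_left (hcyc s hs) k (le_sup_left (a := K) hk) s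
        (le_sup_right (a := K) (Subgroup.mem_zpowers s))
    refine ⟨⟨fun a b => ?_⟩⟩
    obtain ⟨⟨k1, s1⟩, h1⟩ := hcompl.2 a
    obtain ⟨⟨k2, s2⟩, h2⟩ := hcompl.2 b
    simp only at h1 h2
    rw [← h1, ← h2]
    have e1 := hKS k2 k2.2 s1 s1.2
    have e2 := hKS k1 k1.2 s2 s2.2
    have e3 := hKcomm k1 k1.2 k2 k2.2
    have e4 := congrArg Subtype.val (hS'comm s1 s2)
    simp only [Subgroup.coe_mul] at e4
    calc (k1 : C) * s1 * (k2 * s2) = k1 * (s1 * k2) * s2 := by group
      _ = k1 * (k2 * s1) * s2 := by rw [e1]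
      _ = (k1 * k2) * (s1 * s2) := by group
      _ = (k2 * k1) * (s2 * s1) := by rw [e3, e4]
      _ = k2 * (k1 * s2) * s1 := by group
      _ = k2 * (s2 * k1) * s1 := by rw [e2]
      _ = k2 * s2 * (k1 * s1) := by group

/-- Lemma A: under (SN) with abelian Sylow subgroups a non-abelian simple group is a CA-group. -/
theorem centralizer_isMulCommutative {G : Type*} [Group G] [Finite G] [IsSimpleGroup G]
    (hna : ¬ IsMulCommutative G)
    (hSN : ∀ H : Subgroup G, ¬ IsMulCommutative H → Subgroup.normalizer (H : Set G) = H)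
    (hSyl : ∀ (p : ℕ) [Fact p.Prime] (S : Sylow p G), IsMulCommutative (S : Subgroup G))
    (x : G) (hx : x ≠ 1) : IsMulCommutative (Subgroup.centralizer ({x} : Set G)) := by
  obtain ⟨p, hp, hpd⟩ := Nat.exists_prime_and_dvd
    (show orderOf x ≠ 1 from by rwa [Ne, orderOf_eq_one_iff])
  haveI : Fact p.Prime := ⟨hp⟩
  have hy : orderOf (x ^ (orderOf x / p)) = p :=
    orderOf_pow_orderOf_div (orderOf_pos x).ne' hpd
  have hcomm := sna_centralizer_comm_of_prime hna hSN hSyl p _ hy
  have hle : Subgroup.centralizer ({x} : Set G) ≤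
      Subgroup.centralizer ({x ^ (orderOf x / p)} : Set G) := by
    intro c hc
    rw [Subgroup.mem_centralizer_singleton_iff] at hc ⊢
    exact ((show Commute c x from hc).pow_right _).eq
  refine ⟨⟨fun a b => ?_⟩⟩
  have := hcomm.is_comm.comm
    (⟨a.1, hle a.2⟩ : Subgroup.centralizer ({x ^ (orderOf x / p)} : Set G)) ⟨b.1, hle b.2⟩
  have h' : (a : G) * (b : G) = (b : G) * (a : G) := Subtype.ext_iff.mp this
  apply Subtype.ext
  exact h'

end Cfsg.Agent.Lib.Helper44.SN
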