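import Mathlib
import Cfsg.Prelude.Def_GeometricClasses
import Cfsg.Agent.Lib.Helper61.AschUMain

set_option autoImplicit false

namespace Cfsg.Agent.Lib.Helper44.SUMaxA0

open Cfsg Cfsg.Geo
open scoped Matrix Kronecker MatrixGroups

variable {F : Type*} [Field F] [Fintype F]

/-- Aschbacher's theorem for the unitary groups, in the shape of S5663 (proved by helper61's
`Cfsg.Agent.Lib.Helper61.AschU.aschbacher_unitary`). -/
theorem aschbacher_unitary (n q : ℕ) (hF : Fintype.card F = q ^ 2) (hn : 3 ≤ n) (_hex : ¬ (n = 3 ∧ q = 2))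
    (H : Subgroup (GL (Fin n) F)) (hH : H ≤ GU n F q ⊓ specialLinear (Fin n) F)
    (_hproper : H ⊔ (scalars (Fin n) F ⊓ (GU n F q ⊓ specialLinear (Fin n) F)) ≠ GU n F q ⊓ specialLinear (Fin n) F) :
    (∃ M : Subgroup (GL (Fin n) F), InUnitaryClass n F q M ∧ H ≤ M) ∨ InUnitaryResidualClass H :=
  Cfsg.Agent.Lib.Helper61.AschU.aschbacher_unitary hF hn H (hH.trans inf_le_left)

end Cfsg.Agent.Lib.Helper44.SUMaxA0
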