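import Mathlib
import Cfsg.Prelude.Def_GeometricClasses
import Cfsg.Agent.Lib.Helper38.SUMaxG1
import Cfsg.Agent.Lib.Helper32.SUMaxN1
import Cfsg.Agent.Lib.Helper26.SUMaxN2
import Cfsg.Agent.Lib.Helper14.SUMaxN3
import Cfsg.Agent.Lib.Helper47.SUMaxN4
import Cfsg.Agent.Lib.Helper70.SUMaxN5
import Cfsg.Agent.Lib.Helper63.SUMaxN6
import Cfsg.Agent.Lib.Helper85.SUMaxN7
import Cfsg.Agent.Lib.Helper94.SUMaxD6a
import Cfsg.Agent.Lib.Helper91.SUMaxD6b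
import Cfsg.Agent.Lib.Helper23.SUMaxD6c
import Cfsg.Agent.Lib.Helper79.SUMaxXA
import Cfsg.Agent.Lib.Helper49.SUMaxXB

/-!
# SU_n maximal-subgroup rows: the delivered keystones, collected under one namespace.
(Authors: helper38 G1; helper32 N1; helper26 N2; helper14 N3; helper47 N4; helper70 N5; helper63 N6; helper85 N7;
helper94 D6a; helper91 D6b; helper23 D6c; helper79 XA; helper49 XB.)
-/

set_option autoImplicit false

namespace Cfsg.Agent.Lib.Helper44.SUMaxKeys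

open Cfsg Cfsg.Geo
open scoped Matrix Kronecker MatrixGroups

variable {F : Type*} [Field F] [Fintype F] {n q : ℕ}

theorem sup_scalars_ne_of_isMaximalIn (hF : Fintype.card F = q ^ 2) (hn : 3 ≤ n) (hex : ¬ (n = 3 ∧ q = 2))
    (H : Subgroup (GL (Fin n) F)) (hH : IsMaximalIn (GU n F q ⊓ specialLinear (Fin n) F) H) :
    H ⊔ (scalars (Fin n) F ⊓ (GU n F q ⊓ specialLinear (Fin n) F)) ≠ GU n F q ⊓ specialLinear (Fin n) F :=
  Cfsg.Agent.Lib.Helper38.SUMax.sup_scalars_ne_of_isMaximalIn hF hn hex H hH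

theorem su_not_le_subspaceStabilizer (hF : Fintype.card F = q ^ 2) (hn : 3 ≤ n) (hex : ¬ (n = 3 ∧ q = 2))
    (W : Submodule F (Fin n → F)) (h0 : W ≠ ⊥) (h1 : W ≠ ⊤) :
    ¬ GU n F q ⊓ specialLinear (Fin n) F ≤ subspaceStabilizer W :=
  Cfsg.Agent.Lib.Helper32.SUMax.su_not_le_subspaceStabilizer hF hn hex W h0 h1

theorem su_not_le_decompositionStabilizer (hF : Fintype.card F = q ^ 2) (hn : 3 ≤ n) (hex : ¬ (n = 3 ∧ q = 2)) {t k : ℕ}
    (D : Fin t → Submodule F (Fin n → F)) (hD : IsMDecomposition k D) :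
    ¬ GU n F q ⊓ specialLinear (Fin n) F ≤ decompositionStabilizer D :=
  Cfsg.Agent.Lib.Helper26.SUMax.su_not_le_decompositionStabilizer hF hn hex D hD

theorem su_not_le_subalgebraNormalizer (hF : Fintype.card F = q ^ 2) (hn : 3 ≤ n) (hex : ¬ (n = 3 ∧ q = 2)) {r : ℕ} (hr : 2 ≤ r)
    (K : Subalgebra F (Matrix (Fin n) (Fin n) F)) (hK : IsFieldSubalgebra r K) :
    ¬ GU n F q ⊓ specialLinear (Fin n) F ≤ subalgebraNormalizer K :=
  Cfsg.Agent.Lib.Helper14.SUMax.su_not_le_subalgebraNormalizer hF hn hex hr K hK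

theorem su_not_le_tensorProductSubgroup (hF : Fintype.card F = q ^ 2) (hn : 3 ≤ n) (hex : ¬ (n = 3 ∧ q = 2)) {n₁ n₂ : ℕ}
    (h₁ : 2 ≤ n₁) (h₂ : 2 ≤ n₂) (e : Fin n ≃ Fin n₁ × Fin n₂) (P : GL (Fin n) F) :
    ¬ GU n F q ⊓ specialLinear (Fin n) F ≤ tensorProductSubgroup n₁ n₂ e P :=
  Cfsg.Agent.Lib.Helper47.SUMax.su_not_le_tensorProductSubgroup hF hn hex h₁ h₂ e P

theorem su_not_le_subfieldSubgroup (hF : Fintype.card F = q ^ 2) (hn : 3 ≤ n) (hex : ¬ (n = 3 ∧ q = 2)) (F₀ : Subfield F) (r : ℕ)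
    (hr : r.Prime) (hF₀ : Fintype.card F = Nat.card F₀ ^ r) (P : GL (Fin n) F) :
    ¬ GU n F q ⊓ specialLinear (Fin n) F ≤ subfieldSubgroup F₀ P :=
  Cfsg.Agent.Lib.Helper70.SUMax.su_not_le_subfieldSubgroup hF hn hex F₀ r hr hF₀ P

/-- (version for `5 ≤ n`) -/
theorem su_not_le_subgroupNormalizer (hF : Fintype.card F = q ^ 2) (hn : 5 ≤ n) {r : ℕ}
    (R : Subgroup (GL (Fin n) F)) (hR : IsSymplecticTypeGroup r R) (habs : ActsAbsolutelyIrreducibly (matrixSet R)) :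
    ¬ GU n F q ⊓ specialLinear (Fin n) F ≤ subgroupNormalizer R :=
  Cfsg.Agent.Lib.Helper63.SUMax.su_not_le_subgroupNormalizer_of_five_le hF hn R hR habs

theorem su_not_le_tensorWreathSubgroup (hF : Fintype.card F = q ^ 2) (hn : 3 ≤ n) (hex : ¬ (n = 3 ∧ q = 2)) {k t : ℕ}
    (hk : 2 ≤ k) (ht : 2 ≤ t) (e : Fin n ≃ (Fin t → Fin k)) (P : GL (Fin n) F) :
    ¬ GU n F q ⊓ specialLinear (Fin n) F ≤ tensorWreathSubgroup k t e P :=
  Cfsg.Agent.Lib.Helper85.SUMax.su_not_le_tensorWreathSubgroup hF hn hex hk ht e P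

theorem card_sq_mul_card_center_fin (hn : 0 < n)
    (R : Subgroup (GL (Fin n) F)) (habs : ActsAbsolutelyIrreducibly (matrixSet R))
    (hcl : ∀ g ∈ R, ∀ h ∈ R, ∀ x ∈ R, (g * h * g⁻¹ * h⁻¹) * x = x * (g * h * g⁻¹ * h⁻¹)) :
    n ^ 2 * Nat.card (Subgroup.center R) = Nat.card R :=
  Cfsg.Agent.Lib.Helper94.SUMax.card_sq_mul_card_center_fin hn R habs hcl

theorem commutator_central_of_symplecticType {r : ℕ}
    (R : Subgroup (GL (Fin n) F)) (hR : IsSymplecticTypeGroup r R) :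
    ∀ g ∈ R, ∀ h ∈ R, ∀ x ∈ R, (g * h * g⁻¹ * h⁻¹) * x = x * (g * h * g⁻¹ * h⁻¹) :=
  Cfsg.Agent.Lib.Helper91.SUMax.commutator_central_of_symplecticType R hR

theorem le_GU_of_pow_eq_one (hF : Fintype.card F = q ^ 2) (hn : 1 ≤ n) {r : ℕ} (R : Subgroup (GL (Fin n) F))
    (hsim : R ≤ similarityGroup (hermForm n F q)) (hexp : ∀ g ∈ R, g ^ r = 1) (hcop : Nat.Coprime r (q - 1)) :
    R ≤ GU n F q :=
  Cfsg.Agent.Lib.Helper23.SUMax.le_GU_of_pow_eq_one hF hn R hsim hexp hcop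

theorem nondeg_planes_le_lines_of_two (hF : Fintype.card F = q ^ 2) (hq : q = 2) {t : ℕ}
    (D : Fin t → Submodule F (Fin n → F)) (hD : IsNondegenerateMDecomposition (hermForm n F q) 2 D) :
    ∃ (t' : ℕ) (D' : Fin t' → Submodule F (Fin n → F)), IsNondegenerateMDecomposition (hermForm n F q) 1 D' ∧
      decompositionStabilizer D ⊓ GU n F q ≤ decompositionStabilizer D' :=
  Cfsg.Agent.Lib.Helper79.SUMax.nondeg_planes_le_lines_of_two hF hq D hD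

theorem tensor_two_le_decomposition_of_two (hF : Fintype.card F = q ^ 2) (hq : q = 2) {n₂ : ℕ} (hn₂ : 1 ≤ n₂)
    (e : Fin n ≃ Fin 2 × Fin n₂) (P : GL (Fin n) F)
    (f₁ : (Fin 2 → F) → (Fin 2 → F) → F) (f₂ : (Fin n₂ → F) → (Fin n₂ → F) → F)
    (h₁ : IsUnitaryFormPow q f₁) (h₂ : IsUnitaryFormPow q f₂)
    (hT : IsTensorFormStructure (fun x : F => x ^ q) (hermForm n F q) f₁ f₂ e P) :
    ∃ D : Fin 2 → Submodule F (Fin n → F), IsNondegenerateMDecomposition (hermForm n F q) n₂ D ∧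
      tensorProductSubgroup 2 n₂ e P ⊓ GU n F q ≤ decompositionStabilizer D :=
  Cfsg.Agent.Lib.Helper49.SUMax.tensor_two_le_decomposition_of_two hF hq hn₂ e P f₁ f₂ h₁ h₂ hT

end Cfsg.Agent.Lib.Helper44.SUMaxKeys
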