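import Mathlib
import Cfsg.Prelude.Def_GeometricClasses
import Cfsg.Agent.Lib.Helper44.SUMaxKeys
import Cfsg.Agent.Lib.Helper44.SUMaxA0

set_option autoImplicit false

namespace Cfsg.Agent.Lib.Helper44.SUMaxGlue

open Cfsg Cfsg.Geo
open scoped Matrix Kronecker MatrixGroups
open Cfsg.Agent.Lib.Helper44.SUMaxKeys Cfsg.Agent.Lib.Helper44.SUMaxA0

variable {F : Type*} [Field F] [Fintype F] {n q : ℕ}

omit [Fintype F] in
lemma ne_top_of_isTotallySingularFor (hn : 1 ≤ n) (W : Submodule F (Fin n → F))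
    (hW : IsTotallySingularFor (hermForm n F q) W) : W ≠ ⊤ := by
  rintro rfl
  have h := hW (Pi.single ⟨0, by omega⟩ 1) trivial (Pi.single ⟨0, by omega⟩ 1) trivial
  unfold hermForm at h
  rw [Finset.sum_eq_single (⟨0, by omega⟩ : Fin n)] at h
  · simp at h
  · intro b _ hb
    simp [Pi.single_apply, hb]
  · simp

omit [Fintype F] in
lemma ne_top_of_two_mul_finrank_lt (W : Submodule F (Fin n → F)) (h : 2 * Module.finrank F W < n) : W ≠ ⊤ := by
  rintro rfl
  rw [finrank_top, Module.finrank_fin_fun] at h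
  omega

lemma cast_ne_zero_of_ne {r p : ℕ} (hr : r.Prime) (hp : p.Prime) [CharP F p] (hrp : r ≠ p) : (r : F) ≠ 0 := by
  intro h
  rw [CharP.cast_eq_zero_iff F p] at h
  exact hrp ((Nat.prime_dvd_prime_iff_eq hp hr).mp h).symm

/-- No member of a unitary class contains `SU`. -/
theorem not_le_of_inUnitaryClass (hF : Fintype.card F = q ^ 2) (hn5 : 5 ≤ n)
    (M : Subgroup (GL (Fin n) F)) (hM : InUnitaryClass n F q M) :
    M ≤ GU n F q ∧ ¬ GU n F q ⊓ specialLinear (Fin n) F ≤ M := by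
  have hn : 3 ≤ n := by omega
  have hex : ¬ (n = 3 ∧ q = 2) := by rintro ⟨h, -⟩; omega
  have key : ∀ X : Subgroup (GL (Fin n) F), ¬ GU n F q ⊓ specialLinear (Fin n) F ≤ X → M = X ⊓ GU n F q →
      M ≤ GU n F q ∧ ¬ GU n F q ⊓ specialLinear (Fin n) F ≤ M := by
    intro X hX hMX
    refine ⟨hMX ▸ inf_le_right, fun h => hX ?_⟩
    rw [hMX] at h
    exact h.trans inf_le_left
  unfold InUnitaryClass InUnitaryPartialClass at hM
  rcases hM with (⟨W, h0, hW, rfl⟩ | ⟨W, h0, hW, hlt, rfl⟩ | ⟨t, k, D, hD, rfl⟩ | ⟨k, D, hk, hD, hts, rfl⟩ |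
      ⟨F₀, r, P, hr, hrodd, hF₀, hrat, rfl⟩ | ⟨F₀, P, hqodd, hF₀, hrat, rfl⟩ |
      ⟨F₀, P, ζ, hneven, hF₀, hζ, hζq, hrat, hvan, rfl⟩ |
      ⟨r, R, p, e, k, hR, habs, hsim, hrp, hmin, hcase, rfl⟩) | ⟨r, K, hr, hrodd, hK, hac, rfl⟩ |
      ⟨n₁, n₂, e, P, f₁, f₂, hn₁, hn₁₂, h₁, h₂, hT, rfl⟩ | ⟨k, t, e, P, f₁, hk, ht, hne, h₁, hT, rfl⟩
  · exact key _ (su_not_le_subspaceStabilizer hF hn hex W h0 (ne_top_of_isTotallySingularFor (by omega) W hW)) rfl
  · exact key _ (su_not_le_subspaceStabilizer hF hn hex W h0 (ne_top_of_two_mul_finrank_lt W hlt)) rfl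
  · exact key _ (su_not_le_decompositionStabilizer hF hn hex D hD.decomp) rfl
  · exact key _ (su_not_le_decompositionStabilizer hF hn hex D hD) rfl
  · exact key _ (su_not_le_subfieldSubgroup hF hn hex F₀ r hr hF₀ P) rfl
  · exact key _ (su_not_le_subfieldSubgroup hF hn hex F₀ 2 Nat.prime_two hF₀ P) rfl
  · exact key _ (su_not_le_subfieldSubgroup hF hn hex F₀ 2 Nat.prime_two hF₀ P) rfl
  · exact key _ (su_not_le_subgroupNormalizer hF hn5 R hR habs) rfl
  · exact key _ (su_not_le_subalgebraNormalizer hF hn hex hr.two_le K hK) rfl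
  · exact key _ (su_not_le_tensorProductSubgroup hF hn hex hn₁ (by omega) e P) rfl
  · exact key _ (su_not_le_tensorWreathSubgroup hF hn hex (by omega) ht e P) rfl

/-- A maximal subgroup of `SU` is (a class member) `⊓ SL`, or residual. -/
theorem eq_class_or_residual (hF : Fintype.card F = q ^ 2) (hn5 : 5 ≤ n)
    (H : Subgroup (GL (Fin n) F)) (hH : IsMaximalIn (GU n F q ⊓ specialLinear (Fin n) F) H) :
    (∃ M : Subgroup (GL (Fin n) F), InUnitaryClass n F q M ∧ H = M ⊓ specialLinear (Fin n) F) ∨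
      InUnitaryResidualClass H := by
  have hn : 3 ≤ n := by omega
  have hex : ¬ (n = 3 ∧ q = 2) := by rintro ⟨h, -⟩; omega
  rcases aschbacher_unitary n q hF hn hex H hH.1.le (sup_scalars_ne_of_isMaximalIn hF hn hex H hH) with
    ⟨M, hM, hHM⟩ | hres
  · left
    obtain ⟨hle, hne⟩ := not_le_of_inUnitaryClass hF hn5 M hM
    have h1 : H ≤ M ⊓ specialLinear (Fin n) F := le_inf hHM (hH.1.le.trans inf_le_right)
    have h2 : M ⊓ specialLinear (Fin n) F ≤ GU n F q ⊓ specialLinear (Fin n) F := inf_le_inf_right _ hle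
    rcases hH.2 _ h1 h2 with h | h
    · exact ⟨M, hM, h.symm⟩
    · exfalso
      apply hne
      rw [← h]
      exact inf_le_left
  · exact Or.inr hres

/-- If the maximal subgroup `H = (X ⊓ GU) ⊓ SL` has `X ⊓ GU ≤ Y` and `SU ≰ Y`, then `H = Y ⊓ SU`. -/
lemma eq_inf_of_le {H X Y : Subgroup (GL (Fin n) F)} (hH : IsMaximalIn (GU n F q ⊓ specialLinear (Fin n) F) H)
    (hHX : H = X ⊓ GU n F q ⊓ specialLinear (Fin n) F) (hXY : X ⊓ GU n F q ≤ Y)
    (hY : ¬ GU n F q ⊓ specialLinear (Fin n) F ≤ Y) : H = Y ⊓ (GU n F q ⊓ specialLinear (Fin n) F) := by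
  have h1 : H ≤ Y ⊓ (GU n F q ⊓ specialLinear (Fin n) F) := by
    rw [hHX]
    refine le_inf (inf_le_left.trans hXY) ?_
    exact le_inf (inf_le_left.trans inf_le_right) inf_le_right
  rcases hH.2 _ h1 inf_le_right with h | h
  · exact h.symm
  · exact absurd (inf_eq_right.mp h) hY

end Cfsg.Agent.Lib.Helper44.SUMaxGlue
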