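import Mathlib
import Cfsg.Prelude.Def_GeometricClasses
import Cfsg.Agent.Lib.Helper44.SUMaxGlue
import Cfsg.Agent.Lib.Helper44.SLMaxF1
import Cfsg.Agent.Lib.Helper36.SLMaxD2
import Cfsg.Agent.Lib.Helper63.SLMaxD3

set_option autoImplicit false

namespace Cfsg.Agent.Lib.Helper44.SUMaxGlue

open Cfsg Cfsg.Geo
open scoped Matrix Kronecker MatrixGroups
open Cfsg.Agent.Lib.Helper44.SUMaxKeys

variable {F : Type*} [Field F] [Fintype F] {n q : ℕ}

lemma exists_half_exponent {p e q : ℕ} (hp : p.Prime) (h : p ^ e = q ^ 2) : ∃ j, e = 2 * j ∧ q = p ^ j := by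
  have hq : q ∣ p ^ e := by rw [h]; exact dvd_pow_self q (by norm_num)
  obtain ⟨j, -, rfl⟩ := (Nat.dvd_prime_pow hp).mp hq
  refine ⟨j, ?_, rfl⟩
  rw [← pow_mul] at h
  have := Nat.pow_right_injective hp.two_le h
  omega

/-- the class-6 data force `n ^ 2 = r ^ (2 k)` -/
lemma sq_eq_pow_of_class6 {r k : ℕ} (R : Subgroup (GL (Fin n) F)) (hR : IsSymplecticTypeGroup r R)
    (habs : ActsAbsolutelyIrreducibly (matrixSet R))
    (hcase : (Odd r ∧ Nat.card (Subgroup.center R) = r ∧ 1 ≤ k ∧ Nat.card R = r ^ (1 + 2 * k)) ∨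
      (r = 2 ∧ Nat.card (Subgroup.center R) = 4 ∧ Nat.card R = 2 ^ (2 + 2 * k))) :
    n ^ 2 = r ^ (2 * k) := by
  have hn0 : 0 < n := by
    rcases Nat.eq_zero_or_pos n with rfl | h
    · exfalso
      have h1 : Nat.card R = 1 := by
        haveI : Subsingleton (GL (Fin 0) F) := ⟨fun a b => Units.ext (Subsingleton.elim _ _)⟩
        exact Nat.card_unique
      have hr2 := hR.prime.two_le
      rcases hcase with ⟨-, -, hk, hcard⟩ | ⟨-, -, hcard⟩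
      · rw [h1] at hcard
        have : 2 ^ 1 ≤ r ^ (1 + 2 * k) := (Nat.pow_le_pow_left hr2 1).trans (Nat.pow_le_pow_right (by omega) (by omega))
        omega
      · rw [h1] at hcard
        have : 2 ^ 1 ≤ 2 ^ (2 + 2 * k) := Nat.pow_le_pow_right (by omega) (by omega)
        omega
    · exact h
  have h := card_sq_mul_card_center_fin hn0 R habs (commutator_central_of_symplecticType R hR)
  have hr0 : 0 < r := hR.prime.pos
  rcases hcase with ⟨-, hZ, -, hcard⟩ | ⟨rfl, hZ, hcard⟩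
  · rw [hZ, hcard, pow_add, pow_one, mul_comm] at h
    exact Nat.eq_of_mul_eq_mul_left hr0 h
  · rw [hZ, hcard, pow_add, mul_comm] at h
    exact Nat.eq_of_mul_eq_mul_left (by norm_num) h

lemma eq_pow_of_sq_eq {r k : ℕ} (h : n ^ 2 = r ^ (2 * k)) : n = r ^ k := by
  rw [mul_comm, pow_mul] at h
  exact Nat.pow_left_injective (by norm_num : (2 : ℕ) ≠ 0) h

lemma two_le_q (hF : Fintype.card F = q ^ 2) : 2 ≤ q := by
  have := Fintype.one_lt_card (α := F)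
  rw [hF] at this
  by_contra h
  push Not at h
  interval_cases q <;> simp at this

lemma q_eq_two_of_lt_three (hF : Fintype.card F = q ^ 2) (h : ¬ 3 ≤ q) : q = 2 := by
  have := two_le_q hF
  omega

/-- shape of a non-degenerate decomposition -/
lemma mul_eq_of_nondeg {t k : ℕ} (D : Fin t → Submodule F (Fin n → F))
    (hD : IsNondegenerateMDecomposition (hermForm n F q) k D) : t * k = n ∧ 2 ≤ t ∧ 0 < k :=
  ⟨Cfsg.Agent.Lib.Helper36.SLMax.mul_eq_of_isMDecomposition D hD.decomp, hD.decomp.two_le, hD.decomp.pos⟩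

omit [Field F] [Fintype F] in
lemma eq_mul_of_equiv {n₁ n₂ : ℕ} (e : Fin n ≃ Fin n₁ × Fin n₂) : n = n₁ * n₂ := by
  have hc : Fintype.card (Fin n) = Fintype.card (Fin n₁ × Fin n₂) := Fintype.card_congr e
  simpa using hc

omit [Field F] [Fintype F] in
lemma eq_pow_of_equiv {k t : ℕ} (e : Fin n ≃ (Fin t → Fin k)) : n = k ^ t := by
  have hc : Fintype.card (Fin n) = Fintype.card (Fin t → Fin k) := Fintype.card_congr e
  simpa using hc

end Cfsg.Agent.Lib.Helper44.SUMaxGlue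

namespace Cfsg.Agent.Lib.Helper44.SUMaxGlue

/-- order-2 residues -/
lemma mod_of_order_two (N c₀ : ℕ) (hN : 0 < N)
    (hdec : ∀ c < N, c ^ 2 % N = 1 → c ^ 1 % N ≠ 1 → c = c₀)
    (p : ℕ) (h2 : p ^ 2 % N = 1) (h1 : p ^ 1 % N ≠ 1) : p % N = c₀ := by
  apply hdec (p % N) (Nat.mod_lt _ hN)
  · rw [← Nat.pow_mod]; exact h2
  · rw [← Nat.pow_mod]; exact h1

lemma mod7_order_two (p : ℕ) (h2 : p ^ 2 % 7 = 1) (h1 : p ^ 1 % 7 ≠ 1) : p % 7 = 6 :=
  mod_of_order_two 7 6 (by norm_num) (by decide) p h2 h1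

lemma mod11_order_two (p : ℕ) (h2 : p ^ 2 % 11 = 1) (h1 : p ^ 1 % 11 ≠ 1) : p % 11 = 10 :=
  mod_of_order_two 11 10 (by norm_num) (by decide) p h2 h1

lemma mod3_order_two (p : ℕ) (h2 : p ^ 2 % 3 = 1) (h1 : p ^ 1 % 3 ≠ 1) : p % 3 = 2 :=
  mod_of_order_two 3 2 (by norm_num) (by decide) p h2 h1

lemma mod7_order_six (p : ℕ) (h6 : p ^ 6 % 7 = 1) (h1 : p ^ 1 % 7 ≠ 1) (h2 : p ^ 2 % 7 ≠ 1) (h3 : p ^ 3 % 7 ≠ 1) :
    p % 7 = 3 ∨ p % 7 = 5 := by
  have hdec : ∀ c < 7, c ^ 6 % 7 = 1 → c ^ 1 % 7 ≠ 1 → c ^ 2 % 7 ≠ 1 → c ^ 3 % 7 ≠ 1 → c = 3 ∨ c = 5 := by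
    intro c hc; interval_cases c <;> decide
  apply hdec (p % 7) (Nat.mod_lt _ (by norm_num))
  · rw [← Nat.pow_mod]; exact h6
  · rw [← Nat.pow_mod]; exact h1
  · rw [← Nat.pow_mod]; exact h2
  · rw [← Nat.pow_mod]; exact h3

lemma mod11_order_ten (p : ℕ) (h10 : p ^ 10 % 11 = 1) (h1 : p ^ 1 % 11 ≠ 1) (h2 : p ^ 2 % 11 ≠ 1)
    (h5 : p ^ 5 % 11 ≠ 1) : p % 11 = 2 ∨ p % 11 = 6 ∨ p % 11 = 7 ∨ p % 11 = 8 := by
  have hdec : ∀ c < 11, c ^ 10 % 11 = 1 → c ^ 1 % 11 ≠ 1 → c ^ 2 % 11 ≠ 1 → c ^ 5 % 11 ≠ 1 →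
      c = 2 ∨ c = 6 ∨ c = 7 ∨ c = 8 := by
    intro c hc; interval_cases c <;> decide
  apply hdec (p % 11) (Nat.mod_lt _ (by norm_num))
  · rw [← Nat.pow_mod]; exact h10
  · rw [← Nat.pow_mod]; exact h1
  · rw [← Nat.pow_mod]; exact h2
  · rw [← Nat.pow_mod]; exact h5

end Cfsg.Agent.Lib.Helper44.SUMaxGlue

namespace Cfsg.Agent.Lib.Helper44.SUMaxGlue

open Cfsg Cfsg.Geo

lemma mod11_pow_five (p : ℕ) (h : p % 11 = 2 ∨ p % 11 = 6 ∨ p % 11 = 7 ∨ p % 11 = 8) : p ^ 5 % 11 = 10 := by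
  rw [Nat.pow_mod]
  rcases h with h | h | h | h <;> rw [h]

lemma coprime_eleven_of_mod {q : ℕ} (h : q % 11 = 10) : Nat.Coprime 11 (q - 1) := by
  rw [Nat.Prime.coprime_iff_not_dvd (by norm_num)]
  omega

/-- elements of a subgroup of exponent `N` have `N`-th power one -/
lemma pow_eq_one_of_exponent {G : Type*} [Group G] (R : Subgroup G) {N : ℕ} (h : Monoid.exponent R = N) :
    ∀ g ∈ R, g ^ N = 1 := by
  intro g hg
  have := Monoid.pow_exponent_eq_one (⟨g, hg⟩ : R)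
  rw [h] at this
  exact congrArg Subtype.val this

end Cfsg.Agent.Lib.Helper44.SUMaxGlue

namespace Cfsg.Agent.Lib.Helper44.SUMaxGlue

lemma prime_pow_eq_nine {r k : ℕ} (hr : r.Prime) (h : 9 = r ^ k) : r = 3 ∧ k = 2 := by
  have hk0 : k ≠ 0 := by rintro rfl; simp at h
  have hdvd : r ∣ 3 ^ 2 := by
    have : r ∣ r ^ k := dvd_pow_self r hk0
    rw [← h] at this; exact this
  have hr3 : r = 3 := (Nat.prime_dvd_prime_iff_eq hr Nat.prime_three).mp (hr.dvd_of_dvd_pow hdvd)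
  subst hr3
  refine ⟨rfl, ?_⟩
  have hk : k < 3 := by
    by_contra hk
    push Not at hk
    have : 3 ^ 3 ≤ 3 ^ k := Nat.pow_le_pow_right (by norm_num) hk
    omega
  interval_cases k <;> omega

lemma prime_pow_eq_eight {r k : ℕ} (hr : r.Prime) (h : 8 = r ^ k) : r = 2 ∧ k = 3 := by
  have hk0 : k ≠ 0 := by rintro rfl; simp at h
  have hdvd : r ∣ 2 ^ 3 := by
    have : r ∣ r ^ k := dvd_pow_self r hk0
    rw [← h] at this; exact this
  have hr2 : r = 2 := (Nat.prime_dvd_prime_iff_eq hr Nat.prime_two).mp (hr.dvd_of_dvd_pow hdvd)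
  subst hr2
  refine ⟨rfl, ?_⟩
  have hk : k < 4 := by
    by_contra hk
    push Not at hk
    have : 2 ^ 4 ≤ 2 ^ k := Nat.pow_le_pow_right (by norm_num) hk
    omega
  interval_cases k <;> omega

lemma prime_pow_ne_ten {r k : ℕ} (hr : r.Prime) : 10 ≠ r ^ k := by
  intro h
  have hk0 : k ≠ 0 := by rintro rfl; simp at h
  have h2 : 2 ∣ r ^ k := by rw [← h]; norm_num
  have h5 : 5 ∣ r ^ k := by rw [← h]; norm_num
  have e2 := (Nat.prime_dvd_prime_iff_eq Nat.prime_two hr).mp (Nat.prime_two.dvd_of_dvd_pow h2)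
  have e5 := (Nat.prime_dvd_prime_iff_eq (by norm_num : Nat.Prime 5) hr).mp
    ((by norm_num : Nat.Prime 5).dvd_of_dvd_pow h5)
  omega

lemma prime_pow_ne_twelve {r k : ℕ} (hr : r.Prime) : 12 ≠ r ^ k := by
  intro h
  have hk0 : k ≠ 0 := by rintro rfl; simp at h
  have h2 : 2 ∣ r ^ k := by rw [← h]; norm_num
  have h3 : 3 ∣ r ^ k := by rw [← h]; norm_num
  have e2 := (Nat.prime_dvd_prime_iff_eq Nat.prime_two hr).mp (Nat.prime_two.dvd_of_dvd_pow h2)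
  have e3 := (Nat.prime_dvd_prime_iff_eq Nat.prime_three hr).mp (Nat.prime_three.dvd_of_dvd_pow h3)
  omega

lemma mod4_of_minimal {p : ℕ} (hdvd : 4 ∣ p ^ 2 - 1) (hnd : ¬ 4 ∣ p ^ 1 - 1) : p % 4 = 3 := by
  have hp1 : 1 ≤ p := by
    rcases Nat.eq_zero_or_pos p with rfl | h
    · exfalso; apply hnd; simp
    · exact h
  have h2 := (Cfsg.Agent.Lib.Helper44.SLMax.dvd_sub_one_iff_mod_aux (by norm_num : 2 ≤ 4)
    (Nat.one_le_pow _ _ hp1)).mp hdvd
  have h1 : p ^ 1 % 4 ≠ 1 := fun h =>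
    hnd ((Cfsg.Agent.Lib.Helper44.SLMax.dvd_sub_one_iff_mod_aux (by norm_num : 2 ≤ 4)
      (Nat.one_le_pow _ _ hp1)).mpr h)
  exact mod_of_order_two 4 3 (by norm_num) (by decide) p h2 h1

end Cfsg.Agent.Lib.Helper44.SUMaxGlue
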