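import Mathlib
import Cfsg.Prelude.Def_GeometricClasses
import Cfsg.Agent.Lib.Helper43.SpAschGlue3

set_option autoImplicit false

namespace Cfsg.Agent.Lib.Helper44.SpMaxA0

open Cfsg Cfsg.Geo
open scoped Matrix Kronecker MatrixGroups

variable {F : Type*} [Field F] [Fintype F]

/-- Aschbacher's theorem for the symplectic groups, in the shape of S5662 (proved by helper43's
`Cfsg.Agent.Lib.Helper43.SpAsch.sp_aschbacher`). -/
theorem aschbacher_symplectic (m : ℕ) (hm : 2 ≤ m) (_hex : ¬ (m = 2 ∧ Fintype.card F = 2))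
    (H : Subgroup (GL (Fin m ⊕ Fin m) F)) (hH : H ≤ spGL m F)
    (_hproper : H ⊔ (scalars (Fin m ⊕ Fin m) F ⊓ spGL m F) ≠ spGL m F) :
    (∃ M : Subgroup (GL (Fin m ⊕ Fin m) F), InSymplecticClass m F M ∧ H ≤ M) ∨
      InSymplecticResidualClass H :=
  Cfsg.Agent.Lib.Helper43.SpAsch.sp_aschbacher m hm H hH

end Cfsg.Agent.Lib.Helper44.SpMaxA0
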