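import Mathlib
import Cfsg.Prelude.Def_GeometricClasses
import Cfsg.Agent.Lib.Helper82.SpMaxG1
import Cfsg.Agent.Lib.Helper48.SpMaxN1
import Cfsg.Agent.Lib.Helper48.SpMaxN8
import Cfsg.Agent.Lib.Helper48.SpMaxXA
import Cfsg.Agent.Lib.Helper05.SpMaxN3
import Cfsg.Agent.Lib.Helper94.SpMaxN4
import Cfsg.Agent.Lib.Helper94.SpMaxN5
import Cfsg.Agent.Lib.Helper90.SpMaxN6
import Cfsg.Agent.Lib.Helper85.SpMaxN7
import Cfsg.Agent.Lib.Helper45.SpMaxD1
import Cfsg.Agent.Lib.Helper97.SpMaxD2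
import Cfsg.Agent.Lib.Helper90.SpMaxD3p
import Cfsg.Agent.Lib.Helper59.SpMaxD6
import Cfsg.Agent.Lib.Helper66.SpMaxXC

/-!
# Sp_2m maximal-subgroup rows: the delivered keystones, collected under one namespace.
(Authors: helper82 G1; helper48 N1 N2 N8 XA; helper5 N3; helper94 N4 N5; helper90 N6 D3'; helper85 N7; helper45 D1;
helper97 D2 D3; helper59 D6; helper66 XC.)
-/

set_option autoImplicit false

namespace Cfsg.Agent.Lib.Helper44.SpMaxKeys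

open Cfsg Cfsg.Geo
open scoped Matrix Kronecker MatrixGroups

variable {F : Type*} [Field F] [Fintype F] {m : ℕ}

theorem sup_scalars_ne_of_isMaximalIn (hm : 2 ≤ m) (hex : ¬ (m = 2 ∧ Fintype.card F = 2))
    (H : Subgroup (GL (Fin m ⊕ Fin m) F)) (hH : IsMaximalIn (spGL m F) H) :
    H ⊔ (scalars (Fin m ⊕ Fin m) F ⊓ spGL m F) ≠ spGL m F :=
  Cfsg.Agent.Lib.Helper82.SpMax.sup_scalars_ne_of_isMaximalIn hm hex H hH

theorem sp_not_le_subspaceStabilizer (W : Submodule F (Fin m ⊕ Fin m → F)) (h0 : W ≠ ⊥) (h1 : W ≠ ⊤) :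
    ¬ spGL m F ≤ subspaceStabilizer W :=
  Cfsg.Agent.Lib.Helper48.SpMax.sp_not_le_subspaceStabilizer W h0 h1

theorem sp_not_le_decompositionStabilizer {t k : ℕ} (D : Fin t → Submodule F (Fin m ⊕ Fin m → F))
    (hD : IsMDecomposition k D) : ¬ spGL m F ≤ decompositionStabilizer D :=
  Cfsg.Agent.Lib.Helper48.SpMax.sp_not_le_decompositionStabilizer D hD

theorem sp_not_le_subalgebraNormalizer (hm : 2 ≤ m) {r : ℕ} (hr : 2 ≤ r)
    (K : Subalgebra F (Matrix (Fin m ⊕ Fin m) (Fin m ⊕ Fin m) F)) (hK : IsFieldSubalgebra r K) :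
    ¬ spGL m F ≤ subalgebraNormalizer K :=
  Cfsg.Agent.Lib.Helper05.SpMax.sp_not_le_subalgebraNormalizer hm hr K hK

theorem sp_not_le_tensorProductSubgroup {n₁ n₂ : ℕ} (h₁ : 2 ≤ n₁) (h₂ : 2 ≤ n₂)
    (e : (Fin m ⊕ Fin m) ≃ Fin n₁ × Fin n₂) (P : GL (Fin m ⊕ Fin m) F) :
    ¬ spGL m F ≤ tensorProductSubgroup n₁ n₂ e P :=
  Cfsg.Agent.Lib.Helper94.SpMax.sp_not_le_tensorProductSubgroup h₁ h₂ e P

theorem sp_not_le_subfieldSubgroup (hm : 1 ≤ m) (F₀ : Subfield F) (r : ℕ) (hr : r.Prime)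
    (hF : Fintype.card F = Nat.card F₀ ^ r) (P : GL (Fin m ⊕ Fin m) F) :
    ¬ spGL m F ≤ subfieldSubgroup F₀ P :=
  Cfsg.Agent.Lib.Helper94.SpMax.sp_not_le_subfieldSubgroup hm F₀ r hr hF P

theorem sp_not_le_subgroupNormalizer (hm : 2 ≤ m) (hodd : Odd (Fintype.card F))
    (R : Subgroup (GL (Fin m ⊕ Fin m) F)) (hR : IsSymplecticTypeGroup 2 R)
    (habs : ActsAbsolutelyIrreducibly (matrixSet R)) (hsim : R ≤ similarityGroup (sympForm m F))
    (hZ : Nat.card (Subgroup.center R) = 2) : ¬ spGL m F ≤ subgroupNormalizer R :=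
  Cfsg.Agent.Lib.Helper90.SpMax.sp_not_le_subgroupNormalizer hm hodd R hR habs hsim hZ

theorem sp_not_le_tensorWreathSubgroup {k t : ℕ} (hk : 2 ≤ k) (ht : 2 ≤ t)
    (e : (Fin m ⊕ Fin m) ≃ (Fin t → Fin k)) (P : GL (Fin m ⊕ Fin m) F) :
    ¬ spGL m F ≤ tensorWreathSubgroup k t e P :=
  Cfsg.Agent.Lib.Helper85.SpMax.sp_not_le_tensorWreathSubgroup hk ht e P

theorem sp_not_le_quadSimilarityGroup (hm : 2 ≤ m) (Q : (Fin m ⊕ Fin m → F) → F)
    (hQ : IsNondegenerateQuadraticForm Q)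
    (hpol : ∀ u v, QuadraticMap.polar Q u v = sympForm m F u v) :
    ¬ spGL m F ≤ quadSimilarityGroup Q :=
  Cfsg.Agent.Lib.Helper48.SpMax.sp_not_le_quadSimilarityGroup hm Q hQ hpol

theorem even_finrank_of_isNondegenerateOn (W : Submodule F (Fin m ⊕ Fin m → F))
    (hW : IsNondegenerateOn (sympForm m F) W) : Even (Module.finrank F W) :=
  Cfsg.Agent.Lib.Helper45.SpMax.even_finrank_of_isNondegenerateOn W hW

theorem even_of_isSymplecticForm {n : ℕ} (f₁ : (Fin n → F) → (Fin n → F) → F) (h : IsSymplecticForm f₁) :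
    Even n :=
  Cfsg.Agent.Lib.Helper45.SpMax.even_of_isSymplecticForm f₁ h

theorem mul_eq_of_isMDecomposition {t k : ℕ} (D : Fin t → Submodule F (Fin m ⊕ Fin m → F))
    (hD : IsMDecomposition k D) : t * k = 2 * m :=
  Cfsg.Agent.Lib.Helper97.SpMax.mul_eq_of_isMDecomposition D hD

theorem dvd_of_isFieldSubalgebra {r : ℕ} (K : Subalgebra F (Matrix (Fin m ⊕ Fin m) (Fin m ⊕ Fin m) F))
    (hK : IsFieldSubalgebra r K) : r ∣ 2 * m :=
  Cfsg.Agent.Lib.Helper97.SpMax.dvd_of_isFieldSubalgebra K hK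

theorem dvd_of_isSelfAdjointFor {r : ℕ} (K : Subalgebra F (Matrix (Fin m ⊕ Fin m) (Fin m ⊕ Fin m) F))
    (hK : IsFieldSubalgebra r K) (hsa : IsSelfAdjointFor (sympForm m F) K)
    (halt : ∀ k ∈ K, ∀ v : Fin m ⊕ Fin m → F, sympForm m F (k *ᵥ v) v = 0) : r ∣ m :=
  Cfsg.Agent.Lib.Helper90.SpMax.dvd_of_isSelfAdjointFor K hK hsa halt

theorem card_sq_eq_of_symplecticType (hodd : Odd (Fintype.card F))
    (R : Subgroup (GL (Fin m ⊕ Fin m) F)) (hR : IsSymplecticTypeGroup 2 R)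
    (habs : ActsAbsolutelyIrreducibly (matrixSet R)) (k : ℕ) (hcard : Nat.card R = 2 ^ (1 + 2 * k))
    (hZ : Nat.card (Subgroup.center R) = 2) : (2 * m) ^ 2 = 2 ^ (2 * k) :=
  Cfsg.Agent.Lib.Helper59.SpMax.card_sq_eq_of_symplecticType hodd R hR habs k hcard hZ

theorem nondeg_planes_le_quadSimilarityGroup_of_card_two (hq : Fintype.card F = 2) {t : ℕ}
    (D : Fin t → Submodule F (Fin m ⊕ Fin m → F)) (hD : IsNondegenerateMDecomposition (sympForm m F) 2 D) :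
    ∃ Q : (Fin m ⊕ Fin m → F) → F, IsNondegenerateQuadraticForm Q ∧
      (∀ u v, QuadraticMap.polar Q u v = sympForm m F u v) ∧
      decompositionStabilizer D ⊓ spGL m F ≤ quadSimilarityGroup Q :=
  Cfsg.Agent.Lib.Helper48.SpMax.nondeg_planes_le_quadSimilarityGroup_of_card_two hq D hD

theorem tensor_three_le_decomposition_of_card_three (hq : Fintype.card F = 3) (hm : 1 ≤ m) {n₁ : ℕ}
    (e : (Fin m ⊕ Fin m) ≃ Fin n₁ × Fin 3) (P : GL (Fin m ⊕ Fin m) F)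
    (f₁ : (Fin n₁ → F) → (Fin n₁ → F) → F) (f₂ : (Fin 3 → F) → (Fin 3 → F) → F)
    (h₁ : IsSymplecticForm f₁) (h₂ : IsSymmetricForm f₂)
    (hT : IsTensorFormStructure id (sympForm m F) f₁ f₂ e P) :
    ∃ D : Fin 3 → Submodule F (Fin m ⊕ Fin m → F), IsNondegenerateMDecomposition (sympForm m F) n₁ D ∧
      tensorProductSubgroup n₁ 3 e P ⊓ spGL m F ≤ decompositionStabilizer D :=
  Cfsg.Agent.Lib.Helper66.SpMax.tensor_three_le_decomposition_of_card_three hq hm e P f₁ f₂ h₁ h₂ hT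

end Cfsg.Agent.Lib.Helper44.SpMaxKeys
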