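import Mathlib
import Cfsg.Prelude.Def_GeometricClasses
import Cfsg.Agent.Lib.Helper44.SpMaxKeys
import Cfsg.Agent.Lib.Helper44.SpMaxA0

set_option autoImplicit false

namespace Cfsg.Agent.Lib.Helper44.SpMaxGlue

open Cfsg Cfsg.Geo
open scoped Matrix Kronecker MatrixGroups
open Cfsg.Agent.Lib.Helper44.SpMaxKeys Cfsg.Agent.Lib.Helper44.SpMaxA0

variable {F : Type*} [Field F] [Fintype F] {m : ℕ}

/-- the standard symplectic form does not vanish identically on a totally singular subspace equal to `⊤` -/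
lemma ne_top_of_isTotallySingularFor (hm : 1 ≤ m) (W : Submodule F (Fin m ⊕ Fin m → F))
    (hW : IsTotallySingularFor (sympForm m F) W) : W ≠ ⊤ := by
  rintro rfl
  have h := hW (Pi.single (Sum.inl ⟨0, by omega⟩) 1) trivial (Pi.single (Sum.inr ⟨0, by omega⟩) 1) trivial
  unfold sympForm at h
  simp [Matrix.J, Matrix.mulVec, dotProduct, Matrix.fromBlocks, Pi.single_apply, Fintype.sum_sum_type] at h

lemma finrank_top_eq : Module.finrank F (⊤ : Submodule F (Fin m ⊕ Fin m → F)) = 2 * m := by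
  rw [finrank_top, Module.finrank_fintype_fun_eq_card]
  simp; ring

lemma ne_top_of_finrank_lt (W : Submodule F (Fin m ⊕ Fin m → F)) (h : Module.finrank F W < m) : W ≠ ⊤ := by
  rintro rfl
  rw [finrank_top_eq] at h
  omega

/-- Every member of a symplectic class is a proper subgroup of `Sp`. -/
theorem le_and_ne_of_inSymplecticClass (hm : 2 ≤ m) (M : Subgroup (GL (Fin m ⊕ Fin m) F))
    (hM : InSymplecticClass m F M) : M ≤ spGL m F ∧ M ≠ spGL m F := by
  have key : ∀ X : Subgroup (GL (Fin m ⊕ Fin m) F), ¬ spGL m F ≤ X → M = X ⊓ spGL m F →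
      M ≤ spGL m F ∧ M ≠ spGL m F := by
    intro X hX hMX
    refine ⟨hMX ▸ inf_le_right, fun h => hX ?_⟩
    rw [hMX] at h
    exact inf_eq_right.mp h
  unfold InSymplecticClass InSymplecticPartialClass at hM
  rcases hM with (⟨W, h0, hW, rfl⟩ | ⟨W, h0, hW, hlt, rfl⟩ | ⟨t, k, D, hD, rfl⟩ | ⟨D, hodd, hD, hts, rfl⟩ |
      ⟨F₀, r, P, ζ, hr, hF, hζ, hrat, rfl⟩ | ⟨R, p, k, hR, habs, hsim, hp, hpodd, hFp, hcard, hZ, hminus, rfl⟩ |
      ⟨Q, heven, hQ, hpol, rfl⟩) | ⟨r, K, hr, hK, hsa, halt, rfl⟩ | ⟨K, hodd, hK, hac, hnsa, rfl⟩ |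
      ⟨n₁, n₂, e, P, f₁, f₂, hodd, hn₂, h₁, h₂, hT, rfl⟩ | ⟨k, t, e, P, f₁, hodd, hto, ht, hne, h₁, hT, rfl⟩
  · exact key _ (sp_not_le_subspaceStabilizer W h0 (ne_top_of_isTotallySingularFor (by omega) W hW)) rfl
  · exact key _ (sp_not_le_subspaceStabilizer W h0 (ne_top_of_finrank_lt W hlt)) rfl
  · exact key _ (sp_not_le_decompositionStabilizer D hD.decomp) rfl
  · exact key _ (sp_not_le_decompositionStabilizer D hD) rfl
  · exact key _ (sp_not_le_subfieldSubgroup (by omega) F₀ r hr hF P) rfl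
  · exact key _ (sp_not_le_subgroupNormalizer hm (hFp ▸ hpodd) R hR habs hsim hZ) rfl
  · exact key _ (sp_not_le_quadSimilarityGroup hm Q hQ hpol) rfl
  · exact key _ (sp_not_le_subalgebraNormalizer hm hr.two_le K hK) rfl
  · exact key _ (sp_not_le_subalgebraNormalizer hm le_rfl K hK) rfl
  · have hn₁ : 2 ≤ n₁ := by
      have := even_of_isSymplecticForm f₁ h₁
      have hc : Fintype.card (Fin m ⊕ Fin m) = Fintype.card (Fin n₁ × Fin n₂) := Fintype.card_congr e
      simp at hc
      rcases this with ⟨j, hj⟩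
      rcases Nat.eq_zero_or_pos j with rfl | hjpos
      · simp at hj; subst hj; simp at hc; omega
      · omega
    exact key _ (sp_not_le_tensorProductSubgroup hn₁ (by omega) e P) rfl
  · have hk : 2 ≤ k := by
      have := even_of_isSymplecticForm f₁ h₁
      have hc : Fintype.card (Fin m ⊕ Fin m) = Fintype.card (Fin t → Fin k) := Fintype.card_congr e
      simp at hc
      rcases this with ⟨j, hj⟩
      rcases Nat.eq_zero_or_pos j with rfl | hjpos
      · simp at hj; subst hj
        rw [zero_pow (by omega)] at hc; omega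
      · omega
    exact key _ (sp_not_le_tensorWreathSubgroup hk (by omega) e P) rfl

/-- A maximal subgroup of `Sp` is a class member or residual. -/
theorem eq_class_or_residual (hm : 2 ≤ m) (hex : ¬ (m = 2 ∧ Fintype.card F = 2))
    (H : Subgroup (GL (Fin m ⊕ Fin m) F)) (hH : IsMaximalIn (spGL m F) H) :
    (∃ M : Subgroup (GL (Fin m ⊕ Fin m) F), InSymplecticClass m F M ∧ H = M) ∨
      InSymplecticResidualClass H := by
  rcases aschbacher_symplectic m hm hex H hH.1.le (sup_scalars_ne_of_isMaximalIn hm hex H hH) with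
    ⟨M, hM, hHM⟩ | hres
  · left
    obtain ⟨hle, hne⟩ := le_and_ne_of_inSymplecticClass hm M hM
    rcases hH.2 M hHM hle with h | h
    · exact ⟨M, hM, h.symm⟩
    · exact absurd h hne
  · exact Or.inr hres

end Cfsg.Agent.Lib.Helper44.SpMaxGlue
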