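import Mathlib
import Cfsg.Prelude.Def_GeometricClasses
import Cfsg.Agent.Lib.Helper44.SpMaxGlue

set_option autoImplicit false

namespace Cfsg.Agent.Lib.Helper44.SpMaxGlue

open Cfsg Cfsg.Geo
open scoped Matrix Kronecker MatrixGroups
open Cfsg.Agent.Lib.Helper44.SpMaxKeys Cfsg.Agent.Lib.Helper44.SpMaxA0

variable {F : Type*} [Field F] [Fintype F] {m : ℕ}

omit [Field F] [Fintype F] in
lemma two_mul_eq_mul_of_equiv {n₁ n₂ : ℕ} (e : (Fin m ⊕ Fin m) ≃ Fin n₁ × Fin n₂) : 2 * m = n₁ * n₂ := by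
  have hc : Fintype.card (Fin m ⊕ Fin m) = Fintype.card (Fin n₁ × Fin n₂) := Fintype.card_congr e
  simp at hc
  omega

omit [Field F] [Fintype F] in
lemma two_mul_eq_pow_of_equiv {k t : ℕ} (e : (Fin m ⊕ Fin m) ≃ (Fin t → Fin k)) : 2 * m = k ^ t := by
  have hc : Fintype.card (Fin m ⊕ Fin m) = Fintype.card (Fin t → Fin k) := Fintype.card_congr e
  simp at hc
  omega

/-- If the maximal subgroup `H = X ⊓ Sp` lies in `Y` and `Sp` does not, then `H = Y ⊓ Sp`. -/
lemma eq_inf_of_le {H X Y : Subgroup (GL (Fin m ⊕ Fin m) F)} (hH : IsMaximalIn (spGL m F) H)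
    (hHX : H = X ⊓ spGL m F) (hXY : X ⊓ spGL m F ≤ Y) (hY : ¬ spGL m F ≤ Y) : H = Y ⊓ spGL m F := by
  have h1 : H ≤ Y ⊓ spGL m F := by
    rw [hHX]; exact le_inf hXY inf_le_right
  rcases hH.2 (Y ⊓ spGL m F) h1 inf_le_right with h | h
  · exact h.symm
  · exact absurd (inf_eq_right.mp h) hY

/-- Shape of a non-degenerate decomposition. -/
lemma nondeg_decomposition_shape {t k : ℕ} (D : Fin t → Submodule F (Fin m ⊕ Fin m → F))
    (hD : IsNondegenerateMDecomposition (sympForm m F) k D) :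
    2 ≤ t ∧ ∃ j, 0 < j ∧ k = 2 * j ∧ t * j = m := by
  have hmul := mul_eq_of_isMDecomposition D hD.decomp
  have ht2 := hD.decomp.two_le
  have hev := even_finrank_of_isNondegenerateOn (D ⟨0, by omega⟩) (hD.nondegenerate _)
  rw [hD.decomp.finrank_eq] at hev
  have hk0 := hD.decomp.pos
  rcases hev with ⟨j, hj⟩
  refine ⟨ht2, j, by omega, by omega, ?_⟩
  subst hj
  rw [Nat.mul_add] at hmul
  omega

lemma card_two_of_lt_three (h : ¬ 3 ≤ Fintype.card F) : Fintype.card F = 2 := by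
  have := Fintype.one_lt_card (α := F)
  omega

lemma card_three_of_odd_lt_five (hodd : Odd (Fintype.card F)) (h : ¬ 5 ≤ Fintype.card F) :
    Fintype.card F = 3 := by
  have := Fintype.one_lt_card (α := F)
  rcases hodd with ⟨j, hj⟩
  omega

lemma not_odd_of_card_two (h : Fintype.card F = 2) : ¬ Odd (Fintype.card F) := by
  rw [h]; decide

omit [Field F] [Fintype F] in
lemma pow_two_mul_ne {n : ℕ} (hn : n = 36 ∨ n = 100 ∨ n = 144) (k : ℕ) : n ≠ 2 ^ (2 * k) := by
  intro h
  have hk : k < 4 := by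
    by_contra hk
    push Not at hk
    have : 2 ^ (2 * 4) ≤ 2 ^ (2 * k) := Nat.pow_le_pow_right (by norm_num) (by omega)
    rcases hn with rfl | rfl | rfl <;> omega
  interval_cases k <;> rcases hn with rfl | rfl | rfl <;> omega

end Cfsg.Agent.Lib.Helper44.SpMaxGlue

namespace Cfsg.Agent.Lib.Helper44.SpMaxGlue

lemma pow_eq_cases {k t n : ℕ} (ht : 3 ≤ t) (h : n = k ^ t) : n = 0 ∨ n = 1 ∨ n = 8 ∨ 16 ≤ n := by
  subst h
  rcases Nat.lt_or_ge k 2 with hk | hk
  · interval_cases k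
    · left; exact zero_pow (by omega)
    · right; left; exact one_pow _
  · rcases Nat.lt_or_ge k 3 with hk3 | hk3
    · have hk2 : k = 2 := by omega
      subst hk2
      rcases Nat.lt_or_ge t 4 with ht4 | ht4
      · have : t = 3 := by omega
        subst this; right; right; left; norm_num
      · right; right; right
        calc 16 = 2 ^ 4 := by norm_num
          _ ≤ 2 ^ t := Nat.pow_le_pow_right (by norm_num) ht4
    · right; right; right
      calc 16 ≤ 3 ^ 3 := by norm_num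
        _ ≤ k ^ 3 := Nat.pow_le_pow_left hk3 3
        _ ≤ k ^ t := Nat.pow_le_pow_right (by omega) ht

end Cfsg.Agent.Lib.Helper44.SpMaxGlue
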