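import Mathlib
import Cfsg.Prelude.Def_GeometricClasses

set_option autoImplicit false

/-! Conjugation transport for `IsMaximalIn` and for normalisers of matrix subalgebras. -/

namespace Cfsg.Agent.Lib.Helper44.SpMaxGlue3

open Cfsg Cfsg.Geo
open scoped Matrix Kronecker MatrixGroups

/-- Maximality is transported along conjugation by an element of the ambient subgroup. -/
theorem isMaximalIn_of_conj {G : Type*} [Group G] {K H H' : Subgroup G} (g : G) (hg : g ∈ K)
    (hH' : ∀ x : G, x ∈ H' ↔ g⁻¹ * x * g ∈ H) (h : IsMaximalIn K H) : IsMaximalIn K H' := by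
  have hK : ∀ x : G, x ∈ K ↔ g⁻¹ * x * g ∈ K := by
    intro x
    constructor
    · intro hx; exact K.mul_mem (K.mul_mem (K.inv_mem hg) hx) hg
    · intro hx
      have := K.mul_mem (K.mul_mem hg hx) (K.inv_mem hg)
      simpa [mul_assoc] using this
  obtain ⟨hlt, hmax⟩ := h
  refine ⟨?_, ?_⟩
  · rw [SetLike.lt_iff_le_and_exists] at hlt ⊢
    obtain ⟨hle, y, hyK, hyH⟩ := hlt
    refine ⟨?_, g * y * g⁻¹, ?_, ?_⟩
    · intro x hx
      rw [hK]; exact hle ((hH' x).mp hx)
    · exact K.mul_mem (K.mul_mem hg hyK) (K.inv_mem hg)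
    · intro hmem
      rw [hH'] at hmem
      apply hyH
      simpa [mul_assoc] using hmem
  · intro M hHM hMK
    -- pull M back
    let M' : Subgroup G := M.comap (MulAut.conj g).toMonoidHom
    have hM' : ∀ x : G, x ∈ M' ↔ g * x * g⁻¹ ∈ M := by
      intro x; simp [M', MulAut.conj_apply]
    have h1 : H ≤ M' := by
      intro x hx
      rw [hM']
      apply hHM
      rw [hH']
      simpa [mul_assoc] using hx
    have h2 : M' ≤ K := by
      intro x hx
      rw [hM'] at hx
      have := hMK hx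
      rw [hK] at this
      simpa [mul_assoc] using this
    rcases hmax M' h1 h2 with h | h
    · left
      ext x
      rw [hH', ← h, hM']
      simp [mul_assoc]
    · right
      ext x
      rw [hK, ← h, hM']
      simp [mul_assoc]

variable {F : Type*} [Field F] {ι : Type} [Fintype ι] [DecidableEq ι]

/-- If `g` conjugates the subalgebra `K` onto `K'`, it conjugates the normaliser of `K` onto that of `K'`. -/
theorem mem_subalgebraNormalizer_conj (K K' : Subalgebra F (Matrix ι ι F)) (g : GL ι F)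
    (hg : ∀ k : Matrix ι ι F, k ∈ K ↔
      (g : Matrix ι ι F) * k * ((g⁻¹ : GL ι F) : Matrix ι ι F) ∈ K') (x : GL ι F) :
    x ∈ subalgebraNormalizer K' ↔ g⁻¹ * x * g ∈ subalgebraNormalizer K := by
  have hgi : (g : Matrix ι ι F) * ((g⁻¹ : GL ι F) : Matrix ι ι F) = 1 := by
    rw [← Units.val_mul, mul_inv_cancel, Units.val_one]
  have hig : ((g⁻¹ : GL ι F) : Matrix ι ι F) * (g : Matrix ι ι F) = 1 := by
    rw [← Units.val_mul, inv_mul_cancel, Units.val_one]
  have hxi : (x : Matrix ι ι F) * ((x⁻¹ : GL ι F) : Matrix ι ι F) = 1 := by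
    rw [← Units.val_mul, mul_inv_cancel, Units.val_one]
  -- reverse direction of hg
  have hg' : ∀ k' : Matrix ι ι F, k' ∈ K' ↔
      ((g⁻¹ : GL ι F) : Matrix ι ι F) * k' * (g : Matrix ι ι F) ∈ K := by
    intro k'
    rw [hg]
    have : (g : Matrix ι ι F) * (((g⁻¹ : GL ι F) : Matrix ι ι F) * k' * (g : Matrix ι ι F)) *
        ((g⁻¹ : GL ι F) : Matrix ι ι F) = k' := by
      calc _ = ((g : Matrix ι ι F) * ((g⁻¹ : GL ι F) : Matrix ι ι F)) * k' *
            ((g : Matrix ι ι F) * ((g⁻¹ : GL ι F) : Matrix ι ι F)) := by simp only [mul_assoc]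
        _ = k' := by rw [hgi, one_mul, mul_one]
    rw [this]
  constructor
  · intro hx k
    have h1 := hx ((g : Matrix ι ι F) * k * ((g⁻¹ : GL ι F) : Matrix ι ι F))
    rw [← hg k] at h1
    rw [h1, hg']
    have : ((g⁻¹ : GL ι F) : Matrix ι ι F) * ((x : Matrix ι ι F) * ((g : Matrix ι ι F) * k *
        ((g⁻¹ : GL ι F) : Matrix ι ι F)) * ((x⁻¹ : GL ι F) : Matrix ι ι F)) * (g : Matrix ι ι F)
        = ((g⁻¹ * x * g : GL ι F) : Matrix ι ι F) * k * (((g⁻¹ * x * g)⁻¹ : GL ι F) : Matrix ι ι F) := by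
      simp only [mul_inv_rev, inv_inv, Units.val_mul, mul_assoc]
    rw [this]
  · intro hx k'
    have h1 := hx (((g⁻¹ : GL ι F) : Matrix ι ι F) * k' * (g : Matrix ι ι F))
    rw [← hg' k'] at h1
    rw [h1, hg']
    have : ((g⁻¹ * x * g : GL ι F) : Matrix ι ι F) * (((g⁻¹ : GL ι F) : Matrix ι ι F) * k' * (g : Matrix ι ι F)) *
        (((g⁻¹ * x * g)⁻¹ : GL ι F) : Matrix ι ι F)
        = ((g⁻¹ : GL ι F) : Matrix ι ι F) * ((x : Matrix ι ι F) * k' * ((x⁻¹ : GL ι F) : Matrix ι ι F)) *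
          (g : Matrix ι ι F) := by
      simp only [mul_inv_rev, inv_inv, Units.val_mul, mul_assoc]
      rw [← mul_assoc (g : Matrix ι ι F) ((g⁻¹ : GL ι F) : Matrix ι ι F), hgi, one_mul]
      congr 3
      rw [← mul_assoc (g : Matrix ι ι F) ((g⁻¹ : GL ι F) : Matrix ι ι F), hgi, one_mul]
    rw [this]

end Cfsg.Agent.Lib.Helper44.SpMaxGlue3
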