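import Mathlib
import Cfsg.Prelude.Def_GeometricClasses
import Cfsg.Agent.Lib.Helper14.SpMaxY1
import Cfsg.Agent.Lib.Helper38.SpMaxY2a
import Cfsg.Agent.Lib.Helper45.SpMaxY2b
import Cfsg.Agent.Lib.Helper86.SpMaxY3
import Cfsg.Agent.Lib.Helper44.SpMaxGlue3

set_option autoImplicit false

/-! Wrappers around the delivered keystones 579016-579019 (helpers 14, 38, 45, 86). -/

namespace Cfsg.Agent.Lib.Helper44.SpMaxKeys2

open Cfsg Cfsg.Geo
open scoped Matrix Kronecker MatrixGroups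

variable {F : Type*} [Field F] [Fintype F]

theorem tipair_not_maximal_of_card_three (hq : Fintype.card F = 3)
    (D : Fin 2 → Submodule F (Fin 2 ⊕ Fin 2 → F)) (hD : IsMDecomposition 2 D)
    (hts : ∀ i, IsTotallySingularFor (sympForm 2 F) (D i)) :
    ¬ IsMaximalIn (spGL 2 F) (decompositionStabilizer D ⊓ spGL 2 F) :=
  Cfsg.Agent.Lib.Helper14.SpMax.tipair_not_maximal_of_card_three hq D hD hts

theorem exists_conj_to_adjoin_J_of_card_three (hq : Fintype.card F = 3)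
    (K : Subalgebra F (Matrix (Fin 2 ⊕ Fin 2) (Fin 2 ⊕ Fin 2) F)) (hK : IsFieldSubalgebra 2 K)
    (hac : IsAdjointClosedFor (sympForm 2 F) K) (hnsa : ¬ IsSelfAdjointFor (sympForm 2 F) K) :
    ∃ g ∈ spGL 2 F, ∀ k : Matrix (Fin 2 ⊕ Fin 2) (Fin 2 ⊕ Fin 2) F,
      k ∈ K ↔ (g : Matrix (Fin 2 ⊕ Fin 2) (Fin 2 ⊕ Fin 2) F) * k *
        ((g⁻¹ : GL (Fin 2 ⊕ Fin 2) F) : Matrix (Fin 2 ⊕ Fin 2) (Fin 2 ⊕ Fin 2) F) ∈
          Algebra.adjoin F {Matrix.J (Fin 2) F} :=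
  Cfsg.Agent.Lib.Helper38.SpMax.exists_conj_to_adjoin_J_of_card_three hq K hK hac hnsa

theorem adjoin_J_normalizer_not_maximal_of_card_three (hq : Fintype.card F = 3) :
    ¬ IsMaximalIn (spGL 2 F)
      (subalgebraNormalizer (Algebra.adjoin F {Matrix.J (Fin 2) F}) ⊓ spGL 2 F) :=
  Cfsg.Agent.Lib.Helper45.SpMax.adjoin_J_normalizer_not_maximal_of_card_three hq

theorem unitary_field_not_maximal_of_card_three (hq : Fintype.card F = 3)
    (K : Subalgebra F (Matrix (Fin 2 ⊕ Fin 2) (Fin 2 ⊕ Fin 2) F)) (hK : IsFieldSubalgebra 2 K)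
    (hac : IsAdjointClosedFor (sympForm 2 F) K) (hnsa : ¬ IsSelfAdjointFor (sympForm 2 F) K) :
    ¬ IsMaximalIn (spGL 2 F) (subalgebraNormalizer K ⊓ spGL 2 F) := by
  intro hmax
  obtain ⟨g, hg, hk⟩ := exists_conj_to_adjoin_J_of_card_three hq K hK hac hnsa
  refine adjoin_J_normalizer_not_maximal_of_card_three hq ?_
  refine Cfsg.Agent.Lib.Helper44.SpMaxGlue3.isMaximalIn_of_conj g hg ?_ hmax
  intro x
  rw [Subgroup.mem_inf, Subgroup.mem_inf,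
    Cfsg.Agent.Lib.Helper44.SpMaxGlue3.mem_subalgebraNormalizer_conj K _ g hk x]
  have hsp : x ∈ spGL 2 F ↔ g⁻¹ * x * g ∈ spGL 2 F := by
    constructor
    · intro hx
      exact (spGL 2 F).mul_mem ((spGL 2 F).mul_mem ((spGL 2 F).inv_mem hg) hx) hg
    · intro hx
      have := (spGL 2 F).mul_mem ((spGL 2 F).mul_mem hg hx) ((spGL 2 F).inv_mem hg)
      simpa [mul_assoc] using this
  rw [hsp]

theorem tensor_two_four_plus_not_maximal (hodd : Odd (Fintype.card F))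
    (e : (Fin 4 ⊕ Fin 4) ≃ Fin 2 × Fin 4) (P : GL (Fin 4 ⊕ Fin 4) F)
    (f₁ : (Fin 2 → F) → (Fin 2 → F) → F) (f₂ : (Fin 4 → F) → (Fin 4 → F) → F)
    (h₁ : IsSymplecticForm f₁) (h₂ : IsSymmetricForm f₂)
    (hplus : IsPlusTypeOn (fun v : Fin 4 → F => f₂ v v) ⊤)
    (hT : IsTensorFormStructure id (sympForm 4 F) f₁ f₂ e P) :
    ¬ IsMaximalIn (spGL 4 F) (tensorProductSubgroup 2 4 e P ⊓ spGL 4 F) :=
  Cfsg.Agent.Lib.Helper86.SpMax.tensor_two_four_plus_not_maximal hodd e P f₁ f₂ h₁ h₂ hplus hT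

end Cfsg.Agent.Lib.Helper44.SpMaxKeys2
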