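import Mathlib
import Cfsg.Agent.Lib.Helper44.SpWreath
import Cfsg.Prelude.Def_Transfer

set_option autoImplicit false

/-! Normal 2-rank of the Sylow 2-subgroups of `Sp_{2n}(q)`, `q` odd: the lower bound. -/

namespace Cfsg.Agent.Lib.Helper44

open Matrix Cfsg.Agent.S2233 Cfsg.Agent.S2234

variable {F : Type*} [Field F] [Fintype F]

lemma card_sl2 {q : ℕ} (hF : Fintype.card F = q) (hq1 : 1 < q) :
    Nat.card (Matrix.SpecialLinearGroup (Fin 2) F) = (q ^ 2 - 1) * q := by
  have h := Cfsg.Agent.Lib.Helper07.card_sl_mul (F := F) 2 (by norm_num)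
  rw [hF, Fin.prod_univ_two] at h
  simp only [Fin.val_zero, Fin.val_one, pow_zero, pow_one] at h
  have hq2 : q ^ 2 - q = q * (q - 1) := by
    rw [Nat.mul_sub, mul_one, sq]
  rw [hq2] at h
  have hpos : 0 < q - 1 := by omega
  apply Nat.eq_of_mul_eq_mul_left hpos
  rw [h]
  ring

lemma padicVal_card_sl2 {q : ℕ} (hF : Fintype.card F = q) (hq : Odd q) (hq1 : 1 < q) :
    padicValNat 2 (Nat.card (Matrix.SpecialLinearGroup (Fin 2) F)) = padicValNat 2 (q ^ 2 - 1) := by
  rw [card_sl2 hF hq1]
  have h1 : q ^ 2 - 1 ≠ 0 := by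
    have : 1 < q ^ 2 := Nat.one_lt_pow (by norm_num) hq1
    omega
  rw [padicValNat.mul h1 (by omega)]
  have : padicValNat 2 q = 0 := by
    apply padicValNat.eq_zero_of_not_dvd
    rw [← even_iff_two_dvd]
    exact Nat.not_even_iff_odd.mpr hq
  rw [this, add_zero]

/-- the sign group -/
def signGroup (n : ℕ) : Subgroup ↥(Matrix.symplecticGroup (Fin n) F) := (shom (F := F) n).range

lemma wreath_range_le_normalizer (n : ℕ) :
    (wreathHom (F := F) n).range ≤
      Subgroup.normalizer (↑(signGroup (F := F) n) : Set ↥(Matrix.symplecticGroup (Fin n) F)) := by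
  have key : ∀ x, ∀ h ∈ signGroup (F := F) n,
      wreathHom n x * h * (wreathHom n x)⁻¹ ∈ signGroup (F := F) n := by
    rintro x _ ⟨ε, rfl⟩
    rw [wreathHom_conj_shom]
    exact ⟨_, rfl⟩
  rintro _ ⟨x, rfl⟩
  rw [Subgroup.mem_normalizer_iff]
  intro h
  constructor
  · exact key x h
  · intro hh
    have := key x⁻¹ _ hh
    rw [map_inv, inv_inv] at this
    have e : (wreathHom n x)⁻¹ * (wreathHom n x * h * (wreathHom n x)⁻¹) * wreathHom n x = h := by
      group
    rwa [e] at this

lemma signGroup_isPGroup (n : ℕ) : IsPGroup 2 ↥(signGroup (F := F) n) := by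
  rintro ⟨_, ε, rfl⟩
  refine ⟨1, ?_⟩
  apply Subtype.ext
  rw [pow_one, Subgroup.coe_pow, ← map_pow]
  have : ε ^ 2 = 1 := by
    ext i
    rcases Int.units_eq_one_or (ε i) with h | h <;> simp [h]
  rw [this, map_one]
  rfl

lemma card_signGroup (h2 : (2 : F) ≠ 0) (n : ℕ) : Nat.card ↥(signGroup (F := F) n) = 2 ^ n := by
  unfold signGroup
  rw [← Nat.card_congr (MonoidHom.ofInjective (shom_injective h2 n)).toEquiv, Nat.card_fun]
  simp

lemma not_dvd_index_normalizer_signGroup {q : ℕ} (hF : Fintype.card F = q) (hq : Odd q) (n : ℕ) :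
    ¬ 2 ∣ (Subgroup.normalizer
      (↑(signGroup (F := F) n) : Set ↥(Matrix.symplecticGroup (Fin n) F))).index := by
  have hq1 : 1 < q := by
    rw [← hF]; exact Fintype.one_lt_card
  set W := Subgroup.normalizer
    (↑(signGroup (F := F) n) : Set ↥(Matrix.symplecticGroup (Fin n) F)) with hW
  have hG := Cfsg.Agent.Lib.Helper07.card_symplecticGroup hF n
  have hR : Nat.card (wreathHom (F := F) n).range =
      Nat.card (Matrix.SpecialLinearGroup (Fin 2) F) ^ n * n.factorial := by
    rw [← Nat.card_congr (MonoidHom.ofInjective (wreathHom_injective n)).toEquiv,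
      SemidirectProduct.card, Nat.card_fun, Nat.card_perm]
    simp
  have hdvd : Nat.card (wreathHom (F := F) n).range ∣ Nat.card W :=
    Subgroup.card_dvd_of_le (wreath_range_le_normalizer n)
  have hidx : W.index * Nat.card W = Nat.card ↥(Matrix.symplecticGroup (Fin n) F) :=
    W.index_mul_card
  have hWpos : Nat.card W ≠ 0 := Nat.card_pos.ne'
  have hIpos : W.index ≠ 0 := Subgroup.index_ne_zero_of_finite
  have hsl : Nat.card (Matrix.SpecialLinearGroup (Fin 2) F) ≠ 0 := Nat.card_pos.ne'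
  -- valuations
  have v1 : padicValNat 2 (Nat.card ↥(Matrix.symplecticGroup (Fin n) F)) =
      n * padicValNat 2 (q ^ 2 - 1) + padicValNat 2 n.factorial := by
    rw [hG, padicValNat.mul, padicVal_prod_sp hq hq1]
    · have : padicValNat 2 (q ^ (n ^ 2)) = 0 := by
        apply padicValNat.eq_zero_of_not_dvd
        rw [← even_iff_two_dvd]
        exact Nat.not_even_iff_odd.mpr hq.pow
      rw [this, zero_add]
    · exact pow_ne_zero _ (by omega)
    · apply Finset.prod_ne_zero_iff.mpr
      intro i _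
      have : 1 < q ^ (2 * (i + 1)) := Nat.one_lt_pow (by omega) hq1
      omega
  have v2 : padicValNat 2 (Nat.card (wreathHom (F := F) n).range) =
      n * padicValNat 2 (q ^ 2 - 1) + padicValNat 2 n.factorial := by
    rw [hR, padicValNat.mul (pow_ne_zero _ hsl) (Nat.factorial_ne_zero n), padicValNat.pow,
      padicVal_card_sl2 hF hq hq1]
  have v3 : padicValNat 2 (Nat.card (wreathHom (F := F) n).range) ≤ padicValNat 2 (Nat.card W) := by
    obtain ⟨c, hc⟩ := hdvd
    have hc0 : c ≠ 0 := by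
      rintro rfl
      rw [mul_zero] at hc
      exact hWpos hc
    rw [hc, padicValNat.mul (by rw [hR]; exact mul_ne_zero (pow_ne_zero _ hsl) (Nat.factorial_ne_zero n)) hc0]
    omega
  have v4 : padicValNat 2 (Nat.card ↥(Matrix.symplecticGroup (Fin n) F)) =
      padicValNat 2 W.index + padicValNat 2 (Nat.card W) := by
    rw [← hidx, padicValNat.mul hIpos hWpos]
  have v5 : padicValNat 2 W.index = 0 := by omega
  intro hd
  have := (padicValNat.eq_zero_iff.mp v5)
  rcases this with h | h | h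
  · norm_num at h
  · exact hIpos h
  · exact h hd

/-- **Lower bound**: every Sylow 2-subgroup of `Sp_{2n}(q)`, `q` odd, has a normal elementary abelian
subgroup of order `2 ^ n`. -/
theorem exists_normal_elementary (hF : Odd (Fintype.card F)) (n : ℕ)
    (S : Sylow 2 ↥(Matrix.symplecticGroup (Fin n) F)) :
    ∃ E : Subgroup ↥(S : Subgroup ↥(Matrix.symplecticGroup (Fin n) F)),
      E.Normal ∧ Cfsg.IsElementaryAbelian 2 E ∧ 2 ^ n ≤ Nat.card ↥E := by
  have h2 : (2 : F) ≠ 0 := by
    have hchar : ringChar F ≠ 2 := by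
      intro h
      have := FiniteField.even_card_of_char_two h
      rcases hF with ⟨c, hc⟩
      omega
    exact Ring.two_ne_zero hchar
  obtain ⟨g, hle, hnorm⟩ := exists_conj_normal_in_sylow (signGroup (F := F) n)
    (signGroup_isPGroup n) (not_dvd_index_normalizer_signGroup rfl hF n) S
  set E' : Subgroup ↥(Matrix.symplecticGroup (Fin n) F) :=
    (signGroup (F := F) n).map (MulAut.conj g).toMonoidHom with hE'
  refine ⟨E'.subgroupOf S, Subgroup.normal_subgroupOf_of_le_normalizer hnorm, ⟨⟨⟨?_⟩⟩, ?_⟩, ?_⟩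
  · intro a b
    obtain ⟨_, ⟨ε, rfl⟩, hε⟩ := Subgroup.mem_subgroupOf.mp a.2
    obtain ⟨_, ⟨ε', rfl⟩, hε'⟩ := Subgroup.mem_subgroupOf.mp b.2
    apply Subtype.ext
    apply Subtype.ext
    change (a.1.1 : ↥(Matrix.symplecticGroup (Fin n) F)) * b.1.1 = b.1.1 * a.1.1
    have ea : a.1.1 = (MulAut.conj g).toMonoidHom (shom n ε) := hε.symm
    have eb : b.1.1 = (MulAut.conj g).toMonoidHom (shom n ε') := hε'.symm
    rw [ea, eb]
    simp only [MulEquiv.coe_toMonoidHom, MulAut.conj_apply]
    have : shom (F := F) n ε * shom n ε' = shom n ε' * shom n ε := by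
      rw [← map_mul, ← map_mul, mul_comm]
    calc g * shom n ε * g⁻¹ * (g * shom n ε' * g⁻¹) = g * (shom n ε * shom n ε') * g⁻¹ := by group
      _ = g * (shom n ε' * shom n ε) * g⁻¹ := by rw [this]
      _ = g * shom n ε' * g⁻¹ * (g * shom n ε * g⁻¹) := by group
  · intro a ha
    obtain ⟨_, ⟨ε, rfl⟩, hε⟩ := Subgroup.mem_subgroupOf.mp ha
    apply Subtype.ext
    have ea : a.1 = (MulAut.conj g).toMonoidHom (shom n ε) := hε.symm
    rw [Subgroup.coe_pow, Subgroup.coe_one, ea]
    simp only [MulEquiv.coe_toMonoidHom, MulAut.conj_apply]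
    have : ε ^ 2 = 1 := by
      ext i
      rcases Int.units_eq_one_or (ε i) with h | h <;> simp [h]
    rw [conj_pow, ← map_pow, this, map_one]
    group
  · rw [Nat.card_congr (Subgroup.subgroupOfEquivOfLe hle).toEquiv, hE',
      Subgroup.card_map_of_injective (MulAut.conj g).injective, card_signGroup h2]

end Cfsg.Agent.Lib.Helper44
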