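import Cfsg.Agent.Lib.Helper44.SpUDefs

set_option autoImplicit false
set_option linter.unusedSimpArgs false
set_option linter.unusedVariables false
set_option linter.unusedSectionVars false

/-! S5665 leaf D (keystone 566509): from a split pair `t_{p,-c} t_{r,c}` and the unitary transvections at `x'`, a
pure symplectic transvection with centre `p - r` (double commutator). -/

namespace Cfsg.Agent.Lib.Helper44.SpU

open Matrix Cfsg.Agent.Lib.Helper18 Cfsg.Agent.Lib.Helper11.SpMax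

variable {F : Type*} [Field F] {m : ℕ}

local notation "V" => (Fin m ⊕ Fin m → F)
local notation "ff" => Cfsg.sympForm m F
local notation "GLm" => Matrix.GeneralLinearGroup (Fin m ⊕ Fin m) F
local notation "Mat" => Matrix (Fin m ⊕ Fin m) (Fin m ⊕ Fin m) F

/-- four transvections with centres in a totally isotropic plane `⟨a, b⟩` -/
theorem iso_plane (a b : V) (hab : ff a b = 0) (e ν : F) :
    tg m (a - (2 * ν) • b) e * (tg m (a - ν • b) e)⁻¹ * tg m a e * (tg m (a - ν • b) e)⁻¹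
      = tg m b (2 * e * ν ^ 2) := by
  have hba : ff b a = 0 := by rw [sf_swap, hab, neg_zero]
  apply gl_ext
  intro y
  simp only [tg_inv, gl_mul_act, tg_act]
  simp only [sf_add_left, sf_sub_left, sf_smul_left, sf_add_right, sf_sub_right, sf_smul_right,
    sf_self, hab, hba]
  module

theorem tv_of_pair (U : SData m F) (M : Subgroup GLm) (hM : M ≤ Cfsg.spGL m F) (p r x' : V)
    (hpr : ff p r = 0) (hx' : KI U x') (h1 : ff x' p = ff x' r) (h2 : ff x' p ≠ 0)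
    (h3 : ff (U.δ *ᵥ x') p = 0) (h4 : ff (U.δ *ᵥ x') r = 0)
    (hZ : ∀ c : F, tg m p (-c) * tg m r c ∈ M) (hQ : ∀ c : F, ut U x' c ∈ M) :
    p - r ∈ XS m M := by
  intro c'
  set μ : F := ff x' p with hμ
  set e : F := c' / (2 * μ ^ 2) with he
  set Z : GLm := tg m p (-1) * tg m r 1 with hZdef
  have hZM : Z ∈ M := hZ 1
  have hZS : Z ∈ Cfsg.spGL m F := hM hZM
  have hrp : ff r p = 0 := by rw [sf_swap, hpr, neg_zero]
  have hZact : ∀ y : V, Z.1 *ᵥ y = y - ff y p • p + ff y r • r := by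
    intro y
    rw [hZdef, gl_mul_act, tg_act, tg_act]
    simp only [sf_add_left, sf_smul_left, hrp]
    module
  have hbp : ff (p - r) p = 0 := by rw [sf_sub_left, sf_self, hrp, sub_zero]
  have hbr : ff (p - r) r = 0 := by rw [sf_sub_left, sf_self, hpr, sub_zero]
  have hZx : Z.1 *ᵥ x' = x' - μ • (p - r) := by
    rw [hZact, ← h1]; module
  have hZb : Z.1 *ᵥ (p - r) = p - r := by
    rw [hZact, hbp, hbr]; module
  have hZx2 : Z.1 *ᵥ (x' - μ • (p - r)) = x' - (2 * μ) • (p - r) := by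
    rw [Matrix.mulVec_sub, Matrix.mulVec_smul, hZx, hZb]; module
  have hZd : Z.1 *ᵥ (U.δ *ᵥ x') = U.δ *ᵥ x' := by
    rw [hZact, h3, h4]; module
  set A : GLm := tg m x' e with hA
  set B : GLm := tg m (U.δ *ᵥ x') (-(e / U.d)) with hB
  set A' : GLm := tg m (x' - μ • (p - r)) e with hA'
  set A'' : GLm := tg m (x' - (2 * μ) • (p - r)) e with hA''
  have hcA : Z * A * Z⁻¹ = A' := by rw [hA, conj_tg m Z hZS, hZx]
  have hcB : Z * B * Z⁻¹ = B := by rw [hB, conj_tg m Z hZS, hZd]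
  have hcA' : Z * A' * Z⁻¹ = A'' := by rw [hA', conj_tg m Z hZS, hZx2]
  have hQM : A * B ∈ M := hQ e
  have hc1 : A' * A⁻¹ ∈ M := by
    have h5 : Z * (A * B) * Z⁻¹ * (A * B)⁻¹ ∈ M :=
      M.mul_mem (M.mul_mem (M.mul_mem hZM hQM) (M.inv_mem hZM)) (M.inv_mem hQM)
    have h6 : Z * (A * B) * Z⁻¹ * (A * B)⁻¹ = A' * A⁻¹ := by
      calc Z * (A * B) * Z⁻¹ * (A * B)⁻¹ = (Z * A * Z⁻¹) * (Z * B * Z⁻¹) * B⁻¹ * A⁻¹ := by group
        _ = A' * B * B⁻¹ * A⁻¹ := by rw [hcA, hcB]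
        _ = A' * A⁻¹ := by group
    rw [← h6]; exact h5
  have hc2 : A'' * A'⁻¹ * A * A'⁻¹ ∈ M := by
    have h5 : Z * (A' * A⁻¹) * Z⁻¹ * (A' * A⁻¹)⁻¹ ∈ M :=
      M.mul_mem (M.mul_mem (M.mul_mem hZM hc1) (M.inv_mem hZM)) (M.inv_mem hc1)
    have h6 : Z * (A' * A⁻¹) * Z⁻¹ * (A' * A⁻¹)⁻¹ = A'' * A'⁻¹ * A * A'⁻¹ := by
      calc Z * (A' * A⁻¹) * Z⁻¹ * (A' * A⁻¹)⁻¹
          = (Z * A' * Z⁻¹) * (Z * A * Z⁻¹)⁻¹ * A * A'⁻¹ := by group
        _ = A'' * A'⁻¹ * A * A'⁻¹ := by rw [hcA', hcA]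
    rw [← h6]; exact h5
  have hxb : ff x' (p - r) = 0 := by rw [sf_sub_right, ← h1, sub_self]
  have h7 := iso_plane (m := m) x' (p - r) hxb e μ
  rw [hA'', hA', hA] at hc2
  rw [h7] at hc2
  have h8 : 2 * e * μ ^ 2 = c' := by
    rw [he]
    have hμ0 : μ ≠ 0 := h2
    field_simp [U.two]
  rw [h8] at hc2
  exact hc2

end Cfsg.Agent.Lib.Helper44.SpU
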