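import Cfsg.Agent.Lib.Helper11.SpMax
import Cfsg.Agent.Lib.Helper43.UFBasic

set_option autoImplicit false
set_option linter.unusedSimpArgs false
set_option linter.unusedVariables false
set_option linter.unusedSectionVars false

/-! S5665: a quadratic field `F[δ]` of unitary type (`δ² = d` a non-square, `δ` skew for the
symplectic form) acting on the symplectic space `F^(2m)`, `q` odd: definitions and basic identities
(for the maximality of `N(K) ∩ Sp` in `Sp_2m(F)`).  The quadratic form `N x = f x (δ x)` turns the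
setting into an instance of `Helper43.UF.UData`. -/

namespace Cfsg.Agent.Lib.Helper44.SpU

open Matrix Cfsg.Agent.Lib.Helper18 Cfsg.Agent.Lib.Helper11.SpMax

variable {F : Type*} [Field F] (m : ℕ)

local notation "V" => (Fin m ⊕ Fin m → F)
local notation "ff" => Cfsg.sympForm m F
local notation "GLm" => Matrix.GeneralLinearGroup (Fin m ⊕ Fin m) F
local notation "Mat" => Matrix (Fin m ⊕ Fin m) (Fin m ⊕ Fin m) F

/-- a skew generator `δ` of a quadratic field of unitary type, `δ² = d` a non-square, `2 ≠ 0` -/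
structure SData (F : Type*) [Field F] where
  δ : Matrix (Fin m ⊕ Fin m) (Fin m ⊕ Fin m) F
  d : F
  sq : δ * δ = d • (1 : Matrix (Fin m ⊕ Fin m) (Fin m ⊕ Fin m) F)
  nsq : ¬ IsSquare d
  skew : ∀ u v : (Fin m ⊕ Fin m → F), Cfsg.sympForm m F (δ *ᵥ u) v = - Cfsg.sympForm m F u (δ *ᵥ v)
  two : (2 : F) ≠ 0

variable {m}

namespace SData

variable (U : SData m F)

theorem d_ne_zero : U.d ≠ 0 := fun h => U.nsq (by rw [h]; exact ⟨0, by ring⟩)

theorem sq_apply (x : V) : U.δ *ᵥ (U.δ *ᵥ x) = U.d • x := by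
  rw [Matrix.mulVec_mulVec, U.sq, Matrix.smul_mulVec, Matrix.one_mulVec]

/-- `f (δ u) (δ v) = - d f u v` -/
theorem ff_δδ (u v : V) : ff (U.δ *ᵥ u) (U.δ *ᵥ v) = - (U.d * ff u v) := by
  rw [U.skew, U.sq_apply, sf_smul_right]

/-- `f u (δ v) = f v (δ u)` -/
theorem ff_δ_symm (u v : V) : ff u (U.δ *ᵥ v) = ff v (U.δ *ᵥ u) := by
  have h1 := U.skew v u
  have h2 := sf_swap m u (U.δ *ᵥ v)
  rw [h2, h1, neg_neg]

end SData

/-- `u` is isotropic for the hermitian form: `f u (δ u) = 0` -/
def KI (U : SData m F) (u : V) : Prop := ff u (U.δ *ᵥ u) = 0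

/-- the unitary transvection `t_{u,c} t_{δu,-c/d}` (it commutes with `δ` when `KI u`) -/
noncomputable def ut (U : SData m F) (u : V) (c : F) : GLm :=
  tg m u c * tg m (U.δ *ᵥ u) (-(c / U.d))

/-- the bilinear map `(x, y) ↦ f x (δ y)` -/
noncomputable def Bδ (U : SData m F) : LinearMap.BilinMap F V F :=
  LinearMap.mk₂ F (fun x y => ff x (U.δ *ᵥ y))
    (fun x y z => sf_add_left m x y _)
    (fun a x z => by simp only [smul_eq_mul]; exact sf_smul_left m a x _)
    (fun x y z => by rw [Matrix.mulVec_add]; exact sf_add_right m x _ _)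
    (fun a x y => by rw [Matrix.mulVec_smul, smul_eq_mul]; exact sf_smul_right m a x _)

/-- the quadratic form `N x = f x (δ x)` (`= -2d h(x,x)` for the hermitian form `h`) -/
noncomputable def Nf (U : SData m F) : QuadraticForm F V := (Bδ U).toQuadraticMap

theorem Nf_apply (U : SData m F) (x : V) : Nf U x = ff x (U.δ *ᵥ x) := rfl

theorem KI_iff (U : SData m F) (x : V) : KI U x ↔ Nf U x = 0 := Iff.rfl

theorem polar_Nf (U : SData m F) (x y : V) :
    QuadraticMap.polarBilin (Nf U) x y = 2 * ff x (U.δ *ᵥ y) := by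
  rw [QuadraticMap.polarBilin_apply_apply, QuadraticMap.polar]
  simp only [Nf_apply]
  rw [Matrix.mulVec_add, sf_add_left, sf_add_right, sf_add_right, U.ff_δ_symm y x]
  ring

/-- `(V, N, δ)` is an instance of helper43's `UData`: `tr = 0`, `nm = -d` -/
noncomputable def NU (U : SData m F) : Cfsg.Agent.Lib.Helper43.UF.UData (Nf U) where
  J := Matrix.mulVecLin U.δ
  tr := 0
  nm := -U.d
  sq := fun x => by
    simp only [Matrix.mulVecLin_apply, zero_smul, zero_sub, neg_smul, neg_neg]
    exact U.sq_apply x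
  irr := fun s t h => by
    by_cases ht : t = 0
    · subst ht
      refine ⟨?_, rfl⟩
      have : s ^ 2 = 0 := by linear_combination h
      exact pow_eq_zero_iff (two_ne_zero) |>.mp this
    · exfalso
      apply U.nsq
      refine ⟨s / t, ?_⟩
      field_simp
      linear_combination -h
  adj := fun x y => by
    rw [polar_Nf, polar_Nf]
    simp only [Matrix.mulVecLin_apply]
    rw [U.ff_δδ, U.sq_apply, sf_smul_right]
    ring
  norm := fun x => by
    simp only [Nf_apply, Matrix.mulVecLin_apply]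
    rw [U.sq_apply, sf_smul_right, U.skew]
    ring
  self := fun x => by
    rw [polar_Nf]
    simp only [Matrix.mulVecLin_apply]
    rw [U.sq_apply, sf_smul_right, sf_self]
    ring

@[simp] theorem NU_J (U : SData m F) (x : V) : (NU U).J x = U.δ *ᵥ x := rfl

theorem Nf_sepLeft (U : SData m F) (x : V)
    (hx : ∀ y, QuadraticMap.polarBilin (Nf U) x y = 0) : x = 0 := by
  by_contra hx0
  obtain ⟨y, hy⟩ := sf_nondeg_top m x hx0
  apply hy
  have h := hx ((1 / U.d) • (U.δ *ᵥ y))
  rw [polar_Nf, Matrix.mulVec_smul, U.sq_apply, smul_smul, one_div, inv_mul_cancel₀ U.d_ne_zero,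
    one_smul] at h
  exact (mul_eq_zero.mp h).resolve_left U.two

theorem Nf_nondeg (U : SData m F) : (QuadraticMap.polarBilin (Nf U)).Nondegenerate := by
  refine ⟨fun x hx => Nf_sepLeft U x hx, fun y hy => Nf_sepLeft U y fun x => ?_⟩
  have := hy x
  rw [QuadraticMap.polarBilin_apply_apply] at this ⊢
  rw [QuadraticMap.polar_comm]
  exact this

end Cfsg.Agent.Lib.Helper44.SpU
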