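import Cfsg.Agent.Lib.Helper44.SpUDefs
import Cfsg.Agent.Lib.Helper63.SpUTV

set_option autoImplicit false
set_option linter.unusedSimpArgs false
set_option linter.unusedVariables false
set_option linter.unusedSectionVars false

/-! S5665 leaf E1 (keystone 566511), parallel hand by the architect. -/

namespace Cfsg.Agent.Lib.Helper44.SpU

open Matrix Cfsg.Agent.Lib.Helper18 Cfsg.Agent.Lib.Helper11.SpMax

variable {F : Type*} [Field F] [Fintype F] {m : ℕ}

local notation "V" => (Fin m ⊕ Fin m → F)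
local notation "ff" => Cfsg.sympForm m F
local notation "GLm" => Matrix.GeneralLinearGroup (Fin m ⊕ Fin m) F

theorem XS_step (U : SData m F) (M : Subgroup GLm) (hM : M ≤ Cfsg.spGL m F)
    (hH : ∀ (u : V) (c : F), KI U u → ut U u c ∈ M) (w u : V) (hw : w ∈ XS m M) (hu : KI U u)
    (h1 : ff w (U.δ *ᵥ u) = 0) (h2 : ff w u ≠ 0) : u ∈ XS m M := by
  have h3 := XS_act m M hM (ut U u 1) (hH u 1 hu) w hw
  rw [Cfsg.Agent.Lib.Helper63.SpU.ut_act U u hu 1 w, h1, mul_zero, zero_smul, sub_zero, one_mul] at h3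
  have h4 : ff (w + ff w u • u) w ≠ 0 := by
    rw [sf_add_left, sf_self, sf_smul_left, zero_add, sf_swap m u w]
    intro h
    apply h2
    have : ff w u * ff w u = 0 := by linear_combination -h
    exact mul_self_eq_zero.mp this
  have h5 := XS_hyp m M hM w (w + ff w u • u) hw h3 h4 (-1)
  have h6 : w + ff w u • u + (-1 : F) • w = ff w u • u := by module
  rw [h6] at h5
  have h7 := XS_smul m M (ff w u)⁻¹ _ h5
  rwa [smul_smul, inv_mul_cancel₀ h2, one_smul] at h7

end Cfsg.Agent.Lib.Helper44.SpU
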