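import Cfsg.Agent.Lib.Helper44.SpUDefs
import Cfsg.Agent.Lib.Helper61.SpUM

set_option autoImplicit false
set_option linter.unusedSimpArgs false
set_option linter.unusedVariables false
set_option linter.unusedSectionVars false

/-! S5665 leaf G1 (keystone 566501): a quadratic field subalgebra of unitary type is `F[δ]` with `δ` skew for the
symplectic form and `δ² = d` a non-square.  From helper61's symplectic generator `y` (`y² = t y - 1`, `y` an isometry):
`δ = 2 y - t`, `d = t² - 4`. -/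

namespace Cfsg.Agent.Lib.Helper44.SpU

open Matrix Cfsg.Agent.Lib.Helper18 Cfsg.Agent.Lib.Helper11.SpMax

variable {F : Type*} [Field F] [Fintype F] {m : ℕ}

local notation "V" => (Fin m ⊕ Fin m → F)
local notation "ff" => Cfsg.sympForm m F
local notation "Mat" => Matrix (Fin m ⊕ Fin m) (Fin m ⊕ Fin m) F

theorem exists_sdata (hodd : Odd (Fintype.card F)) (hm : 1 ≤ m) (K : Subalgebra F Mat)
    (hK : Cfsg.Geo.IsFieldSubalgebra 2 K)
    (hac : Cfsg.Geo.IsAdjointClosedFor (Cfsg.sympForm m F) K)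
    (hnsa : ¬ Cfsg.Geo.IsSelfAdjointFor (Cfsg.sympForm m F) K) :
    ∃ U : SData m F, U.δ ∈ K ∧ ∀ k ∈ K, ∃ a b : F, k = a • (1 : Mat) + b • U.δ := by
  classical
  obtain ⟨t, ht⟩ := Cfsg.Agent.Lib.Helper61.SpU.exists_noroot (F := F)
  obtain ⟨y, hyK, hy2, hyns, hyiso⟩ :=
    Cfsg.Agent.Lib.Helper61.SpU.exists_sp_gen hodd hm K ⟨hK, hac, hnsa⟩ t ht
  have h2 : (2 : F) ≠ 0 := Cfsg.Agent.Lib.Helper61.SpU.two_ne_zero_of_odd hodd
  have hyinv : ∀ v : V, y *ᵥ (t • v - y *ᵥ v) = v := by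
    intro v
    rw [Matrix.mulVec_sub, Matrix.mulVec_smul, Matrix.mulVec_mulVec, hy2, Matrix.sub_mulVec,
      Matrix.smul_mulVec, Matrix.one_mulVec]
    abel
  have hadj : ∀ u v : V, ff (y *ᵥ u) v + ff u (y *ᵥ v) = t * ff u v := by
    intro u v
    have h1 := hyiso u (t • v - y *ᵥ v)
    rw [hyinv v, sf_sub_right, sf_smul_right] at h1
    rw [h1]; ring
  have hδK : (2 : F) • y - t • (1 : Mat) ∈ K :=
    K.sub_mem (K.smul_mem hyK 2) (K.smul_mem K.one_mem t)
  have hδns : ∀ a : F, (2 : F) • y - t • (1 : Mat) ≠ a • (1 : Mat) := by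
    intro a ha
    apply hyns ((a + t) / 2)
    have h3 : (2 : F) • y = (a + t) • (1 : Mat) := by
      rw [add_smul, ← ha]; abel
    have h4 := congrArg (fun z => (1 / 2 : F) • z) h3
    simp only [smul_smul] at h4
    rw [one_div, inv_mul_cancel₀ h2, one_smul] at h4
    rw [h4]; congr 1; ring
  refine ⟨⟨(2 : F) • y - t • (1 : Mat), t ^ 2 - 4, ?_, ?_, ?_, h2⟩, hδK, ?_⟩
  · -- sq
    have e1 : ((2 : F) • y - t • (1 : Mat)) * ((2 : F) • y - t • (1 : Mat)) =
        (4 : F) • (y * y) - (4 * t) • y + (t ^ 2) • (1 : Mat) := by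
      simp only [Matrix.sub_mul, Matrix.mul_sub, Matrix.smul_mul, Matrix.mul_smul, Matrix.one_mul,
        Matrix.mul_one, smul_sub, smul_smul]
      module
    rw [e1, hy2]
    module
  · -- nsq
    rintro ⟨s, hs⟩
    apply ht ((t + s) / 2)
    field_simp
    linear_combination -hs
  · -- skew
    intro u v
    rw [Matrix.sub_mulVec, Matrix.smul_mulVec, Matrix.smul_mulVec, Matrix.one_mulVec,
      Matrix.sub_mulVec, Matrix.smul_mulVec, Matrix.smul_mulVec, Matrix.one_mulVec,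
      sf_sub_left, sf_sub_right, sf_smul_left, sf_smul_left, sf_smul_right, sf_smul_right]
    linear_combination (2 : F) * hadj u v
  · intro k hk
    exact (Cfsg.Agent.Lib.Helper61.SpU.span_pair hm K hK _ hδK hδns k).mp hk

end Cfsg.Agent.Lib.Helper44.SpU
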