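import Cfsg.Agent.Lib.Helper44.SpUG1
import Cfsg.Agent.Lib.Helper44.SpUD
import Cfsg.Agent.Lib.Helper26.SpUN1
import Cfsg.Agent.Lib.Helper63.SpUTV
import Cfsg.Agent.Lib.Helper22.SpUN0
import Cfsg.Agent.Lib.Helper68.SpUA1
import Cfsg.Agent.Lib.Helper43.SpUB
import Cfsg.Agent.Lib.Helper43.SpUDp
import Cfsg.Agent.Lib.Helper57.SpUA2
import Cfsg.Agent.Lib.Helper78.SpUC
import Cfsg.Agent.Lib.Helper44.SpUE1
import Cfsg.Agent.Lib.Helper10.SpUE2
import Cfsg.Agent.Lib.Helper22.SpUE3

set_option autoImplicit false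
set_option linter.unusedSimpArgs false
set_option linter.unusedVariables false
set_option linter.unusedSectionVars false

/-! S5665: `N(K) ∩ Sp` is maximal in `Sp_2m(F)` for `K` a quadratic field subalgebra of unitary type, `q` odd, `m ≥ 7`.
Glue of the K-SpU2 keystone pack (architect helper44; leaves by helper26, helper63, helper22, helper68, helper57,
helper43, helper78, helper10).  Paper proof in `notes/S5665_keystones.lean.txt`. -/

namespace Cfsg.Agent.Lib.Helper44.SpU

open Matrix Cfsg.Agent.Lib.Helper18 Cfsg.Agent.Lib.Helper11.SpMax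
open Cfsg.Agent.Lib.Helper43.UF

variable {F : Type*} [Field F] [Fintype F] {m : ℕ}

local notation "V" => (Fin m ⊕ Fin m → F)
local notation "ff" => Cfsg.sympForm m F
local notation "GLm" => Matrix.GeneralLinearGroup (Fin m ⊕ Fin m) F
local notation "Mat" => Matrix (Fin m ⊕ Fin m) (Fin m ⊕ Fin m) F

theorem maximal (hodd : Odd (Fintype.card F)) (hm : 7 ≤ m) (K : Subalgebra F Mat)
    (hK : Cfsg.Geo.IsFieldSubalgebra 2 K)
    (hac : Cfsg.Geo.IsAdjointClosedFor (Cfsg.sympForm m F) K)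
    (hnsa : ¬ Cfsg.Geo.IsSelfAdjointFor (Cfsg.sympForm m F) K) :
    Cfsg.Geo.IsMaximalIn (Cfsg.spGL m F) (Cfsg.Geo.subalgebraNormalizer K ⊓ Cfsg.spGL m F) := by
  classical
  obtain ⟨U, hδ, hspan⟩ := exists_sdata hodd (by omega) K hK hac hnsa
  have hHmem : ∀ (u : V) (c : F), KI U u → ut U u c ∈ Cfsg.Geo.subalgebraNormalizer K ⊓ Cfsg.spGL m F :=
    fun u c hu => ⟨Cfsg.Agent.Lib.Helper26.SpU.mem_normalizer_of_comm U K hδ hspan _
      (Cfsg.Agent.Lib.Helper63.SpU.ut_comm U u hu c), Cfsg.Agent.Lib.Helper63.SpU.ut_mem_spGL U u c⟩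
  refine ⟨?_, ?_⟩
  · -- proper
    refine lt_of_le_of_ne inf_le_right ?_
    intro hEq
    have hw : (fun _ => (1 : F) : V) ≠ 0 := by
      intro h
      have := congrFun h (Sum.inl ⟨0, by omega⟩)
      exact one_ne_zero this
    have h1 : tg m (fun _ => (1 : F) : V) 1 ∈ Cfsg.Geo.subalgebraNormalizer K ⊓ Cfsg.spGL m F := by
      rw [hEq]; exact tg_mem m _ _
    exact Cfsg.Agent.Lib.Helper22.SpU.tg_not_mem_normalizer U K hδ hspan (by omega) _ hw h1.1
  · intro M hHM hMS
    by_cases hMH : M ≤ Cfsg.Geo.subalgebraNormalizer K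
    · left
      exact le_antisymm (le_inf hMH hMS) hHM
    · right
      refine le_antisymm hMS ?_
      obtain ⟨g, hgM, hgN⟩ := SetLike.not_le_iff_exists.mp hMH
      have hgS : g ∈ Cfsg.spGL m F := hMS hgM
      have hH : ∀ (u : V) (c : F), KI U u → ut U u c ∈ M := fun u c hu => hHM (hHmem u c hu)
      -- (A)
      obtain ⟨u, hu0, hu, hbad⟩ := Cfsg.Agent.Lib.Helper57.SpU.exists_bad U hm K
        (fun Jp h => Cfsg.Agent.Lib.Helper68.SpU.coeff_const (Nf_nondeg U) (by rw [card_idx]; omega)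
          (NU U) Jp h)
        (fun g h => Cfsg.Agent.Lib.Helper26.SpU.mem_normalizer_of_conj U K hδ hspan g h) g hgN
      set v : V := g.1 *ᵥ u with hv
      set v' : V := g.1 *ᵥ (U.δ *ᵥ u) with hv'
      have hv0 : v ≠ 0 := by
        intro h
        apply hu0
        have := congrArg (fun z => (g⁻¹ : GLm).1 *ᵥ z) h
        simpa [hv, gl_inv_act] using this
      have hvv' : ff v v' = 0 := by
        rw [hv, hv', (mem_spGL_iff m g).mp hgS]
        exact hu
      have hP : ∀ c : F, tg m v c * tg m v' (-(c / U.d)) ∈ M := by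
        intro c
        have h1 : g * ut U u c * g⁻¹ ∈ M := M.mul_mem (M.mul_mem hgM (hH u c hu)) (M.inv_mem hgM)
        have h2 : g * ut U u c * g⁻¹ = tg m v c * tg m v' (-(c / U.d)) := by
          unfold ut
          rw [← conj_tg m g hgS, ← conj_tg m g hgS]
          group
        rw [← h2]; exact h1
      -- (B)
      obtain ⟨x, hx, h1, h2, h3, h4, hxK⟩ := Cfsg.Agent.Lib.Helper43.SpU.exists_x U hm v v' hv0 hbad
      -- (C)
      have hZ := Cfsg.Agent.Lib.Helper78.SpU.pair_mem U M hMS v v' x hvv' hx h1 h2 h3 h4 hP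
        (fun c => hH x c hx)
      -- (D)
      have hv'0 : v' ≠ 0 := by
        intro h
        apply hbad
        rw [h]
        exact Submodule.zero_mem _
      have hr : U.δ *ᵥ x ∉ Submodule.span F {v', U.δ *ᵥ v'} := by
        intro hmem
        apply hxK
        have h5 := J_mem_KL (NU U) v' (U.δ *ᵥ x) hmem
        rw [NU_J, U.sq_apply] at h5
        have h6 := Submodule.smul_mem _ (1 / U.d) h5
        rwa [smul_smul, one_div, inv_mul_cancel₀ U.d_ne_zero, one_smul] at h6
      obtain ⟨x', hx', k1, k2, k3, k4⟩ :=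
        Cfsg.Agent.Lib.Helper43.SpU.exists_x' U hm v' (U.δ *ᵥ x) hv'0 hr
      have hpr : ff v' (U.δ *ᵥ x) = 0 := h4
      have hbX := tv_of_pair U M hMS v' (U.δ *ᵥ x) x' hpr hx' k1 k2 k3 k4 hZ (fun c => hH x' c hx')
      have hb0 : v' - U.δ *ᵥ x ≠ 0 := by
        intro h
        apply hr
        rw [← sub_eq_zero.mp h]
        exact Submodule.subset_span (by simp)
      -- (E)
      have hKI := Cfsg.Agent.Lib.Helper10.SpU.XS_KI_all U hm M hMS
        (XS_step U M hMS hH) _ hb0 hbX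
      exact le_of_XS_univ m M (Cfsg.Agent.Lib.Helper22.SpU.XS_all_of_KI U hm M hMS hKI)

end Cfsg.Agent.Lib.Helper44.SpU
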