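import Mathlib
import Cfsg.Agent.Lib.Helper49.StOpDefs

/-!
K-StOp-C8a (254824, S2548 pack, architect helper49): triangular = unipotent times diagonal, for `B`
(upper) and `B⁻` (lower triangular isometries of `quadFormPlus`).  Port of Helper90.StOC8 / StOC8a.
-/

set_option autoImplicit false
set_option linter.unusedSectionVars false
set_option linter.unusedVariables false

namespace Cfsg.Agent.Lib.Helper44.StOp

open Cfsg Cfsg.Agent.Lib.Helper49.StOp Matrix

variable {m : ℕ} {F : Type*} [Field F]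

theorem c8a_mulVec_single (A : Matrix (OI m) (OI m) F) (c : OI m) :
    A *ᵥ Pi.single c 1 = fun a => A a c := by
  funext a
  simp [Matrix.mulVec, dotProduct, Pi.single_apply]

theorem c8a_mat_pow (g : OG m F) (k : ℕ) : mat (g ^ k) = mat g ^ k := by
  induction k with
  | zero => rw [pow_zero, pow_zero, mat_one]
  | succ k ih => rw [pow_succ, pow_succ, mat_mul, ih]

/-! ### diagonals of products -/

/-- the diagonal of a product of upper triangular matrices -/
theorem c8a_diag_mul_up (A A' : Matrix (OI m) (OI m) F)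
    (hA : ∀ a b, pos m b < pos m a → A a b = 0) (hA' : ∀ a b, pos m b < pos m a → A' a b = 0)
    (a : OI m) : (A * A') a a = A a a * A' a a := by
  rw [Matrix.mul_apply]
  apply Finset.sum_eq_single a
  · intro c _ hc
    rcases lt_or_gt_of_ne (fun h => hc (pos_injective m h)) with h | h
    · rw [hA a c h, zero_mul]
    · rw [hA' c a h, mul_zero]
  · intro h
    exact absurd (Finset.mem_univ a) h

/-- the diagonal of a product of lower triangular matrices -/
theorem c8a_diag_mul_lo (A A' : Matrix (OI m) (OI m) F)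
    (hA : ∀ a b, pos m a < pos m b → A a b = 0) (hA' : ∀ a b, pos m a < pos m b → A' a b = 0)
    (a : OI m) : (A * A') a a = A a a * A' a a := by
  rw [Matrix.mul_apply]
  apply Finset.sum_eq_single a
  · intro c _ hc
    rcases lt_or_gt_of_ne (fun h => hc (pos_injective m h)) with h | h
    · rw [hA' c a h, mul_zero]
    · rw [hA a c h, zero_mul]
  · intro h
    exact absurd (Finset.mem_univ a) h

theorem c8a_upper_of_mem {b : OG m F} (hb : b ∈ Bsub m F) :
    ∀ a c, pos m c < pos m a → mat b a c = 0 :=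
  (mem_Bsub_iff b).1 hb

theorem c8a_lower_of_mem {b : OG m F} (hb : b ∈ Bminus m F) :
    ∀ a c, pos m a < pos m c → mat b a c = 0 :=
  (mem_Bminus_iff b).1 hb

/-! ### the value of `Q` on sums of two columns -/

theorem c8a_quad_single_add (A : Matrix (OI m) (OI m) F) (i : Fin m) :
    Cfsg.quadFormPlus m F (A *ᵥ (Pi.single (eI i) 1 + Pi.single (fI i) 1)) =
      ∑ j : Fin m, (A (eI j) (eI i) + A (eI j) (fI i)) * (A (fI j) (eI i) + A (fI j) (fI i)) := by
  rw [Matrix.mulVec_add, c8a_mulVec_single, c8a_mulVec_single]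
  rfl

theorem c8a_quad_single (A : Matrix (OI m) (OI m) F) (c : OI m) :
    Cfsg.quadFormPlus m F (A *ᵥ Pi.single c 1) = ∑ j : Fin m, A (eI j) c * A (fI j) c := by
  rw [c8a_mulVec_single]
  rfl

theorem c8a_quad_ef (i : Fin m) :
    Cfsg.quadFormPlus m F (Pi.single (eI i) (1 : F) + Pi.single (fI i) (1 : F)) = 1 := by
  unfold Cfsg.quadFormPlus
  rw [Finset.sum_eq_single i]
  · simp
  · intro j _ hj
    have : (Sum.inl j : OI m) ≠ eI i := fun h => hj (Sum.inl.inj h)
    simp [Pi.single_apply, this]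
  · intro h
    exact absurd (Finset.mem_univ i) h

theorem c8a_quad_e (i : Fin m) :
    Cfsg.quadFormPlus m F (Pi.single (eI i) (1 : F)) = 0 := by
  unfold Cfsg.quadFormPlus
  apply Finset.sum_eq_zero
  intro j _
  have : (Pi.single (eI i) (1 : F) : OI m → F) (Sum.inr j) = 0 := by
    rw [Pi.single_apply, if_neg (by simp)]
  rw [this, mul_zero]

theorem c8a_quad_f (i : Fin m) :
    Cfsg.quadFormPlus m F (Pi.single (fI i) (1 : F)) = 0 := by
  unfold Cfsg.quadFormPlus
  apply Finset.sum_eq_zero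
  intro j _
  have : (Pi.single (fI i) (1 : F) : OI m → F) (Sum.inl j) = 0 := by
    rw [Pi.single_apply, if_neg (by simp)]
  rw [this, zero_mul]

/-- the diagonal entries at `e_i`, `f_i` of an upper triangular isometry are inverse to each other -/
theorem c8a_diag_ef_up (b : OG m F) (hb : b ∈ Bsub m F) (i : Fin m) :
    mat b (eI i) (eI i) * mat b (fI i) (fI i) = 1 := by
  have hA := c8a_upper_of_mem hb
  have h1 := quad_mulVec b (Pi.single (eI i) 1 + Pi.single (fI i) 1)
  have h2 := quad_mulVec b (Pi.single (fI i) 1)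
  rw [c8a_quad_single_add, c8a_quad_ef] at h1
  rw [c8a_quad_single, c8a_quad_f] at h2
  have f0 : ∀ j : Fin m, mat b (fI j) (eI i) = 0 := by
    intro j
    apply hA
    show i.val < 2 * m - 1 - j.val
    have := i.2; have := j.2; omega
  have e3 : ∑ j : Fin m, mat b (eI j) (eI i) * mat b (fI j) (fI i) =
      mat b (eI i) (eI i) * mat b (fI i) (fI i) := by
    apply Finset.sum_eq_single i
    · intro j _ hj
      rcases lt_or_gt_of_ne (fun h => hj (Fin.ext h) : (j : ℕ) ≠ (i : ℕ)) with h | h
      · have : pos m (fI i) < pos m (fI j) := by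
          show 2 * m - 1 - i.val < 2 * m - 1 - j.val
          have := i.2; have := j.2; omega
        rw [hA _ _ this, mul_zero]
      · have : pos m (eI i) < pos m (eI j) := h
        rw [hA _ _ this, zero_mul]
    · intro h
      exact absurd (Finset.mem_univ i) h
  rw [← e3]
  have e4 : ∑ j : Fin m, (mat b (eI j) (eI i) + mat b (eI j) (fI i)) *
      (mat b (fI j) (eI i) + mat b (fI j) (fI i)) =
      ∑ j : Fin m, mat b (eI j) (eI i) * mat b (fI j) (fI i) +
      ∑ j : Fin m, mat b (eI j) (fI i) * mat b (fI j) (fI i) := by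
    rw [← Finset.sum_add_distrib]
    apply Finset.sum_congr rfl
    intro j _
    rw [f0 j]
    ring
  rw [e4] at h1
  linear_combination h1 - h2

/-- the diagonal entries at `e_i`, `f_i` of a lower triangular isometry are inverse to each other -/
theorem c8a_diag_ef_lo (b : OG m F) (hb : b ∈ Bminus m F) (i : Fin m) :
    mat b (eI i) (eI i) * mat b (fI i) (fI i) = 1 := by
  have hA := c8a_lower_of_mem hb
  have h1 := quad_mulVec b (Pi.single (eI i) 1 + Pi.single (fI i) 1)
  have h2 := quad_mulVec b (Pi.single (eI i) 1)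
  rw [c8a_quad_single_add, c8a_quad_ef] at h1
  rw [c8a_quad_single, c8a_quad_e] at h2
  have e0 : ∀ j : Fin m, mat b (eI j) (fI i) = 0 := by
    intro j
    apply hA
    show j.val < 2 * m - 1 - i.val
    have := i.2; have := j.2; omega
  have e3 : ∑ j : Fin m, mat b (eI j) (eI i) * mat b (fI j) (fI i) =
      mat b (eI i) (eI i) * mat b (fI i) (fI i) := by
    apply Finset.sum_eq_single i
    · intro j _ hj
      rcases lt_or_gt_of_ne (fun h => hj (Fin.ext h) : (j : ℕ) ≠ (i : ℕ)) with h | h
      · have : pos m (eI j) < pos m (eI i) := h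
        rw [hA _ _ this, zero_mul]
      · have : pos m (fI j) < pos m (fI i) := by
          show 2 * m - 1 - j.val < 2 * m - 1 - i.val
          have := i.2; have := j.2; omega
        rw [hA _ _ this, mul_zero]
    · intro h
      exact absurd (Finset.mem_univ i) h
  rw [← e3]
  have e4 : ∑ j : Fin m, (mat b (eI j) (eI i) + mat b (eI j) (fI i)) *
      (mat b (fI j) (eI i) + mat b (fI j) (fI i)) =
      ∑ j : Fin m, mat b (eI j) (eI i) * mat b (fI j) (eI i) +
      ∑ j : Fin m, mat b (eI j) (eI i) * mat b (fI j) (fI i) := by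
    rw [← Finset.sum_add_distrib]
    apply Finset.sum_congr rfl
    intro j _
    rw [e0 j]
    ring
  rw [e4] at h1
  linear_combination h1 - h2

theorem c8a_diag_dual_of (b : OG m F)
    (h : ∀ i : Fin m, mat b (eI i) (eI i) * mat b (fI i) (fI i) = 1) (a : OI m) :
    mat b a a * mat b (dualE m a) (dualE m a) = 1 := by
  rcases a with a | a
  · exact h a
  · show mat b (fI a) (fI a) * mat b (eI a) (eI a) = 1
    rw [mul_comm]; exact h a

/-- a diagonal matrix with `d e_i * d f_i = 1` preserves `Q` -/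
theorem c8a_diagonal_pres (d : OI m → F)
    (hd : ∀ i : Fin m, d (eI i) * d (fI i) = 1) (u : OI m → F) :
    Cfsg.quadFormPlus m F (Matrix.diagonal d *ᵥ u) = Cfsg.quadFormPlus m F u := by
  unfold Cfsg.quadFormPlus
  simp only [Matrix.mulVec_diagonal]
  apply Finset.sum_congr rfl
  intro i _
  have := hd i
  calc d (Sum.inl i) * u (Sum.inl i) * (d (Sum.inr i) * u (Sum.inr i))
      = (d (eI i) * d (fI i)) * (u (Sum.inl i) * u (Sum.inr i)) := by ring
    _ = u (Sum.inl i) * u (Sum.inr i) := by rw [this, one_mul]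

/-! ### strictly upper triangular matrices are nilpotent -/

theorem c8a_pow_apply_eq_zero (N : Matrix (OI m) (OI m) F)
    (hN : ∀ a b, pos m b ≤ pos m a → N a b = 0) (k : ℕ) :
    ∀ a b, pos m b < pos m a + k → (N ^ k) a b = 0 := by
  induction k with
  | zero =>
    intro a b h
    rw [pow_zero, Matrix.one_apply, if_neg]
    rintro rfl
    omega
  | succ k ih =>
    intro a b h
    rw [pow_succ, Matrix.mul_apply]
    apply Finset.sum_eq_zero
    intro c _
    by_cases hc : pos m c < pos m a + k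
    · rw [ih a c hc, zero_mul]
    · rw [hN c b (by omega), mul_zero]

theorem c8a_pow_eq_zero (N : Matrix (OI m) (OI m) F)
    (hN : ∀ a b, pos m b ≤ pos m a → N a b = 0) : N ^ (2 * m + 1) = 0 := by
  ext a b
  rw [c8a_pow_apply_eq_zero N hN (2 * m + 1) a b (by have := pos_lt m b; omega)]
  rfl

/-- an upper unitriangular matrix has `p`-power order in characteristic `p` -/
theorem c8a_unitri_pow_up (p : ℕ) [Fact p.Prime] [CharP F p]
    (A : Matrix (OI m) (OI m) F)
    (hA : ∀ a b, pos m b < pos m a → A a b = 0) (hA1 : ∀ a, A a a = 1) :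
    A ^ (p ^ (2 * m + 1)) = 1 := by
  rcases Nat.eq_zero_or_pos m with hm | hm
  · subst hm
    exact Subsingleton.elim _ _
  have : Nonempty (OI m) := ⟨Sum.inl ⟨0, hm⟩⟩
  have hN : ∀ a b, pos m b ≤ pos m a → (A - 1) a b = 0 := by
    intro a b hab
    rw [Matrix.sub_apply, Matrix.one_apply]
    rcases eq_or_lt_of_le hab with h | h
    · have : b = a := pos_injective m h
      subst this
      rw [hA1, if_pos rfl, sub_self]
    · rw [hA a b h, if_neg, sub_zero]
      rintro rfl
      exact lt_irrefl _ h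
  have h0 : (A - 1) ^ (2 * m + 1) = 0 := c8a_pow_eq_zero _ hN
  have hle : 2 * m + 1 ≤ p ^ (2 * m + 1) :=
    le_of_lt (Nat.lt_pow_self (Fact.out : p.Prime).one_lt)
  have h1 : (A - 1) ^ (p ^ (2 * m + 1)) = 0 := by
    rw [← Nat.sub_add_cancel hle, pow_add, h0, mul_zero]
  have h2 : A = (A - 1) + 1 := by abel
  rw [h2, add_pow_char_pow_of_commute p (2 * m + 1) (Commute.one_right _), h1, one_pow, zero_add]

/-- a lower unitriangular matrix has `p`-power order in characteristic `p` -/
theorem c8a_unitri_pow_lo (p : ℕ) [Fact p.Prime] [CharP F p]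
    (A : Matrix (OI m) (OI m) F)
    (hA : ∀ a b, pos m a < pos m b → A a b = 0) (hA1 : ∀ a, A a a = 1) :
    A ^ (p ^ (2 * m + 1)) = 1 := by
  have h := c8a_unitri_pow_up p Aᵀ
    (fun a b hab => by rw [Matrix.transpose_apply]; exact hA b a hab)
    (fun a => by rw [Matrix.transpose_apply]; exact hA1 a)
  rw [← Matrix.transpose_pow] at h
  have h' := congrArg Matrix.transpose h
  rw [Matrix.transpose_transpose, Matrix.transpose_one] at h'
  exact h'

/-! ### the diagonal part -/

/-- the diagonal part of an element whose diagonal satisfies `d e_i * d f_i = 1` -/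
def c8a_dG (b : OG m F)
    (h : ∀ i : Fin m, mat b (eI i) (eI i) * mat b (fI i) (fI i) = 1) : OG m F :=
  ⟨⟨Matrix.diagonal (fun a => mat b a a),
      Matrix.diagonal (fun a => mat b (dualE m a) (dualE m a)),
      by
        rw [Matrix.diagonal_mul_diagonal, ← Matrix.diagonal_one]
        congr 1
        funext a
        exact c8a_diag_dual_of b h a,
      by
        rw [Matrix.diagonal_mul_diagonal, ← Matrix.diagonal_one]
        congr 1
        funext a
        rw [mul_comm]
        exact c8a_diag_dual_of b h a⟩,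
    fun u _ => c8a_diagonal_pres (fun a => mat b a a) h u⟩

theorem c8a_mat_dG (b : OG m F)
    (h : ∀ i : Fin m, mat b (eI i) (eI i) * mat b (fI i) (fI i) = 1) :
    mat (c8a_dG b h) = Matrix.diagonal (fun a => mat b a a) := rfl

theorem c8a_dG_mem_T (b : OG m F)
    (h : ∀ i : Fin m, mat b (eI i) (eI i) * mat b (fI i) (fI i) = 1) :
    c8a_dG b h ∈ Tsub m F := by
  rw [mem_Tsub_iff]
  intro a c hac
  rw [c8a_mat_dG]
  exact Matrix.diagonal_apply_ne _ hac

/-! ### the two statements -/

theorem exists_diag_unip [Fintype F] (p : ℕ) [Fact p.Prime] [CharP F p] (b : OG m F)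
    (hb : b ∈ Bsub m F) : ∃ d ∈ Tsub m F, ∃ k : ℕ, (b * d⁻¹) ^ (p ^ k) = 1 := by
  have hd := c8a_diag_ef_up b hb
  refine ⟨c8a_dG b hd, c8a_dG_mem_T b hd, 2 * m + 1, ?_⟩
  apply mat_injective
  rw [c8a_mat_pow, mat_one]
  have hdB : c8a_dG b hd ∈ Bsub m F := (c8a_dG_mem_T b hd).1
  have hdiB : (c8a_dG b hd)⁻¹ ∈ Bsub m F := inv_mem hdB
  have hu : b * (c8a_dG b hd)⁻¹ ∈ Bsub m F := mul_mem hb hdiB
  apply c8a_unitri_pow_up p _ (c8a_upper_of_mem hu)
  intro a
  rw [mat_mul, c8a_diag_mul_up _ _ (c8a_upper_of_mem hb) (c8a_upper_of_mem hdiB)]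
  have h1 : mat b a a = mat (c8a_dG b hd) a a := by
    rw [c8a_mat_dG, Matrix.diagonal_apply_eq]
  rw [h1, ← c8a_diag_mul_up _ _ (c8a_upper_of_mem hdB) (c8a_upper_of_mem hdiB), mat_mul_mat_inv,
    Matrix.one_apply_eq]

theorem exists_diag_unip_minus [Fintype F] (p : ℕ) [Fact p.Prime] [CharP F p] (b : OG m F)
    (hb : b ∈ Bminus m F) : ∃ d ∈ Tsub m F, ∃ k : ℕ, (b * d⁻¹) ^ (p ^ k) = 1 := by
  have hd := c8a_diag_ef_lo b hb
  refine ⟨c8a_dG b hd, c8a_dG_mem_T b hd, 2 * m + 1, ?_⟩
  apply mat_injective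
  rw [c8a_mat_pow, mat_one]
  have hdB : c8a_dG b hd ∈ Bminus m F := (c8a_dG_mem_T b hd).2
  have hdiB : (c8a_dG b hd)⁻¹ ∈ Bminus m F := inv_mem hdB
  have hu : b * (c8a_dG b hd)⁻¹ ∈ Bminus m F := mul_mem hb hdiB
  apply c8a_unitri_pow_lo p _ (c8a_lower_of_mem hu)
  intro a
  rw [mat_mul, c8a_diag_mul_lo _ _ (c8a_lower_of_mem hb) (c8a_lower_of_mem hdiB)]
  have h1 : mat b a a = mat (c8a_dG b hd) a a := by
    rw [c8a_mat_dG, Matrix.diagonal_apply_eq]
  rw [h1, ← c8a_diag_mul_lo _ _ (c8a_lower_of_mem hdB) (c8a_lower_of_mem hdiB), mat_mul_mat_inv,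
    Matrix.one_apply_eq]

end Cfsg.Agent.Lib.Helper44.StOp
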