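import Mathlib
import Cfsg.Agent.Lib.Helper44.SymPGen

set_option autoImplicit false

/-! Derived length of the Sylow `p`-subgroups of `Sₙ`. -/

namespace Cfsg.Agent.Lib.Helper44

open Equiv
open scoped commutatorElement

section dser

variable {G : Type*} [Group G]

/-- the derived series of a subgroup, computed inside the ambient group -/
def dser (T : Subgroup G) : ℕ → Subgroup G
  | 0 => T
  | (j + 1) => ⁅dser T j, dser T j⁆

@[simp] lemma dser_zero (T : Subgroup G) : dser T 0 = T := rfl

lemma dser_succ (T : Subgroup G) (j : ℕ) : dser T (j + 1) = ⁅dser T j, dser T j⁆ := rfl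

lemma dser_le (T : Subgroup G) (j : ℕ) : dser T j ≤ T := by
  induction j with
  | zero => exact le_rfl
  | succ j ih =>
    rw [dser_succ, Subgroup.commutator_le]
    intro a ha b hb
    rw [commutatorElement_def]
    exact T.mul_mem (T.mul_mem (T.mul_mem (ih ha) (ih hb)) (T.inv_mem (ih ha))) (T.inv_mem (ih hb))

lemma dser_mono {T T' : Subgroup G} (h : T ≤ T') (j : ℕ) : dser T j ≤ dser T' j := by
  induction j with
  | zero => exact h
  | succ j ih => rw [dser_succ, dser_succ]; exact Subgroup.commutator_mono ih ih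

lemma dser_map {G' : Type*} [Group G'] (f : G →* G') (T : Subgroup G) (j : ℕ) :
    (dser T j).map f = dser (T.map f) j := by
  induction j with
  | zero => rfl
  | succ j ih => rw [dser_succ, Subgroup.map_commutator, ih, dser_succ]

lemma dser_eq_map_derivedSeries (T : Subgroup G) (j : ℕ) :
    (derivedSeries ↥T j).map T.subtype = dser T j := by
  induction j with
  | zero => rw [derivedSeries_zero, dser_zero, ← MonoidHom.range_eq_map, Subgroup.range_subtype]
  | succ j ih => rw [derivedSeries_succ, Subgroup.map_commutator, ih, dser_succ]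

lemma derivedSeries_eq_bot_iff (T : Subgroup G) (j : ℕ) :
    derivedSeries ↥T j = ⊥ ↔ dser T j = ⊥ := by
  rw [← dser_eq_map_derivedSeries,
    Subgroup.map_eq_bot_iff_of_injective _ (Subgroup.subtype_injective _)]

lemma dser_map_eq_bot_iff {G' : Type*} [Group G'] (f : G →* G') (hf : Function.Injective f)
    (T : Subgroup G) (j : ℕ) : dser (T.map f) j = ⊥ ↔ dser T j = ⊥ := by
  rw [← dser_map, Subgroup.map_eq_bot_iff_of_injective _ hf]

end dser

section wr

variable {H : Type*} [Group H] (n : ℕ)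

lemma dser_wrSub_succ_eq_bot (S : Subgroup H) (hS : ∀ a ∈ S, ∀ b ∈ S, a * b = b * a)
    (T : Subgroup (Perm (Fin n))) (d : ℕ) (hT : dser T d = ⊥) :
    dser (wrSub n S T) (d + 1) = ⊥ := by
  have h1 : ∀ x ∈ dser (wrSub n S T) d, x.right = 1 ∧ ∀ i, x.left i ∈ S := by
    intro x hx
    constructor
    · have h2 : SemidirectProduct.rightHom x ∈
          (dser (wrSub n S T) d).map SemidirectProduct.rightHom :=
        Subgroup.mem_map_of_mem _ hx
      rw [dser_map] at h2
      have hle : (wrSub n S T).map SemidirectProduct.rightHom ≤ T := by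
        rintro _ ⟨y, hy, rfl⟩
        exact hy.2
      have h3 := dser_mono hle d h2
      rw [hT, Subgroup.mem_bot] at h3
      exact h3
    · exact (dser_le _ d hx).1
  rw [dser_succ, Subgroup.commutator_eq_bot_iff_le_centralizer]
  intro x hx
  rw [Subgroup.mem_centralizer_iff]
  intro y hy
  obtain ⟨hx1, hx2⟩ := h1 x hx
  obtain ⟨hy1, hy2⟩ := h1 y hy
  ext1
  · funext i
    simp only [SemidirectProduct.mul_left, hx1, hy1, map_one, MulAut.one_apply, Pi.mul_apply]
    exact hS _ (hy2 i) _ (hx2 i)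
  · simp [hx1, hy1]

lemma permAut_mulSingle (c : Perm (Fin n)) (i₀ : Fin n) (u : H) :
    permAut n H c (Pi.mulSingle i₀ u) = Pi.mulSingle (c i₀) u := by
  funext i
  rw [permAut_apply, Pi.mulSingle_apply, Pi.mulSingle_apply]
  by_cases h : i = c i₀
  · rw [if_pos h, if_pos (by rw [h]; simp)]
  · rw [if_neg h, if_neg]
    intro h'
    apply h
    rw [← h']
    simp

lemma exists_mem_dser_wrSub (S : Subgroup H) (T : Subgroup (Perm (Fin n))) (c : Perm (Fin n))
    (hc : c ∈ T) (i₀ : Fin n) (hci : c i₀ ≠ i₀) :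
    ∀ j, ∀ s ∈ dser S j, ∃ f : Fin n → H, f i₀ = s ∧
      (SemidirectProduct.inl f : (Fin n → H) ⋊[permAut n H] Perm (Fin n)) ∈
        dser (wrSub n S T) (j + 1) := by
  classical
  intro j
  induction j with
  | zero =>
    intro s hs
    rw [dser_zero] at hs
    refine ⟨(Pi.mulSingle i₀ s * Pi.mulSingle (c i₀) s⁻¹ : Fin n → H), ?_, ?_⟩
    · rw [Pi.mul_apply, Pi.mulSingle_eq_same, Pi.mulSingle_eq_of_ne hci.symm, mul_one]
    · have hx : (SemidirectProduct.inl (Pi.mulSingle i₀ s) :
          (Fin n → H) ⋊[permAut n H] Perm (Fin n)) ∈ wrSub n S T := by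
        refine ⟨fun i => ?_, ?_⟩
        · rw [SemidirectProduct.left_inl, Pi.mulSingle_apply]
          split_ifs
          · exact hs
          · exact S.one_mem
        · rw [SemidirectProduct.right_inl]; exact T.one_mem
      have ht : (SemidirectProduct.inr c :
          (Fin n → H) ⋊[permAut n H] Perm (Fin n)) ∈ wrSub n S T := by
        refine ⟨fun i => ?_, ?_⟩
        · rw [SemidirectProduct.left_inr]; exact S.one_mem
        · rw [SemidirectProduct.right_inr]; exact hc
      have e : (SemidirectProduct.inl (Pi.mulSingle i₀ s * Pi.mulSingle (c i₀) s⁻¹) :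
          (Fin n → H) ⋊[permAut n H] Perm (Fin n)) =
          ⁅(SemidirectProduct.inl (Pi.mulSingle i₀ s : Fin n → H) :
            (Fin n → H) ⋊[permAut n H] Perm (Fin n)), SemidirectProduct.inr c⁆ := by
        rw [commutatorElement_def, map_mul, ← permAut_mulSingle, SemidirectProduct.inl_aut,
          Pi.mulSingle_inv, map_inv, map_inv]
        group
      rw [e, dser_succ, dser_zero]
      exact Subgroup.commutator_mem_commutator hx ht
  | succ j ih =>
    intro s hs
    rw [dser_succ, Subgroup.commutator_def] at hs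
    induction hs using Subgroup.closure_induction with
    | mem y hy =>
      obtain ⟨a, ha, b, hb, rfl⟩ := hy
      obtain ⟨fa, hfa, hfa'⟩ := ih a ha
      obtain ⟨fb, hfb, hfb'⟩ := ih b hb
      refine ⟨⁅fa, fb⁆, ?_, ?_⟩
      · rw [commutatorElement_def, commutatorElement_def]
        simp [hfa, hfb]
      · rw [map_commutatorElement, dser_succ]
        exact Subgroup.commutator_mem_commutator hfa' hfb'
    | one => exact ⟨1, rfl, by rw [map_one]; exact Subgroup.one_mem _⟩
    | mul a b _ _ iha ihb =>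
      obtain ⟨fa, hfa, hfa'⟩ := iha
      obtain ⟨fb, hfb, hfb'⟩ := ihb
      exact ⟨fa * fb, by rw [Pi.mul_apply, hfa, hfb], by
        rw [map_mul]; exact Subgroup.mul_mem _ hfa' hfb'⟩
    | inv a _ iha =>
      obtain ⟨fa, hfa, hfa'⟩ := iha
      exact ⟨fa⁻¹, by rw [Pi.inv_apply, hfa], by
        rw [map_inv]; exact Subgroup.inv_mem _ hfa'⟩

lemma dser_wrSub_succ_ne_bot (S : Subgroup H) (T : Subgroup (Perm (Fin n))) (c : Perm (Fin n))
    (hc : c ∈ T) (hc1 : c ≠ 1) (j : ℕ) (hS : dser S j ≠ ⊥) :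
    dser (wrSub n S T) (j + 1) ≠ ⊥ := by
  obtain ⟨i₀, hi₀⟩ : ∃ i₀, c i₀ ≠ i₀ := by
    by_contra hcon
    push Not at hcon
    exact hc1 (Equiv.ext hcon)
  obtain ⟨s, hs1⟩ := (Subgroup.ne_bot_iff_exists_ne_one).mp hS
  obtain ⟨f, hf, hf'⟩ := exists_mem_dser_wrSub n S T c hc i₀ hi₀ j s.1 s.2
  intro hbot
  rw [hbot, Subgroup.mem_bot] at hf'
  have h1 : f = 1 := SemidirectProduct.inl_injective (by rw [hf', map_one])
  apply hs1
  apply Subtype.ext
  rw [← hf, h1]
  rfl

end wr

section pgend

/-- `PGen` together with the bound on the derived length -/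
def PGenD (p n : ℕ) : Prop :=
  ∃ I : Set (Perm (Fin n)), (∀ t ∈ I, t ^ p = 1) ∧
    Nat.card (Subgroup.closure I) = p ^ padicValNat p n.factorial ∧
    dser (Subgroup.closure I) (Nat.log p n) = ⊥

lemma pGenD_of_injective {p n m : ℕ} (f : Perm (Fin n) →* Perm (Fin m))
    (hf : Function.Injective f)
    (hv : padicValNat p m.factorial = padicValNat p n.factorial)
    (hl : Nat.log p m = Nat.log p n) (h : PGenD p n) : PGenD p m := by
  obtain ⟨I, hI, hc, hd⟩ := h
  refine ⟨f '' I, ?_, ?_, ?_⟩
  · rintro _ ⟨t, ht, rfl⟩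
    rw [← map_pow, hI t ht, map_one]
  · rw [← MonoidHom.map_closure, Subgroup.card_map_of_injective hf, hc, hv]
  · rw [← MonoidHom.map_closure, hl, dser_map_eq_bot_iff f hf]
    exact hd

lemma pGenD_succ {p n : ℕ} [hp : Fact p.Prime] (hn : ¬ p ∣ n + 1) (h : PGenD p n) :
    PGenD p (n + 1) := by
  apply pGenD_of_injective (Perm.viaEmbeddingHom (Fin.castSuccEmb (n := n)))
    (Perm.viaEmbeddingHom_injective _) _ _ h
  · rw [Nat.factorial_succ, padicValNat.mul (by omega) (Nat.factorial_ne_zero n),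
      padicValNat.eq_zero_of_not_dvd hn, zero_add]
  · rw [← Nat.log_div_mul_self p (n + 1), ← Nat.log_div_mul_self p n,
      Nat.succ_div_of_not_dvd hn]

lemma pGenD_mul {p : ℕ} [hp : Fact p.Prime] {m : ℕ} (hm : m ≠ 0) (h : PGenD p m) :
    PGenD p (m * p) := by
  classical
  have : NeZero p := ⟨hp.out.ne_zero⟩
  obtain ⟨I, hI, hc, hd⟩ := h
  obtain ⟨c, hc0⟩ := exists_prime_orderOf_dvd_card (G := Perm (Fin p)) p (by
    rw [Fintype.card_perm, Fintype.card_fin]
    exact Nat.dvd_factorial hp.out.pos le_rfl)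
  set C : Subgroup (Perm (Fin p)) := Subgroup.zpowers c with hC
  have hCcard : Nat.card C = p := by rw [hC, Nat.card_zpowers, hc0]
  have hCpow : ∀ s ∈ C, s ^ p = 1 := by
    intro s hs
    have := pow_card_eq_one' (G := ↥C) (x := ⟨s, hs⟩)
    rw [hCcard] at this
    exact congrArg Subtype.val this
  have hCcomm : ∀ a ∈ C, ∀ b ∈ C, a * b = b * a := by
    rintro a ⟨k, rfl⟩ b ⟨l, rfl⟩
    exact zpow_mul_comm c k l
  refine ⟨wrFin m p '' (wrGens m C I), ?_, ?_, ?_⟩
  · rintro _ ⟨x, hx, rfl⟩
    rw [← map_pow]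
    rcases hx with ⟨i, s, hs, rfl⟩ | ⟨t, ht, rfl⟩
    · have : (SemidirectProduct.inl (Pi.mulSingle i s) :
          (Fin m → Perm (Fin p)) ⋊[permAut m _] Perm (Fin m)) ^ p = 1 := by
        rw [← map_pow, ← Pi.mulSingle_pow, hCpow s hs, Pi.mulSingle_one, map_one]
      rw [this, map_one]
    · rw [← map_pow, hI t ht, map_one, map_one]
  · rw [← MonoidHom.map_closure, Subgroup.card_map_of_injective (wrFin_injective m p),
      ← wrSub_eq_closure, card_wrSub, hc, hCcard, mul_comm m p, padicValNat_factorial_mul,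
      ← pow_add, add_comm]
  · rw [← MonoidHom.map_closure, dser_map_eq_bot_iff _ (wrFin_injective m p),
      ← wrSub_eq_closure, Nat.log_mul_base hp.out.one_lt hm]
    exact dser_wrSub_succ_eq_bot m C hCcomm _ _ hd

theorem pGenD_all (p : ℕ) [hp : Fact p.Prime] : ∀ n : ℕ, PGenD p n := by
  intro n
  induction n using Nat.strong_induction_on with
  | _ n ih =>
    rcases Nat.eq_zero_or_pos n with rfl | hpos
    · refine ⟨∅, by simp, by simp, ?_⟩
      simp
    · obtain ⟨k, rfl⟩ : ∃ k, n = k + 1 := ⟨n - 1, by omega⟩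
      by_cases hd : p ∣ k + 1
      · obtain ⟨r, hr⟩ := hd
        have hp2 := hp.out.two_le
        have hr0 : r ≠ 0 := by
          rintro rfl
          omega
        have hr1 : r < k + 1 := by
          have : 0 < r := Nat.pos_of_ne_zero hr0
          nlinarith
        rw [hr, mul_comm]
        exact pGenD_mul hr0 (ih r hr1)
      · exact pGenD_succ hd (ih k (by omega))

end pgend

section lower

lemma exists_pgroup_dser (p : ℕ) [hp : Fact p.Prime] :
    ∀ k N : ℕ, N = p ^ (k + 1) →
      ∃ U : Subgroup (Perm (Fin N)), IsPGroup p U ∧ dser U k ≠ ⊥ := by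
  classical
  have : NeZero p := ⟨hp.out.ne_zero⟩
  obtain ⟨c, hc0⟩ := exists_prime_orderOf_dvd_card (G := Perm (Fin p)) p (by
    rw [Fintype.card_perm, Fintype.card_fin]
    exact Nat.dvd_factorial hp.out.pos le_rfl)
  have hc1 : c ≠ 1 := by
    rintro rfl
    rw [orderOf_one] at hc0
    exact hp.out.one_lt.ne hc0
  have hCcard : Nat.card (Subgroup.zpowers c) = p := by rw [Nat.card_zpowers, hc0]
  intro k
  induction k with
  | zero =>
    intro N hN
    rw [zero_add, pow_one] at hN
    subst hN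
    refine ⟨Subgroup.zpowers c, IsPGroup.of_card (n := 1) (by rw [hCcard, pow_one]), ?_⟩
    rw [dser_zero]
    intro h
    have := Subgroup.mem_zpowers c
    rw [h, Subgroup.mem_bot] at this
    exact hc1 this
  | succ k ih =>
    intro N hN
    obtain ⟨U, hU, hUd⟩ := ih (p ^ (k + 1)) rfl
    have hN' : N = p * p ^ (k + 1) := by rw [hN]; ring
    subst hN'
    have : NeZero (p ^ (k + 1)) := ⟨pow_ne_zero _ hp.out.ne_zero⟩
    refine ⟨(wrSub p U (Subgroup.zpowers c)).map (wrFin p (p ^ (k + 1))), ?_, ?_⟩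
    · obtain ⟨a, ha⟩ := hU.exists_card_eq
      apply IsPGroup.of_card (n := a * p + 1)
      rw [Subgroup.card_map_of_injective (wrFin_injective p (p ^ (k + 1))), card_wrSub, ha,
        hCcard, ← pow_mul, pow_succ]
    · rw [Ne, dser_map_eq_bot_iff _ (wrFin_injective p (p ^ (k + 1)))]
      exact dser_wrSub_succ_ne_bot p U _ c (Subgroup.mem_zpowers c) hc1 k hUd

end lower

section main

theorem sylow_perm_dser (p : ℕ) [hp : Fact p.Prime] (n : ℕ) (P : Sylow p (Perm (Fin n))) :
    dser (P : Subgroup (Perm (Fin n))) (Nat.log p n) = ⊥ ∧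
      (1 ≤ Nat.log p n → dser (P : Subgroup (Perm (Fin n))) (Nat.log p n - 1) ≠ ⊥) := by
  classical
  constructor
  · obtain ⟨I, hI, hc, hd⟩ := pGenD_all p n
    have hcard : Nat.card (Subgroup.closure I) =
        p ^ (Nat.card (Perm (Fin n))).factorization p := by
      rw [hc, Nat.factorization_def _ hp.out, Nat.card_perm, Nat.card_eq_fintype_card,
        Fintype.card_fin]
    let P0 : Sylow p (Perm (Fin n)) := Sylow.ofCard (Subgroup.closure I) hcard
    obtain ⟨g, hg⟩ := MulAction.exists_smul_eq (Perm (Fin n)) P0 P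
    have hP : (P : Subgroup (Perm (Fin n))) =
        (Subgroup.closure I).map (MulAut.conj g).toMonoidHom := by
      rw [← hg]
      rfl
    rw [hP, dser_map_eq_bot_iff _ (MulAut.conj g).injective]
    exact hd
  · intro hk
    have hn0 : n ≠ 0 := by
      rintro rfl
      simp at hk
    have hle : p ^ Nat.log p n ≤ n := Nat.pow_log_le_self p hn0
    obtain ⟨U, hU, hUd⟩ := exists_pgroup_dser p (Nat.log p n - 1) (p ^ Nat.log p n) (by
      congr 1; omega)
    set ι : Fin (p ^ Nat.log p n) ↪ Fin n := Fin.castLEEmb hle with hι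
    have hinj := Perm.viaEmbeddingHom_injective ι
    have hU' : IsPGroup p (U.map (Perm.viaEmbeddingHom ι)) := hU.map _
    obtain ⟨Q, hQ⟩ := hU'.exists_le_sylow
    have h1 : dser (Q : Subgroup (Perm (Fin n))) (Nat.log p n - 1) ≠ ⊥ := by
      intro hbot
      have h2 := dser_mono hQ (Nat.log p n - 1)
      rw [hbot, le_bot_iff, dser_map_eq_bot_iff _ hinj] at h2
      exact hUd h2
    obtain ⟨g, hg⟩ := MulAction.exists_smul_eq (Perm (Fin n)) P Q
    have hQP : (Q : Subgroup (Perm (Fin n))) =
        (P : Subgroup (Perm (Fin n))).map (MulAut.conj g).toMonoidHom := by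
      rw [← hg]
      rfl
    rw [hQP, Ne, dser_map_eq_bot_iff _ (MulAut.conj g).injective] at h1
    exact h1

end main

end Cfsg.Agent.Lib.Helper44
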