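import Mathlib
import Cfsg.Agent.Lib.Helper44.SymInvGen

set_option autoImplicit false

/-! A Sylow 2-subgroup of `S_{2^j}` generated by involutions in which any two points are swapped
by some element. -/

namespace Cfsg.Agent.Lib.Helper44

open Equiv

/-- there is a set of involutions of `Sₙ` generating a subgroup of order the 2-part of `n!`, in
which any two points are interchanged by some element -/
def InvGenSw (n : ℕ) : Prop :=
  ∃ I : Set (Perm (Fin n)), (∀ t ∈ I, t ^ 2 = 1) ∧
    Nat.card (Subgroup.closure I) = 2 ^ padicValNat 2 n.factorial ∧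
    ∀ i j : Fin n, i ≠ j → ∃ σ ∈ Subgroup.closure I, σ i = j ∧ σ j = i

lemma invGenSw_one : InvGenSw 1 := by
  refine ⟨∅, by simp, by simp, ?_⟩
  intro i j hij
  exact absurd (Subsingleton.elim i j) hij

lemma invGenSw_mul_two {m : ℕ} (h : InvGenSw m) : InvGenSw (m * 2) := by
  classical
  obtain ⟨I, hI, hc, hsw⟩ := h
  set F : (Fin m → Perm (Fin 2)) ⋊[permAut m _] Perm (Fin m) →* Perm (Fin (m * 2)) :=
    (finProdFinEquiv (m := m) (n := 2)).permCongrHom.toMonoidHom.comp (wrPerm m) with hF
  have hFinj : Function.Injective F := by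
    rw [hF]
    exact (finProdFinEquiv (m := m) (n := 2)).permCongrHom.injective.comp (wrPerm_injective m)
  have hFapp : ∀ x p, F x (finProdFinEquiv p) = finProdFinEquiv (wrPerm m x p) := by
    intro x p
    rw [hF]
    simp [Equiv.permCongrHom, Equiv.permCongr_apply]
  refine ⟨F '' (wrGens m (⊤ : Subgroup (Perm (Fin 2))) I), ?_, ?_, ?_⟩
  · rintro _ ⟨x, hx, rfl⟩
    rw [← map_pow]
    rcases hx with ⟨i, s, _, rfl⟩ | ⟨t, ht, rfl⟩
    · have : (SemidirectProduct.inl (Pi.mulSingle i s) :
          (Fin m → Perm (Fin 2)) ⋊[permAut m _] Perm (Fin m)) ^ 2 = 1 := by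
        rw [← map_pow, ← Pi.mulSingle_pow, perm_fin_two_sq, Pi.mulSingle_one, map_one]
      rw [this, map_one]
    · rw [← map_pow, hI t ht, map_one, map_one]
  · rw [← MonoidHom.map_closure, Subgroup.card_map_of_injective hFinj, ← wrSub_eq_closure,
      card_wrSub, hc, padicVal_factorial_mul_two, pow_add]
    congr 1
    rw [Nat.card_eq_fintype_card (α := ↥(⊤ : Subgroup (Perm (Fin 2))))]
    simp [Fintype.card_perm]
  · intro i j hij
    rw [← MonoidHom.map_closure, ← wrSub_eq_closure]
    obtain ⟨⟨a, x⟩, rfl⟩ := (finProdFinEquiv (m := m) (n := 2)).surjective i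
    obtain ⟨⟨b, y⟩, rfl⟩ := (finProdFinEquiv (m := m) (n := 2)).surjective j
    -- the top permutation
    obtain ⟨σ, hσ, hσa, hσb⟩ : ∃ σ ∈ Subgroup.closure I, σ a = b ∧ σ b = a := by
      by_cases hab : a = b
      · subst hab
        exact ⟨1, Subgroup.one_mem _, rfl, rfl⟩
      · exact hsw a b hab
    set z : (Fin m → Perm (Fin 2)) ⋊[permAut m _] Perm (Fin m) :=
      ⟨fun _ => Equiv.swap x y, σ⟩ with hz
    refine ⟨F z, Subgroup.mem_map_of_mem _ ?_, ?_, ?_⟩
    · rw [mem_wrSub]
      exact ⟨fun _ => Subgroup.mem_top _, hσ⟩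
    · rw [hFapp, wrPerm_apply]
      simp [hz, hσa]
    · rw [hFapp, wrPerm_apply]
      simp [hz, hσb]

theorem invGenSw_two_pow (j : ℕ) : InvGenSw (2 ^ j) := by
  induction j with
  | zero => exact invGenSw_one
  | succ j ih =>
    rw [pow_succ]
    exact invGenSw_mul_two ih

end Cfsg.Agent.Lib.Helper44
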