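import Mathlib
import Cfsg.Agent.Lib.Helper44.UniqSylA

set_option autoImplicit false

/-! A 2-element of a symmetric group in a unique Sylow 2-subgroup: the odd-degree reduction
(remove the unique fixed point). -/

namespace Cfsg.Agent.Lib.Helper44.UniqSyl

open Equiv Equiv.Perm
open Cfsg.Agent.Lib.Helper44.SylMax

universe u

variable {α : Type u} [Fintype α] [DecidableEq α]

/-- the complement of a point -/
abbrev Del (ω : α) : Type u := {v : α // v ≠ ω}

/-- extension of a permutation of the complement of `ω` -/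
def emb (ω : α) : Perm (Del ω) →* Perm α := Perm.ofSubtype

omit [Fintype α] in
lemma emb_injective (ω : α) : Function.Injective (emb ω) := Perm.ofSubtype_injective

omit [Fintype α] in
lemma emb_apply_self (ω : α) (f : Perm (Del ω)) : emb ω f ω = ω :=
  Perm.ofSubtype_apply_of_not_mem f (by simp)

omit [Fintype α] in
lemma emb_apply_coe (ω : α) (f : Perm (Del ω)) (v : Del ω) : emb ω f v = f v :=
  Perm.ofSubtype_apply_coe f v

omit [Fintype α] [DecidableEq α] in
lemma restr_aux {x : Perm α} {ω : α} (h : x ω = ω) (v : α) : x v ≠ ω ↔ v ≠ ω := by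
  constructor
  · intro h1 h2
    exact h1 (by rw [h2, h])
  · intro h1 h2
    exact h1 (x.injective (h2.trans h.symm))

/-- restriction of a permutation fixing `ω` -/
def restr (x : Perm α) (ω : α) (h : x ω = ω) : Perm (Del ω) :=
  x.subtypePerm (restr_aux h)

omit [Fintype α] in
lemma emb_restr (x : Perm α) (ω : α) (h : x ω = ω) : emb ω (restr x ω h) = x :=
  Perm.ofSubtype_subtypePerm _ (fun v hv e => hv (by rw [e, h]))

omit [Fintype α] [DecidableEq α] in
lemma restr_apply (x : Perm α) (ω : α) (h : x ω = ω) (v : Del ω) :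
    ((restr x ω h) v : α) = x v := rfl

omit [Fintype α] in
lemma mem_range_emb {ω : α} {g : Perm α} : g ∈ (emb ω).range ↔ g ω = ω := by
  constructor
  · rintro ⟨f, rfl⟩
    exact emb_apply_self ω f
  · intro h
    exact ⟨restr g ω h, emb_restr g ω h⟩

omit [Fintype α] in
lemma restr_pow_two (x : Perm α) (ω : α) (h : x ω = ω) (hx : ∃ k : ℕ, x ^ (2 ^ k) = 1) :
    ∃ k : ℕ, (restr x ω h) ^ (2 ^ k) = 1 := by
  obtain ⟨k, hk⟩ := hx
  refine ⟨k, ?_⟩
  apply emb_injective ω
  rw [map_pow, emb_restr, hk, map_one]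

omit [DecidableEq α] in
/-- a Sylow 2-subgroup in odd degree fixes a point -/
theorem sylow_fixes (hodd : Odd (Fintype.card α)) (P : Sylow 2 (Perm α)) :
    ∃ ω : α, ∀ g ∈ P, g ω = ω := by
  have hnd : ¬ 2 ∣ Nat.card α := by
    rw [Nat.card_eq_fintype_card]
    exact hodd.not_two_dvd_nat
  obtain ⟨ω, hω⟩ := P.isPGroup'.nonempty_fixed_point_of_prime_not_dvd_card α hnd
  exact ⟨ω, fun g hg => hω ⟨g, hg⟩⟩

omit [Fintype α] in
/-- a Sylow 2-subgroup of a symmetric group does not fix two points -/
theorem sylow_fix_unique (P : Sylow 2 (Perm α)) (a b : α) (ha : ∀ g ∈ P, g a = a)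
    (hb : ∀ g ∈ P, g b = b) : a = b := by
  by_contra hab
  set s : Perm α := swap a b with hs
  have hss : s * s = 1 := Equiv.swap_mul_self a b
  have hcomm : ∀ g ∈ P, s * g = g * s := by
    intro g hg
    have := Equiv.mul_swap_eq_swap_mul g a b
    rw [ha g hg, hb g hg] at this
    exact this.symm
  have hZ : IsPGroup 2 (Subgroup.zpowers s) := by
    apply isPGroup_two_of_sq
    intro t ht
    obtain ⟨i, rfl⟩ := Subgroup.mem_zpowers_iff.mp ht
    rw [← (Commute.refl s).mul_zpow, hss, one_zpow]
  have hN : (P : Subgroup (Perm α)) ≤ Subgroup.normalizer (Subgroup.zpowers s : Set (Perm α)) := by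
    refine le_trans ?_ (Subgroup.centralizer_le_normalizer _)
    intro g hg
    rw [Subgroup.mem_centralizer_iff]
    intro h hh
    obtain ⟨i, rfl⟩ := Subgroup.mem_zpowers_iff.mp hh
    have hc : Commute s g := hcomm g hg
    exact (hc.zpow_left i).eq
  have hsup : IsPGroup 2 ((P : Subgroup (Perm α)) ⊔ Subgroup.zpowers s : Subgroup (Perm α)) :=
    P.isPGroup'.to_sup_of_normal_right' hZ hN
  have heq := P.is_maximal' hsup le_sup_left
  have hsP : s ∈ P := by
    show s ∈ (P : Subgroup (Perm α))
    rw [← heq]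
    exact Subgroup.mem_sup_right (Subgroup.mem_zpowers s)
  have := ha s hsP
  rw [hs, Equiv.swap_apply_left] at this
  exact hab this.symm


lemma card_del (ω : α) : Fintype.card α = Fintype.card (Del ω) + 1 := by
  rw [← Fintype.card_congr (Equiv.optionSubtypeNe ω), Fintype.card_option]

/-- in odd degree, a Sylow 2-subgroup of a point stabilizer is a Sylow 2-subgroup -/
theorem sylow_emb (hodd : Odd (Fintype.card α)) (ω : α) (R : Sylow 2 (Perm (Del ω))) :
    ∃ P : Sylow 2 (Perm α), (P : Subgroup (Perm α)) = (R : Subgroup _).map (emb ω) := by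
  have hcard : Nat.card ((R : Subgroup _).map (emb ω)) =
      2 ^ (Nat.card (Perm α)).factorization 2 := by
    rw [Subgroup.card_map_of_injective (emb_injective ω), R.card_eq_multiplicity]
    congr 1
    rw [Nat.card_perm, Nat.card_perm, Nat.card_eq_fintype_card, Nat.card_eq_fintype_card,
      card_del ω, Nat.factorial_succ,
      Nat.factorization_mul (Nat.succ_ne_zero _) (Nat.factorial_ne_zero _)]
    have : (Fintype.card (Del ω) + 1).factorization 2 = 0 := by
      apply Nat.factorization_eq_zero_of_not_dvd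
      rw [← card_del ω]
      exact hodd.not_two_dvd_nat
    rw [Finsupp.add_apply, this, zero_add]
  exact ⟨Sylow.ofCard _ hcard, Sylow.coe_ofCard _ hcard⟩

/-- the odd-degree reduction -/
theorem uniq_odd (hodd : Odd (Fintype.card α)) (x : Perm α) (hx : ∃ k : ℕ, x ^ (2 ^ k) = 1) :
    Uniq x ↔ ∃ ω : α, ∃ hω : x ω = ω, (∀ ω' : α, x ω' = ω' → ω' = ω) ∧
      Uniq (restr x ω hω) := by
  constructor
  · rintro ⟨P, hxP, hPu⟩
    obtain ⟨ω, hω⟩ := sylow_fixes hodd P
    have key : ∀ (ω' : α) (hω' : x ω' = ω') (R : Sylow 2 (Perm (Del ω'))),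
        restr x ω' hω' ∈ R → (P : Subgroup (Perm α)) = (R : Subgroup _).map (emb ω') := by
      intro ω' hω' R hR
      obtain ⟨P', hP'⟩ := sylow_emb hodd ω' R
      have hxP' : x ∈ P' := by
        show x ∈ (P' : Subgroup (Perm α))
        rw [hP']
        exact ⟨_, hR, emb_restr x ω' hω'⟩
      rw [← hPu P' hxP', hP']
    refine ⟨ω, hω x hxP, ?_, ?_⟩
    · intro ω' hω'
      obtain ⟨R', hR'⟩ := exists_sylow_mem _ (restr_pow_two x ω' hω' hx)
      have hP' := key ω' hω' R' hR'
      apply sylow_fix_unique P ω' ω _ hω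
      intro g hg
      have : g ∈ (P : Subgroup (Perm α)) := hg
      rw [hP'] at this
      obtain ⟨f, _, rfl⟩ := this
      exact emb_apply_self ω' f
    · obtain ⟨R, hR⟩ := exists_sylow_mem _ (restr_pow_two x ω (hω x hxP) hx)
      refine ⟨R, hR, ?_⟩
      intro R₂ hR₂
      apply Sylow.ext
      apply Subgroup.map_injective (emb_injective ω)
      rw [← key ω (hω x hxP) R hR, ← key ω (hω x hxP) R₂ hR₂]
  · rintro ⟨ω, hω, hu, R, hxR, hRu⟩
    obtain ⟨P, hxP⟩ := exists_sylow_mem x hx
    have key : ∀ P' : Sylow 2 (Perm α), x ∈ P' →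
        (P' : Subgroup (Perm α)) = (R : Subgroup _).map (emb ω) := by
      intro P' hxP'
      obtain ⟨ω', hω'⟩ := sylow_fixes hodd P'
      have := hu ω' (hω' x hxP')
      subst this
      have hr : (P' : Subgroup (Perm α)) ≤ (emb ω').range := fun g hg =>
        mem_range_emb.mpr (hω' g hg)
      have hR' : restr x ω' hω ∈ P'.comapOfInjective (emb ω') (emb_injective ω') hr := by
        show _ ∈ (P'.comapOfInjective (emb ω') (emb_injective ω') hr :
          Subgroup (Perm (Del ω')))
        rw [Sylow.coe_comapOfInjective, Subgroup.mem_comap, emb_restr]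
        exact hxP'
      rw [← hRu _ hR', Sylow.coe_comapOfInjective, Subgroup.map_comap_eq_self hr]
    refine ⟨P, hxP, ?_⟩
    intro P' hxP'
    apply Sylow.ext
    rw [key P' hxP', key P hxP]

end Cfsg.Agent.Lib.Helper44.UniqSyl
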