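import Mathlib
import Cfsg.Agent.Lib.Helper44.UniqSylB

set_option autoImplicit false

/-! A 2-element of a symmetric group in a unique Sylow 2-subgroup: the combinatorial condition
(at most two fixed points, nontrivial cycles of pairwise different lengths) follows the same
two reductions. -/

namespace Cfsg.Agent.Lib.Helper44.UniqSyl

open Equiv Equiv.Perm
open Cfsg.Agent.Lib.Helper44.SylMax

universe u

section basics

variable {α : Type u}

/-- at most two fixed points, and points of the same period outside the fixed points are in the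
same cycle -/
def Cond (x : Perm α) : Prop :=
  (∀ a b c : α, x a = a → x b = b → x c = c → a = b ∨ a = c ∨ b = c) ∧
  ∀ v w : α, x v ≠ v → x w ≠ w →
    Function.minimalPeriod x v = Function.minimalPeriod x w → SameCycle x v w

lemma pow_apply_eq_iff (x : Perm α) (n : ℕ) (v : α) :
    (x ^ n) v = v ↔ Function.minimalPeriod x v ∣ n := by
  rw [← Function.isPeriodicPt_iff_minimalPeriod_dvd, Function.IsPeriodicPt, Function.IsFixedPt,
    Equiv.Perm.iterate_eq_pow]

lemma mp_eq_one_iff (x : Perm α) (v : α) : Function.minimalPeriod x v = 1 ↔ x v = v :=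
  Function.minimalPeriod_eq_one_iff_isFixedPt

lemma mp_eq_of_forall {β : Type*} (x : Perm α) (y : Perm β) (v : α) (w : β)
    (h : ∀ n : ℕ, (x ^ n) v = v ↔ (y ^ n) w = w) :
    Function.minimalPeriod x v = Function.minimalPeriod y w := by
  rw [Function.minimalPeriod_eq_minimalPeriod_iff]
  intro n
  rw [Function.IsPeriodicPt, Function.IsFixedPt, Function.IsPeriodicPt, Function.IsFixedPt,
    Equiv.Perm.iterate_eq_pow, Equiv.Perm.iterate_eq_pow]
  exact h n

lemma cond_of_subsingleton [Subsingleton α] (x : Perm α) : Cond x :=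
  ⟨fun a b _ _ _ _ => Or.inl (Subsingleton.elim a b),
    fun v _ hv => absurd (Subsingleton.elim (x v) v) hv⟩

lemma sameCycle_of_pow {x : Perm α} {v w : α} (i : ℕ) (h : (x ^ i) v = w) : SameCycle x v w :=
  ⟨(i : ℤ), by rw [zpow_natCast]; exact h⟩

end basics

section odd

variable {α : Type u} [Fintype α] [DecidableEq α]

omit [Fintype α] [DecidableEq α] in
lemma restr_pow_apply (x : Perm α) (ω : α) (h : x ω = ω) (n : ℕ) (v : Del ω) :
    (((restr x ω h) ^ n) v : α) = (x ^ n) v := by
  unfold restr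
  rw [Perm.subtypePerm_pow]
  rfl

omit [Fintype α] [DecidableEq α] in
lemma restr_zpow_apply (x : Perm α) (ω : α) (h : x ω = ω) (n : ℤ) (v : Del ω) :
    (((restr x ω h) ^ n) v : α) = (x ^ n) v := by
  unfold restr
  rw [Perm.subtypePerm_zpow]
  rfl

omit [Fintype α] [DecidableEq α] in
lemma mp_restr (x : Perm α) (ω : α) (h : x ω = ω) (v : Del ω) :
    Function.minimalPeriod (restr x ω h) v = Function.minimalPeriod x (v : α) := by
  apply mp_eq_of_forall
  intro n
  rw [Subtype.ext_iff, restr_pow_apply]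

omit [Fintype α] [DecidableEq α] in
lemma sameCycle_restr (x : Perm α) (ω : α) (h : x ω = ω) (v w : Del ω) :
    SameCycle (restr x ω h) v w ↔ SameCycle x (v : α) (w : α) := by
  constructor
  · rintro ⟨i, hi⟩
    refine ⟨i, ?_⟩
    rw [← restr_zpow_apply x ω h, hi]
  · rintro ⟨i, hi⟩
    refine ⟨i, ?_⟩
    rw [Subtype.ext_iff, restr_zpow_apply, hi]

theorem cond_odd (hodd : Odd (Fintype.card α)) (x : Perm α) (hx : ∃ k : ℕ, x ^ (2 ^ k) = 1) :
    Cond x ↔ ∃ ω : α, ∃ hω : x ω = ω, (∀ ω' : α, x ω' = ω' → ω' = ω) ∧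
      Cond (restr x ω hω) := by
  constructor
  · intro hC
    obtain ⟨P, hxP⟩ := exists_sylow_mem x hx
    obtain ⟨ω, hω⟩ := sylow_fixes hodd P
    have hxω : x ω = ω := hω x hxP
    have huniq : ∀ ω' : α, x ω' = ω' → ω' = ω := by
      intro ω' hω'
      by_contra hne
      obtain ⟨R, hR⟩ := exists_sylow_mem _ (restr_pow_two x ω hxω hx)
      have heven : Even (Fintype.card (Del ω)) := by
        have h1 := card_del ω
        rcases hodd with ⟨m, hm⟩
        exact ⟨m, by omega⟩
      obtain ⟨ι, hι, hc⟩ := exists_fpf heven R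
      have hcx := hc _ hR
      set u : Del ω := ⟨ω', hne⟩ with hu
      have hfix : restr x ω hxω u = u := by
        apply Subtype.ext
        rw [restr_apply]
        exact hω'
      have hfix2 : restr x ω hxω (ι u) = ι u := by
        rw [cent_apply hcx, hfix]
      have hfix3 : x (ι u : α) = (ι u : α) := by
        rw [← restr_apply x ω hxω, hfix2]
      rcases hC.1 ω ω' (ι u : α) hxω hω' hfix3 with h | h | h
      · exact hne h.symm
      · exact (ι u).2 h.symm
      · apply hι.ne u
        apply Subtype.ext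
        exact h.symm
    refine ⟨ω, hxω, huniq, ?_, ?_⟩
    · intro a b c ha _ _
      exfalso
      apply a.2
      apply huniq
      rw [← restr_apply x ω hxω, ha]
    · intro v w hv hw hvw
      rw [sameCycle_restr]
      apply hC.2
      · intro e
        apply hv
        apply Subtype.ext
        rw [restr_apply, e]
      · intro e
        apply hw
        apply Subtype.ext
        rw [restr_apply, e]
      · rw [← mp_restr x ω hxω, ← mp_restr x ω hxω, hvw]
  · rintro ⟨ω, hxω, huniq, hC⟩
    refine ⟨?_, ?_⟩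
    · intro a b c ha hb _
      left
      rw [huniq a ha, huniq b hb]
    · intro v w hv hw hvw
      have hv' : v ≠ ω := fun e => hv (by rw [e, hxω])
      have hw' : w ≠ ω := fun e => hw (by rw [e, hxω])
      have := hC.2 ⟨v, hv'⟩ ⟨w, hw'⟩ ?_ ?_ ?_
      · rw [sameCycle_restr] at this
        exact this
      · intro e
        apply hv
        have := congrArg Subtype.val e
        rwa [restr_apply] at this
      · intro e
        apply hw
        have := congrArg Subtype.val e
        rwa [restr_apply] at this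
      · rw [mp_restr, mp_restr]
        exact hvw

end odd

section even

variable {α : Type u} [Fintype α] [DecidableEq α]

omit [Fintype α] [DecidableEq α] in
lemma mp_invol {ι x : Perm α} (hc : x ∈ Cent ι) (v : α) :
    Function.minimalPeriod x (ι v) = Function.minimalPeriod x v := by
  apply mp_eq_of_forall
  intro n
  rw [cent_apply (pow_mem hc n)]
  exact ι.injective.eq_iff

omit [DecidableEq α] in
lemma half_lemma {ι x : Perm α} (hι : FPF ι) (hc : x ∈ Cent ι) (v : α)
    (hs : SameCycle x v (ι v)) :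
    ∃ h : ℕ, Function.minimalPeriod x v = 2 * h ∧ (x ^ h) v = ι v := by
  obtain ⟨i, hi⟩ := hs.exists_nat_pow_eq
  have h2i : (x ^ (2 * i)) v = v := by
    rw [two_mul, pow_add, Perm.mul_apply, hi, cent_apply (pow_mem hc i), hi, invol_apply hι.sq]
  have hd2 : Function.minimalPeriod x v ∣ 2 * i := (pow_apply_eq_iff x _ v).mp h2i
  have hnd : ¬ Function.minimalPeriod x v ∣ i := by
    intro hd
    have := (pow_apply_eq_iff x i v).mpr hd
    rw [hi] at this
    exact hι.ne v this
  rcases Nat.even_or_odd' (Function.minimalPeriod x v) with ⟨h, hh | hh⟩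
  · refine ⟨h, hh, ?_⟩
    have hhi : h ∣ i := by
      rw [hh] at hd2
      exact (Nat.mul_dvd_mul_iff_left two_pos).mp hd2
    obtain ⟨j, rfl⟩ := hhi
    rcases Nat.even_or_odd' j with ⟨j', hj | hj⟩
    · exfalso
      apply hnd
      rw [hh, hj]
      exact ⟨j', by ring⟩
    · have e : h * j = h + Function.minimalPeriod x v * j' := by
        rw [hh, hj]
        ring
      rw [e, pow_add, Perm.mul_apply, (pow_apply_eq_iff x _ v).mpr (dvd_mul_right _ _)] at hi
      exact hi
  · exfalso
    apply hnd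
    have hcop : Nat.Coprime (Function.minimalPeriod x v) 2 := by
      rw [hh]
      simp
    exact hcop.dvd_of_dvd_mul_left hd2

omit [Fintype α] [DecidableEq α] in
lemma mp_bar {ι x : Perm α} (hι : FPF ι) (hc : x ∈ Cent ι) (v : α) (h : ℕ)
    (h1 : Function.minimalPeriod x v = 2 * h) (h2 : (x ^ h) v = ι v) :
    Function.minimalPeriod (piHom ι ⟨x, hc⟩) (pmk ι v) = h := by
  apply Nat.dvd_antisymm
  · rw [← pow_apply_eq_iff, piHom_pow_pmk]
    simp only
    rw [h2, pmk_invol]
  · have hk := (pow_apply_eq_iff (piHom ι ⟨x, hc⟩) _ (pmk ι v)).mpr dvd_rfl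
    rw [piHom_pow_pmk, eq_comm, pmk_eq_iff hι.sq] at hk
    simp only at hk
    set k := Function.minimalPeriod (piHom ι ⟨x, hc⟩) (pmk ι v) with hkdef
    have h2k : (x ^ (2 * k)) v = v := by
      rw [two_mul, pow_add, Perm.mul_apply]
      rcases hk with hk | hk
      · rw [hk, hk]
      · rw [hk, cent_apply (pow_mem hc k), hk, invol_apply hι.sq]
    have := (pow_apply_eq_iff x _ v).mp h2k
    rw [h1] at this
    exact (Nat.mul_dvd_mul_iff_left two_pos).mp this

omit [Fintype α] [DecidableEq α] in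
lemma bar_fixed_iff {ι x : Perm α} (hι : FPF ι) (hc : x ∈ Cent ι) (v : α) :
    piHom ι ⟨x, hc⟩ (pmk ι v) = pmk ι v ↔ x v = v ∨ x v = ι v := by
  rw [piHom_pmk, eq_comm, pmk_eq_iff hι.sq]

omit [DecidableEq α] in
lemma sameCycle_bar_of {ι x : Perm α} (hc : x ∈ Cent ι) {v w : α} (h : SameCycle x v w) :
    SameCycle (piHom ι ⟨x, hc⟩) (pmk ι v) (pmk ι w) := by
  obtain ⟨i, hi⟩ := h.exists_nat_pow_eq
  apply sameCycle_of_pow i
  rw [piHom_pow_pmk]
  simp only
  rw [hi]

omit [DecidableEq α] in
lemma sameCycle_of_bar {ι x : Perm α} (hι : FPF ι) (hc : x ∈ Cent ι) {v w : α}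
    (hw : SameCycle x w (ι w)) (h : SameCycle (piHom ι ⟨x, hc⟩) (pmk ι v) (pmk ι w)) :
    SameCycle x v w := by
  obtain ⟨i, hi⟩ := h.exists_nat_pow_eq
  rw [piHom_pow_pmk, pmk_eq_iff hι.sq] at hi
  simp only at hi
  rcases hi with hi | hi
  · exact sameCycle_of_pow i hi.symm
  · have h1 : SameCycle x v (ι w) := by
      apply sameCycle_of_pow i
      rw [hi, invol_apply hι.sq]
    exact h1.trans hw.symm

omit [Fintype α] [DecidableEq α] in
lemma fpf_conj {ι : Perm α} (hι : FPF ι) (g : Perm α) : FPF (g * ι * g⁻¹) := by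
  constructor
  · calc g * ι * g⁻¹ * (g * ι * g⁻¹) = g * (ι * ι) * g⁻¹ := by group
      _ = 1 := by rw [hι.sq]; group
  · intro v hv
    apply hι.ne (g⁻¹ v)
    apply g.injective
    have h1 : g (ι (g⁻¹ v)) = v := hv
    rw [h1]
    simp

omit [Fintype α] [DecidableEq α] in
lemma cent_conj_of_comm {ι x : Perm α} (hc : x ∈ Cent ι) (g : Perm α) (hg : g * x = x * g) :
    x ∈ Cent (g * ι * g⁻¹) := by
  rw [mem_cent] at hc ⊢
  have hg' : g⁻¹ * x = x * g⁻¹ := by
    calc g⁻¹ * x = g⁻¹ * (x * g) * g⁻¹ := by group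
      _ = g⁻¹ * (g * x) * g⁻¹ := by rw [hg]
      _ = x * g⁻¹ := by group
  calc x * (g * ι * g⁻¹) = (x * g) * ι * g⁻¹ := by group
    _ = (g * x) * ι * g⁻¹ := by rw [hg]
    _ = g * (x * ι) * g⁻¹ := by group
    _ = g * (ι * x) * g⁻¹ := by rw [hc]
    _ = g * ι * (x * g⁻¹) := by group
    _ = g * ι * (g⁻¹ * x) := by rw [hg']
    _ = g * ι * g⁻¹ * x := by group


omit [Fintype α] [DecidableEq α] in
lemma mp_eq_two {ι x : Perm α} (hι : FPF ι) (hc : x ∈ Cent ι) (a : α) (ha : x a = ι a) :
    Function.minimalPeriod x a = 2 := by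
  have h2 : (x ^ 2) a = a := by
    rw [pow_two, Perm.mul_apply, ha, cent_apply hc, ha, invol_apply hι.sq]
  have hd := (pow_apply_eq_iff x 2 a).mp h2
  have h1 : Function.minimalPeriod x a ≠ 1 := by
    rw [Ne, mp_eq_one_iff, ha]
    exact hι.ne a
  rcases (Nat.dvd_prime Nat.prime_two).mp hd with h | h
  · exact absurd h h1
  · exact h

theorem cond_even_mp (heven : Even (Fintype.card α)) (x : Perm α)
    (hx : ∃ k : ℕ, x ^ (2 ^ k) = 1) (hC : Cond x) :
    ∃ ι : Perm α, FPF ι ∧ ∃ hc : x ∈ Cent ι,
      (∀ ι' : Perm α, FPF ι' → x ∈ Cent ι' → ι' = ι) ∧ Cond (piHom ι ⟨x, hc⟩) := by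
  obtain ⟨P, hxP⟩ := exists_sylow_mem x hx
  obtain ⟨ι, hι, hcP⟩ := exists_fpf heven P
  have hc := hcP x hxP
  have key1 : ∀ ι' : Perm α, FPF ι' → x ∈ Cent ι' → ∀ v, x v ≠ v → SameCycle x v (ι' v) := by
    intro ι' hι' hc' v hv
    apply hC.2 v (ι' v) hv
    · rw [cent_apply hc']
      exact fun e => hv (ι'.injective e)
    · exact (mp_invol hc' v).symm
  refine ⟨ι, hι, hc, ?_, ?_, ?_⟩
  · intro ι' hι' hc'
    ext v
    by_cases hv : x v = v
    · have h1 : x (ι v) = ι v := by rw [cent_apply hc, hv]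
      have h2 : x (ι' v) = ι' v := by rw [cent_apply hc', hv]
      rcases hC.1 v (ι v) (ι' v) hv h1 h2 with h | h | h
      · exact absurd h.symm (hι.ne v)
      · exact absurd h.symm (hι'.ne v)
      · exact h.symm
    · obtain ⟨h, hh1, hh2⟩ := half_lemma hι hc v (key1 ι hι hc v hv)
      obtain ⟨h', hh1', hh2'⟩ := half_lemma hι' hc' v (key1 ι' hι' hc' v hv)
      have : h = h' := by omega
      rw [← hh2', ← this, hh2]
  · have T1 : ∀ a b, x a = a → x b = b → pmk ι a = pmk ι b := by
      intro a b ha hb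
      rw [pmk_eq_iff hι.sq]
      have h1 : x (ι a) = ι a := by rw [cent_apply hc, ha]
      rcases hC.1 a b (ι a) ha hb h1 with h | h | h
      · left
        exact h.symm
      · exact absurd h.symm (hι.ne a)
      · right
        exact h
    have T2 : ∀ a b, x a = ι a → x b = ι b → pmk ι a = pmk ι b := by
      intro a b ha hb
      have hma := mp_eq_two hι hc a ha
      have hmb := mp_eq_two hι hc b hb
      have ha' : x a ≠ a := by rw [ha]; exact hι.ne a
      have hb' : x b ≠ b := by rw [hb]; exact hι.ne b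
      have hs := sameCycle_bar_of hc (hC.2 a b ha' hb' (hma.trans hmb.symm))
      have hfix : Function.IsFixedPt (piHom ι ⟨x, hc⟩) (pmk ι a) :=
        (bar_fixed_iff hι hc a).mpr (Or.inr ha)
      exact hs.eq_of_left hfix
    intro c₁ c₂ c₃ h₁ h₂ h₃
    obtain ⟨a, rfl⟩ := pmk_surjective ι c₁
    obtain ⟨b, rfl⟩ := pmk_surjective ι c₂
    obtain ⟨c, rfl⟩ := pmk_surjective ι c₃
    rw [bar_fixed_iff hι hc] at h₁ h₂ h₃
    rcases h₁ with ha | ha <;> rcases h₂ with hb | hb <;> rcases h₃ with hc' | hc'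
    · exact Or.inl (T1 a b ha hb)
    · exact Or.inl (T1 a b ha hb)
    · exact Or.inr (Or.inl (T1 a c ha hc'))
    · exact Or.inr (Or.inr (T2 b c hb hc'))
    · exact Or.inr (Or.inr (T1 b c hb hc'))
    · exact Or.inr (Or.inl (T2 a c ha hc'))
    · exact Or.inl (T2 a b ha hb)
    · exact Or.inl (T2 a b ha hb)
  · intro c d hcne hdne hcd
    obtain ⟨v, rfl⟩ := pmk_surjective ι c
    obtain ⟨w, rfl⟩ := pmk_surjective ι d
    have hv : x v ≠ v := fun e => hcne ((bar_fixed_iff hι hc v).mpr (Or.inl e))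
    have hw : x w ≠ w := fun e => hdne ((bar_fixed_iff hι hc w).mpr (Or.inl e))
    obtain ⟨h, hh1, hh2⟩ := half_lemma hι hc v (key1 ι hι hc v hv)
    obtain ⟨h', hh1', hh2'⟩ := half_lemma hι hc w (key1 ι hι hc w hw)
    rw [mp_bar hι hc v h hh1 hh2, mp_bar hι hc w h' hh1' hh2'] at hcd
    apply sameCycle_bar_of hc
    apply hC.2 v w hv hw
    rw [hh1, hh1', hcd]

theorem cond_even_mpr (x : Perm α) (ι : Perm α) (hι : FPF ι) (hc : x ∈ Cent ι)
    (hu : ∀ ι' : Perm α, FPF ι' → x ∈ Cent ι' → ι' = ι) (hCb : Cond (piHom ι ⟨x, hc⟩)) :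
    Cond x := by
  have hcent : ∀ g : Perm α, g * x = x * g → g ∈ Cent ι := by
    intro g hg
    have := hu _ (fpf_conj hι g) (cent_conj_of_comm hc g hg)
    rw [mem_cent]
    calc g * ι = (g * ι * g⁻¹) * g := by group
      _ = ι * g := by rw [this]
  have hsc : ∀ u, x u ≠ u → SameCycle x u (ι u) := by
    intro u hu'
    by_contra hns
    have hmem : cycleOf x u ∈ cycleFactorsFinset x :=
      cycleOf_mem_cycleFactorsFinset_iff.mpr (mem_support.mpr hu')
    have hcomm : Commute (cycleOf x u) x := self_mem_cycle_factors_commute hmem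
    have hcc := hcent _ hcomm.eq
    have h1 := cent_apply hcc u
    rw [cycleOf_apply_self, cycleOf_apply_of_not_sameCycle hns] at h1
    exact hu' (ι.injective h1).symm
  refine ⟨?_, ?_⟩
  · intro a b c ha hb hc'
    by_contra hne
    push Not at hne
    obtain ⟨hab, hac, hbc⟩ := hne
    have hιa : x (ι a) = ι a := by rw [cent_apply hc, ha]
    obtain ⟨c', hc'1, hc'2, hc'3⟩ : ∃ c', x c' = c' ∧ c' ≠ a ∧ c' ≠ ι a := by
      by_cases hb' : b = ι a
      · exact ⟨c, hc', Ne.symm hac, fun e => hbc (hb'.trans e.symm)⟩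
      · exact ⟨b, hb, Ne.symm hab, hb'⟩
    have hg : swap (ι a) c' * x = x * swap (ι a) c' := by
      have := Equiv.mul_swap_eq_swap_mul x (ι a) c'
      rw [hιa, hc'1] at this
      exact this.symm
    have h1 := cent_apply (hcent _ hg) a
    rw [Equiv.swap_apply_left,
      Equiv.swap_apply_of_ne_of_ne (Ne.symm (hι.ne a)) (Ne.symm hc'2)] at h1
    exact hc'3 h1
  · intro v w hv hw hvw
    by_contra hns
    obtain ⟨h, hh1, hh2⟩ := half_lemma hι hc v (hsc v hv)
    obtain ⟨h', hh1', hh2'⟩ := half_lemma hι hc w (hsc w hw)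
    have hhh : h' = h := by omega
    subst hhh
    have hb1 := mp_bar hι hc v h' hh1 hh2
    have hb2 := mp_bar hι hc w h' hh1' hh2'
    by_cases h1 : h' = 1
    · subst h1
      rw [pow_one] at hh2 hh2'
      have xxv : x (x v) = v := by rw [hh2, cent_apply hc, hh2, invol_apply hι.sq]
      have xxw : x (x w) = w := by rw [hh2', cent_apply hc, hh2', invol_apply hι.sq]
      have hvw' : v ≠ w := fun e => hns (e ▸ SameCycle.refl x v)
      have hxvw : x v ≠ w := fun e => hns (sameCycle_of_pow 1 (by rw [pow_one]; exact e))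
      have hvxw : v ≠ x w := fun e =>
        hns (sameCycle_of_pow 1 (by rw [pow_one]; exact e.symm) : SameCycle x w v).symm
      have hxvxw : x w ≠ x v := fun e => hvw' (x.injective e).symm
      have e0 : x * ι = ι * x := mem_cent.mp hc
      have e1 : x * swap (x v) w = swap v (x w) * x := by
        have := Equiv.mul_swap_eq_swap_mul x (x v) w
        rwa [xxv] at this
      have hιxv : ι (x v) = v := by rw [hh2, invol_apply hι.sq]
      have hιxw : ι (x w) = w := by rw [hh2', invol_apply hι.sq]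
      have e3 : ι * swap (x v) w = swap v (x w) * ι := by
        have := Equiv.mul_swap_eq_swap_mul ι (x v) w
        rwa [hιxv, ← hh2'] at this
      have e4 : ι * swap v (x w) = swap (x v) w * ι := by
        have := Equiv.mul_swap_eq_swap_mul ι v (x w)
        rwa [hιxw, ← hh2] at this
      have e5 : swap v (x w) * swap (x v) w = swap (x v) w * swap v (x w) :=
        swap_comm_of_disjoint hvxw hxvw (Ne.symm hv) hvw' hxvxw hw
      have hfpf : FPF (swap (x v) w * ι * swap (x v) w) := by
        have := fpf_conj hι (swap (x v) w)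
        rwa [Equiv.swap_inv] at this
      have hcc : x ∈ Cent (swap (x v) w * ι * swap (x v) w) := by
        rw [mem_cent]
        calc x * (swap (x v) w * ι * swap (x v) w)
            = x * swap (x v) w * ι * swap (x v) w := by simp only [mul_assoc]
          _ = swap v (x w) * x * ι * swap (x v) w := by rw [e1]
          _ = swap v (x w) * (x * ι) * swap (x v) w := by simp only [mul_assoc]
          _ = swap v (x w) * (ι * x) * swap (x v) w := by rw [e0]
          _ = swap v (x w) * ι * (x * swap (x v) w) := by simp only [mul_assoc]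
          _ = swap v (x w) * ι * (swap v (x w) * x) := by rw [e1]
          _ = swap v (x w) * (ι * swap v (x w)) * x := by simp only [mul_assoc]
          _ = swap v (x w) * (swap (x v) w * ι) * x := by rw [e4]
          _ = (swap v (x w) * swap (x v) w) * ι * x := by simp only [mul_assoc]
          _ = (swap (x v) w * swap v (x w)) * ι * x := by rw [e5]
          _ = swap (x v) w * (swap v (x w) * ι) * x := by simp only [mul_assoc]
          _ = swap (x v) w * (ι * swap (x v) w) * x := by rw [e3]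
          _ = swap (x v) w * ι * swap (x v) w * x := by simp only [mul_assoc]
      have heq := hu _ hfpf hcc
      have h2 := congrArg (fun e : Perm α => e v) heq
      simp only [Perm.mul_apply] at h2
      rw [Equiv.swap_apply_of_ne_of_ne (Ne.symm hv) hvw', ← hh2, Equiv.swap_apply_left] at h2
      exact hxvw h2.symm
    · apply hns
      apply sameCycle_of_bar hι hc (hsc w hw)
      apply hCb.2
      · intro e
        apply h1
        rw [← hb1]
        exact (mp_eq_one_iff _ _).mpr e
      · intro e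
        apply h1
        rw [← hb2]
        exact (mp_eq_one_iff _ _).mpr e
      · rw [hb1, hb2]

theorem cond_even (heven : Even (Fintype.card α)) (x : Perm α) (hx : ∃ k : ℕ, x ^ (2 ^ k) = 1) :
    Cond x ↔ ∃ ι : Perm α, FPF ι ∧ ∃ hc : x ∈ Cent ι,
      (∀ ι' : Perm α, FPF ι' → x ∈ Cent ι' → ι' = ι) ∧ Cond (piHom ι ⟨x, hc⟩) :=
  ⟨cond_even_mp heven x hx, fun ⟨ι, hι, hc, hu, hCb⟩ => cond_even_mpr x ι hι hc hu hCb⟩

end even

end Cfsg.Agent.Lib.Helper44.UniqSyl
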