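import Mathlib
import Cfsg.Agent.Lib.Helper44.UniqSylC

set_option autoImplicit false

/-! A 2-element of a finite symmetric group lies in a unique Sylow 2-subgroup if and only if it
has at most two fixed points and nontrivial cycles of pairwise different lengths. -/

namespace Cfsg.Agent.Lib.Helper44.UniqSyl

open Equiv Equiv.Perm
open Cfsg.Agent.Lib.Helper44.SylMax

universe u

lemma piHom_pow_two {α : Type u} {ι x : Perm α} (hc : x ∈ Cent ι)
    (hx : ∃ k : ℕ, x ^ (2 ^ k) = 1) : ∃ k : ℕ, (piHom ι ⟨x, hc⟩) ^ (2 ^ k) = 1 := by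
  obtain ⟨k, hk⟩ := hx
  refine ⟨k, ?_⟩
  rw [← map_pow]
  have : (⟨x, hc⟩ : Cent ι) ^ (2 ^ k) = 1 := by
    ext1
    simp only [Subgroup.coe_pow, Subgroup.coe_one]
    exact hk
  rw [this, map_one]

lemma card_PQ_lt {α : Type u} [Finite α] [Nonempty α] {ι : Perm α} (hι : FPF ι) :
    Nat.card (PQ ι) < Nat.card α := by
  classical
  have := Fintype.ofFinite α
  have := Fintype.ofFinite (PQ ι)
  rw [Nat.card_eq_fintype_card, Nat.card_eq_fintype_card]
  apply Fintype.card_lt_of_surjective_not_injective (pmk ι) (pmk_surjective ι)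
  intro hinj
  obtain ⟨v⟩ : Nonempty α := inferInstance
  exact hι.ne v (hinj (pmk_invol ι v))

theorem uniq_iff_cond_aux : ∀ (n : ℕ) {α : Type u} [Finite α], Nat.card α = n →
    ∀ x : Perm α, (∃ k : ℕ, x ^ (2 ^ k) = 1) → (Uniq x ↔ Cond x) := by
  intro n
  induction n using Nat.strong_induction_on with
  | _ n IH =>
    intro α _ hcard x hx
    classical
    have := Fintype.ofFinite α
    by_cases hsub : Nat.card α ≤ 1
    · have : Subsingleton α := Finite.card_le_one_iff_subsingleton.mp hsub
      exact ⟨fun _ => cond_of_subsingleton x, fun _ => uniq_of_subsingleton x⟩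
    · have hne : Nonempty α := by
        rw [← Finite.card_pos_iff]
        omega
      rcases Nat.even_or_odd (Fintype.card α) with heven | hodd
      · rw [uniq_even heven x hx, cond_even heven x hx]
        constructor
        · rintro ⟨ι, hι, hc, hu, h⟩
          refine ⟨ι, hι, hc, hu, ?_⟩
          exact (IH _ (hcard ▸ card_PQ_lt hι) rfl _ (piHom_pow_two hc hx)).mp h
        · rintro ⟨ι, hι, hc, hu, h⟩
          refine ⟨ι, hι, hc, hu, ?_⟩
          exact (IH _ (hcard ▸ card_PQ_lt hι) rfl _ (piHom_pow_two hc hx)).mpr h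
      · rw [uniq_odd hodd x hx, cond_odd hodd x hx]
        have hlt : ∀ ω : α, Nat.card (Del ω) < n := by
          intro ω
          rw [← hcard, Nat.card_eq_fintype_card, Nat.card_eq_fintype_card, card_del ω]
          exact Nat.lt_succ_self _
        constructor
        · rintro ⟨ω, hω, hu, h⟩
          refine ⟨ω, hω, hu, ?_⟩
          exact (IH _ (hlt ω) rfl _ (restr_pow_two x ω hω hx)).mp h
        · rintro ⟨ω, hω, hu, h⟩
          refine ⟨ω, hω, hu, ?_⟩
          exact (IH _ (hlt ω) rfl _ (restr_pow_two x ω hω hx)).mpr h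

/-- the abstract form of the criterion -/
theorem uniq_iff_cond {α : Type u} [Finite α] (x : Perm α) (hx : ∃ k : ℕ, x ^ (2 ^ k) = 1) :
    Uniq x ↔ Cond x :=
  uniq_iff_cond_aux _ rfl x hx

section translate

variable {α : Type u} [Fintype α] [DecidableEq α]

lemma card_support_cycleOf (x : Perm α) (v : α) (hv : x v ≠ v) :
    (cycleOf x v).support.card = Function.minimalPeriod x v := by
  have hc : IsCycle (cycleOf x v) := isCycle_cycleOf x hv
  have hv' : cycleOf x v v ≠ v := by rwa [cycleOf_apply_self]
  rw [← hc.orderOf]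
  apply Nat.dvd_antisymm
  · rw [orderOf_dvd_iff_pow_eq_one, hc.pow_eq_one_iff' hv', cycleOf_pow_apply_self,
      pow_apply_eq_iff]
  · rw [← pow_apply_eq_iff, ← cycleOf_pow_apply_self, pow_orderOf_eq_one]
    rfl

lemma fixed_iff (x : Perm α) :
    (∀ a b c : α, x a = a → x b = b → x c = c → a = b ∨ a = c ∨ b = c) ↔
      Fintype.card α ≤ x.support.card + 2 := by
  have h1 : (x.supportᶜ).card = Fintype.card α - x.support.card := Finset.card_compl _
  have h2 : x.support.card ≤ Fintype.card α := Finset.card_le_univ _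
  have h3 : Fintype.card α ≤ x.support.card + 2 ↔ ¬ 2 < (x.supportᶜ).card := by omega
  rw [h3, Finset.two_lt_card]
  have hm : ∀ a, a ∈ x.supportᶜ ↔ x a = a := fun a => by
    rw [Finset.mem_compl, Equiv.Perm.notMem_support]
  constructor
  · rintro h ⟨a, ha, b, hb, c, hc, hab, hac, hbc⟩
    rcases h a b c ((hm a).mp ha) ((hm b).mp hb) ((hm c).mp hc) with e | e | e
    · exact hab e
    · exact hac e
    · exact hbc e
  · intro h a b c ha hb hc
    by_contra hne
    push Not at hne
    exact h ⟨a, (hm a).mpr ha, b, (hm b).mpr hb, c, (hm c).mpr hc, hne.1, hne.2.1, hne.2.2⟩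

lemma cycles_iff (x : Perm α) :
    (∀ v w : α, x v ≠ v → x w ≠ w →
      Function.minimalPeriod x v = Function.minimalPeriod x w → SameCycle x v w) ↔
      x.cycleType.Nodup := by
  rw [cycleType_def, Multiset.nodup_map_iff_inj_on x.cycleFactorsFinset.nodup]
  constructor
  · intro h c hc d hd hcd
    rw [Finset.mem_val] at hc hd
    obtain ⟨v, hv⟩ := (mem_cycleFactorsFinset_iff.mp hc).1.nonempty_support
    obtain ⟨w, hw⟩ := (mem_cycleFactorsFinset_iff.mp hd).1.nonempty_support
    have hv' : x v ≠ v := mem_support.mp (mem_cycleFactorsFinset_support_le hc hv)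
    have hw' : x w ≠ w := mem_support.mp (mem_cycleFactorsFinset_support_le hd hw)
    have ec := cycle_is_cycleOf hv hc
    have ed := cycle_is_cycleOf hw hd
    rw [ec, ed]
    apply SameCycle.cycleOf_eq
    apply h v w hv' hw'
    rw [← card_support_cycleOf x v hv', ← card_support_cycleOf x w hw', ← ec, ← ed]
    exact hcd
  · intro h v w hv hw hvw
    rw [sameCycle_iff_cycleOf_eq_of_mem_support (mem_support.mpr hv) (mem_support.mpr hw)]
    apply h
    · exact cycleOf_mem_cycleFactorsFinset_iff.mpr (mem_support.mpr hv)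
    · exact cycleOf_mem_cycleFactorsFinset_iff.mpr (mem_support.mpr hw)
    · simp only [Function.comp_apply]
      rw [card_support_cycleOf x v hv, card_support_cycleOf x w hw, hvw]

theorem cond_iff (x : Perm α) :
    Cond x ↔ Fintype.card α ≤ x.support.card + 2 ∧ x.cycleType.Nodup := by
  unfold Cond
  rw [fixed_iff, cycles_iff]

/-- a 2-element of a finite symmetric group lies in exactly one Sylow 2-subgroup iff it has at
most two fixed points and its cycle type has no repetition -/
theorem uniq_iff (x : Perm α) (hx : ∃ k : ℕ, orderOf x = 2 ^ k) :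
    (∃! P : Sylow 2 (Perm α), x ∈ P) ↔
      Fintype.card α ≤ x.support.card + 2 ∧ x.cycleType.Nodup := by
  rw [← cond_iff]
  apply uniq_iff_cond
  obtain ⟨k, hk⟩ := hx
  exact ⟨k, by rw [← hk, pow_orderOf_eq_one]⟩

end translate

end Cfsg.Agent.Lib.Helper44.UniqSyl
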