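import Mathlib
import Cfsg.Agent.Lib.Helper44.SymDerived

set_option autoImplicit false

/-! Lower and upper bounds for the derived length of wreath-type subgroups `S ≀ T`. -/

namespace Cfsg.Agent.Lib.Helper44

open Equiv
open scoped commutatorElement

section dser2

variable {G : Type*} [Group G]

lemma dser_add (T : Subgroup G) (a b : ℕ) : dser T (a + b) = dser (dser T a) b := by
  induction b with
  | zero => rfl
  | succ b ih => rw [← add_assoc, dser_succ, ih, dser_succ]

lemma dser_pi_le {η : Type*} [Finite η] {Gs : η → Type*} [∀ i, Group (Gs i)]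
    (S : ∀ i, Subgroup (Gs i)) (j : ℕ) :
    dser (Subgroup.pi Set.univ S) j ≤ Subgroup.pi Set.univ (fun i => dser (S i) j) := by
  induction j with
  | zero => exact le_rfl
  | succ j ih =>
    rw [dser_succ]
    exact (Subgroup.commutator_mono ih ih).trans (Subgroup.commutator_pi_pi_le _ _)

end dser2

section upper

variable {H : Type*} [Group H] (n : ℕ)

lemma dser_wrSub_add_eq_bot (S : Subgroup H) (T : Subgroup (Perm (Fin n))) (d e : ℕ)
    (hT : dser T d = ⊥) (hS : dser S e = ⊥) : dser (wrSub n S T) (d + e) = ⊥ := by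
  rw [dser_add]
  have h1 : dser (wrSub n S T) d ≤
      (Subgroup.pi Set.univ (fun _ : Fin n => S)).map
        (SemidirectProduct.inl : _ →* (Fin n → H) ⋊[permAut n H] Perm (Fin n)) := by
    intro x hx
    have hr : x.right = 1 := by
      have h2 : SemidirectProduct.rightHom x ∈
          (dser (wrSub n S T) d).map SemidirectProduct.rightHom :=
        Subgroup.mem_map_of_mem _ hx
      rw [dser_map] at h2
      have hle : (wrSub n S T).map SemidirectProduct.rightHom ≤ T := by
        rintro _ ⟨y, hy, rfl⟩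
        exact hy.2
      have h3 := dser_mono hle d h2
      rw [hT, Subgroup.mem_bot] at h3
      exact h3
    have hl : ∀ i, x.left i ∈ S := (dser_le _ d hx).1
    refine ⟨x.left, ?_, ?_⟩
    · rw [SetLike.mem_coe, Subgroup.mem_pi]
      intro i _
      exact hl i
    · ext1
      · rfl
      · rw [SemidirectProduct.right_inl, hr]
  rw [eq_bot_iff]
  refine (dser_mono h1 e).trans ?_
  rw [← dser_map]
  have h2 : dser (Subgroup.pi Set.univ (fun _ : Fin n => S)) e = ⊥ := by
    rw [eq_bot_iff]
    refine (dser_pi_le _ e).trans ?_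
    rw [hS, Subgroup.pi_bot]
  rw [h2, Subgroup.map_bot]

end upper

section reach

/-- `Reach T i₀ j X`: one can reach the set `X` from `i₀` in `j` steps using elements of the
successive derived subgroups of `T`, never returning to `i₀`. -/
inductive Reach {N : ℕ} (T : Subgroup (Perm (Fin N))) (i₀ : Fin N) :
    ℕ → Finset (Fin N) → Prop
  | zero : Reach T i₀ 0 {i₀}
  | step {j : ℕ} {X : Finset (Fin N)} (c : Perm (Fin N)) :
      Reach T i₀ j X → c ∈ dser T j → c⁻¹ i₀ ∉ X → Reach T i₀ (j + 1) (X ∪ X.image c)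

variable {N : ℕ}

lemma Reach.exists_fun {T : Subgroup (Perm (Fin N))} {i₀ : Fin N} {j : ℕ} {X : Finset (Fin N)}
    (h : Reach T i₀ j X) {H : Type*} [Group H] (S : Subgroup H) (s : H) (hs : s ∈ S) :
    ∃ f : Fin N → H, f i₀ = s ∧ (∀ i, i ∉ X → f i = 1) ∧
      (SemidirectProduct.inl f : (Fin N → H) ⋊[permAut N H] Perm (Fin N)) ∈
        dser (wrSub N S T) j := by
  classical
  induction h with
  | zero =>
    refine ⟨Pi.mulSingle i₀ s, Pi.mulSingle_eq_same _ _, ?_, ?_⟩
    · intro i hi
      rw [Finset.mem_singleton] at hi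
      exact Pi.mulSingle_eq_of_ne hi _
    · rw [dser_zero]
      refine ⟨fun i => ?_, ?_⟩
      · rw [SemidirectProduct.left_inl, Pi.mulSingle_apply]
        split_ifs
        · exact hs
        · exact S.one_mem
      · rw [SemidirectProduct.right_inl]; exact T.one_mem
  | @step j X c _ hc hci ih =>
    obtain ⟨f, hf0, hfX, hfW⟩ := ih
    refine ⟨f * (permAut N H c f)⁻¹, ?_, ?_, ?_⟩
    · rw [Pi.mul_apply, Pi.inv_apply, permAut_apply, hfX _ hci, inv_one, mul_one, hf0]
    · intro i hi
      rw [Finset.mem_union, not_or] at hi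
      have h2 : c⁻¹ i ∉ X := by
        intro hmem
        apply hi.2
        rw [Finset.mem_image]
        exact ⟨c⁻¹ i, hmem, by simp⟩
      rw [Pi.mul_apply, Pi.inv_apply, permAut_apply, hfX i hi.1, hfX _ h2, inv_one, mul_one]
    · have hcW : (SemidirectProduct.inr c : (Fin N → H) ⋊[permAut N H] Perm (Fin N)) ∈
          dser (wrSub N S T) j := by
        have hle : (dser T j).map
            (SemidirectProduct.inr : _ →* (Fin N → H) ⋊[permAut N H] Perm (Fin N)) ≤
            dser (wrSub N S T) j := by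
          rw [dser_map]
          apply dser_mono
          rintro _ ⟨t, ht, rfl⟩
          refine ⟨fun i => ?_, ?_⟩
          · rw [SemidirectProduct.left_inr]; exact S.one_mem
          · rw [SemidirectProduct.right_inr]; exact ht
        exact hle (Subgroup.mem_map_of_mem _ hc)
      have e : (SemidirectProduct.inl (f * (permAut N H c f)⁻¹) :
          (Fin N → H) ⋊[permAut N H] Perm (Fin N)) =
          ⁅(SemidirectProduct.inl f : (Fin N → H) ⋊[permAut N H] Perm (Fin N)),
            SemidirectProduct.inr c⁆ := by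
        rw [commutatorElement_def, map_mul, map_inv, SemidirectProduct.inl_aut, map_inv]
        group
      rw [e, dser_succ]
      exact Subgroup.commutator_mem_commutator hfW hcW

lemma Reach.mono {T T' : Subgroup (Perm (Fin N))} (hTT : T ≤ T') {i₀ : Fin N} {j : ℕ}
    {X : Finset (Fin N)} (h : Reach T i₀ j X) : Reach T' i₀ j X := by
  induction h with
  | zero => exact Reach.zero
  | step c _ hc hci ih => exact Reach.step c ih (dser_mono hTT _ hc) hci

lemma Reach.map {M : ℕ} {T : Subgroup (Perm (Fin N))} {i₀ : Fin N} {j : ℕ}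
    {X : Finset (Fin N)} (h : Reach T i₀ j X) (φ : Perm (Fin N) →* Perm (Fin M))
    (ι : Fin N ↪ Fin M) (hφ : ∀ c x, φ c (ι x) = ι (c x)) :
    Reach (T.map φ) (ι i₀) j (X.map ι) := by
  classical
  induction h with
  | zero =>
    rw [Finset.map_singleton]
    exact Reach.zero
  | @step j X c _ hc hci ih =>
    have e : (X ∪ X.image c).map ι = X.map ι ∪ (X.map ι).image (φ c) := by
      rw [Finset.map_union, Finset.map_eq_image, Finset.map_eq_image, Finset.image_image,
        Finset.image_image]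
      congr 1
      apply Finset.image_congr
      intro x _
      exact (hφ c x).symm
    rw [e]
    apply Reach.step (φ c) ih
    · rw [← dser_map]
      exact Subgroup.mem_map_of_mem _ hc
    · have h1 : (φ c)⁻¹ (ι i₀) = ι (c⁻¹ i₀) := by
        rw [Perm.inv_eq_iff_eq, hφ]
        simp
      rw [h1, Finset.mem_map' ι]
      exact hci

lemma Reach.lift {T : Subgroup (Perm (Fin N))} {i₀ : Fin N} {k : ℕ} {X : Finset (Fin N)}
    (h : Reach T i₀ k X) :
    ∃ X', Reach ((wrSub N (⊤ : Subgroup (Perm (Fin 2))) T).map (wrFin N 2))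
      (finProdFinEquiv (i₀, (0 : Fin 2))) (k + 1) X' := by
  classical
  set ι : Fin N ↪ Fin (N * 2) :=
    ⟨fun x => finProdFinEquiv (x, (0 : Fin 2)), by
      intro x y hxy
      have := finProdFinEquiv.injective hxy
      exact (Prod.mk.inj this).1⟩ with hι
  set φ : Perm (Fin N) →* Perm (Fin (N * 2)) :=
    (wrFin N 2).comp SemidirectProduct.inr with hφdef
  have hφ : ∀ c x, φ c (ι x) = ι (c x) := by
    intro c x
    change (finProdFinEquiv (m := N) (n := 2)).permCongr (wrPermK N 2 (SemidirectProduct.inr c))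
      (finProdFinEquiv (x, (0 : Fin 2))) = finProdFinEquiv (c x, (0 : Fin 2))
    rw [Equiv.permCongr_apply, Equiv.symm_apply_apply, wrPermK_apply]
    simp
  have hle : T.map φ ≤ (wrSub N (⊤ : Subgroup (Perm (Fin 2))) T).map (wrFin N 2) := by
    rw [hφdef, ← Subgroup.map_map]
    apply Subgroup.map_mono
    rintro _ ⟨t, ht, rfl⟩
    refine ⟨fun i => Subgroup.mem_top _, ?_⟩
    rw [SemidirectProduct.right_inr]; exact ht
  have h1 := (h.map φ ι hφ).mono hle
  obtain ⟨f, hf0, hfX, hfW⟩ :=
    h.exists_fun (⊤ : Subgroup (Perm (Fin 2))) (Equiv.swap 0 1) (Subgroup.mem_top _)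
  have hc' : wrFin N 2 (SemidirectProduct.inl f) ∈
      dser ((wrSub N (⊤ : Subgroup (Perm (Fin 2))) T).map (wrFin N 2)) k := by
    rw [← dser_map]
    exact Subgroup.mem_map_of_mem _ hfW
  refine ⟨_, Reach.step _ h1 hc' ?_⟩
  have h2 : (wrFin N 2 (SemidirectProduct.inl f))⁻¹ (ι i₀) =
      finProdFinEquiv (i₀, (1 : Fin 2)) := by
    rw [← map_inv, ← map_inv]
    change (finProdFinEquiv (m := N) (n := 2)).permCongr
      (wrPermK N 2 (SemidirectProduct.inl f⁻¹)) (finProdFinEquiv (i₀, (0 : Fin 2))) = _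
    rw [Equiv.permCongr_apply, Equiv.symm_apply_apply, wrPermK_apply]
    simp only [SemidirectProduct.left_inl, SemidirectProduct.right_inl, map_one, mul_one,
      basePermK_apply, Pi.inv_apply, hf0]
    congr 1
  rw [show (wrFin N 2 (SemidirectProduct.inl f))⁻¹ (finProdFinEquiv (i₀, (0 : Fin 2))) =
    finProdFinEquiv (i₀, (1 : Fin 2)) from h2, Finset.mem_map]
  rintro ⟨x, _, hx⟩
  have := finProdFinEquiv.injective hx
  have h3 := (Prod.mk.inj this).2
  exact absurd h3 (by decide)

lemma exists_reach_pow : ∀ k N : ℕ, N = 2 ^ k →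
    ∃ (T : Subgroup (Perm (Fin N))) (i₀ : Fin N) (X : Finset (Fin N)),
      IsPGroup 2 T ∧ Reach T i₀ k X := by
  intro k
  induction k with
  | zero =>
    intro N hN
    rw [pow_zero] at hN
    subst hN
    exact ⟨⊥, 0, {0}, IsPGroup.of_bot, Reach.zero⟩
  | succ k ih =>
    intro N hN
    obtain ⟨T, i₀, X, hT, hR⟩ := ih (2 ^ k) rfl
    have hN' : N = 2 ^ k * 2 := by rw [hN, pow_succ]
    subst hN'
    obtain ⟨X', hX'⟩ := hR.lift
    refine ⟨_, _, X', ?_, hX'⟩
    obtain ⟨a, ha⟩ := hT.exists_card_eq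
    apply IsPGroup.of_card (n := 2 ^ k + a)
    rw [Subgroup.card_map_of_injective (wrFin_injective (2 ^ k) 2), card_wrSub, ha,
      Subgroup.card_top, Nat.card_perm, pow_add]
    simp

theorem exists_two_subgroup_reach (n : ℕ) (hn : n ≠ 0) :
    ∃ (T : Subgroup (Perm (Fin n))) (i₀ : Fin n) (X : Finset (Fin n)),
      IsPGroup 2 T ∧ Reach T i₀ (Nat.log 2 n) X := by
  classical
  obtain ⟨T, i₀, X, hT, hR⟩ := exists_reach_pow (Nat.log 2 n) (2 ^ Nat.log 2 n) rfl
  have hle : 2 ^ Nat.log 2 n ≤ n := Nat.pow_log_le_self 2 hn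
  set ι : Fin (2 ^ Nat.log 2 n) ↪ Fin n := Fin.castLEEmb hle with hι
  refine ⟨T.map (Perm.viaEmbeddingHom ι), ι i₀, X.map ι, hT.map _, ?_⟩
  apply hR.map (Perm.viaEmbeddingHom ι) ι
  intro c x
  exact Perm.viaEmbedding_apply c ι x

lemma Reach.dser_wrSub_ne_bot {T : Subgroup (Perm (Fin N))} {i₀ : Fin N} {k : ℕ}
    {X : Finset (Fin N)} (h : Reach T i₀ k X) {H : Type*} [Group H] (S : Subgroup H)
    (a b : H) (ha : a ∈ S) (hb : b ∈ S) (hab : a * b ≠ b * a) :
    dser (wrSub N S T) (k + 1) ≠ ⊥ := by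
  obtain ⟨fa, hfa, _, hfaW⟩ := h.exists_fun S a ha
  obtain ⟨fb, hfb, _, hfbW⟩ := h.exists_fun S b hb
  intro hbot
  have h1 : ⁅(SemidirectProduct.inl fa : (Fin N → H) ⋊[permAut N H] Perm (Fin N)),
      SemidirectProduct.inl fb⁆ ∈ dser (wrSub N S T) (k + 1) := by
    rw [dser_succ]
    exact Subgroup.commutator_mem_commutator hfaW hfbW
  rw [hbot, Subgroup.mem_bot, ← map_commutatorElement] at h1
  have h2 : ⁅fa, fb⁆ = 1 := SemidirectProduct.inl_injective (by rw [h1, map_one])
  have h3 : ⁅a, b⁆ = 1 := by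
    have := congrFun h2 i₀
    rw [commutatorElement_def] at this ⊢
    simpa [hfa, hfb] using this
  exact hab (commutatorElement_eq_one_iff_mul_comm.mp h3)

end reach

end Cfsg.Agent.Lib.Helper44
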