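import Mathlib
import Cfsg.Agent.Lib.Helper44.WreathReach

set_option autoImplicit false

/-! `Reach` for an odd (or any) prime `p`: iterated wreath products of `C_p`. -/

namespace Cfsg.Agent.Lib.Helper44

open Equiv
open scoped commutatorElement

section reachp

variable {N : ℕ}

lemma Reach.liftP {p : ℕ} {T : Subgroup (Perm (Fin N))} {i₀ : Fin N} {k : ℕ}
    {X : Finset (Fin N)} (h : Reach T i₀ k X) (c₀ : Perm (Fin p)) (j₀ : Fin p)
    (hc₀ : c₀⁻¹ j₀ ≠ j₀) :
    ∃ X', Reach ((wrSub N (Subgroup.zpowers c₀) T).map (wrFin N p))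
      (finProdFinEquiv (i₀, j₀)) (k + 1) X' := by
  classical
  set ι : Fin N ↪ Fin (N * p) :=
    ⟨fun x => finProdFinEquiv (x, j₀), by
      intro x y hxy
      have := finProdFinEquiv.injective hxy
      exact (Prod.mk.inj this).1⟩ with hι
  set φ : Perm (Fin N) →* Perm (Fin (N * p)) :=
    (wrFin N p).comp SemidirectProduct.inr with hφdef
  have hφ : ∀ c x, φ c (ι x) = ι (c x) := by
    intro c x
    change (finProdFinEquiv (m := N) (n := p)).permCongr (wrPermK N p (SemidirectProduct.inr c))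
      (finProdFinEquiv (x, j₀)) = finProdFinEquiv (c x, j₀)
    rw [Equiv.permCongr_apply, Equiv.symm_apply_apply, wrPermK_apply]
    simp
  have hle : T.map φ ≤ (wrSub N (Subgroup.zpowers c₀) T).map (wrFin N p) := by
    rw [hφdef, ← Subgroup.map_map]
    apply Subgroup.map_mono
    rintro _ ⟨t, ht, rfl⟩
    refine ⟨fun i => ?_, ?_⟩
    · rw [SemidirectProduct.left_inr]; exact Subgroup.one_mem _
    · rw [SemidirectProduct.right_inr]; exact ht
  have h1 := (h.map φ ι hφ).mono hle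
  obtain ⟨f, hf0, hfX, hfW⟩ :=
    h.exists_fun (Subgroup.zpowers c₀) c₀ (Subgroup.mem_zpowers c₀)
  have hc' : wrFin N p (SemidirectProduct.inl f) ∈
      dser ((wrSub N (Subgroup.zpowers c₀) T).map (wrFin N p)) k := by
    rw [← dser_map]
    exact Subgroup.mem_map_of_mem _ hfW
  refine ⟨_, Reach.step _ h1 hc' ?_⟩
  have h2 : (wrFin N p (SemidirectProduct.inl f))⁻¹ (finProdFinEquiv (i₀, j₀)) =
      finProdFinEquiv (i₀, c₀⁻¹ j₀) := by
    rw [← map_inv, ← map_inv]
    change (finProdFinEquiv (m := N) (n := p)).permCongr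
      (wrPermK N p (SemidirectProduct.inl f⁻¹)) (finProdFinEquiv (i₀, j₀)) = _
    rw [Equiv.permCongr_apply, Equiv.symm_apply_apply, wrPermK_apply]
    simp only [SemidirectProduct.left_inl, SemidirectProduct.right_inl, map_one, mul_one,
      basePermK_apply, Pi.inv_apply, hf0]
  rw [h2, Finset.mem_map]
  rintro ⟨x, _, hx⟩
  have := finProdFinEquiv.injective hx
  exact hc₀ (Prod.mk.inj this).2.symm

lemma exists_reach_pow_p (p : ℕ) [hp : Fact p.Prime] : ∀ k N : ℕ, N = p ^ k →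
    ∃ (T : Subgroup (Perm (Fin N))) (i₀ : Fin N) (X : Finset (Fin N)),
      IsPGroup p T ∧ Reach T i₀ k X := by
  classical
  obtain ⟨c, hc0⟩ := exists_prime_orderOf_dvd_card (G := Perm (Fin p)) p (by
    rw [Fintype.card_perm, Fintype.card_fin]
    exact Nat.dvd_factorial hp.out.pos le_rfl)
  have hc1 : c ≠ 1 := by
    rintro rfl
    rw [orderOf_one] at hc0
    exact hp.out.one_lt.ne hc0
  obtain ⟨j₀, hj₀⟩ : ∃ j₀, c⁻¹ j₀ ≠ j₀ := by
    by_contra hcon
    push Not at hcon
    apply hc1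
    have : c⁻¹ = 1 := Equiv.ext hcon
    rwa [inv_eq_one] at this
  have hCcard : Nat.card (Subgroup.zpowers c) = p := by rw [Nat.card_zpowers, hc0]
  intro k
  induction k with
  | zero =>
    intro N hN
    rw [pow_zero] at hN
    subst hN
    exact ⟨⊥, 0, {0}, IsPGroup.of_bot, Reach.zero⟩
  | succ k ih =>
    intro N hN
    obtain ⟨T, i₀, X, hT, hR⟩ := ih (p ^ k) rfl
    have hN' : N = p ^ k * p := by rw [hN, pow_succ]
    subst hN'
    obtain ⟨X', hX'⟩ := hR.liftP c j₀ hj₀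
    refine ⟨_, _, X', ?_, hX'⟩
    obtain ⟨a, ha⟩ := hT.exists_card_eq
    have : NeZero p := ⟨hp.out.ne_zero⟩
    apply IsPGroup.of_card (n := p ^ k + a)
    rw [Subgroup.card_map_of_injective (wrFin_injective (p ^ k) p), card_wrSub, ha, hCcard,
      pow_add]

theorem exists_p_subgroup_reach (p : ℕ) [hp : Fact p.Prime] (n : ℕ) (hn : n ≠ 0) :
    ∃ (T : Subgroup (Perm (Fin n))) (i₀ : Fin n) (X : Finset (Fin n)),
      IsPGroup p T ∧ Reach T i₀ (Nat.log p n) X := by
  classical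
  obtain ⟨T, i₀, X, hT, hR⟩ := exists_reach_pow_p p (Nat.log p n) (p ^ Nat.log p n) rfl
  have hle : p ^ Nat.log p n ≤ n := Nat.pow_log_le_self p hn
  set ι : Fin (p ^ Nat.log p n) ↪ Fin n := Fin.castLEEmb hle with hι
  refine ⟨T.map (Perm.viaEmbeddingHom ι), ι i₀, X.map ι, hT.map _, ?_⟩
  apply hR.map (Perm.viaEmbeddingHom ι) ι
  intro c x
  exact Perm.viaEmbedding_apply c ι x

lemma Reach.dser_wrSub_ne_bot' {T : Subgroup (Perm (Fin N))} {i₀ : Fin N} {k : ℕ}
    {X : Finset (Fin N)} (h : Reach T i₀ k X) {H : Type*} [Group H] (S : Subgroup H)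
    (s : H) (hs : s ∈ S) (hs1 : s ≠ 1) :
    dser (wrSub N S T) k ≠ ⊥ := by
  obtain ⟨f, hf, _, hfW⟩ := h.exists_fun S s hs
  intro hbot
  rw [hbot, Subgroup.mem_bot] at hfW
  have h2 : f = 1 := SemidirectProduct.inl_injective (by rw [hfW, map_one])
  apply hs1
  rw [← hf, h2]
  rfl

end reachp

end Cfsg.Agent.Lib.Helper44
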